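import Groth.Agent.Lib.Helper30.AlgSpQuotOpen
import Groth.Prelude.Def_Grpd

/-!
# Restriction of a pre-equivalence relation / groupoid scheme: open immersion of quotient sheaves
(helper30)

* `epi_of_locally_lifts`;
* `qπ_eq_of_restrict`, `mono_quot_restrict_of_pre`, `repWith_isOpenImmersion_quot_restrict_of_pre`:
  the `S9870` argument for a relation which is an equivalence relation on points (not necessarily
  injective), given the open image of `U' ×_U R ⟶ U` with an epimorphism onto it;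
* `pRel_equivalence_groupoid`, `repWith_isOpenImmersion_quot_restrict_groupoid`.
-/

set_option autoImplicit false
set_option maxHeartbeats 800000
set_option backward.isDefEq.respectTransparency false
set_option linter.style.haveILetI false
set_option linter.unusedSectionVars false
universe u

open CategoryTheory CategoryTheory.Limits AlgebraicGeometry MorphismProperty AlgSp Opposite

namespace Groth.Agent.Lib.Helper30.QuotEff

open Groth.Agent.Lib.Helper40.QuotShApi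
open Groth.Agent.Lib.Helper30.Glue Groth.Agent.Lib.Helper30.Coprod Groth.Agent.Lib.Helper30.SLQDesc
open Groth.Agent.Lib.Helper30 Groth.Agent.Lib.Helper51 Groth.Agent.Lib.Helper30.AffDesc

variable {S : Scheme.{u}}

/-- A morphism of sheaves through which every section of the target locally lifts is an
epimorphism. -/
theorem epi_of_locally_lifts {G H : AlgSp.Sp S} (f : G ⟶ H)
    (hl : ∀ ⦃V : Over S⦄ (σ : (AlgSp.yon S).obj V ⟶ H), ∃ R ∈ AlgSp.J S V,
      ∀ ⦃V' : Over S⦄ (k : V' ⟶ V), R k →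
        ∃ a : (AlgSp.yon S).obj V' ⟶ G, a ≫ f = (AlgSp.yon S).map k ≫ σ) : Epi f := by
  haveI : Sheaf.IsLocallySurjective f := by
    constructor
    intro V s
    obtain ⟨R, hR, Hl⟩ := hl ((AlgSp.J S).uliftYonedaEquiv.symm s)
    refine GrothendieckTopology.superset_covering _ ?_ hR
    intro V' k hk
    obtain ⟨a, ha⟩ := Hl k hk
    refine ⟨(AlgSp.J S).uliftYonedaEquiv a, ?_⟩
    show f.hom.app _ ((AlgSp.J S).uliftYonedaEquiv a) = H.obj.map k.op s
    rw [← GrothendieckTopology.uliftYonedaEquiv_comp, ha,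
      ← GrothendieckTopology.uliftYonedaEquiv_naturality, Equiv.apply_symm_apply]
  infer_instance

section Pre
variable {R U R' U' : Over S} {s t : R ⟶ U} {g : U' ⟶ U} {s' t' : R' ⟶ U'} {r : R' ⟶ R}

/-- Points with the same image in the quotient by a pre-equivalence relation are locally related. -/
theorem pRel_of_eqvSieve (hpre : ∀ T : Over S, Equivalence (PRel s t T)) {T V : Over S}
    (a b : T ⟶ U) (k : V ⟶ T) (hk : eqvSieve s t a b k) : PRel s t V (k ≫ a) (k ≫ b) :=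
  ((hpre V).eqvGen_iff).mp hk

theorem qπ_eq_of_restrict
    (hsq : IsPullback (prod.lift t' s') r (prod.map g g) (prod.lift t s))
    (hpre : ∀ T : Over S, Equivalence (PRel s t T)) {V : Over S} (a' b' : V ⟶ U')
    (h1 : (AlgSp.yon S).map (a' ≫ g) ≫ qπ s t = (AlgSp.yon S).map (b' ≫ g) ≫ qπ s t) :
    (AlgSp.yon S).map a' ≫ qπ s' t' = (AlgSp.yon S).map b' ≫ qπ s' t' := by
  refine yon_hom_ext_of_cover _ _ (eqvSieve s t (a' ≫ g) (b' ≫ g))
    (eqvSieve_mem_of_qπ_eq s t _ _ h1) ?_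
  intro V' k hk
  obtain ⟨r₀, hr1, hr2⟩ := pRel_of_eqvSieve hpre _ _ k hk
  have hcomp : prod.lift (k ≫ b') (k ≫ a') ≫ prod.map g g = r₀ ≫ prod.lift t s := by
    apply Limits.prod.hom_ext
    · simp [hr2]
    · simp [hr1]
  obtain ⟨ρ, e2, e3⟩ : ∃ ρ : V' ⟶ R', ρ ≫ t' = k ≫ b' ∧ ρ ≫ s' = k ≫ a' := by
    have e1 : hsq.lift (prod.lift (k ≫ b') (k ≫ a')) r₀ hcomp ≫ prod.lift t' s' =
        prod.lift (k ≫ b') (k ≫ a') := hsq.lift_fst _ _ _
    refine ⟨hsq.lift (prod.lift (k ≫ b') (k ≫ a')) r₀ hcomp, ?_, ?_⟩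
    · have := congrArg (· ≫ prod.fst) e1
      simpa using this
    · have := congrArg (· ≫ prod.snd) e1
      simpa using this
  have key : (AlgSp.yon S).map (k ≫ a') ≫ qπ s' t' = (AlgSp.yon S).map (k ≫ b') ≫ qπ s' t' := by
    rw [← e2, ← e3, Functor.map_comp, Functor.map_comp,
      Category.assoc ((AlgSp.yon S).map ρ) ((AlgSp.yon S).map s') (qπ s' t'),
      Category.assoc ((AlgSp.yon S).map ρ) ((AlgSp.yon S).map t') (qπ s' t'),
      yon_map_qπ_condition]
  calc (AlgSp.yon S).map k ≫ (AlgSp.yon S).map a' ≫ qπ s' t'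
      = (AlgSp.yon S).map (k ≫ a') ≫ qπ s' t' := by
        rw [Functor.map_comp, Category.assoc ((AlgSp.yon S).map k) ((AlgSp.yon S).map a')
          (qπ s' t')]
    _ = (AlgSp.yon S).map (k ≫ b') ≫ qπ s' t' := key
    _ = (AlgSp.yon S).map k ≫ (AlgSp.yon S).map b' ≫ qπ s' t' := by
        rw [Functor.map_comp, Category.assoc ((AlgSp.yon S).map k) ((AlgSp.yon S).map b')
          (qπ s' t')]

theorem mono_quot_restrict_of_pre
    (hsq : IsPullback (prod.lift t' s') r (prod.map g g) (prod.lift t s))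
    (hpre : ∀ T : Over S, Equivalence (PRel s t T))
    (φ : QuotSh.quot Scheme.fppfPrecoverage s' t' ⟶ QuotSh.quot Scheme.fppfPrecoverage s t)
    (hφ' : qπ s' t' ≫ φ = (AlgSp.yon S).map g ≫ qπ s t) : Mono φ := by
  apply mono_of_yon_cancel
  intro T a b hab
  obtain ⟨Ra, hRa, Ha⟩ := exists_cover_lift_of_epi (qπ s' t') a
  obtain ⟨Rb, hRb, Hb⟩ := exists_cover_lift_of_epi (qπ s' t') b
  refine yon_hom_ext_of_cover a b (Ra ⊓ Rb) ((AlgSp.J S).intersection_covering hRa hRb) ?_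
  rintro V k ⟨hka, hkb⟩
  obtain ⟨a₁, ha₁⟩ := Ha k hka
  obtain ⟨b₁, hb₁⟩ := Hb k hkb
  obtain ⟨a', rfl⟩ := (AlgSp.yon S).map_surjective a₁
  obtain ⟨b', rfl⟩ := (AlgSp.yon S).map_surjective b₁
  rw [← ha₁, ← hb₁]
  have ea : (AlgSp.yon S).map (a' ≫ g) ≫ qπ s t = (AlgSp.yon S).map k ≫ a ≫ φ := by
    rw [Functor.map_comp, Category.assoc ((AlgSp.yon S).map a') ((AlgSp.yon S).map g) (qπ s t),
      ← hφ', ← Category.assoc ((AlgSp.yon S).map a') (qπ s' t') φ, ha₁,
      Category.assoc ((AlgSp.yon S).map k) a φ]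
  have eb : (AlgSp.yon S).map (b' ≫ g) ≫ qπ s t = (AlgSp.yon S).map k ≫ b ≫ φ := by
    rw [Functor.map_comp, Category.assoc ((AlgSp.yon S).map b') ((AlgSp.yon S).map g) (qπ s t),
      ← hφ', ← Category.assoc ((AlgSp.yon S).map b') (qπ s' t') φ, hb₁,
      Category.assoc ((AlgSp.yon S).map k) b φ]
  exact qπ_eq_of_restrict hsq hpre a' b' (by rw [ea, eb, hab])

end Pre

section Pre2
variable {R U R' U' : Over S} {s t : R ⟶ U} {g : U' ⟶ U} {s' t' : R' ⟶ U'} {r : R' ⟶ R}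

theorem repWith_isOpenImmersion_quot_restrict_of_pre
    (hsq : IsPullback (prod.lift t' s') r (prod.map g g) (prod.lift t s))
    (hpre : ∀ T : Over S, Equivalence (PRel s t T))
    {R₁ : Over S} (pr1 : R₁ ⟶ U') (pr2 : R₁ ⟶ R) (sqR₁ : IsPullback pr1 pr2 g t)
    {W : Over S} (ι : W ⟶ U) [IsOpenImmersion ι.left] (v' : R₁ ⟶ W) (hv' : v' ≫ ι = pr2 ≫ s)
    [Epi ((AlgSp.yon S).map v')]
    (ψ : QuotSh.quot Scheme.fppfPrecoverage s' t' ⟶ QuotSh.quot Scheme.fppfPrecoverage s t)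
    (hψ : QuotSh.quotπ Scheme.fppfPrecoverage s' t' ≫ ψ =
      QuotSh.repMap Scheme.fppfPrecoverage g ≫ QuotSh.quotπ Scheme.fppfPrecoverage s t) :
    AlgSp.RepWith @IsOpenImmersion ψ := by
  have hψ' := qπ_comp_of_quotπ_comp ψ hψ
  haveI : Mono ψ := mono_quot_restrict_of_pre hsq hpre ψ hψ'
  have wc : ((AlgSp.yon S).map pr1 ≫ qπ s' t') ≫ ψ = (AlgSp.yon S).map (pr2 ≫ s) ≫ qπ s t := by
    rw [Category.assoc ((AlgSp.yon S).map pr1) (qπ s' t') ψ, hψ',
      ← Category.assoc ((AlgSp.yon S).map pr1) ((AlgSp.yon S).map g) (qπ s t),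
      ← Functor.map_comp, sqR₁.w, Functor.map_comp, Functor.map_comp,
      Category.assoc ((AlgSp.yon S).map pr2) ((AlgSp.yon S).map t) (qπ s t),
      Category.assoc ((AlgSp.yon S).map pr2) ((AlgSp.yon S).map s) (qπ s t),
      yon_map_qπ_condition]
  let c : (AlgSp.yon S).obj R₁ ⟶ pullback ψ (qπ s t) := pullback.lift _ _ wc
  have hc1 : c ≫ pullback.fst ψ (qπ s t) = (AlgSp.yon S).map pr1 ≫ qπ s' t' :=
    pullback.lift_fst _ _ _
  have hc2 : c ≫ pullback.snd ψ (qπ s t) = (AlgSp.yon S).map (pr2 ≫ s) :=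
    pullback.lift_snd _ _ _
  haveI : Epi c := by
    apply epi_of_locally_lifts
    intro T ξ
    obtain ⟨b, hb⟩ := (AlgSp.yon S).map_surjective (ξ ≫ pullback.snd ψ (qπ s t))
    obtain ⟨Ra, hRa, Ha⟩ := exists_cover_lift_of_epi (qπ s' t') (ξ ≫ pullback.fst ψ (qπ s t))
    have Ha' : ∀ ⦃V : Over S⦄ (k : V ⟶ T), Ra k → ∃ a' : V ⟶ U',
        (AlgSp.yon S).map a' ≫ qπ s' t' = (AlgSp.yon S).map k ≫ ξ ≫ pullback.fst ψ (qπ s t) := by
      intro V k hk
      obtain ⟨a₁, ha₁⟩ := Ha k hk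
      obtain ⟨a', rfl⟩ := (AlgSp.yon S).map_surjective a₁
      exact ⟨a', ha₁⟩
    choose a' ha' using Ha'
    have hmem : ∀ ⦃V : Over S⦄ (k : V ⟶ T) (hk : Ra k),
        eqvSieve s t (k ≫ b) (a' k hk ≫ g) ∈ AlgSp.J S V := by
      intro V k hk
      apply eqvSieve_mem_of_qπ_eq
      rw [Functor.map_comp, Functor.map_comp, hb,
        Category.assoc ((AlgSp.yon S).map (a' k hk)) ((AlgSp.yon S).map g) (qπ s t), ← hψ',
        ← Category.assoc ((AlgSp.yon S).map (a' k hk)) (qπ s' t') ψ, ha' k hk]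
      simp only [Category.assoc]
      rw [pullback.condition]
    refine ⟨Sieve.bind Ra (fun V k hk => eqvSieve s t (k ≫ b) (a' k hk ≫ g)),
      (AlgSp.J S).bind_covering hRa (fun V k hk => hmem k hk), ?_⟩
    rintro V' m ⟨V, k', k, hk, hk', rfl⟩
    obtain ⟨r₀, hr1, hr2⟩ := pRel_of_eqvSieve hpre _ _ k' hk'
    -- `r₀ ≫ s = k' ≫ k ≫ b`, `r₀ ≫ t = k' ≫ a' ≫ g`
    have hl : (k' ≫ a' k hk) ≫ g = r₀ ≫ t := by rw [hr2, Category.assoc]
    refine ⟨(AlgSp.yon S).map (sqR₁.lift (k' ≫ a' k hk) r₀ hl), ?_⟩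
    apply pullback.hom_ext
    · rw [Category.assoc, hc1, ← Category.assoc, ← Functor.map_comp, sqR₁.lift_fst,
        Functor.map_comp,
        Category.assoc ((AlgSp.yon S).map k') ((AlgSp.yon S).map (a' k hk)) (qπ s' t'),
        ha' k hk, Functor.map_comp]
      simp only [Category.assoc]
    · rw [Category.assoc, hc2, ← Functor.map_comp, ← Category.assoc, sqR₁.lift_snd, hr1,
        Category.assoc, ← hb, ← Functor.map_comp, Category.assoc]
  haveI : Mono ((AlgSp.yon S).map ι) := mono_yon_map_of_mono_left ι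
  obtain ⟨e, he1, -⟩ := exists_iso_of_epi_mono c (pullback.snd ψ (qπ s t))
    ((AlgSp.yon S).map v') ((AlgSp.yon S).map ι) (by rw [hc2, ← Functor.map_comp, hv'])
  have hsnd : AlgSp.RepWith @IsOpenImmersion (pullback.snd ψ (qπ s t)) := by
    rw [← he1]
    exact (MorphismProperty.cancel_left_of_respectsIso (AlgSp.RepWith @IsOpenImmersion) e.hom
      ((AlgSp.yon S).map ι)).2 ((AlgSp.repWith_yon_map_iff @IsOpenImmersion ι).2 inferInstance)
  exact repWith_isOpenImmersion_of_epi_cover ψ U (qπ s t) (pullback.fst _ _) (pullback.snd _ _)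
    (IsPullback.of_hasPullback _ _) hsnd

end Pre2

section Gpd


variable (G : _root_.Grpd.GroupoidScheme S)

/-- The source map of a groupoid scheme as a morphism over `S`. -/
noncomputable abbrev sO : Over.mk G.pR ⟶ Over.mk G.pU := Over.homMk G.s G.s_over
/-- The target map of a groupoid scheme as a morphism over `S`. -/
noncomputable abbrev tO : Over.mk G.pR ⟶ Over.mk G.pU := Over.homMk G.t G.t_over

theorem pRel_equivalence_groupoid (T : Over S) : Equivalence (PRel (sO G) (tO G) T) := by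
  have he : G.e ≫ G.pR = G.pU := by
    rw [← G.s_over, ← Category.assoc, G.e_s, Category.id_comp]
  have hi : G.i ≫ G.pR = G.pR := by
    calc G.i ≫ G.pR = G.i ≫ G.s ≫ G.pU := by rw [G.s_over]
      _ = G.pR := by rw [← Category.assoc, G.i_s, G.t_over]
  let eO : Over.mk G.pU ⟶ Over.mk G.pR := Over.homMk G.e he
  let iO : Over.mk G.pR ⟶ Over.mk G.pR := Over.homMk G.i hi
  refine ⟨fun a => ⟨a ≫ eO, ?_, ?_⟩, ?_, ?_⟩
  · apply Over.OverMorphism.ext
    change a.left ≫ G.e ≫ G.s = a.left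
    rw [G.e_s]
    exact Category.comp_id _
  · apply Over.OverMorphism.ext
    change a.left ≫ G.e ≫ G.t = a.left
    rw [G.e_t]
    exact Category.comp_id _
  · rintro a b ⟨ρ, rfl, rfl⟩
    refine ⟨ρ ≫ iO, ?_, ?_⟩
    · apply Over.OverMorphism.ext
      change ρ.left ≫ G.i ≫ G.s = ρ.left ≫ G.t
      rw [G.i_s]
    · apply Over.OverMorphism.ext
      change ρ.left ≫ G.i ≫ G.t = ρ.left ≫ G.s
      rw [G.i_t]
  · rintro a b c ⟨ρ₁, rfl, h1⟩ ⟨ρ₂, h2, rfl⟩
    have hc : ρ₂.left ≫ G.s = ρ₁.left ≫ G.t := by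
      have := congrArg CommaMorphism.left (h2.trans h1.symm)
      exact this
    have hover : (pullback.lift ρ₂.left ρ₁.left hc ≫ G.c) ≫ G.pR = T.hom := by
      calc (pullback.lift ρ₂.left ρ₁.left hc ≫ G.c) ≫ G.pR
          = ((pullback.lift ρ₂.left ρ₁.left hc ≫ G.c) ≫ G.s) ≫ G.pU := by
            rw [Category.assoc _ G.s G.pU, G.s_over]
        _ = (ρ₁.left ≫ G.s) ≫ G.pU := by rw [G.comp_s]
        _ = ρ₁.left ≫ G.pR := by rw [Category.assoc, G.s_over]
        _ = T.hom := Over.w ρ₁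
    refine ⟨Over.homMk (pullback.lift ρ₂.left ρ₁.left hc ≫ G.c) hover, ?_, ?_⟩
    · apply Over.OverMorphism.ext
      exact G.comp_s _ _ hc
    · apply Over.OverMorphism.ext
      exact G.comp_t _ _ hc

end Gpd

theorem repWith_isOpenImmersion_quot_restrict_groupoid (G : _root_.Grpd.GroupoidScheme S)
    (U' : Scheme.{u}) (g : U' ⟶ G.U) (W : G.U.Opens)
    (hlift : pullback g G.t ⟶ ↑W) (hh : hlift ≫ W.ι = pullback.snd g G.t ≫ G.s)
    (hsurj : Sheaf.IsLocallySurjective ((AlgSp.yon S).map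
      (Over.homMk hlift ((Category.assoc _ _ _).symm.trans (congrArg (· ≫ G.pU) hh)) :
        Over.mk ((pullback.snd g G.t ≫ G.s) ≫ G.pU) ⟶ Over.mk (W.ι ≫ G.pU))))
    (R' : Over S) (s' t' : R' ⟶ Over.mk (g ≫ G.pU)) (r : R' ⟶ Over.mk G.pR)
    (hsq : IsPullback (prod.lift t' s') r
      (prod.map (Over.homMk g rfl : Over.mk (g ≫ G.pU) ⟶ Over.mk G.pU) (Over.homMk g rfl : Over.mk (g ≫ G.pU) ⟶ Over.mk G.pU))
      (prod.lift (Over.homMk G.t G.t_over : Over.mk G.pR ⟶ Over.mk G.pU) (Over.homMk G.s G.s_over : Over.mk G.pR ⟶ Over.mk G.pU)))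
    (ψ : QuotSh.quot Scheme.fppfPrecoverage s' t' ⟶
      QuotSh.quot Scheme.fppfPrecoverage (Over.homMk G.s G.s_over : Over.mk G.pR ⟶ Over.mk G.pU) (Over.homMk G.t G.t_over : Over.mk G.pR ⟶ Over.mk G.pU))
    (hψ : QuotSh.quotπ Scheme.fppfPrecoverage s' t' ≫ ψ =
      QuotSh.repMap Scheme.fppfPrecoverage (Over.homMk g rfl : Over.mk (g ≫ G.pU) ⟶ Over.mk G.pU) ≫ QuotSh.quotπ Scheme.fppfPrecoverage _ _) :
    AlgSp.RepWith @IsOpenImmersion ψ := by
  have h1 : pullback.fst g G.t ≫ g ≫ G.pU = (pullback.snd g G.t ≫ G.s) ≫ G.pU := by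
    rw [← Category.assoc, pullback.condition, Category.assoc, G.t_over, Category.assoc, G.s_over]
  have h2 : pullback.snd g G.t ≫ G.pR = (pullback.snd g G.t ≫ G.s) ≫ G.pU := by
    rw [Category.assoc, G.s_over]
  let R₁ : Over S := Over.mk ((pullback.snd g G.t ≫ G.s) ≫ G.pU)
  let pr1 : R₁ ⟶ Over.mk (g ≫ G.pU) := Over.homMk (pullback.fst g G.t) h1
  let pr2 : R₁ ⟶ Over.mk G.pR := Over.homMk (pullback.snd g G.t) h2
  have sqR₁ : IsPullback pr1 pr2 (Over.homMk g rfl : Over.mk (g ≫ G.pU) ⟶ Over.mk G.pU) (tO G) :=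
    IsPullback.of_map_of_faithful (Over.forget S) (IsPullback.of_hasPullback g G.t)
  let WO : Over S := Over.mk (W.ι ≫ G.pU)
  let ι : WO ⟶ Over.mk G.pU := Over.homMk W.ι rfl
  haveI : IsOpenImmersion ι.left := inferInstanceAs (IsOpenImmersion W.ι)
  let v' : R₁ ⟶ WO :=
    Over.homMk hlift ((Category.assoc _ _ _).symm.trans (congrArg (· ≫ G.pU) hh))
  haveI : Epi ((AlgSp.yon S).map v') := by
    haveI := hsurj
    infer_instance
  have hv' : v' ≫ ι = pr2 ≫ sO G := by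
    apply Over.OverMorphism.ext
    exact hh
  exact repWith_isOpenImmersion_quot_restrict_of_pre hsq (pRel_equivalence_groupoid G) pr1 pr2
    sqR₁ ι v' hv' ψ hψ

end Groth.Agent.Lib.Helper30.QuotEff
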