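import Groth.Agent.Lib.Helper30.AlgSpDesc
import Groth.Agent.Lib.Helper78.AlgSpBasic
import Groth.Agent.Lib.Helper51.EtaleQF
import Groth.Agent.Lib.Helper1.QuasiFiniteDescent

/-!
Chart diagrams for morphisms of algebraic spaces and consequences of `AlgSp.LocP` (helper30).
-/

set_option autoImplicit false
set_option linter.unusedSectionVars false
universe u
open CategoryTheory CategoryTheory.Limits AlgebraicGeometry Opposite

set_option backward.isDefEq.respectTransparency false

namespace Groth.Agent.Lib.Helper30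

open AlgSp Groth.Agent.Lib.Helper51 Groth.Agent.Lib.Helper52

variable {S : Scheme.{u}}

/-- A full chart diagram for `f : X ⟶ Y`: an étale surjective `b : h_V ⟶ Y`, a scheme `U` with an étale
surjective map `a' : h_U ⟶ X ×_Y h_V`, such that the composite `h_U ⟶ X` is étale surjective, and `h : U ⟶ V`
is the induced morphism of schemes. -/
theorem exists_full_chart_diagram {X Y : AlgSp.Sp S} (hX : AlgSp.IsAlgSpace X)
    (hY : AlgSp.IsAlgSpace Y) (f : X ⟶ Y) :
    ∃ (U V : Over S) (b : (AlgSp.yon S).obj V ⟶ Y) (a : (AlgSp.yon S).obj U ⟶ X) (h : U ⟶ V)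
      (a' : (AlgSp.yon S).obj U ⟶ pullback f b),
      AlgSp.RepWith @Etale b ∧ AlgSp.RepWith @Surjective b ∧
      AlgSp.RepWith @Etale a ∧ AlgSp.RepWith @Surjective a ∧
      a ≫ f = (AlgSp.yon S).map h ≫ b ∧
      a' ≫ pullback.fst f b = a ∧ a' ≫ pullback.snd f b = (AlgSp.yon S).map h ∧
      AlgSp.RepWith @Etale a' ∧ AlgSp.RepWith @Surjective a' := by
  obtain ⟨U₀, a₀, ha₀e, ha₀s⟩ := hX.atlas
  obtain ⟨V, b, hbe, hbs⟩ := hY.atlas
  obtain ⟨U, j, h, sq, hae, has⟩ :=
    Groth.Agent.Lib.Helper78.AlgSpBasic.exists_chart_diagram f a₀ ha₀e b hbe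
  have hw : ((AlgSp.yon S).map j ≫ a₀) ≫ f = (AlgSp.yon S).map h ≫ b := by
    rw [Category.assoc]; exact sq.w.symm
  have h1 : pullback.lift _ _ hw ≫ pullback.fst f b = (AlgSp.yon S).map j ≫ a₀ :=
    pullback.lift_fst _ _ _
  have h2 : pullback.lift _ _ hw ≫ pullback.snd f b = (AlgSp.yon S).map h :=
    pullback.lift_snd _ _ _
  have sqa : IsPullback (pullback.lift _ _ hw) ((AlgSp.yon S).map j) (pullback.fst f b) a₀ := by
    refine IsPullback.of_right ?_ h1 (IsPullback.of_hasPullback f b).flip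
    rw [h2]
    exact sq
  exact ⟨U, V, b, (AlgSp.yon S).map j ≫ a₀, h, pullback.lift _ _ hw, hbe, hbs, hae,
    has ha₀s hbs, hw, h1, h2, MorphismProperty.of_isPullback sqa.flip ha₀e,
    MorphismProperty.of_isPullback sqa.flip ha₀s⟩

/-- A morphism of algebraic spaces which is flat and locally of finite presentation (étale locally on
source and target) is universally open. -/
theorem isUnivOpenMor_of_locP_flat_lfp {X Y : AlgSp.Sp S} (hX : AlgSp.IsAlgSpace X)
    (hY : AlgSp.IsAlgSpace Y) (f : X ⟶ Y) (hfl : AlgSp.LocP @Flat f)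
    (hfp : AlgSp.LocP @LocallyOfFinitePresentation f) : AlgSp.IsUnivOpenMor f := by
  obtain ⟨U, V, b, a, h, a', hbe, hbs, hae, has, hw, h1, h2, ha'e, ha's⟩ :=
    exists_full_chart_diagram hX hY f
  have hflat : Flat h.left := hfl a b h hae hbe hw
  have hlfp : LocallyOfFinitePresentation h.left := hfp a b h hae hbe hw
  have huo : UniversallyOpen h.left := inferInstance
  have h3 : AlgSp.IsUnivOpenMor ((AlgSp.yon S).map h) :=
    isUnivOpenMor_of_repWith ((AlgSp.repWith_yon_map_iff _ _).2 huo)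
  rw [← h2] at h3
  have h4 : AlgSp.IsUnivOpenMor (pullback.snd f b) := isUnivOpenMor_of_comp a' _ ha's h3
  exact isUnivOpenMor_of_etale_cover f V b hbe hbs _ _ (IsPullback.of_hasPullback f b) h4

/-- Cancellation for representable étale maps from schemes: if `h_k ≫ c` and `c` are representable
étale then `k` is étale. -/
theorem etale_of_comp_repWith_etale {F : AlgSp.Sp S} {U W : Over S} (k : U ⟶ W)
    (c : (AlgSp.yon S).obj W ⟶ F) (hc : AlgSp.RepWith @Etale c)
    (ha : AlgSp.RepWith @Etale ((AlgSp.yon S).map k ≫ c)) : Etale k.left := by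
  have hr := ha.1
  have sq := hr.isPullback' c
  have hq2 : Etale (hr.snd c).left := ha.2 c _ _ sq
  have hq1 : Etale (hr.fst' c).left := hc.2 _ _ _ sq.flip
  have hi : (AlgSp.yon S).map (𝟙 U) ≫ ((AlgSp.yon S).map k ≫ c) = (AlgSp.yon S).map k ≫ c := by
    simp
  have hs1 : hr.lift' (𝟙 U) k hi ≫ hr.fst' c = 𝟙 U := hr.lift'_fst _ _ _
  have hs2 : hr.lift' (𝟙 U) k hi ≫ hr.snd c = k := hr.lift'_snd _ _ _
  have hs1' : (hr.lift' (𝟙 U) k hi).left ≫ (hr.fst' c).left = 𝟙 U.left := by
    rw [← Over.comp_left, hs1]; rfl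
  have hs : Etale (hr.lift' (𝟙 U) k hi).left := by
    have : Etale ((hr.lift' (𝟙 U) k hi).left ≫ (hr.fst' c).left) := by
      rw [hs1']; infer_instance
    exact Etale.of_comp _ (hr.fst' c).left
  rw [← hs2, Over.comp_left]
  infer_instance

/-- If `f` is representable with property `Q`, then `f` has étale locally on source and target every
property `P` that contains the composites of étale morphisms followed by `Q`-morphisms. -/
theorem locP_of_repWith (Q P : MorphismProperty Scheme.{u})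
    (hQP : ∀ {A B C : Scheme.{u}} (k : A ⟶ B) (i : B ⟶ C), Etale k → Q i → P (k ≫ i))
    {X Y : AlgSp.Sp S} {f : X ⟶ Y} (hf : AlgSp.RepWith Q f) : AlgSp.LocP P f := by
  intro U V a b h hae hbe hw
  have hr := hf.1
  have sqW := hr.isPullback b
  have hi : Q (hr.snd b).left := hf.2 b _ _ sqW
  have hfW : AlgSp.RepWith @Etale (hr.fst b) := MorphismProperty.of_isPullback sqW.flip hbe
  obtain ⟨k, hk⟩ := (AlgSp.yon S).map_surjective (sqW.lift a ((AlgSp.yon S).map h) hw)
  have hk1 : (AlgSp.yon S).map k ≫ hr.fst b = a := by rw [hk, sqW.lift_fst]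
  have hk2 : (AlgSp.yon S).map k ≫ (AlgSp.yon S).map (hr.snd b) = (AlgSp.yon S).map h := by
    rw [hk, sqW.lift_snd]
  have hk2' : k ≫ hr.snd b = h := (AlgSp.yon S).map_injective (by rw [Functor.map_comp, hk2])
  have hke : Etale k.left := etale_of_comp_repWith_etale k (hr.fst b) hfW (by rw [hk1]; exact hae)
  rw [← hk2', Over.comp_left]
  exact hQP _ _ hke hi

/-- In a chart square of an étale morphism (in the sense of `AlgSp.IsEtaleMor`) the morphism of schemes
is étale. -/
theorem etale_of_isEtaleMor_chart {X Y : AlgSp.Sp S} {f : X ⟶ Y} (hf : AlgSp.IsEtaleMor f)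
    {U V : Over S} (a : (AlgSp.yon S).obj U ⟶ X) (b : (AlgSp.yon S).obj V ⟶ Y) (h : U ⟶ V)
    (hae : AlgSp.RepWith @Etale a) (hbe : AlgSp.RepWith @Etale b)
    (hw : a ≫ f = (AlgSp.yon S).map h ≫ b) : Etale h.left :=
  etale_of_comp_repWith_etale h b hbe (by rw [← hw]; exact hf a hae)

/-- An étale morphism has, étale locally on source and target, every property implied by étaleness. -/
theorem locP_of_isEtaleMor (P : MorphismProperty Scheme.{u})
    (hP : ∀ {A B : Scheme.{u}} (k : A ⟶ B), Etale k → P k) {X Y : AlgSp.Sp S} {f : X ⟶ Y}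
    (hf : AlgSp.IsEtaleMor f) : AlgSp.LocP P f :=
  fun _ _ a b h hae hbe hw => hP _ (etale_of_isEtaleMor_chart hf a b h hae hbe hw)

/-- Right cancellation for étale morphisms of algebraic spaces. -/
theorem isEtaleMor_of_comp {X Y Z : AlgSp.Sp S} (hY : AlgSp.IsAlgSpace Y) (f : X ⟶ Y) (h : Y ⟶ Z)
    (hg : AlgSp.IsEtaleMor (f ≫ h)) (hh : AlgSp.IsEtaleMor h) : AlgSp.IsEtaleMor f := by
  intro U φ hφ
  have hc : AlgSp.Representable (φ ≫ f) := hY.representable_from_yon _
  obtain ⟨V, b, hbe, hbs⟩ := hY.atlas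
  have sqW := hc.isPullback' b
  refine repWith_of_etale_cover @Etale sqW hc hbe hbs ?_
  rw [AlgSp.repWith_yon_map_iff]
  refine etale_of_comp_repWith_etale (hc.snd b) (b ≫ h) (hh b hbe) ?_
  have e : (AlgSp.yon S).map (hc.snd b) ≫ b ≫ h =
      (AlgSp.yon S).map (hc.fst' b) ≫ φ ≫ f ≫ h := by
    rw [← Category.assoc, ← sqW.w]
    simp only [Category.assoc]
  rw [e]
  refine (AlgSp.RepWith @Etale).comp_mem _ _ ?_ (hg φ hφ)
  exact MorphismProperty.of_isPullback sqW.flip hbe

/-- Locally quasi-finite morphisms satisfy fpqc descent (as in `S0087`). -/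
instance descendsAlong_locallyQuasiFinite_fpqc :
    MorphismProperty.DescendsAlong @LocallyQuasiFinite
      (@Surjective ⊓ @Flat ⊓ @QuasiCompact : MorphismProperty Scheme.{u}) :=
  HasRingHomProperty.descendsAlong_flat
    Groth.Agent.Lib.Helper1.quasiFinite_codescendsAlong_faithfullyFlat

/-- Cancellation for `LocP`: if `f ≫ g` has `P` étale locally on source and target, and `P` satisfies
right cancellation and fppf descent for morphisms of schemes, then `f` has `P` étale locally. -/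
theorem locP_of_comp_cancel (P : MorphismProperty Scheme.{u})
    [P.DescendsAlong (@Surjective ⊓ @Flat ⊓ @LocallyOfFinitePresentation)]
    (hcancel : ∀ {A B C : Scheme.{u}} (h : A ⟶ B) (h2 : B ⟶ C), P (h ≫ h2) → P h)
    {X Y Z : AlgSp.Sp S} (hZ : AlgSp.IsAlgSpace Z) (f : X ⟶ Y) (g : Y ⟶ Z)
    (hfg : AlgSp.LocP P (f ≫ g)) : AlgSp.LocP P f := by
  intro U V a b h hae hbe hw
  obtain ⟨W, c, hce, hcs⟩ := hZ.atlas
  have hc := hce.1
  have sqV := hc.isPullback' (b ≫ g)
  have he : Etale (hc.snd (b ≫ g)).left := hce.2 _ _ _ sqV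
  have hes : Surjective (hc.snd (b ≫ g)).left := hcs.2 _ _ _ sqV
  obtain ⟨U', w1, w2, sqU, sqUl⟩ := isPullback_over' h (hc.snd (b ≫ g))
  have hw1 : Etale w1.left := MorphismProperty.of_isPullback sqUl.flip he
  have ha' : AlgSp.RepWith @Etale ((AlgSp.yon S).map w1 ≫ a) :=
    (AlgSp.RepWith @Etale).comp_mem _ _ ((AlgSp.repWith_yon_map_iff _ _).2 hw1) hae
  have hcomm : ((AlgSp.yon S).map w1 ≫ a) ≫ f ≫ g =
      (AlgSp.yon S).map (w2 ≫ hc.fst' (b ≫ g)) ≫ c := by
    rw [Functor.map_comp, Category.assoc, Category.assoc, sqV.w, ← Category.assoc a, hw]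
    simp only [Category.assoc]
    rw [← Functor.map_comp_assoc, sqU.w, Functor.map_comp_assoc]
  have hP : P (w2 ≫ hc.fst' (b ≫ g)).left := hfg _ c _ ha' hce hcomm
  rw [Over.comp_left] at hP
  have hP2 : P w2.left := hcancel _ _ hP
  refine MorphismProperty.of_isPullback_of_descendsAlong
    (Q := (@Surjective ⊓ @Flat ⊓ @LocallyOfFinitePresentation : MorphismProperty Scheme.{u}))
    sqUl.flip ⟨⟨hes, ?_⟩, ?_⟩ hP2
  · show Flat (hc.snd (b ≫ g)).left
    infer_instance
  · show LocallyOfFinitePresentation (hc.snd (b ≫ g)).left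
    infer_instance

end Groth.Agent.Lib.Helper30
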