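import Groth.Agent.Lib.Helper30.AlgSpMor
import Groth.Agent.Lib.Helper30.AlgSpLoc
import Groth.Agent.Lib.Helper78.AlgSpFppfFpqc
import Groth.Agent.Lib.Helper78.AlgSpLocPLoft
import Groth.Agent.Lib.Helper78.AlgSpLocP2
import Groth.Agent.Lib.Helper51.AlgSpPoints

/-!
# Affine étale covers of algebraic spaces (helper30)

* `exists_affine_etale_cover` : every algebraic space has an fpqc covering by affine schemes, each
  member representable étale.
* `isProperMor_yon_map` : `h_k` is proper when `k` is a proper morphism of schemes.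
-/

set_option autoImplicit false
set_option linter.unusedSectionVars false
universe u
set_option maxHeartbeats 400000

set_option backward.isDefEq.respectTransparency false

open CategoryTheory CategoryTheory.Limits AlgebraicGeometry MorphismProperty AlgSp
open Groth.Agent.Lib.Helper51 Groth.Agent.Lib.Helper52

namespace Groth.Agent.Lib.Helper30

variable {S : Scheme.{u}}

/-- Every algebraic space has an fpqc covering by affine schemes whose members are representable
étale. -/
theorem exists_affine_etale_cover {Y : AlgSp.Sp S} (hY : AlgSp.IsAlgSpace Y) :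
    ∃ (ι : Type u) (V : ι → Over S) (g : ∀ i, (AlgSp.yon S).obj (V i) ⟶ Y),
      (∀ i, IsAffine (V i).left) ∧ (∀ i, AlgSp.RepWith @Etale (g i)) ∧
      AlgSp.IsFpqcCover (fun i => (AlgSp.yon S).obj (V i)) g := by
  obtain ⟨V, p, hp, hps⟩ := hY.atlas
  let 𝒰 := V.left.affineCover
  let Vi : 𝒰.I₀ → Over S := fun i => Over.mk (𝒰.f i ≫ V.hom)
  let ιi : ∀ i, Vi i ⟶ V := fun i => Over.homMk (𝒰.f i) rfl
  let g : ∀ i, (AlgSp.yon S).obj (Vi i) ⟶ Y := fun i => (AlgSp.yon S).map (ιi i) ≫ p
  have hge : ∀ i, AlgSp.RepWith @Etale (g i) := fun i => by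
    refine (AlgSp.RepWith (S := S) @Etale).comp_mem _ _ ?_ hp
    refine (AlgSp.repWith_yon_map_iff _ _).2 ?_
    show Etale (𝒰.f i)
    infer_instance
  refine ⟨𝒰.I₀, Vi, g, fun i => ?_, hge, ?_⟩
  · show IsAffine (𝒰.X i)
    infer_instance
  · refine Groth.Agent.Lib.Helper78.AlgSpFppfFpqc.isFpqcCover_of_isFppfCover _ g hY
      (fun i => AlgSp.IsAlgSpace.yon_obj _) ⟨fun i => ⟨?_, ?_⟩, fun x => ?_⟩
    · refine locP_of_repWith @Etale @Flat (fun k i hk hi => ?_) (hge i)
      have : Etale k := hk
      have : Etale i := hi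
      infer_instance
    · refine locP_of_repWith @Etale @LocallyOfFinitePresentation (fun k i hk hi => ?_) (hge i)
      have : Etale k := hk
      have : Etale i := hi
      infer_instance
    · obtain ⟨v, rfl⟩ := surjective_map_of_repWith_surjective hps x
      obtain ⟨t, rfl⟩ := (Points.schemeHomeo V).surjective v
      obtain ⟨i, y, hy⟩ := 𝒰.exists_eq t
      refine ⟨i, Points.schemeHomeo (Vi i) y, ?_⟩
      show Points.map ((AlgSp.yon S).map (ιi i) ≫ p) _ = _
      rw [Points.map_comp, Points.map_yon_map_apply]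
      show Points.map p (Points.schemeHomeo V (𝒰.f i y)) = _
      rw [hy]

/-- `h_k` is a proper morphism of sheaves when `k` is a proper morphism of schemes. -/
theorem isProperMor_yon_map {W V : Over S} (k : W ⟶ V) [IsProper k.left] :
    AlgSp.IsProperMor ((AlgSp.yon S).map k) := by
  refine ⟨(AlgSp.isSeparatedMor_yon_map_iff k).2 inferInstance, ⟨?_, ?_⟩, ?_⟩
  · exact (Groth.Agent.Lib.Helper78.AlgSpLocP.locP_yon_map_iff
      Groth.Agent.Lib.Helper78.AlgSpLocPLoft.etLocalST_loft k).2 inferInstance
  · exact isQuasiCompactMor_of_repWith ((AlgSp.repWith_yon_map_iff _ k).2 inferInstance)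
  · exact isUnivClosedMor_of_repWith ((AlgSp.repWith_yon_map_iff _ k).2 inferInstance)

end Groth.Agent.Lib.Helper30
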