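import Mathlib.AlgebraicGeometry.Sites.Fpqc
import Mathlib.CategoryTheory.Sites.LocallyBijective
import Groth.Prelude.Def_AlgSp
import Groth.Agent.Lib.Helper8.SheafType
import Groth.Agent.Lib.Helper40.AlgSpBasic

/-!
# A morphism of sheaves which is an isomorphism after base change along an epi (helper30)
-/

set_option autoImplicit false
set_option maxHeartbeats 400000
set_option backward.isDefEq.respectTransparency false

universe u

open CategoryTheory CategoryTheory.Limits AlgebraicGeometry Opposite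

namespace Groth.Agent.Lib.Helper30

open Groth.Agent.Lib.Helper8

variable {S : Scheme.{u}}

/-- Let `c : Z ⟶ Y` be a morphism of sheaves of types over `Bs`, and `e : Bs' ⟶ Bs` an epimorphism.
If the same `P` (with maps `a`, `a ≫ c`) is the base change of both `Z` and `Y` along `e`,
then `c` is an isomorphism. -/
theorem isIso_of_isPullback_of_epi {Z Y Bs Bs' P : AlgSp.Sp S}
    (π : Z ⟶ Bs) (ω : Y ⟶ Bs) (c : Z ⟶ Y) (hc : c ≫ ω = π) (e : Bs' ⟶ Bs) [Epi e]
    (a : P ⟶ Z) (b : P ⟶ Bs') (sq₁ : IsPullback a b π e) (sq₂ : IsPullback (a ≫ c) b ω e) :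
    IsIso c := by
  have he : Sheaf.IsLocallySurjective e := (Sheaf.isLocallySurjective_iff_epi e).2 inferInstance
  have hcapp : ∀ (Q : (Over S)ᵒᵖ) (x : Z.obj.obj Q), ω.hom.app Q (c.hom.app Q x) = π.hom.app Q x := by
    intro Q x
    exact congrArg (fun t => t.hom.app Q x) hc
  rw [← Sheaf.isLocallyBijective_iff_isIso c]
  constructor
  · constructor
    intro Q x y hxy
    refine (AlgSp.J S).superset_covering ?_ (Presheaf.imageSieve_mem (AlgSp.J S) e.hom (π.hom.app Q x))
    intro Q' f hf
    obtain ⟨t', ht'⟩ := hf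
    -- points of `P` over `Q'`
    have hx : π.hom.app (op Q') (Z.obj.map f.op x) = e.hom.app (op Q') t' := by
      rw [ht', NatTrans.naturality_apply]
    have hy : π.hom.app (op Q') (Z.obj.map f.op y) = e.hom.app (op Q') t' := by
      rw [ht', NatTrans.naturality_apply, ← hcapp, ← hcapp, hxy]
    obtain ⟨px, hpx1, hpx2⟩ := Types.exists_of_isPullback (isPullback_ev (AlgSp.J S) sq₁ Q') _ _ hx
    obtain ⟨py, hpy1, hpy2⟩ := Types.exists_of_isPullback (isPullback_ev (AlgSp.J S) sq₁ Q') _ _ hy
    have h1 : (a ≫ c).hom.app (op Q') px = (a ≫ c).hom.app (op Q') py := by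
      change c.hom.app _ (a.hom.app _ px) = c.hom.app _ (a.hom.app _ py)
      rw [hpx1, hpy1, NatTrans.naturality_apply, NatTrans.naturality_apply, hxy]
    have h2 : b.hom.app (op Q') px = b.hom.app (op Q') py := by rw [hpx2, hpy2]
    have := Types.ext_of_isPullback (isPullback_ev (AlgSp.J S) sq₂ Q') h1 h2
    change Z.obj.map f.op x = Z.obj.map f.op y
    rw [← hpx1, ← hpy1, this]
  · constructor
    intro Q y
    refine (AlgSp.J S).superset_covering ?_ (Presheaf.imageSieve_mem (AlgSp.J S) e.hom (ω.hom.app (op Q) y))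
    intro Q' f hf
    obtain ⟨t', ht'⟩ := hf
    have hy : ω.hom.app (op Q') (Y.obj.map f.op y) = e.hom.app (op Q') t' := by
      rw [ht', NatTrans.naturality_apply]
    obtain ⟨p, hp1, _⟩ := Types.exists_of_isPullback (isPullback_ev (AlgSp.J S) sq₂ Q') _ _ hy
    exact ⟨a.hom.app (op Q') p, hp1⟩

end Groth.Agent.Lib.Helper30
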