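import Mathlib

/-!
# Effective descent of algebras along a flat ring map, in "coaction" form (helper30)

Let `B` be a flat `A`-algebra, `C` a `B`-algebra and `δ₁ : C →ₐ[A] C ⊗[A] B` a "coaction"
(`δ₁ (b • 1) = 1 ⊗ b`, counital, coassociative).  Then for `D = {c | δ₁ c = c ⊗ 1}` the map
`D ⊗[A] B → C` is bijective.
-/

set_option autoImplicit false
set_option maxHeartbeats 400000

universe u

open TensorProduct

namespace Groth.Agent.Lib.Helper30.DescentAlg

variable {A B C : Type u} [CommRing A] [CommRing B] [CommRing C] [Algebra A B] [Algebra B C]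
  [Algebra A C] [IsScalarTower A B C]

variable (A B C) in
/-- Multiplication `C ⊗[A] B → C`. -/
noncomputable def eps : C ⊗[A] B →ₐ[A] C :=
  Algebra.TensorProduct.productMap (AlgHom.id A C) (IsScalarTower.toAlgHom A B C)

@[simp] theorem eps_tmul (c : C) (b : B) : eps A B C (c ⊗ₜ b) = c * algebraMap B C b := rfl

variable (A B C) in
/-- `(c ⊗ b) ⊗ b' ↦ c ⊗ (b b')`. -/
noncomputable def gtau : (C ⊗[A] B) ⊗[A] B →ₐ[A] C ⊗[A] B :=
  Algebra.TensorProduct.productMap (AlgHom.id A (C ⊗[A] B)) Algebra.TensorProduct.includeRight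

@[simp] theorem gtau_tmul (y : C ⊗[A] B) (b : B) : gtau A B C (y ⊗ₜ b) = y * (1 ⊗ₜ b) := rfl

variable (δ₁ : C →ₐ[A] C ⊗[A] B)

/-- The descended algebra. -/
noncomputable abbrev desc : Subalgebra A C :=
  AlgHom.equalizer δ₁ (Algebra.TensorProduct.includeLeft : C →ₐ[A] C ⊗[A] B)

/-- The comparison map `D ⊗[A] B → C`. -/
noncomputable def comparison : desc δ₁ ⊗[A] B →ₐ[A] C :=
  Algebra.TensorProduct.productMap (desc δ₁).val (IsScalarTower.toAlgHom A B C)

@[simp] theorem comparison_tmul (d : desc δ₁) (b : B) :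
    comparison δ₁ (d ⊗ₜ b) = (d : C) * algebraMap B C b := rfl

theorem gtau_map_includeLeft (y : C ⊗[A] B) :
    gtau A B C (Algebra.TensorProduct.map
      (Algebra.TensorProduct.includeLeft : C →ₐ[A] C ⊗[A] B) (AlgHom.id A B) y) = y := by
  have : (gtau A B C).comp (Algebra.TensorProduct.map
      (Algebra.TensorProduct.includeLeft : C →ₐ[A] C ⊗[A] B) (AlgHom.id A B)) = AlgHom.id A _ := by
    ext c
    · simp
    · simp
  exact DFunLike.congr_fun this y

theorem gtau_map_delta (R2 : ∀ b : B, δ₁ (algebraMap B C b) = 1 ⊗ₜ b) (y : C ⊗[A] B) :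
    gtau A B C (Algebra.TensorProduct.map δ₁ (AlgHom.id A B) y) = δ₁ (eps A B C y) := by
  have : (gtau A B C).comp (Algebra.TensorProduct.map δ₁ (AlgHom.id A B)) =
      δ₁.comp (eps A B C) := by
    ext c
    · simp [← Algebra.TensorProduct.one_def]
    · simp [R2]
  exact DFunLike.congr_fun this y

theorem bijective_comparison [Module.Flat A B]
    (R2 : ∀ b : B, δ₁ (algebraMap B C b) = 1 ⊗ₜ b)
    (R3 : ∀ c : C, eps A B C (δ₁ c) = c)
    (R4 : ∀ c : C, Algebra.TensorProduct.map δ₁ (AlgHom.id A B) (δ₁ c) =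
      Algebra.TensorProduct.map
        (Algebra.TensorProduct.includeLeft : C →ₐ[A] C ⊗[A] B) (AlgHom.id A B) (δ₁ c)) :
    Function.Bijective (comparison δ₁) := by
  let δ₀ : C →ₐ[A] C ⊗[A] B := Algebra.TensorProduct.includeLeft
  let j : desc δ₁ ⊗[A] B →ₐ[A] C ⊗[A] B :=
    Algebra.TensorProduct.map (desc δ₁).val (AlgHom.id A B)
  have hj : Function.Injective j :=
    Module.Flat.rTensor_preserves_injective_linearMap (M := B) (desc δ₁).val.toLinearMap
      Subtype.val_injective
  have hm : ∀ x, comparison δ₁ x = eps A B C (j x) := by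
    intro x
    have : comparison δ₁ = (eps A B C).comp j := by
      ext d
      · simp [j]
      · simp [j]
    exact DFunLike.congr_fun this x
  -- elements of the equalizer are determined by their image under `eps`
  have hE : ∀ y : C ⊗[A] B, Algebra.TensorProduct.map δ₁ (AlgHom.id A B) y =
      Algebra.TensorProduct.map δ₀ (AlgHom.id A B) y → y = δ₁ (eps A B C y) := by
    intro y hy
    rw [← gtau_map_delta δ₁ R2, hy, gtau_map_includeLeft]
  have hjE : ∀ x, Algebra.TensorProduct.map δ₁ (AlgHom.id A B) (j x) =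
      Algebra.TensorProduct.map δ₀ (AlgHom.id A B) (j x) := by
    intro x
    have : (Algebra.TensorProduct.map δ₁ (AlgHom.id A B)).comp j =
        (Algebra.TensorProduct.map δ₀ (AlgHom.id A B)).comp j := by
      ext d
      · have hd : δ₁ (d : C) = δ₀ (d : C) := d.2
        simp [j, hd]
      · simp [j]
    exact DFunLike.congr_fun this x
  constructor
  · intro x x' h
    apply hj
    rw [hE _ (hjE x), hE _ (hjE x'), ← hm, ← hm, h]
  · intro c
    let g : C →ₗ[A] C ⊗[A] B := δ₁.toLinearMap - δ₀.toLinearMap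
    have hex : Function.Exact (desc δ₁).val.toLinearMap g := by
      intro c'
      constructor
      · intro hc'
        have : δ₁ c' = δ₀ c' := by
          have : δ₁ c' - δ₀ c' = 0 := hc'
          exact sub_eq_zero.mp this
        exact ⟨⟨c', this⟩, rfl⟩
      · rintro ⟨d, rfl⟩
        have hd : δ₁ (d : C) = δ₀ (d : C) := d.2
        change δ₁ (d : C) - δ₀ (d : C) = 0
        rw [hd, sub_self]
    have hex' := Module.Flat.rTensor_exact B hex
    have hy : LinearMap.rTensor B g (δ₁ c) = 0 := by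
      have h1 : LinearMap.rTensor B g = LinearMap.rTensor B δ₁.toLinearMap -
          LinearMap.rTensor B δ₀.toLinearMap := LinearMap.rTensor_sub _ _
      rw [h1]
      change Algebra.TensorProduct.map δ₁ (AlgHom.id A B) (δ₁ c) -
        Algebra.TensorProduct.map δ₀ (AlgHom.id A B) (δ₁ c) = 0
      rw [R4 c, sub_self]
    obtain ⟨x, hx⟩ := (hex' (δ₁ c)).1 hy
    refine ⟨x, ?_⟩
    rw [hm]
    have : j x = δ₁ c := hx
    rw [this, R3]

end Groth.Agent.Lib.Helper30.DescentAlg
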