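import Mathlib
import Groth.Prelude.Def_AlgSp
import Groth.Agent.Lib.Helper30.DescentAlg
import Groth.Agent.Lib.Helper30.AlgSpIsoDesc
import Groth.Agent.S9885

/-!
# Effective descent of affine schemes over a sheaf along a flat cover of affine schemes (helper30)

Let `A → B` be a faithfully flat finitely presented ring map, `Z` an fppf sheaf over `S` with a
map to `h_{Spec A}`, whose base change to `Spec B` is represented by `Spec C`.  Then `Z` is
represented by an affine scheme `Spec D` over `Spec A`.
-/

set_option autoImplicit false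
set_option maxHeartbeats 800000
set_option backward.isDefEq.respectTransparency false

universe u

open CategoryTheory CategoryTheory.Limits AlgebraicGeometry Opposite TensorProduct

namespace Groth.Agent.Lib.Helper30.AffDesc

open Groth.Agent.Lib.Helper8

variable {S : Scheme.{u}} {A : Type u} [CommRing A] (tS : Spec (CommRingCat.of A) ⟶ S)

/-- `Spec R` as an `S`-scheme, for an `A`-algebra `R`. -/
noncomputable def ov (R : Type u) [CommRing R] [Algebra A R] : Over S :=
  Over.mk (Spec.map (CommRingCat.ofHom (algebraMap A R)) ≫ tS)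

/-- The morphism of `S`-schemes attached to an `A`-algebra map. -/
noncomputable def ovMap {R R' : Type u} [CommRing R] [CommRing R'] [Algebra A R] [Algebra A R']
    (f : R →ₐ[A] R') : ov tS R' ⟶ ov tS R :=
  Over.homMk (Spec.map (CommRingCat.ofHom f.toRingHom)) (by
    change Spec.map _ ≫ Spec.map _ ≫ tS = Spec.map _ ≫ tS
    rw [← Category.assoc, ← Spec.map_comp, ← CommRingCat.ofHom_comp]
    congr 3
    exact f.comp_algebraMap)

@[simp] theorem ovMap_left {R R' : Type u} [CommRing R] [CommRing R'] [Algebra A R] [Algebra A R']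
    (f : R →ₐ[A] R') : (ovMap tS f).left = Spec.map (CommRingCat.ofHom f.toRingHom) := rfl

theorem ovMap_comp {R R' R'' : Type u} [CommRing R] [CommRing R'] [CommRing R''] [Algebra A R]
    [Algebra A R'] [Algebra A R''] (f : R →ₐ[A] R') (f' : R' →ₐ[A] R'') :
    ovMap tS f' ≫ ovMap tS f = ovMap tS (f'.comp f) := by
  apply Over.OverMorphism.ext
  change Spec.map _ ≫ Spec.map _ = Spec.map _
  rw [← Spec.map_comp, ← CommRingCat.ofHom_comp]
  rfl

theorem ovMap_id (R : Type u) [CommRing R] [Algebra A R] :
    ovMap tS (AlgHom.id A R) = 𝟙 (ov tS R) := by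
  apply Over.OverMorphism.ext
  change Spec.map _ = 𝟙 _
  rw [Spec.map_eq_id]
  rfl

theorem ovMap_injective {R R' : Type u} [CommRing R] [CommRing R'] [Algebra A R] [Algebra A R']
    {f f' : R →ₐ[A] R'} (h : ovMap tS f = ovMap tS f') : f = f' := by
  have h1 := congrArg (fun t => t.left) h
  simp only [ovMap_left] at h1
  have h2 := Spec.map_injective h1
  have h3 : f.toRingHom = f'.toRingHom := congrArg (fun t => t.hom) h2
  exact AlgHom.ext (fun x => DFunLike.congr_fun h3 x)

section Core

variable {B C : Type u} [CommRing B] [CommRing C] [Algebra A B] [Algebra B C] [Algebra A C]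
  [IsScalarTower A B C]

variable (A B C) in
/-- The pullback square `Spec (C ⊗ B) = Spec C ×_{Spec A} Spec B` over `S`. -/
theorem isPullback_ov_tensor :
    IsPullback (ovMap tS (Algebra.TensorProduct.includeLeft : C →ₐ[A] C ⊗[A] B))
      (ovMap tS (Algebra.TensorProduct.includeRight : B →ₐ[A] C ⊗[A] B))
      (ovMap tS (Algebra.ofId A C)) (ovMap tS (Algebra.ofId A B)) := by
  apply IsPullback.of_map_of_faithful (Over.forget S)
  have := isPullback_SpecMap_of_isPushout _ _ _ _ (CommRingCat.isPushout_tensorProduct A C B)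
  exact this

variable {tS}

variable {Z : AlgSp.Sp S} {π : Z ⟶ (AlgSp.yon S).obj (ov tS A)}
  {fst : (AlgSp.yon S).obj (ov tS C) ⟶ Z}
  (sq : IsPullback fst ((AlgSp.yon S).map (ovMap tS (IsScalarTower.toAlgHom A B C))) π
    ((AlgSp.yon S).map (ovMap tS (Algebra.ofId A B))))

include sq in
/-- Maps into `Spec C` are determined by their components in `Z` and `Spec B`. -/
theorem hom_ext_of_sq {X : Over S} (x y : X ⟶ ov tS C)
    (h1 : (AlgSp.yon S).map x ≫ fst = (AlgSp.yon S).map y ≫ fst)
    (h2 : x ≫ ovMap tS (IsScalarTower.toAlgHom A B C) = y ≫ ovMap tS (IsScalarTower.toAlgHom A B C)) :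
    x = y := by
  apply (AlgSp.yon S).map_injective
  apply sq.hom_ext h1
  rw [← Functor.map_comp, ← Functor.map_comp, h2]

include sq in
theorem mu_cond :
    ((AlgSp.yon S).map (ovMap tS (Algebra.TensorProduct.includeLeft : C →ₐ[A] C ⊗[A] B)) ≫ fst) ≫ π =
      (AlgSp.yon S).map (ovMap tS (Algebra.TensorProduct.includeRight : B →ₐ[A] C ⊗[A] B)) ≫
        (AlgSp.yon S).map (ovMap tS (Algebra.ofId A B)) := by
  rw [Category.assoc, sq.w, ← Functor.map_comp, ← Functor.map_comp, ← Functor.map_comp,
    ovMap_comp, ovMap_comp, ovMap_comp]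
  congr 2
  exact Subsingleton.elim _ _

/-- The "action" morphism `Spec (C ⊗ B) ⟶ Spec C` over `S`. -/
noncomputable def mu : ov tS (C ⊗[A] B) ⟶ ov tS C :=
  (AlgSp.yon S).preimage (sq.lift _ _ (mu_cond sq))

theorem mu_fst : (AlgSp.yon S).map (mu sq) ≫ fst =
    (AlgSp.yon S).map (ovMap tS (Algebra.TensorProduct.includeLeft : C →ₐ[A] C ⊗[A] B)) ≫ fst := by
  unfold mu
  rw [Functor.map_preimage, sq.lift_fst]

theorem mu_snd : mu sq ≫ ovMap tS (IsScalarTower.toAlgHom A B C) =
    ovMap tS (Algebra.TensorProduct.includeRight : B →ₐ[A] C ⊗[A] B) := by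
  apply (AlgSp.yon S).map_injective
  unfold mu
  rw [Functor.map_comp, Functor.map_preimage, sq.lift_snd]

/-- The ring map underlying `mu`. -/
noncomputable def deltaR : C →+* C ⊗[A] B := (Spec.preimage (mu sq).left).hom

theorem spec_deltaR : Spec.map (CommRingCat.ofHom (deltaR sq)) = (mu sq).left := by
  unfold deltaR
  rw [CommRingCat.ofHom_hom, Spec.map_preimage]

theorem deltaR_algebraMap_B (b : B) : deltaR sq (algebraMap B C b) = 1 ⊗ₜ b := by
  have h := congrArg (fun t => t.left) (mu_snd sq)
  simp only [Over.comp_left, ovMap_left] at h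
  rw [← spec_deltaR, ← Spec.map_comp, Spec.map_inj] at h
  have h' := congrArg (fun t => t.hom b) h
  exact h'

/-- The coaction `C →ₐ[A] C ⊗[A] B`. -/
noncomputable def delta : C →ₐ[A] C ⊗[A] B where
  __ := deltaR sq
  commutes' a := by
    change deltaR sq (algebraMap A C a) = algebraMap A (C ⊗[A] B) a
    rw [IsScalarTower.algebraMap_apply A B C, deltaR_algebraMap_B,
      Algebra.TensorProduct.algebraMap_apply, Algebra.algebraMap_eq_smul_one,
      Algebra.algebraMap_eq_smul_one (A := C), TensorProduct.smul_tmul]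

theorem ovMap_delta : ovMap tS (delta sq) = mu sq := by
  apply Over.OverMorphism.ext
  rw [ovMap_left]
  exact spec_deltaR sq

theorem delta_R2 (b : B) : delta sq (algebraMap B C b) = 1 ⊗ₜ b := deltaR_algebraMap_B sq b

theorem mu_fst' {X : Over S} (x : X ⟶ ov tS (C ⊗[A] B)) :
    (AlgSp.yon S).map (x ≫ mu sq) ≫ fst =
      (AlgSp.yon S).map (x ≫ ovMap tS (Algebra.TensorProduct.includeLeft : C →ₐ[A] C ⊗[A] B)) ≫
        fst := by
  rw [Functor.map_comp, Category.assoc, mu_fst, ← Category.assoc, ← Functor.map_comp]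

theorem delta_R3 (c : C) : DescentAlg.eps A B C (delta sq c) = c := by
  have h : (DescentAlg.eps A B C).comp (delta sq) = AlgHom.id A C := by
    apply ovMap_injective tS
    rw [← ovMap_comp, ovMap_delta, ovMap_id]
    apply hom_ext_of_sq sq
    · rw [mu_fst', ovMap_comp]
      have : (DescentAlg.eps A B C).comp
          (Algebra.TensorProduct.includeLeft : C →ₐ[A] C ⊗[A] B) = AlgHom.id A C := by
        ext c
        simp
      rw [this, ovMap_id]
    · rw [Category.assoc, mu_snd, ovMap_comp, Category.id_comp]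
      congr 1
      ext b
      simp
  exact DFunLike.congr_fun h c

theorem delta_R4 (c : C) :
    Algebra.TensorProduct.map (delta sq) (AlgHom.id A B) (delta sq c) =
      Algebra.TensorProduct.map
        (Algebra.TensorProduct.includeLeft : C →ₐ[A] C ⊗[A] B) (AlgHom.id A B) (delta sq c) := by
  have h : (Algebra.TensorProduct.map (delta sq) (AlgHom.id A B)).comp (delta sq) =
      (Algebra.TensorProduct.map
        (Algebra.TensorProduct.includeLeft : C →ₐ[A] C ⊗[A] B) (AlgHom.id A B)).comp (delta sq) := by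
    apply ovMap_injective tS
    rw [← ovMap_comp, ← ovMap_comp, ovMap_delta]
    apply hom_ext_of_sq sq
    · rw [mu_fst', mu_fst', ovMap_comp, ovMap_comp]
      have e1 : (Algebra.TensorProduct.map (delta sq) (AlgHom.id A B)).comp
          (Algebra.TensorProduct.includeLeft : C →ₐ[A] C ⊗[A] B) =
          (Algebra.TensorProduct.includeLeft : C ⊗[A] B →ₐ[A] (C ⊗[A] B) ⊗[A] B).comp (delta sq) := by
        ext c
        simp
      have e2 : (Algebra.TensorProduct.map
          (Algebra.TensorProduct.includeLeft : C →ₐ[A] C ⊗[A] B) (AlgHom.id A B)).comp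
          (Algebra.TensorProduct.includeLeft : C →ₐ[A] C ⊗[A] B) =
          (Algebra.TensorProduct.includeLeft : C ⊗[A] B →ₐ[A] (C ⊗[A] B) ⊗[A] B).comp
            (Algebra.TensorProduct.includeLeft : C →ₐ[A] C ⊗[A] B) := by
        ext c
        simp
      rw [e1, e2, ← ovMap_comp, ← ovMap_comp, ovMap_delta, mu_fst']
    · rw [Category.assoc, Category.assoc, mu_snd, ovMap_comp, ovMap_comp]
      congr 1
      ext b
      simp
  exact DFunLike.congr_fun h c

variable [Module.Flat A B]

/-- The descended ring. -/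
noncomputable abbrev descRing : Subalgebra A C := DescentAlg.desc (delta sq)

theorem bijective_comparison : Function.Bijective (DescentAlg.comparison (delta sq)) :=
  DescentAlg.bijective_comparison (delta sq) (delta_R2 sq) (delta_R3 sq) (delta_R4 sq)

/-- The comparison as a ring isomorphism `D ⊗[A] B ≃+* C`. -/
noncomputable def comparisonEquiv : descRing sq ⊗[A] B ≃+* C :=
  RingEquiv.ofBijective (DescentAlg.comparison (delta sq)).toRingHom (bijective_comparison sq)

theorem isPushout_descRing :
    IsPushout (CommRingCat.ofHom (Algebra.ofId A (descRing sq)).toRingHom)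
      (CommRingCat.ofHom (Algebra.ofId A B).toRingHom)
      (CommRingCat.ofHom (descRing sq).val.toRingHom)
      (CommRingCat.ofHom (IsScalarTower.toAlgHom A B C).toRingHom) := by
  refine (CommRingCat.isPushout_tensorProduct A (descRing sq) B).of_iso (Iso.refl _) (Iso.refl _)
    (Iso.refl _) (comparisonEquiv sq).toCommRingCatIso ?_ ?_ ?_ ?_
  · rfl
  · rfl
  · ext d
    change DescentAlg.comparison (delta sq) (d ⊗ₜ 1) = (d : C)
    simp
  · ext b
    change DescentAlg.comparison (delta sq) (1 ⊗ₜ b) = algebraMap B C b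
    simp

/-- `Spec C = Spec D ×_{Spec A} Spec B` over `S`. -/
theorem isPullback_ov_descRing :
    IsPullback (ovMap tS (descRing sq).val) (ovMap tS (IsScalarTower.toAlgHom A B C))
      (ovMap tS (Algebra.ofId A (descRing sq))) (ovMap tS (Algebra.ofId A B)) := by
  apply IsPullback.of_map_of_faithful (Over.forget S)
  exact isPullback_SpecMap_of_isPushout _ _ _ _ (isPushout_descRing sq)

/-- The kernel pair of `fst : h_{Spec C} ⟶ Z`. -/
theorem isKernelPair_fst :
    IsKernelPair fst ((AlgSp.yon S).map (mu sq))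
      ((AlgSp.yon S).map (ovMap tS (Algebra.TensorProduct.includeLeft : C →ₐ[A] C ⊗[A] B))) := by
  have houter := ((isPullback_ov_tensor A tS B C).map (AlgSp.yon S)).flip
  have e1 : ovMap tS (Algebra.ofId A C) =
      ovMap tS (IsScalarTower.toAlgHom A B C) ≫ ovMap tS (Algebra.ofId A B) := by
    rw [ovMap_comp]
    congr 1
    exact Subsingleton.elim _ _
  rw [e1, ← mu_snd sq, Functor.map_comp, Functor.map_comp, ← sq.w] at houter
  exact IsPullback.of_right houter (mu_fst sq) sq.flip

variable [Surjective (Spec.map (CommRingCat.ofHom (algebraMap A B)))]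
  [LocallyOfFinitePresentation (Spec.map (CommRingCat.ofHom (algebraMap A B)))]

theorem epi_yon_q : Epi ((AlgSp.yon S).map (ovMap tS (Algebra.ofId A B))) := by
  have hflat : Flat (Spec.map (CommRingCat.ofHom (algebraMap A B))) := by
    rw [HasRingHomProperty.Spec_iff (P := @Flat)]
    exact (RingHom.flat_algebraMap_iff).2 inferInstance
  have h1 : AlgSp.RepWith @Flat ((AlgSp.yon S).map (ovMap tS (Algebra.ofId A B))) :=
    (AlgSp.repWith_yon_map_iff _ _).2 hflat
  have h2 : AlgSp.RepWith @LocallyOfFinitePresentation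
      ((AlgSp.yon S).map (ovMap tS (Algebra.ofId A B))) :=
    (AlgSp.repWith_yon_map_iff _ _).2
      (inferInstance : LocallyOfFinitePresentation (Spec.map (CommRingCat.ofHom (algebraMap A B))))
  have h3 : AlgSp.RepWith @Surjective ((AlgSp.yon S).map (ovMap tS (Algebra.ofId A B))) :=
    (AlgSp.repWith_yon_map_iff _ _).2
      (inferInstance : Surjective (Spec.map (CommRingCat.ofHom (algebraMap A B))))
  exact (Sheaf.isLocallySurjective_iff_epi _).1 (Groth.Agent.S9885.result S _ _ _ h1 h2 h3)

/-- **Effective descent of affine schemes over a sheaf.** -/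
theorem exists_iso_yon_ov :
    ∃ e : (AlgSp.yon S).obj (ov tS (descRing sq)) ≅ Z,
      e.hom ≫ π = (AlgSp.yon S).map (ovMap tS (Algebra.ofId A (descRing sq))) := by
  have hq := epi_yon_q (tS := tS) (A := A) (B := B)
  have hfst : Epi fst := epi_of_isPullback_of_epi (AlgSp.J S) sq
  have hreg : IsRegularEpi fst := IsRegularEpiCategory.regularEpiOfEpi fst
  have kp := isKernelPair_fst sq
  have hcoeq : (AlgSp.yon S).map (mu sq) ≫ (AlgSp.yon S).map (ovMap tS (descRing sq).val) =
      (AlgSp.yon S).map (ovMap tS (Algebra.TensorProduct.includeLeft : C →ₐ[A] C ⊗[A] B)) ≫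
        (AlgSp.yon S).map (ovMap tS (descRing sq).val) := by
    rw [← Functor.map_comp, ← Functor.map_comp, ← ovMap_delta, ovMap_comp, ovMap_comp]
    congr 2
    ext d
    exact d.2
  let c : Z ⟶ (AlgSp.yon S).obj (ov tS (descRing sq)) :=
    (IsKernelPair.toCoequalizer' kp).desc (Cofork.ofπ _ hcoeq)
  have hc1 : fst ≫ c = (AlgSp.yon S).map (ovMap tS (descRing sq).val) :=
    Cofork.IsColimit.π_desc (IsKernelPair.toCoequalizer' kp)
  have hc2 : c ≫ (AlgSp.yon S).map (ovMap tS (Algebra.ofId A (descRing sq))) = π := by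
    rw [← cancel_epi fst, ← Category.assoc, hc1, sq.w, ← Functor.map_comp, ← Functor.map_comp,
      ovMap_comp, ovMap_comp]
    congr 2
    exact Subsingleton.elim _ _
  have hiso : IsIso c := by
    refine isIso_of_isPullback_of_epi π _ c hc2
      ((AlgSp.yon S).map (ovMap tS (Algebra.ofId A B))) fst
      ((AlgSp.yon S).map (ovMap tS (IsScalarTower.toAlgHom A B C))) sq ?_
    rw [hc1]
    exact (isPullback_ov_descRing sq).map (AlgSp.yon S)
  refine ⟨(asIso c).symm, ?_⟩
  rw [Iso.symm_hom, asIso_inv, IsIso.inv_comp_eq, hc2]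

end Core

section Wrapper

variable {S : Scheme.{u}}

theorem prop_SpecMap_appTop (P : MorphismProperty Scheme.{u}) [P.RespectsIso] {X Y : Scheme.{u}}
    [IsAffine X] [IsAffine Y] (f : X ⟶ Y) : P (Spec.map f.appTop) ↔ P f :=
  (P.arrow_mk_iso_iff (arrowIsoSpecΓOfIsAffine f)).symm

/-- **Effective descent of affine schemes over a sheaf**, for general affine schemes. -/
theorem exists_affine_of_isPullback {T V W' : Over S} [IsAffine T.left] [IsAffine V.left]
    [IsAffine W'.left] (q : V ⟶ T) [Flat q.left] [Surjective q.left]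
    [LocallyOfFinitePresentation q.left] (i' : W' ⟶ V) {Z : AlgSp.Sp S}
    (π : Z ⟶ (AlgSp.yon S).obj T) (fst : (AlgSp.yon S).obj W' ⟶ Z)
    (sq : IsPullback fst ((AlgSp.yon S).map i') π ((AlgSp.yon S).map q)) :
    ∃ (W : Over S) (w : W ⟶ T) (e : (AlgSp.yon S).obj W ≅ Z), IsAffine W.left ∧
      e.hom ≫ π = (AlgSp.yon S).map w := by
  let A : Type u := Γ(T.left, ⊤)
  let B : Type u := Γ(V.left, ⊤)
  let C : Type u := Γ(W'.left, ⊤)
  letI : Algebra A B := (q.left.appTop.hom).toAlgebra
  letI : Algebra B C := (i'.left.appTop.hom).toAlgebra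
  letI : Algebra A C := ((i'.left.appTop.hom).comp (q.left.appTop.hom)).toAlgebra
  haveI : IsScalarTower A B C := IsScalarTower.of_algebraMap_eq' rfl
  let tS : Spec (CommRingCat.of A) ⟶ S := T.left.isoSpec.inv ≫ T.hom
  have hAA : Spec.map (CommRingCat.ofHom (algebraMap A A)) = 𝟙 _ := by
    rw [Algebra.algebraMap_self]
    exact Spec.map_id _
  have hAB : Spec.map (CommRingCat.ofHom (algebraMap A B)) = Spec.map q.left.appTop := rfl
  have hBC : Spec.map (CommRingCat.ofHom (algebraMap B C)) = Spec.map i'.left.appTop := rfl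
  have hAC : Spec.map (CommRingCat.ofHom (algebraMap A C)) =
      Spec.map i'.left.appTop ≫ Spec.map q.left.appTop := by
    rw [← Spec.map_comp]
    rfl
  let eT : ov tS A ≅ T := Over.isoMk T.left.isoSpec.symm (by
    change T.left.isoSpec.inv ≫ T.hom = Spec.map (CommRingCat.ofHom (algebraMap A A)) ≫ tS
    rw [hAA, Category.id_comp])
  let eV : ov tS B ≅ V := Over.isoMk V.left.isoSpec.symm (by
    change V.left.isoSpec.inv ≫ V.hom = Spec.map (CommRingCat.ofHom (algebraMap A B)) ≫ tS
    rw [hAB, ← Category.assoc, Scheme.isoSpec_inv_naturality, Category.assoc, Over.w])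
  let eW : ov tS C ≅ W' := Over.isoMk W'.left.isoSpec.symm (by
    change W'.left.isoSpec.inv ≫ W'.hom = Spec.map (CommRingCat.ofHom (algebraMap A C)) ≫ tS
    rw [hAC, Category.assoc, ← Category.assoc (Spec.map q.left.appTop),
      Scheme.isoSpec_inv_naturality, Category.assoc, Over.w, ← Category.assoc,
      Scheme.isoSpec_inv_naturality, Category.assoc, Over.w])
  have c1 : i' ≫ eV.inv = eW.inv ≫ ovMap tS (IsScalarTower.toAlgHom A B C) := by
    apply Over.OverMorphism.ext
    change i'.left ≫ V.left.isoSpec.hom = W'.left.isoSpec.hom ≫ Spec.map i'.left.appTop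
    rw [Scheme.isoSpec_hom_naturality]
  have c2 : q ≫ eT.inv = eV.inv ≫ ovMap tS (Algebra.ofId A B) := by
    apply Over.OverMorphism.ext
    change q.left ≫ T.left.isoSpec.hom = V.left.isoSpec.hom ≫ Spec.map q.left.appTop
    rw [Scheme.isoSpec_hom_naturality]
  have sq' : IsPullback ((AlgSp.yon S).map eW.hom ≫ fst)
      ((AlgSp.yon S).map (ovMap tS (IsScalarTower.toAlgHom A B C)))
      (π ≫ (AlgSp.yon S).map eT.inv) ((AlgSp.yon S).map (ovMap tS (Algebra.ofId A B))) := by
    refine IsPullback.of_iso sq ((AlgSp.yon S).mapIso eW.symm) (Iso.refl Z)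
      ((AlgSp.yon S).mapIso eV.symm) ((AlgSp.yon S).mapIso eT.symm) ?_ ?_ ?_ ?_
    · simp only [Functor.mapIso_hom, Iso.symm_hom, Iso.refl_hom, Category.comp_id]
      rw [← Category.assoc, ← Functor.map_comp, Iso.inv_hom_id, CategoryTheory.Functor.map_id,
        Category.id_comp]
    · simp only [Functor.mapIso_hom, Iso.symm_hom]
      rw [← Functor.map_comp, ← Functor.map_comp, c1]
    · simp only [Functor.mapIso_hom, Iso.symm_hom, Iso.refl_hom, Category.id_comp]
    · simp only [Functor.mapIso_hom, Iso.symm_hom]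
      rw [← Functor.map_comp, ← Functor.map_comp, c2]
  haveI : Module.Flat A B := by
    have h1 : Flat (Spec.map q.left.appTop) := (prop_SpecMap_appTop @Flat q.left).2 inferInstance
    rw [HasRingHomProperty.Spec_iff (P := @Flat)] at h1
    exact (RingHom.flat_algebraMap_iff).1 h1
  haveI : Surjective (Spec.map (CommRingCat.ofHom (algebraMap A B))) :=
    (prop_SpecMap_appTop @Surjective q.left).2 inferInstance
  haveI : LocallyOfFinitePresentation (Spec.map (CommRingCat.ofHom (algebraMap A B))) :=
    (prop_SpecMap_appTop @LocallyOfFinitePresentation q.left).2 inferInstance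
  obtain ⟨e, he⟩ := exists_iso_yon_ov sq'
  refine ⟨ov tS (descRing sq'), ovMap tS (Algebra.ofId A (descRing sq')) ≫ eT.hom, e,
    (inferInstance : IsAffine (Spec _)), ?_⟩
  rw [Functor.map_comp, ← he, Category.assoc, Category.assoc, ← Functor.map_comp, Iso.inv_hom_id,
    CategoryTheory.Functor.map_id, Category.comp_id]

end Wrapper

end Groth.Agent.Lib.Helper30.AffDesc
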