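import Groth.Prelude.Def_AlgSp4

/-!
# Affine-tested properties of morphisms of sheaves (helper30)

`AffTested Q f` : for every affine scheme `Z` and `g : h_Z ⟶ G` the fibre product is an affine scheme
`W` with `Q (W ⟶ Z)`.  `AlgSp.IsIntegralMor = AffTested @IsIntegralHom`,
`AlgSp.IsFiniteMor = AffTested @IsFinite` (definitionally).  Base change, composition, closed
immersions and cancellation.
-/

set_option autoImplicit false
universe u

open CategoryTheory CategoryTheory.Limits AlgebraicGeometry MorphismProperty AlgSp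

namespace Groth.Agent.Lib.Helper30

variable {S : Scheme.{u}}

/-- Affine-tested morphisms with property `Q`. -/
def AffTested (Q : MorphismProperty Scheme.{u}) : MorphismProperty (AlgSp.Sp S) := fun F G f =>
  ∀ ⦃Z : Over S⦄, IsAffine Z.left → ∀ (g : (AlgSp.yon S).obj Z ⟶ G),
    ∃ (W : Over S) (i : W ⟶ Z) (fst : (AlgSp.yon S).obj W ⟶ F),
      IsPullback fst ((AlgSp.yon S).map i) f g ∧ IsAffine W.left ∧ Q i.left

theorem isIntegralMor_iff_affTested {F G : AlgSp.Sp S} (f : F ⟶ G) :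
    AlgSp.IsIntegralMor f ↔ AffTested @IsIntegralHom f := Iff.rfl

theorem isFiniteMor_iff_affTested {F G : AlgSp.Sp S} (f : F ⟶ G) :
    AlgSp.IsFiniteMor f ↔ AffTested @IsFinite f := Iff.rfl

theorem affTested_of_isPullback (Q : MorphismProperty Scheme.{u}) {F G F' G' : AlgSp.Sp S}
    {f : F ⟶ G} {g : G' ⟶ G} {fst : F' ⟶ F} {snd : F' ⟶ G'} (sq : IsPullback fst snd f g)
    (hf : AffTested Q f) : AffTested Q snd := by
  intro Z hZ k
  obtain ⟨W, i, fst₀, sq₀, hW, hi⟩ := hf hZ (k ≫ g)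
  have w : fst₀ ≫ f = ((AlgSp.yon S).map i ≫ k) ≫ g := by rw [sq₀.w, Category.assoc]
  refine ⟨W, i, sq.lift fst₀ ((AlgSp.yon S).map i ≫ k) w, ?_, hW, hi⟩
  have outer : IsPullback (sq.lift fst₀ ((AlgSp.yon S).map i ≫ k) w ≫ fst)
      ((AlgSp.yon S).map i) f (k ≫ g) := by
    rw [sq.lift_fst]
    exact sq₀
  exact IsPullback.of_right outer (sq.lift_snd _ _ _) sq

theorem affTested_comp (Q : MorphismProperty Scheme.{u}) [Q.IsStableUnderComposition]
    {F G H : AlgSp.Sp S} {f : F ⟶ G} {g : G ⟶ H} (hf : AffTested Q f) (hg : AffTested Q g) :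
    AffTested Q (f ≫ g) := by
  intro Z hZ k
  obtain ⟨W, i, fst₁, sq₁, hW, hi⟩ := hg hZ k
  obtain ⟨W', i', fst₂, sq₂, hW', hi'⟩ := hf hW fst₁
  refine ⟨W', i' ≫ i, fst₂, ?_, hW', Q.comp_mem _ _ hi' hi⟩
  rw [Functor.map_comp]
  exact sq₂.paste_vert sq₁

theorem affTested_of_repWith_isClosedImmersion (Q : MorphismProperty Scheme.{u})
    (hQ : ∀ {A B : Scheme.{u}} (i : A ⟶ B), IsClosedImmersion i → Q i) {F G : AlgSp.Sp S}
    {f : F ⟶ G} (hf : AlgSp.RepWith @IsClosedImmersion f) : AffTested Q f := by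
  intro Z hZ k
  have h1 : IsClosedImmersion (hf.rep.snd k).left := hf.property_snd k
  refine ⟨hf.rep.pullback k, hf.rep.snd k, hf.rep.fst k, hf.rep.isPullback k, ?_, hQ _ h1⟩
  have : IsAffine Z.left := hZ
  exact isAffine_of_isAffineHom (hf.rep.snd k).left

/-- Cancellation: if `g ≫ q` is affine-tested `Q` and `q` is separated, then `g` is affine-tested
`Q` (for `Q` containing closed immersions and stable under composition). -/
theorem affTested_of_comp_of_isSeparatedMor (Q : MorphismProperty Scheme.{u})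
    [Q.IsStableUnderComposition]
    (hQ : ∀ {A B : Scheme.{u}} (i : A ⟶ B), IsClosedImmersion i → Q i)
    {X Y B : AlgSp.Sp S} (g : X ⟶ Y) (q : Y ⟶ B)
    (hp : AffTested Q (g ≫ q)) (hd : AlgSp.IsSeparatedMor q) : AffTested Q g := by
  have h1 : AffTested Q (pullback.lift (𝟙 X) g (by simp) : X ⟶ pullback (g ≫ q) q) :=
    affTested_of_isPullback Q (pullback_lift_diagonal_isPullback g q)
      (affTested_of_repWith_isClosedImmersion Q hQ hd)
  have h2 : AffTested Q (pullback.snd (g ≫ q) q) :=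
    affTested_of_isPullback Q (IsPullback.of_hasPullback (g ≫ q) q) hp
  have e : g = (pullback.lift (𝟙 X) g (by simp) : X ⟶ pullback (g ≫ q) q) ≫
      pullback.snd (g ≫ q) q := by
    rw [pullback.lift_snd]
  rw [e]
  exact affTested_comp Q h1 h2

end Groth.Agent.Lib.Helper30
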