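import Mathlib
import Groth.Prelude.Def_AlgSp4
import Groth.Agent.Lib.Helper30.AlgSpAffDesc
import Groth.Agent.Lib.Helper30.AlgSpAffTested

/-!
# Descent of affine-tested properties along étale covers of sheaves (helper30)

If the base change of `f : F ⟶ G` along a representable étale surjective `p : h_V ⟶ G` is
affine-tested with `Q` (and `Q` satisfies fpqc descent), then so is `f`.
-/

set_option autoImplicit false
set_option linter.style.haveILetI false
set_option maxHeartbeats 800000
set_option backward.isDefEq.respectTransparency false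

universe u

open CategoryTheory CategoryTheory.Limits AlgebraicGeometry Opposite

namespace Groth.Agent.Lib.Helper30.AffDesc

open Groth.Agent.Lib.Helper30

variable {S : Scheme.{u}}

/-- An étale surjective morphism to a quasi-compact scheme is refined by an affine étale cover. -/
theorem exists_affine_etale_cover {X T : Scheme.{u}} [CompactSpace T] (f : X ⟶ T) [Etale f]
    [Surjective f] :
    ∃ (V₀ : Scheme.{u}) (r : V₀ ⟶ X), IsAffine V₀ ∧ Etale r ∧ Surjective (r ≫ f) := by
  obtain ⟨V : X.Opens, hV, e⟩ := f.isOpenMap.exists_opens_image_eq_of_prespectralSpace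
    f.continuous (by simp) isOpen_univ isCompact_univ
  haveI : CompactSpace V.toScheme := isCompact_iff_compactSpace.mp hV
  obtain ⟨Y, p, hp1, hp2, hY⟩ :=
    Scheme.exists_hom_isAffine_of_isZariskiLocalAtSource @Etale V.toScheme
  haveI : Etale p := hp2
  refine ⟨Y, p ≫ V.ι, hY, inferInstance, ⟨fun t => ?_⟩⟩
  obtain ⟨x, hxV, hx⟩ := e.ge (Set.mem_univ t)
  obtain ⟨y, hy⟩ := hp1.surj ⟨x, hxV⟩
  refine ⟨y, ?_⟩
  rw [Scheme.Hom.comp_apply, Scheme.Hom.comp_apply, hy]
  exact hx

/-- Descent of an affine fibre product along a flat cover of affine schemes. -/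
theorem descend_affine {F G : AlgSp.Sp S} (f : F ⟶ G) {T V₀ W' : Over S} [IsAffine T.left]
    [IsAffine V₀.left] [IsAffine W'.left] (g : (AlgSp.yon S).obj T ⟶ G) (q : V₀ ⟶ T)
    [Flat q.left] [Surjective q.left] [LocallyOfFinitePresentation q.left] (i' : W' ⟶ V₀)
    (fst' : (AlgSp.yon S).obj W' ⟶ F)
    (sq : IsPullback fst' ((AlgSp.yon S).map i') f ((AlgSp.yon S).map q ≫ g)) :
    ∃ (W : Over S) (i : W ⟶ T) (fstW : (AlgSp.yon S).obj W ⟶ F) (k : W' ⟶ W),
      IsPullback fstW ((AlgSp.yon S).map i) f g ∧ IsAffine W.left ∧ IsPullback k i' i q := by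
  have w0 : fst' ≫ f = ((AlgSp.yon S).map i' ≫ (AlgSp.yon S).map q) ≫ g := by
    rw [sq.w, Category.assoc]
  let l : (AlgSp.yon S).obj W' ⟶ pullback f g :=
    pullback.lift fst' ((AlgSp.yon S).map i' ≫ (AlgSp.yon S).map q) w0
  have hl1 : l ≫ pullback.fst f g = fst' := pullback.lift_fst _ _ _
  have hl2 : l ≫ pullback.snd f g = (AlgSp.yon S).map i' ≫ (AlgSp.yon S).map q :=
    pullback.lift_snd _ _ _
  have sqZ : IsPullback l ((AlgSp.yon S).map i') (pullback.snd f g) ((AlgSp.yon S).map q) := by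
    refine IsPullback.of_right ?_ hl2 (IsPullback.of_hasPullback f g)
    rw [hl1]
    exact sq
  obtain ⟨W, w, e, hW, he⟩ := exists_affine_of_isPullback q i' (pullback.snd f g) l sqZ
  have sqW : IsPullback (e.hom ≫ pullback.fst f g) ((AlgSp.yon S).map w) f g := by
    refine IsPullback.of_iso (IsPullback.of_hasPullback f g) e.symm (Iso.refl _) (Iso.refl _)
      (Iso.refl _) ?_ ?_ ?_ ?_
    · simp
    · simp [← he]
    · simp
    · simp
  let k : W' ⟶ W := (AlgSp.yon S).preimage (l ≫ e.inv)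
  have hk : (AlgSp.yon S).map k = l ≫ e.inv := (AlgSp.yon S).map_preimage _
  have sqk' : IsPullback ((AlgSp.yon S).map k) ((AlgSp.yon S).map i') ((AlgSp.yon S).map w)
      ((AlgSp.yon S).map q) := by
    refine IsPullback.of_iso sqZ (Iso.refl _) e.symm (Iso.refl _) (Iso.refl _) ?_ ?_ ?_ ?_
    · simp [hk]
    · simp
    · simp [← he]
    · simp
  have comm : k ≫ w = i' ≫ q := by
    apply (AlgSp.yon S).map_injective
    rw [Functor.map_comp, Functor.map_comp]
    exact sqk'.w
  exact ⟨W, w, e.hom ≫ pullback.fst f g, k, sqW, hW, IsPullback.of_map (AlgSp.yon S) comm sqk'⟩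

/-- **Descent of affine-tested properties along an étale cover.** -/
theorem affTested_of_etale_cover (Q : MorphismProperty Scheme.{u})
    [Q.DescendsAlong (@Surjective ⊓ @Flat ⊓ @QuasiCompact)] {F G : AlgSp.Sp S} (f : F ⟶ G)
    (V : Over S) (p : (AlgSp.yon S).obj V ⟶ G) (hp : AlgSp.RepWith @Etale p)
    (hps : AlgSp.RepWith @Surjective p) {P : AlgSp.Sp S} (fst : P ⟶ F)
    (snd : P ⟶ (AlgSp.yon S).obj V) (sq : IsPullback fst snd f p) (h : AffTested Q snd) :
    AffTested Q f := by
  intro T hT g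
  haveI : IsAffine T.left := hT
  have hq0e : Etale (hp.rep.snd g).left := hp.property_snd g
  have hq0s : Surjective (hp.rep.snd g).left :=
    hps.property g (hp.rep.fst g) (hp.rep.snd g) (hp.rep.isPullback g)
  obtain ⟨V₀s, r, hV₀, hr, hrs⟩ := exists_affine_etale_cover (hp.rep.snd g).left
  let V₀ : Over S := Over.mk (r ≫ (hp.rep.pullback g).hom)
  let r' : V₀ ⟶ hp.rep.pullback g := Over.homMk r rfl
  haveI : IsAffine V₀.left := hV₀
  let q : V₀ ⟶ T := r' ≫ hp.rep.snd g
  haveI : Etale q.left := by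
    change Etale (r ≫ (hp.rep.snd g).left)
    infer_instance
  haveI : Surjective q.left := hrs
  obtain ⟨W', i', fst'', sq'', hW', hQ'⟩ := h hV₀ ((AlgSp.yon S).map r' ≫ hp.rep.fst g)
  haveI : IsAffine W'.left := hW'
  have hcomp : ((AlgSp.yon S).map r' ≫ hp.rep.fst g) ≫ p = (AlgSp.yon S).map q ≫ g := by
    rw [Category.assoc, (hp.rep.isPullback g).w, ← Category.assoc, ← Functor.map_comp]
  have sqbig : IsPullback (fst'' ≫ fst) ((AlgSp.yon S).map i') f ((AlgSp.yon S).map q ≫ g) := by
    rw [← hcomp]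
    exact sq''.paste_horiz sq
  obtain ⟨W, i, fstW, k, sqW, hW, sqk⟩ := descend_affine f g q i' (fst'' ≫ fst) sqbig
  haveI : IsAffine W.left := hW
  refine ⟨W, i, fstW, sqW, hW, ?_⟩
  have sqs : IsPullback i'.left k.left q.left i.left := (sqk.map (Over.forget S)).flip
  exact MorphismProperty.of_isPullback_of_descendsAlong
    (Q := (@Surjective ⊓ @Flat ⊓ @QuasiCompact : MorphismProperty Scheme.{u})) sqs
    ⟨⟨inferInstance, inferInstance⟩, inferInstance⟩ hQ'

end Groth.Agent.Lib.Helper30.AffDesc
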