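import Groth.Agent.Lib.Helper30.AlgSpSep
import Groth.Agent.Lib.Helper1.FpqcDescent
import Groth.Agent.Lib.Helper51.QCDescent
import Groth.Agent.S9885

/-!
Descent of `RepWith Q` along representable étale surjective base changes, for properties `Q` of
morphisms of schemes that satisfy fppf descent (helper30).
-/

set_option autoImplicit false
set_option linter.unusedSectionVars false
universe u
open CategoryTheory CategoryTheory.Limits AlgebraicGeometry Opposite

set_option backward.isDefEq.respectTransparency false

namespace Groth.Agent.Lib.Helper30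

open AlgSp Groth.Agent.Lib.Helper51 Groth.Agent.Lib.Helper52

variable {S : Scheme.{u}}

/-- Closed immersions satisfy fpqc descent (as in `S0083`). -/
instance descendsAlong_isClosedImmersion_fpqc :
    MorphismProperty.DescendsAlong @IsClosedImmersion
      (@Surjective ⊓ @Flat ⊓ @QuasiCompact : MorphismProperty Scheme.{u}) :=
  Groth.Agent.Lib.Helper1.descendsAlong_fpqc_of_affineAnd @IsClosedImmersion
    (fun f => Function.Surjective f) IsClosedImmersion.hasAffineProperty
    RingHom.surjective_respectsIso RingHom.FaithfullyFlat.codescendsAlong_surjective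

/-- A pullback square of schemes over a morphism `v` of `Over S` and a morphism `e` of `Over S`
with the same target lifts to `Over S`. -/
theorem isPullback_over' {T V T' : Over S} (v : V ⟶ T) (e : T' ⟶ T) :
    ∃ (W : Over S) (w1 : W ⟶ V) (w2 : W ⟶ T'), IsPullback w1 w2 v e ∧
      IsPullback w1.left w2.left v.left e.left := by
  have hw : pullback.fst v.left e.left ≫ V.hom = pullback.snd v.left e.left ≫ T'.hom := by
    rw [← Over.w v, ← Over.w e, ← Category.assoc, ← Category.assoc, pullback.condition]
  refine ⟨Over.mk (pullback.snd v.left e.left ≫ T'.hom), Over.homMk (pullback.fst v.left e.left) hw,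
    Over.homMk (pullback.snd v.left e.left) rfl, ?_, IsPullback.of_hasPullback v.left e.left⟩
  exact IsPullback.of_map_of_faithful (Over.forget S) (IsPullback.of_hasPullback v.left e.left)

/-- `RepWith Q` descends along a representable étale surjective base change, for `Q` satisfying fppf
descent. -/
theorem repWith_of_etale_cover (Q : MorphismProperty Scheme.{u})
    [Q.DescendsAlong (@Surjective ⊓ @Flat ⊓ @LocallyOfFinitePresentation)]
    {F G F' G' : AlgSp.Sp S} {f : F ⟶ G} {c : G' ⟶ G} {a : F' ⟶ F} {f' : F' ⟶ G'}
    (sq : IsPullback a f' f c) (hf : AlgSp.Representable f) (hce : AlgSp.RepWith @Etale c)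
    (hcs : AlgSp.RepWith @Surjective c) (hQ : AlgSp.RepWith Q f') : AlgSp.RepWith Q f := by
  refine ⟨hf, ?_⟩
  intro T V g fstV v sqV
  show Q v.left
  have hc := hce.1
  have sqT := hc.isPullback g
  have he : Etale (hc.snd g).left := hce.2 g _ _ sqT
  have hes : Surjective (hc.snd g).left := hcs.2 g _ _ sqT
  obtain ⟨W, w1, w2, sqW, sqWl⟩ := isPullback_over' v (hc.snd g)
  have sqW' := sqW.map (AlgSp.yon S)
  have big := sqW'.paste_horiz sqV
  rw [← sqT.w] at big
  have hbw : ((AlgSp.yon S).map w1 ≫ fstV) ≫ f = ((AlgSp.yon S).map w2 ≫ hc.fst g) ≫ c := by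
    rw [Category.assoc _ (hc.fst g)]
    exact big.w
  have hl1 : sq.lift _ _ hbw ≫ a = (AlgSp.yon S).map w1 ≫ fstV := sq.lift_fst _ _ _
  have hl2 : sq.lift _ _ hbw ≫ f' = (AlgSp.yon S).map w2 ≫ hc.fst g := sq.lift_snd _ _ _
  have left : IsPullback (sq.lift _ _ hbw) ((AlgSp.yon S).map w2) f' (hc.fst g) := by
    refine IsPullback.of_right ?_ hl2 sq
    rw [hl1]
    exact big
  have hQw : Q w2.left := hQ.2 _ _ _ left
  refine MorphismProperty.of_isPullback_of_descendsAlong
    (Q := (@Surjective ⊓ @Flat ⊓ @LocallyOfFinitePresentation : MorphismProperty Scheme.{u}))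
    sqWl.flip ⟨⟨hes, ?_⟩, ?_⟩ hQw
  · show Flat (hc.snd g).left
    infer_instance
  · show LocallyOfFinitePresentation (hc.snd g).left
    infer_instance

/-- `RepWith Q` of the relative diagonal descends along a representable étale surjective base change of
the target. -/
theorem repWith_diagonal_of_etale_cover (Q : MorphismProperty Scheme.{u})
    [Q.DescendsAlong (@Surjective ⊓ @Flat ⊓ @LocallyOfFinitePresentation)]
    {X Y X' Y' : AlgSp.Sp S} {f : X ⟶ Y} {c : Y' ⟶ Y} {a : X' ⟶ X} {f' : X' ⟶ Y'}
    (sq : IsPullback a f' f c) (hΔ : AlgSp.Representable (pullback.diagonal f))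
    (hce : AlgSp.RepWith @Etale c) (hcs : AlgSp.RepWith @Surjective c)
    (hQ : AlgSp.RepWith Q (pullback.diagonal f')) : AlgSp.RepWith Q (pullback.diagonal f) := by
  have dsq := isPullback_diagonal_of_isPullback sq
  have bsq := (isPullback_map_base sq).flip
  exact repWith_of_etale_cover Q dsq hΔ (MorphismProperty.of_isPullback bsq hce)
    (MorphismProperty.of_isPullback bsq hcs) hQ

/-- A representable étale surjective map of sheaves is an epimorphism. -/
theorem epi_of_repWith_etale_surjective {F G : AlgSp.Sp S} (a : F ⟶ G)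
    (hae : AlgSp.RepWith @Etale a) (has : AlgSp.RepWith @Surjective a) : Epi a := by
  have h1 : AlgSp.RepWith @Flat a := by
    refine MorphismProperty.relative_monotone ?_ _ hae
    intro A B k hk
    have : Etale k.left := hk
    show Flat k.left
    infer_instance
  have h2 : AlgSp.RepWith @LocallyOfFinitePresentation a := by
    refine MorphismProperty.relative_monotone ?_ _ hae
    intro A B k hk
    have : Etale k.left := hk
    show LocallyOfFinitePresentation k.left
    infer_instance
  have := Groth.Agent.S9885.result S F G a h1 h2 has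
  infer_instance

/-- Being a monomorphism descends along a representable étale surjective base change. -/
theorem mono_of_etale_cover {X Y X' Y' : AlgSp.Sp S} {f : X ⟶ Y} {c : Y' ⟶ Y} {a : X' ⟶ X}
    {f' : X' ⟶ Y'} (sq : IsPullback a f' f c) (hce : AlgSp.RepWith @Etale c)
    (hcs : AlgSp.RepWith @Surjective c) [Mono f'] : Mono f := by
  refine ⟨fun {G} u v huv => ?_⟩
  have sqG := IsPullback.of_hasPullback (u ≫ f) c
  have hepi : Epi (pullback.fst (u ≫ f) c) :=
    epi_of_repWith_etale_surjective _ (MorphismProperty.of_isPullback sqG.flip hce)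
      (MorphismProperty.of_isPullback sqG.flip hcs)
  have hu : (pullback.fst (u ≫ f) c ≫ u) ≫ f = pullback.snd (u ≫ f) c ≫ c := by
    rw [Category.assoc]; exact sqG.w
  have hv : (pullback.fst (u ≫ f) c ≫ v) ≫ f = pullback.snd (u ≫ f) c ≫ c := by
    rw [Category.assoc, ← huv]; exact sqG.w
  have h1 : sq.lift _ _ hu = sq.lift _ _ hv := by
    rw [← cancel_mono f', sq.lift_snd, sq.lift_snd]
  have h2 : pullback.fst (u ≫ f) c ≫ u = pullback.fst (u ≫ f) c ≫ v := by
    rw [← sq.lift_fst _ _ hu, ← sq.lift_fst _ _ hv, h1]
  exact (cancel_epi _).1 h2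

end Groth.Agent.Lib.Helper30
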