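import Groth.Agent.Lib.Helper30.AlgSpGlue2
import Groth.Agent.Lib.Helper30.AlgSpDesc

/-!
# Zariski-local representability with a property (helper30)

`exists_isPullback_of_openCover_prop` : if over the members of an open cover of `T` the pullback of
`f` is representable with a property `Q` (Zariski-local on the target), then the pullback over `T`
is representable with `Q`.
-/

set_option autoImplicit false
set_option linter.unusedSectionVars false
universe u
set_option maxHeartbeats 400000
set_option backward.isDefEq.respectTransparency false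

open CategoryTheory CategoryTheory.Limits AlgebraicGeometry MorphismProperty AlgSp Opposite

namespace Groth.Agent.Lib.Helper30.Glue

open Groth.Agent.Lib.Helper30

variable {S : Scheme.{u}}

theorem exists_isPullback_of_openCover_prop (Q : MorphismProperty Scheme.{u})
    [IsZariskiLocalAtTarget Q] {F G : AlgSp.Sp S} (f : F ⟶ G) {T : Over S}
    (g : (AlgSp.yon S).obj T ⟶ G) (𝒰 : Scheme.OpenCover.{u} T.left)
    (H : ∀ i, ∃ (W : Over S) (w : W ⟶ coverOver T 𝒰 i) (fst : (AlgSp.yon S).obj W ⟶ F),
      IsPullback fst ((AlgSp.yon S).map w) f ((AlgSp.yon S).map (coverι T 𝒰 i) ≫ g) ∧ Q w.left) :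
    ∃ (W : Over S) (snd : W ⟶ T) (fst : (AlgSp.yon S).obj W ⟶ F),
      IsPullback fst ((AlgSp.yon S).map snd) f g ∧ Q snd.left := by
  obtain ⟨W, snd, fst, sq⟩ := exists_isPullback_of_openCover f g 𝒰 (fun i => by
    obtain ⟨W, w, fst, sq, -⟩ := H i
    exact ⟨W, w, fst, sq⟩)
  refine ⟨W, snd, fst, sq, ?_⟩
  rw [IsZariskiLocalAtTarget.iff_of_openCover (P := Q) 𝒰]
  intro i
  obtain ⟨Wi, w, fsti, sqi, hQ⟩ := H i
  obtain ⟨W', w1, w2, sqO, sqL⟩ := isPullback_over' snd (coverι T 𝒰 i)
  have sq2 : IsPullback ((AlgSp.yon S).map w1 ≫ fst) ((AlgSp.yon S).map w2) f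
      ((AlgSp.yon S).map (coverι T 𝒰 i) ≫ g) := (sqO.map (AlgSp.yon S)).paste_horiz sq
  let e' := sq2.isoIsPullback _ _ sqi
  have he' : e'.hom ≫ (AlgSp.yon S).map w = (AlgSp.yon S).map w2 :=
    IsPullback.isoIsPullback_hom_snd _ _ sq2 sqi
  let e : W' ≅ Wi := (AlgSp.yon S).preimageIso e'
  have he : e.hom ≫ w = w2 := by
    apply (AlgSp.yon S).map_injective
    rw [Functor.map_comp, ← he']
    congr 1
    exact (AlgSp.yon S).map_preimage _
  have hQ2 : Q w2.left := by
    rw [← he]
    change Q (((Over.forget S).mapIso e).hom ≫ w.left)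
    rw [Q.cancel_left_of_respectsIso]
    exact hQ
  have h3 : sqL.isoPullback.hom ≫ pullback.snd snd.left (𝒰.f i) = w2.left :=
    sqL.isoPullback_hom_snd
  change Q (pullback.snd snd.left (𝒰.f i))
  rw [← Q.cancel_left_of_respectsIso sqL.isoPullback.hom, h3]
  exact hQ2

end Groth.Agent.Lib.Helper30.Glue
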