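import Mathlib
import Groth.Prelude.Def_AlgSp4
import Groth.Agent.Lib.Helper30.AlgSpAffDesc2
import Groth.Agent.Lib.Helper30.AlgSpGlue3

/-!
# Affine morphisms of sheaves from affine étale charts (helper30)

If `X ×_Y V` is an affine scheme for every affine scheme `V` étale over `Y`, then `X ⟶ Y` is affine.
-/

set_option autoImplicit false
set_option linter.style.haveILetI false
set_option maxHeartbeats 800000
set_option backward.isDefEq.respectTransparency false

universe u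

open CategoryTheory CategoryTheory.Limits AlgebraicGeometry Opposite TopologicalSpace

namespace Groth.Agent.Lib.Helper30.AffDesc

open Groth.Agent.Lib.Helper30 Groth.Agent.Lib.Helper30.Glue

variable {S : Scheme.{u}}

/-- Local step: affineness of a fibre product from an étale chart. -/
theorem exists_affine_of_chart {F G : AlgSp.Sp S} (f : F ⟶ G) {T₁ V₁ U₁ W₁ : Over S}
    [IsAffine T₁.left] [IsAffine V₁.left] [IsAffine U₁.left] [IsAffine W₁.left]
    (g₁ : (AlgSp.yon S).obj T₁ ⟶ G) (q₁ : V₁ ⟶ T₁) [Etale q₁.left] [Surjective q₁.left]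
    (b : (AlgSp.yon S).obj U₁ ⟶ G) (m : V₁ ⟶ U₁)
    (hm : (AlgSp.yon S).map m ≫ b = (AlgSp.yon S).map q₁ ≫ g₁)
    (i₁ : W₁ ⟶ U₁) (fst₁ : (AlgSp.yon S).obj W₁ ⟶ F)
    (sq₁ : IsPullback fst₁ ((AlgSp.yon S).map i₁) f b) :
    ∃ (W : Over S) (i : W ⟶ T₁) (fstW : (AlgSp.yon S).obj W ⟶ F),
      IsPullback fstW ((AlgSp.yon S).map i) f g₁ ∧ IsAffine W.left := by
  obtain ⟨W', w1, w2, sqO, sqL⟩ := isPullback_over' m i₁
  haveI : IsAffine W'.left := IsAffine.of_isIso sqL.isoPullback.hom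
  have sqY : IsPullback ((AlgSp.yon S).map w2 ≫ fst₁) ((AlgSp.yon S).map w1) f
      ((AlgSp.yon S).map m ≫ b) := (sqO.flip.map (AlgSp.yon S)).paste_horiz sq₁
  rw [hm] at sqY
  obtain ⟨W, i, fstW, k, sqW, hW, -⟩ := descend_affine f g₁ q₁ w1 _ sqY
  exact ⟨W, i, fstW, sqW, hW⟩

/-- If the fibre product with every affine étale chart is an affine scheme, the morphism is
affine. -/
theorem isAffineMor_of_affine_etale_charts {F G : AlgSp.Sp S} (f : F ⟶ G) {U : Over S}
    (c : (AlgSp.yon S).obj U ⟶ G) (hce : AlgSp.RepWith @Etale c)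
    (hcs : AlgSp.RepWith @Surjective c)
    (h : ∀ (V : Over S), IsAffine V.left → ∀ (b : (AlgSp.yon S).obj V ⟶ G), AlgSp.RepWith @Etale b →
      ∃ (W : Over S) (i : W ⟶ V) (fst : (AlgSp.yon S).obj W ⟶ F),
        IsPullback fst ((AlgSp.yon S).map i) f b ∧ IsAffine W.left) :
    AlgSp.IsAffineMor f := by
  intro T hT g
  haveI : IsAffine T.left := hT
  let VT := hce.rep.pullback g
  let q₀ : VT ⟶ T := hce.rep.snd g
  let a := hce.rep.fst g
  let a₀ : VT ⟶ U := (AlgSp.yon S).preimage a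
  have ha₀ : (AlgSp.yon S).map a₀ = a := (AlgSp.yon S).map_preimage _
  haveI hq0e : Etale q₀.left := hce.property_snd g
  have hq0s : Surjective q₀.left := hcs.property g _ _ (hce.rep.isPullback g)
  have hw : a ≫ c = (AlgSp.yon S).map q₀ ≫ g := (hce.rep.isPullback g).w
  have hloc : ∀ t : T.left, ∃ Tt : T.left.Opens, t ∈ Tt ∧ IsAffineOpen Tt ∧
      ∃ (W : Over S) (w : W ⟶ Over.mk (Tt.ι ≫ T.hom)) (fst : (AlgSp.yon S).obj W ⟶ F),
        IsPullback fst ((AlgSp.yon S).map w) f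
          ((AlgSp.yon S).map (Over.homMk Tt.ι rfl : Over.mk (Tt.ι ≫ T.hom) ⟶ T) ≫ g) ∧
        IsAffine W.left := by
    intro t
    obtain ⟨v, hv⟩ := hq0s.surj t
    obtain ⟨Uv : U.left.Opens, hUv, hvU, -⟩ := (Opens.isBasis_iff_nbhd.mp U.left.isBasis_affineOpens)
      (show a₀.left v ∈ (⊤ : U.left.Opens) from trivial)
    obtain ⟨Vv : VT.left.Opens, hVv, hvV, hVvle⟩ := (Opens.isBasis_iff_nbhd.mp VT.left.isBasis_affineOpens)
      (show v ∈ a₀.left ⁻¹ᵁ Uv from hvU)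
    have himg : IsOpen (q₀.left '' (Vv : Set VT.left)) := q₀.left.isOpenMap _ Vv.isOpen
    obtain ⟨Tt : T.left.Opens, hTt, htT, hTtle⟩ := (Opens.isBasis_iff_nbhd.mp T.left.isBasis_affineOpens)
      (show t ∈ (⟨_, himg⟩ : T.left.Opens) from ⟨v, hvV, hv⟩)
    refine ⟨Tt, htT, hTt, ?_⟩
    haveI : IsAffine Tt.toScheme := hTt
    haveI : IsAffine Vv.toScheme := hVv
    haveI : IsAffine Uv.toScheme := hUv
    let TtO : Over S := Over.mk (Tt.ι ≫ T.hom)
    let ιT : TtO ⟶ T := Over.homMk Tt.ι rfl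
    let VvO : Over S := Over.mk (Vv.ι ≫ VT.hom)
    let ιV : VvO ⟶ VT := Over.homMk Vv.ι rfl
    let UvO : Over S := Over.mk (Uv.ι ≫ U.hom)
    let ιU : UvO ⟶ U := Over.homMk Uv.ι rfl
    have hrange : Set.range (Vv.ι ≫ a₀.left) ⊆ Set.range Uv.ι := by
      rw [Scheme.Opens.range_ι]
      rintro _ ⟨x, rfl⟩
      rw [Scheme.Hom.comp_apply]
      exact hVvle x.2
    let mV₀ : Vv.toScheme ⟶ Uv.toScheme := IsOpenImmersion.lift Uv.ι (Vv.ι ≫ a₀.left) hrange
    have hmV₀ : mV₀ ≫ Uv.ι = Vv.ι ≫ a₀.left := IsOpenImmersion.lift_fac _ _ _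
    let mV : VvO ⟶ UvO := Over.homMk mV₀ (by
      change mV₀ ≫ Uv.ι ≫ U.hom = Vv.ι ≫ VT.hom
      rw [← Category.assoc, hmV₀, Category.assoc, Over.w])
    have hmV : mV ≫ ιU = ιV ≫ a₀ := by
      apply Over.OverMorphism.ext
      exact hmV₀
    obtain ⟨V₁, p1, p2, sqO, sqL⟩ := isPullback_over' (ιV ≫ q₀) ιT
    haveI : IsAffine V₁.left := by
      haveI : IsAffine VvO.left := hVv
      haveI : IsAffine TtO.left := hTt
      exact IsAffine.of_isIso sqL.isoPullback.hom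
    haveI : Etale (ιV ≫ q₀).left := by
      change Etale (Vv.ι ≫ q₀.left)
      infer_instance
    haveI : Etale p2.left := MorphismProperty.of_isPullback (P := @Etale) sqL inferInstance
    haveI : Surjective p2.left := by
      refine ⟨fun t' => ?_⟩
      obtain ⟨v', hv'V, hv'⟩ := hTtle (show (Tt.ι t') ∈ Tt from t'.2)
      obtain ⟨p, -, hp⟩ := Scheme.exists_preimage_of_isPullback sqL
        (⟨v', hv'V⟩ : Vv) t' hv'
      exact ⟨p, hp⟩
    have hb : AlgSp.RepWith @Etale ((AlgSp.yon S).map ιU ≫ c) :=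
      MorphismProperty.comp_mem _ _ _
        ((AlgSp.repWith_yon_map_iff @Etale ιU).2 (inferInstanceAs (Etale Uv.ι))) hce
    have hm : (AlgSp.yon S).map (p1 ≫ mV) ≫ (AlgSp.yon S).map ιU ≫ c =
        (AlgSp.yon S).map p2 ≫ (AlgSp.yon S).map ιT ≫ g := by
      rw [← Category.assoc, ← Functor.map_comp, Category.assoc, hmV, ← Category.assoc,
        Functor.map_comp, ha₀, Category.assoc, hw, ← Category.assoc, ← Functor.map_comp,
        Category.assoc, sqO.w, Functor.map_comp, Category.assoc]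
    obtain ⟨W₁, i₁, fst₁, sq₁, hW₁⟩ := h UvO hUv _ hb
    haveI : IsAffine W₁.left := hW₁
    haveI : IsAffine TtO.left := hTt
    haveI : IsAffine UvO.left := hUv
    exact exists_affine_of_chart f ((AlgSp.yon S).map ιT ≫ g) p2 _ (p1 ≫ mV) hm i₁ fst₁ sq₁
  choose Tt htT hTt W w fst sq hW using hloc
  have hcover : IsOpenCover Tt := by
    rw [IsOpenCover, eq_top_iff]
    intro t _
    exact Opens.mem_iSup.2 ⟨t, htT t⟩
  let 𝒰 : Scheme.OpenCover.{u} T.left := T.left.openCoverOfIsOpenCover Tt hcover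
  obtain ⟨W₀, snd₀, fst₀, sq₀, haff⟩ := exists_isPullback_of_openCover_prop @IsAffineHom f g 𝒰
    (fun t => ⟨W t, w t, fst t, sq t, by
      haveI : IsAffine (W t).left := hW t
      haveI : IsAffine (coverOver T 𝒰 t).left := hTt t
      infer_instance⟩)
  haveI : IsAffineHom snd₀.left := haff
  exact ⟨W₀, snd₀, fst₀, sq₀, isAffine_of_isAffineHom snd₀.left⟩

end Groth.Agent.Lib.Helper30.AffDesc
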