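import Groth.Agent.Lib.Helper30.AlgSpCoprod4

/-!
# Coproducts of fppf sheaves, V (helper30)

* `isColimit_of_isPullback`: coproducts of sheaves are universal (stable under pullback);
* `exists_isPullback_desc`: the pullback of a map `∐ F_i ⟶ G` along `h_T ⟶ G` is `h_{∐ W_i}` as
  soon as each `F_i ×_G h_T` is `h_{W_i}`.
-/

set_option autoImplicit false
set_option maxHeartbeats 800000
set_option backward.isDefEq.respectTransparency false
set_option linter.style.haveILetI false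
universe u
open CategoryTheory CategoryTheory.Limits AlgebraicGeometry Opposite

namespace Groth.Agent.Lib.Helper30.Coprod

variable {S : Scheme.{u}} {ι : Type u} {F : ι → AlgSp.Sp S}

/-- Coproducts of sheaves are universal. -/
theorem isColimit_of_isPullback (c : Cofan F) (hc : IsColimit c) {G : AlgSp.Sp S} (f : G ⟶ c.pt)
    (Gi : ι → AlgSp.Sp S) (fi : ∀ i, Gi i ⟶ F i) (ki : ∀ i, Gi i ⟶ G)
    (sq : ∀ i, IsPullback (fi i) (ki i) (c.inj i) f) :
    Nonempty (IsColimit (Cofan.mk G ki)) := by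
  apply isColimit_of_char
  · intro T x
    obtain ⟨R, hR, H⟩ := exists_cover_lift c hc (x ≫ f)
    refine ⟨R, hR, fun V k hk => ?_⟩
    obtain ⟨i, a, ha⟩ := H k hk
    refine ⟨i, (sq i).lift a ((AlgSp.yon S).map k ≫ x) (by rw [ha, Category.assoc]), ?_⟩
    exact (sq i).lift_snd _ _ _
  · intro i
    have := mono_inj c hc i
    exact (sq i).mono_snd_of_mono
  · intro i j hij T a b h
    apply isEmpty_of_comp_inj_eq c hc hij (a ≫ fi i) (b ≫ fi j)
    have h' : a ≫ ki i = b ≫ ki j := h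
    rw [Category.assoc, Category.assoc, (sq i).w, (sq j).w, ← Category.assoc, ← Category.assoc, h']

/-- The pullback of `d : ∐ F_i ⟶ G` along `h : h_T ⟶ G` is `h_{∐ W_i}` as soon as each
`F_i ×_G h_T` is `h_{W_i}`. -/
theorem exists_isPullback_desc (c : Cofan F) (hc : IsColimit c) {G : AlgSp.Sp S} (d : c.pt ⟶ G)
    {T : Over S} (h : (AlgSp.yon S).obj T ⟶ G) (W : ι → Over S) (w : ∀ i, W i ⟶ T)
    (a : ∀ i, (AlgSp.yon S).obj (W i) ⟶ F i)
    (sq : ∀ i, IsPullback (a i) ((AlgSp.yon S).map (w i)) (c.inj i ≫ d) h) :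
    ∃ (w₀ : sigmaOver W ⟶ T) (a₀ : (AlgSp.yon S).obj (sigmaOver W) ⟶ c.pt),
      IsPullback a₀ ((AlgSp.yon S).map w₀) d h ∧ (∀ i, sigmaOverι W i ≫ w₀ = w i) ∧
      ∀ i, (AlgSp.yon S).map (sigmaOverι W i) ≫ a₀ = a i ≫ c.inj i := by
  let k : ∀ i, (AlgSp.yon S).obj (W i) ⟶ pullback d h := fun i =>
    pullback.lift (a i ≫ c.inj i) ((AlgSp.yon S).map (w i)) (by
      rw [Category.assoc, (sq i).w])
  have hk1 : ∀ i, k i ≫ pullback.fst d h = a i ≫ c.inj i := fun i => pullback.lift_fst _ _ _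
  have hk2 : ∀ i, k i ≫ pullback.snd d h = (AlgSp.yon S).map (w i) :=
    fun i => pullback.lift_snd _ _ _
  have sqk : ∀ i, IsPullback (a i) (k i) (c.inj i) (pullback.fst d h) := by
    intro i
    refine IsPullback.of_bot ?_ (hk1 i).symm (IsPullback.of_hasPullback d h)
    rw [hk2 i]
    exact sq i
  obtain ⟨hcP⟩ := isColimit_of_isPullback c hc (pullback.fst d h) _ a k sqk
  obtain ⟨hcW⟩ := yonCofan_isColimit W
  let e : (AlgSp.yon S).obj (sigmaOver W) ≅ pullback d h :=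
    hcW.coconePointUniqueUpToIso hcP
  have he : ∀ i, (AlgSp.yon S).map (sigmaOverι W i) ≫ e.hom = k i :=
    fun i => hcW.comp_coconePointUniqueUpToIso_hom hcP ⟨i⟩
  obtain ⟨w₀, hw₀⟩ := (AlgSp.yon S).map_surjective (e.hom ≫ pullback.snd d h)
  refine ⟨w₀, e.hom ≫ pullback.fst d h, ?_, fun i => ?_, fun i => ?_⟩
  · rw [hw₀]
    exact IsPullback.of_iso (IsPullback.of_hasPullback d h) e.symm (Iso.refl _) (Iso.refl _)
      (Iso.refl _) (by simp) (by simp) (by simp) (by simp)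
  · apply (AlgSp.yon S).map_injective
    rw [Functor.map_comp, hw₀, ← Category.assoc, he, hk2]
  · rw [← Category.assoc, he, hk1]

theorem sigmaOver_hom_left (W : ι → Over S) {T : Over S} (w : ∀ i, W i ⟶ T)
    (w₀ : sigmaOver W ⟶ T) (hw : ∀ i, sigmaOverι W i ≫ w₀ = w i) :
    w₀.left = Sigma.desc (fun i => (w i).left) := by
  apply Sigma.hom_ext
  intro i
  rw [Sigma.ι_desc]
  exact congrArg CommaMorphism.left (hw i)

end Groth.Agent.Lib.Helper30.Coprod
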