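import Groth.Agent.Lib.Helper30.AlgSpOfChart
import Groth.Agent.Lib.Helper30.AlgSpCoprod5
import Groth.Agent.Lib.Helper40.QuotShEff

/-!
# Quotients by étale equivalence relations are algebraic spaces (helper30)

* `exists_cover_lift_of_epi`, `exists_affine_lift_of_epi`: sections of the target of an epimorphism of
  sheaves lift fppf locally; over an affine base a single affine fppf cover suffices.
* `representable_of_source_openCover`: representability of `h_U ⟶ G` is Zariski local on `U`.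
-/

set_option autoImplicit false
set_option maxHeartbeats 800000
set_option backward.isDefEq.respectTransparency false
set_option linter.style.haveILetI false
set_option linter.unusedSectionVars false
universe u

open CategoryTheory CategoryTheory.Limits AlgebraicGeometry MorphismProperty AlgSp Opposite

namespace Groth.Agent.Lib.Helper30.QuotEff

open Groth.Agent.Lib.Helper30.Glue Groth.Agent.Lib.Helper30.Coprod
  Groth.Agent.Lib.Helper40.QuotShApi

variable {S : Scheme.{u}}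

/-- Sections of the target of an epimorphism of sheaves lift locally. -/
theorem exists_cover_lift_of_epi {A G : AlgSp.Sp S} (p : A ⟶ G) [Epi p] {T : Over S}
    (g : (AlgSp.yon S).obj T ⟶ G) :
    ∃ R ∈ AlgSp.J S T, ∀ ⦃V : Over S⦄ (f : V ⟶ T), R f →
      ∃ (b : (AlgSp.yon S).obj V ⟶ A), b ≫ p = (AlgSp.yon S).map f ≫ g := by
  haveI : Sheaf.IsLocallySurjective p := (Sheaf.isLocallySurjective_iff_epi p).2 inferInstance
  refine ⟨Presheaf.imageSieve p.hom ((AlgSp.J S).uliftYonedaEquiv g),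
    Presheaf.imageSieve_mem (AlgSp.J S) p.hom _, ?_⟩
  rintro V f ⟨a, h⟩
  refine ⟨(AlgSp.J S).uliftYonedaEquiv.symm a, ?_⟩
  apply (AlgSp.J S).uliftYonedaEquiv.injective
  rw [GrothendieckTopology.uliftYonedaEquiv_comp, Equiv.apply_symm_apply, h,
    GrothendieckTopology.uliftYonedaEquiv_naturality]

/-- Over an affine base, sections of the target of an epimorphism of sheaves lift along a single
affine fppf cover. -/
theorem exists_affine_lift_of_epi {A G : AlgSp.Sp S} (p : A ⟶ G) [Epi p] {T : Over S}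
    [IsAffine T.left] (g : (AlgSp.yon S).obj T ⟶ G) :
    ∃ (V₀ : Over S) (q : V₀ ⟶ T) (b : (AlgSp.yon S).obj V₀ ⟶ A), IsAffine V₀.left ∧ Flat q.left ∧
      LocallyOfFinitePresentation q.left ∧ Surjective q.left ∧
      b ≫ p = (AlgSp.yon S).map q ≫ g := by
  obtain ⟨R', hR', H⟩ := exists_cover_lift_of_epi p g
  obtain ⟨R, hR, hle⟩ := exists_precover_of_mem_J Scheme.fppfPrecoverage R' hR'
  obtain ⟨ι, Y, f, rfl⟩ := R.exists_eq_ofArrows
  rw [Scheme.fppfPrecoverage, Scheme.ofArrows_mem_precoverage_iff] at hR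
  obtain ⟨hsurj, hP⟩ := hR
  haveI : ∀ i, Flat (f i) := fun i => (hP i).1
  haveI : ∀ i, LocallyOfFinitePresentation (f i) := fun i => (hP i).2
  choose i y hy using hsurj
  have hO : ∀ x : ↥T.left, ∃ O : (Y (i x)).Opens, IsAffineOpen O ∧ y x ∈ O := fun x => by
    obtain ⟨O, hO, hyO, -⟩ := exists_isAffineOpen_mem_and_subset (x := y x)
      (U := (⊤ : (Y (i x)).Opens)) trivial
    exact ⟨O, hO, hyO⟩
  choose O hOa hyO using hO
  have hopen : ∀ x : ↥T.left, IsOpen ((f (i x)) '' (O x : Set ↥(Y (i x)))) := fun x =>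
    (f (i x)).isOpenMap _ (O x).2
  obtain ⟨t, ht⟩ := isCompact_univ.elim_finite_subcover
    (fun x : ↥T.left => (f (i x)) '' (O x : Set ↥(Y (i x)))) hopen (fun x _ =>
      Set.mem_iUnion.2 ⟨x, ⟨y x, hyO x, hy x⟩⟩)
  let W : ↥t → Over S := fun x => Over.mk ((O x.1).ι ≫ f (i x.1) ≫ T.hom)
  let w : ∀ x : ↥t, W x ⟶ T := fun x => Over.homMk ((O x.1).ι ≫ f (i x.1)) (by simp [W])
  haveI : ∀ x : ↥t, IsAffine (W x).left := fun x => hOa x.1
  have hw : ∀ x : ↥t, R' (w x) := fun x => by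
    have h1 := hle (f (i x.1)) ⟨i x.1⟩
    let k : W x ⟶ Over.mk (f (i x.1) ≫ T.hom) := Over.homMk (O x.1).ι rfl
    have h2 := R'.downward_closed h1 k
    have : k ≫ (Over.homMk (f (i x.1)) : Over.mk (f (i x.1) ≫ T.hom) ⟶ T) = w x := by
      apply Over.OverMorphism.ext
      rfl
    rwa [this] at h2
  choose b hb using fun x : ↥t => H (w x) (hw x)
  obtain ⟨hcW⟩ := yonCofan_isColimit W
  let q : sigmaOver W ⟶ T := Over.homMk (Sigma.desc (fun x => (w x).left)) (by
    apply Sigma.hom_ext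
    intro x
    simp [sigmaOver, W, w])
  have hq : ∀ x, sigmaOverι W x ≫ q = w x := fun x => by
    apply Over.OverMorphism.ext
    simp [sigmaOverι, q]
  have hql : q.left = Sigma.desc (fun x => (w x).left) := rfl
  refine ⟨sigmaOver W, q, Cofan.IsColimit.desc hcW b, ?_, ?_, ?_, ?_, ?_⟩
  · change IsAffine (∐ fun x => (W x).left)
    infer_instance
  · rw [hql]
    exact IsZariskiLocalAtSource.sigmaDesc (P := @Flat) (fun x => by
      change Flat ((O x.1).ι ≫ f (i x.1))
      infer_instance)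
  · rw [hql]
    exact IsZariskiLocalAtSource.sigmaDesc (P := @LocallyOfFinitePresentation) (fun x => by
      change LocallyOfFinitePresentation ((O x.1).ι ≫ f (i x.1))
      infer_instance)
  · rw [hql]
    constructor
    intro z
    have hz := ht (Set.mem_univ z)
    simp only [Set.mem_iUnion] at hz
    obtain ⟨x, hx, v, hv, hvz⟩ := hz
    refine ⟨Sigma.ι (fun x => (W x).left) ⟨x, hx⟩ ⟨v, hv⟩, ?_⟩
    have h1 : (Sigma.ι (fun x => (W x).left) ⟨x, hx⟩ ≫ Sigma.desc (fun x => (w x).left))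
        ⟨v, hv⟩ = z := by
      rw [Sigma.ι_desc]
      exact hvz
    exact h1
  · apply Cofan.IsColimit.hom_ext hcW
    intro x
    rw [← Category.assoc, Cofan.IsColimit.fac hcW, hb x]
    change _ = (AlgSp.yon S).map (sigmaOverι W x) ≫ _ ≫ _
    rw [← Category.assoc, ← Functor.map_comp, hq]

/-- Representability of a map out of a representable sheaf is Zariski local on the source. -/
theorem representable_of_source_openCover {G : AlgSp.Sp S} {U : Over S}
    (p : (AlgSp.yon S).obj U ⟶ G) (𝒰 : Scheme.OpenCover.{u} U.left)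
    (H : ∀ i, AlgSp.Representable ((AlgSp.yon S).map (coverι U 𝒰 i) ≫ p)) :
    AlgSp.Representable p := by
  intro T g
  choose W snd fst sq using fun i => H i g
  have sqP := IsPullback.of_hasPullback p g
  let j : ∀ i, (AlgSp.yon S).obj (W i) ⟶ pullback p g := fun i =>
    pullback.lift (fst i ≫ (AlgSp.yon S).map (coverι U 𝒰 i)) ((AlgSp.yon S).map (snd i)) (by
      rw [Category.assoc, (sq i).w])
  have hj1 : ∀ i, j i ≫ pullback.fst p g = fst i ≫ (AlgSp.yon S).map (coverι U 𝒰 i) :=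
    fun i => pullback.lift_fst _ _ _
  have hj2 : ∀ i, j i ≫ pullback.snd p g = (AlgSp.yon S).map (snd i) :=
    fun i => pullback.lift_snd _ _ _
  have sqj : ∀ i, IsPullback (j i) (fst i) (pullback.fst p g)
      ((AlgSp.yon S).map (coverι U 𝒰 i)) := fun i => by
    refine IsPullback.of_right ?_ (hj1 i) sqP.flip
    rw [hj2]
    exact (sq i).flip
  have hj : ∀ i, AlgSp.RepWith @IsOpenImmersion (j i) := fun i => by
    refine MorphismProperty.of_isPullback (sqj i).flip ?_
    refine (AlgSp.repWith_yon_map_iff _ _).2 ?_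
    show IsOpenImmersion (𝒰.f i)
    infer_instance
  have hs : JointlySurj j := by
    intro T' ξ
    obtain ⟨τ, hτ⟩ := (AlgSp.yon S).map_surjective (ξ ≫ pullback.fst p g)
    refine ⟨Sieve.pullback τ (Sieve.ofArrows (coverOver U 𝒰) (coverι U 𝒰)),
      (AlgSp.J S).pullback_stable τ (ofArrows_openCover_mem U 𝒰), ?_⟩
    rintro V k ⟨_, a, _, ⟨i⟩, fac⟩
    have hw : ((AlgSp.yon S).map k ≫ ξ) ≫ pullback.fst p g =
        (AlgSp.yon S).map a ≫ (AlgSp.yon S).map (coverι U 𝒰 i) := by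
      rw [Category.assoc, ← hτ, ← Functor.map_comp, ← Functor.map_comp, fac]
    obtain ⟨l, hl⟩ := (AlgSp.yon S).map_surjective ((sqj i).lift _ _ hw)
    refine ⟨i, l, ?_⟩
    rw [hl]
    exact (sqj i).lift_fst _ _ _
  obtain ⟨W', e, -, -, -, -⟩ := exists_iso_of_open_cover hj hs
  obtain ⟨snd', hsnd⟩ := (AlgSp.yon S).map_surjective (e.hom ≫ pullback.snd p g)
  refine ⟨W', snd', e.hom ≫ pullback.fst p g, ?_⟩
  rw [hsnd]
  have h1 : IsPullback e.hom (e.hom ≫ pullback.snd p g) (pullback.snd p g)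
      (𝟙 ((AlgSp.yon S).obj T)) := IsPullback.of_horiz_isIso ⟨by simp⟩
  have h2 := h1.paste_horiz sqP
  rw [Category.id_comp] at h2
  exact h2

theorem yon_map_repIso_inv {T V : Over S} (a : T ⟶ V) :
    (AlgSp.yon S).map a ≫ (QuotSh.repIsoUliftYoneda Scheme.fppfPrecoverage V).inv =
      (QuotSh.repIsoUliftYoneda Scheme.fppfPrecoverage T).inv ≫
        QuotSh.repMap Scheme.fppfPrecoverage a :=
  (sheafificationNatIso (AlgSp.J S) (Type (u+1))).hom.naturality ((AlgSp.yon S).map a)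

-- (repIso V).inv.hom = toSheafify
theorem repIso_inv_hom (V : Over S) :
    (QuotSh.repIsoUliftYoneda Scheme.fppfPrecoverage V).inv.hom =
      toSheafify (AlgSp.J S) (yo V) := rfl

section Quot
variable {R U : Over S} (s t : R ⟶ U)

/-- The quotient map on `h_U`. -/
noncomputable abbrev qπ : (AlgSp.yon S).obj U ⟶ QuotSh.quot Scheme.fppfPrecoverage s t :=
  (QuotSh.repIsoUliftYoneda Scheme.fppfPrecoverage U).inv ≫
    QuotSh.quotπ Scheme.fppfPrecoverage s t

theorem qπ_comp_quotIso_hom :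
    (qπ s t ≫ (quotIso Scheme.fppfPrecoverage s t).hom).hom =
      Qπ s t ≫ toSheafify (AlgSp.J S) (Q s t) := by
  rw [Category.assoc, quotπ_quotIso_hom]
  change toSheafify (AlgSp.J S) (yo U) ≫ sheafifyMap (AlgSp.J S) (Qπ s t) = _
  exact (toSheafify_naturality (AlgSp.J S) (Qπ s t)).symm

theorem yon_map_comp_app {T : Over S} (a : T ⟶ U) {G : AlgSp.Sp S} (φ : (AlgSp.yon S).obj U ⟶ G) :
    ((AlgSp.yon S).map a ≫ φ).hom.app (op T) ⟨𝟙 T⟩ = φ.hom.app (op T) ⟨a⟩ := by
  change φ.hom.app (op T) ⟨𝟙 T ≫ a⟩ = _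
  rw [Category.id_comp]

theorem eqvSieve_mem_of_qπ_eq {T : Over S} (a b : T ⟶ U)
    (h : (AlgSp.yon S).map a ≫ qπ s t = (AlgSp.yon S).map b ≫ qπ s t) :
    eqvSieve s t a b ∈ AlgSp.J S T := by
  have h1 : ((AlgSp.yon S).map a ≫ qπ s t ≫ (quotIso Scheme.fppfPrecoverage s t).hom) =
      ((AlgSp.yon S).map b ≫ qπ s t ≫ (quotIso Scheme.fppfPrecoverage s t).hom) := by
    rw [← Category.assoc, h, Category.assoc]
  have h2 := congrArg (fun φ => φ.hom.app (op T) ⟨𝟙 T⟩) h1
  simp only [yon_map_comp_app] at h2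
  rw [qπ_comp_quotIso_hom] at h2
  rw [← equalizerSieve_Q]
  exact Presheaf.equalizerSieve_mem (AlgSp.J S) (toSheafify (AlgSp.J S) (Q s t)) _ _ h2

end Quot

section Quot2
variable {R U : Over S} {s t : R ⟶ U}

theorem pRel_equivalence_of_isEqvRel (h : AlgSp.IsEqvRel s t) (T : Over S) :
    Equivalence (PRel s t T) := by
  have e := h.equivalence T
  refine ⟨fun a => ?_, ?_, ?_⟩
  · obtain ⟨r, h1, h2⟩ := e.refl a
    exact ⟨r, h2, h1⟩
  · rintro a b ⟨r, h1, h2⟩
    obtain ⟨r', h1', h2'⟩ := e.symm ⟨r, h2, h1⟩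
    exact ⟨r', h2', h1'⟩
  · rintro a b c ⟨r, h1, h2⟩ ⟨r', h1', h2'⟩
    obtain ⟨r'', h1'', h2''⟩ := e.trans ⟨r', h2', h1'⟩ ⟨r, h2, h1⟩
    exact ⟨r'', h2'', h1''⟩

theorem exists_rel_of_eqvSieve_mem (h : AlgSp.IsEqvRel s t) {T : Over S} (a b : T ⟶ U)
    (hSv : eqvSieve s t a b ∈ AlgSp.J S T) : ∃ r : T ⟶ R, r ≫ s = a ∧ r ≫ t = b := by
  have hex : ∀ ⦃T' : Over S⦄ (g : T' ⟶ T), eqvSieve s t a b g → PRel s t T' (g ≫ a) (g ≫ b) :=
    fun T' g hg => ((pRel_equivalence_of_isEqvRel h T').eqvGen_iff).mp hg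
  choose ρ hρ1 hρ2 using hex
  have hR : Presieve.IsSheaf (AlgSp.J S) (yoneda.obj R) :=
    GrothendieckTopology.Subcanonical.isSheaf_of_isRepresentable _
  have hU : Presieve.IsSheaf (AlgSp.J S) (yoneda.obj U) :=
    GrothendieckTopology.Subcanonical.isSheaf_of_isRepresentable _
  let x : Presieve.FamilyOfElements (yoneda.obj R) (eqvSieve s t a b).arrows :=
    fun T' g hg => ρ g hg
  have hx : x.Compatible := by
    intro Y₁ Y₂ Z g₁ g₂ f₁ f₂ h₁ h₂ hcomm
    show g₁ ≫ ρ f₁ h₁ = g₂ ≫ ρ f₂ h₂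
    apply h.injective
    · rw [Category.assoc, Category.assoc, hρ2, hρ2, ← Category.assoc, ← Category.assoc, hcomm]
    · rw [Category.assoc, Category.assoc, hρ1, hρ1, ← Category.assoc, ← Category.assoc, hcomm]
  let r : T ⟶ R := (hR _ hSv).amalgamate x hx
  have hr : ∀ ⦃T' : Over S⦄ (g : T' ⟶ T) (hg : eqvSieve s t a b g), g ≫ r = ρ g hg :=
    fun T' g hg => (hR _ hSv).valid_glue hx g hg
  refine ⟨r, ?_, ?_⟩
  · apply (hU _ hSv).isSeparatedFor.ext
    intro T' g hg
    show g ≫ r ≫ s = g ≫ a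
    rw [← Category.assoc, hr g hg, hρ1]
  · apply (hU _ hSv).isSeparatedFor.ext
    intro T' g hg
    show g ≫ r ≫ t = g ≫ b
    rw [← Category.assoc, hr g hg, hρ2]

theorem yon_map_qπ_condition (s t : R ⟶ U) :
    (AlgSp.yon S).map t ≫ qπ s t = (AlgSp.yon S).map s ≫ qπ s t := by
  rw [← Category.assoc, ← Category.assoc, yon_map_repIso_inv, yon_map_repIso_inv,
    Category.assoc, Category.assoc, QuotSh.quot_condition]

/-- **Effectivity**: `h_R` is the kernel pair of the quotient map `h_U ⟶ U/R`. -/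
theorem isPullback_qπ (h : AlgSp.IsEqvRel s t) :
    IsPullback ((AlgSp.yon S).map t) ((AlgSp.yon S).map s) (qπ s t) (qπ s t) := by
  refine Groth.Agent.Lib.Helper30.Coprod.isPullback_of_yon (yon_map_qπ_condition s t) ?_ ?_
  · intro T p q h1 h2
    obtain ⟨p', rfl⟩ := (AlgSp.yon S).map_surjective p
    obtain ⟨q', rfl⟩ := (AlgSp.yon S).map_surjective q
    rw [← Functor.map_comp, ← Functor.map_comp] at h1 h2
    rw [h.injective T p' q' ((AlgSp.yon S).map_injective h1) ((AlgSp.yon S).map_injective h2)]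
  · intro T x y hxy
    obtain ⟨a, rfl⟩ := (AlgSp.yon S).map_surjective x
    obtain ⟨b, rfl⟩ := (AlgSp.yon S).map_surjective y
    obtain ⟨r, hr1, hr2⟩ := exists_rel_of_eqvSieve_mem h b a
      (eqvSieve_mem_of_qπ_eq s t b a hxy.symm)
    refine ⟨(AlgSp.yon S).map r, ?_, ?_⟩
    · rw [← Functor.map_comp, hr2]
    · rw [← Functor.map_comp, hr1]

instance epi_qπ (s t : R ⟶ U) : Epi (qπ s t) := by
  unfold qπ
  infer_instance

end Quot2

end Groth.Agent.Lib.Helper30.QuotEff
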