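import Groth.Agent.Lib.Helper30.AlgSpFppfDesc
import Groth.Agent.Lib.Helper30.AlgSpQuotEff

/-!
# fppf descent of affine schemes, sheaf form over an arbitrary base (helper30)

`affine_descent_sheaf`: an fppf sheaf over `S` whose base change along one fppf cover `S' ⟶ S` is
represented by a scheme affine over `S'` is represented by a scheme affine over `S`.
-/

set_option autoImplicit false
set_option maxHeartbeats 800000
set_option backward.isDefEq.respectTransparency false
set_option linter.style.haveILetI false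
universe u

open CategoryTheory CategoryTheory.Limits AlgebraicGeometry MorphismProperty AlgSp Opposite

namespace Groth.Agent.Lib.Helper30.AffDesc

open Groth.Agent.Lib.Helper30 Groth.Agent.Lib.Helper30.QuotEff

theorem affine_descent_sheaf {S S' : Scheme.{u}} (f : S' ⟶ S)
    [Flat f] [Surjective f] [LocallyOfFinitePresentation f]
    (Z : QuotSh.Sh Scheme.fppfPrecoverage S)
    (T' : Over S) (a : T' ⟶ Over.mk f) [IsAffineHom a.left]
    (φ : QuotSh.rep Scheme.fppfPrecoverage T' ≅ Z ⨯ QuotSh.rep Scheme.fppfPrecoverage (Over.mk f))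
    (hφ : φ.hom ≫ prod.snd = QuotSh.repMap Scheme.fppfPrecoverage a) :
    ∃ T : Over S, IsAffineHom T.hom ∧ Nonempty (QuotSh.rep Scheme.fppfPrecoverage T ≅ Z) := by
  let S1 : Over S := Over.mk (𝟙 S)
  have hT : IsTerminal ((AlgSp.yon S).obj S1) :=
    IsTerminal.isTerminalObj (AlgSp.yon S) _ Over.mkIdTerminal
  let S'O : Over S := Over.mk f
  let eS' := QuotSh.repIsoUliftYoneda Scheme.fppfPrecoverage S'O
  let eT' := QuotSh.repIsoUliftYoneda Scheme.fppfPrecoverage T'
  let p : (AlgSp.yon S).obj S'O ⟶ (AlgSp.yon S).obj S1 := hT.from _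
  let pO : S'O ⟶ S1 := Over.homMk f
  have hp' : p = (AlgSp.yon S).map pO := hT.hom_ext _ _
  have sq0 : IsPullback (prod.fst : Z ⨯ QuotSh.rep Scheme.fppfPrecoverage S'O ⟶ Z) prod.snd
      (hT.from Z) (hT.from _) := IsPullback.of_is_product (limit.isLimit _) hT
  have sq : IsPullback (prod.fst : Z ⨯ QuotSh.rep Scheme.fppfPrecoverage S'O ⟶ Z)
      (prod.snd ≫ eS'.hom) (hT.from Z) p := by
    refine IsPullback.of_iso sq0 (Iso.refl _) (Iso.refl _) eS' (Iso.refl _) ?_ ?_ ?_ ?_
    · simp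
    · simp
    · simp
    · exact hT.hom_ext _ _
  -- the projection is affine
  have hnat : (AlgSp.yon S).map a ≫ eS'.inv = eT'.inv ≫ QuotSh.repMap Scheme.fppfPrecoverage a :=
    yon_map_repIso_inv a
  have hsnd : prod.snd ≫ eS'.hom = (φ.symm ≪≫ eT').hom ≫ (AlgSp.yon S).map a := by
    have h1 : QuotSh.repMap Scheme.fppfPrecoverage a ≫ eS'.hom = eT'.hom ≫ (AlgSp.yon S).map a := by
      rw [← cancel_mono eS'.inv, Category.assoc, Category.assoc, Iso.hom_inv_id, Category.comp_id,
        hnat, Iso.hom_inv_id_assoc]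
    rw [Iso.trans_hom, Iso.symm_hom, Category.assoc, ← h1, ← hφ]
    simp only [Category.assoc, Iso.inv_hom_id_assoc]
    rfl
  have hrep : AlgSp.RepWith @IsAffineHom (prod.snd ≫ eS'.hom :
      Z ⨯ QuotSh.rep Scheme.fppfPrecoverage S'O ⟶ (AlgSp.yon S).obj S'O) := by
    rw [hsnd]
    exact (MorphismProperty.cancel_left_of_respectsIso (AlgSp.RepWith @IsAffineHom) _ _).2
      ((AlgSp.repWith_yon_map_iff @IsAffineHom a).2 inferInstance)
  have hAT : AffTested @IsAffineHom (prod.snd ≫ eS'.hom :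
      Z ⨯ QuotSh.rep Scheme.fppfPrecoverage S'O ⟶ (AlgSp.yon S).obj S'O) :=
    affTested_of_repWith @IsAffineHom (fun i hi => hi) hrep
  have hpf : AlgSp.RepWith @Flat p := by
    rw [hp']
    exact (AlgSp.repWith_yon_map_iff @Flat pO).2 (inferInstanceAs (Flat f))
  have hpl : AlgSp.RepWith @LocallyOfFinitePresentation p := by
    rw [hp']
    exact (AlgSp.repWith_yon_map_iff @LocallyOfFinitePresentation pO).2
      (inferInstanceAs (LocallyOfFinitePresentation f))
  have hps : AlgSp.RepWith @Surjective p := by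
    rw [hp']
    exact (AlgSp.repWith_yon_map_iff @Surjective pO).2 (inferInstanceAs (Surjective f))
  haveI : MorphismProperty.DescendsAlong (⊤ : MorphismProperty Scheme.{u})
      (@Surjective ⊓ @Flat ⊓ @QuasiCompact) := ⟨fun _ _ _ => trivial⟩
  have hAT' : AffTested (⊤ : MorphismProperty Scheme.{u}) (prod.snd ≫ eS'.hom :
      Z ⨯ QuotSh.rep Scheme.fppfPrecoverage S'O ⟶ (AlgSp.yon S).obj S'O) := fun Z₀ hZ₀ g => by
    obtain ⟨W, i, fst, sqW, hW, -⟩ := hAT hZ₀ g
    exact ⟨W, i, fst, sqW, hW, trivial⟩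
  have hZ0 : AffTested (⊤ : MorphismProperty Scheme.{u}) (hT.from Z) :=
    affTested_of_fppf_cover ⊤ (hT.from Z) S'O p hpf hpl hps _ _ sq hAT'
  have hZ : AffTested @IsAffineHom (hT.from Z) := fun Z₀ hZ₀ g => by
    obtain ⟨W, i, fst, sqW, hW, -⟩ := hZ0 hZ₀ g
    haveI : IsAffine Z₀.left := hZ₀
    haveI : IsAffine W.left := hW
    exact ⟨W, i, fst, sqW, hW, inferInstance⟩
  have hZ' : AlgSp.RepWith @IsAffineHom (hT.from Z) := repWith_of_affTested @IsAffineHom hZ
  obtain ⟨W, w, e, -, hw⟩ := exists_iso_yon_of_repWith @IsAffineHom hZ'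
  refine ⟨W, ?_, ⟨QuotSh.repIsoUliftYoneda Scheme.fppfPrecoverage W ≪≫ e⟩⟩
  have h1 : W.hom = w.left := by
    rw [← Over.w w]
    exact (Category.comp_id _)
  rw [h1]
  exact hw

end Groth.Agent.Lib.Helper30.AffDesc
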