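import Groth.Agent.Lib.Helper30.AlgSpGlue

/-!
# Representability is Zariski local on the target (helper30)

* `ofArrows_openCover_mem` : an open cover of `T` generates a covering sieve of `AlgSp.J S`.
* `representable_of_openCover` : if every `h_T ⟶ G` admits an open cover of `T` over whose members
  the pullback of `f` is representable, then `f` is representable.
* `representable_of_affine` : if the pullback of `f` to every affine scheme is representable, then
  `f` is representable.
-/

set_option autoImplicit false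
set_option linter.unusedSectionVars false
universe u
set_option maxHeartbeats 400000
set_option backward.isDefEq.respectTransparency false

open CategoryTheory CategoryTheory.Limits AlgebraicGeometry MorphismProperty AlgSp Opposite

namespace Groth.Agent.Lib.Helper30.Glue

variable {S : Scheme.{u}}

/-- The member `𝒰.X i` of an open cover of `T.left`, as a scheme over `S`. -/
noncomputable abbrev coverOver (T : Over S) (𝒰 : Scheme.OpenCover.{u} T.left) (i : 𝒰.I₀) : Over S :=
  Over.mk (𝒰.f i ≫ T.hom)

/-- The inclusion of a member of an open cover, over `S`. -/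
noncomputable abbrev coverι (T : Over S) (𝒰 : Scheme.OpenCover.{u} T.left) (i : 𝒰.I₀) : coverOver T 𝒰 i ⟶ T :=
  Over.homMk (𝒰.f i) rfl

/-- An open cover generates a covering sieve for the fppf topology over `S`. -/
theorem ofArrows_openCover_mem (T : Over S) (𝒰 : Scheme.OpenCover.{u} T.left) :
    Sieve.ofArrows (coverOver T 𝒰) (coverι T 𝒰) ∈ (AlgSp.J S) T := by
  rw [AlgSp.J_eq, GrothendieckTopology.mem_over_iff, Sieve.overEquiv_ofArrows]
  refine Precoverage.generate_mem_toGrothendieck
    (Scheme.zariskiPrecoverage_le_fppfPrecoverage _ ?_)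
  rw [Scheme.zariskiPrecoverage, Scheme.ofArrows_mem_precoverage_iff]
  refine ⟨fun x => ?_, fun i => ?_⟩
  · obtain ⟨i, y, hy⟩ := 𝒰.exists_eq x
    exact ⟨i, y, hy⟩
  · show IsOpenImmersion (𝒰.f i)
    infer_instance

/-- Representability is Zariski local on the target. -/
theorem exists_isPullback_of_openCover {F G : AlgSp.Sp S} (f : F ⟶ G) {T : Over S}
    (g : (AlgSp.yon S).obj T ⟶ G) (𝒰 : Scheme.OpenCover.{u} T.left)
    (H : ∀ i, ∃ (W : Over S) (w : W ⟶ coverOver T 𝒰 i) (fst : (AlgSp.yon S).obj W ⟶ F),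
      IsPullback fst ((AlgSp.yon S).map w) f ((AlgSp.yon S).map (coverι T 𝒰 i) ≫ g)) :
    ∃ (W : Over S) (snd : W ⟶ T) (fst : (AlgSp.yon S).obj W ⟶ F),
      IsPullback fst ((AlgSp.yon S).map snd) f g := by
  choose W w fst sq using H
  have sqP := IsPullback.of_hasPullback f g
  -- the maps `j i : h_{W i} ⟶ P`
  let j : ∀ i, (AlgSp.yon S).obj (W i) ⟶ pullback f g := fun i =>
    pullback.lift (fst i) ((AlgSp.yon S).map (w i ≫ coverι T 𝒰 i)) (by
      rw [(sq i).w, Functor.map_comp, Category.assoc])
  have hj1 : ∀ i, j i ≫ pullback.fst f g = fst i := fun i => pullback.lift_fst _ _ _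
  have hj2 : ∀ i, j i ≫ pullback.snd f g = (AlgSp.yon S).map (w i ≫ coverι T 𝒰 i) :=
    fun i => pullback.lift_snd _ _ _
  have sqj : ∀ i, IsPullback (j i) ((AlgSp.yon S).map (w i)) (pullback.snd f g)
      ((AlgSp.yon S).map (coverι T 𝒰 i)) := fun i => by
    refine IsPullback.of_right ?_ ?_ sqP
    · rw [hj1]
      exact sq i
    · rw [hj2, Functor.map_comp]
  have hj : ∀ i, AlgSp.RepWith @IsOpenImmersion (j i) := fun i => by
    refine MorphismProperty.of_isPullback (sqj i).flip ?_
    refine (AlgSp.repWith_yon_map_iff _ _).2 ?_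
    show IsOpenImmersion (𝒰.f i)
    infer_instance
  have hs : JointlySurj j := by
    intro T' ξ
    obtain ⟨τ, hτ⟩ := (AlgSp.yon S).map_surjective (ξ ≫ pullback.snd f g)
    refine ⟨Sieve.pullback τ (Sieve.ofArrows (coverOver T 𝒰) (coverι T 𝒰)),
      (AlgSp.J S).pullback_stable τ (ofArrows_openCover_mem T 𝒰), ?_⟩
    rintro V k ⟨_, a, _, ⟨i⟩, fac⟩
    have hw : ((AlgSp.yon S).map k ≫ ξ) ≫ pullback.snd f g =
        (AlgSp.yon S).map a ≫ (AlgSp.yon S).map (coverι T 𝒰 i) := by
      rw [Category.assoc, ← hτ, ← Functor.map_comp, ← Functor.map_comp, fac]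
    obtain ⟨l, hl⟩ := (AlgSp.yon S).map_surjective ((sqj i).lift _ _ hw)
    refine ⟨i, l, ?_⟩
    rw [hl]
    exact (sqj i).lift_fst _ _ _
  obtain ⟨W', e, -, -, -, -⟩ := exists_iso_of_open_cover hj hs
  obtain ⟨snd, hsnd⟩ := (AlgSp.yon S).map_surjective (e.hom ≫ pullback.snd f g)
  refine ⟨W', snd, e.hom ≫ pullback.fst f g, ?_⟩
  rw [hsnd]
  have h1 : IsPullback e.hom (e.hom ≫ pullback.snd f g) (pullback.snd f g)
      (𝟙 ((AlgSp.yon S).obj T)) := IsPullback.of_horiz_isIso ⟨by simp⟩
  have h2 := h1.paste_horiz sqP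
  rw [Category.id_comp] at h2
  exact h2

/-- If the pullback of `f` to every affine scheme is representable, then `f` is representable. -/
theorem representable_of_affine {F G : AlgSp.Sp S} (f : F ⟶ G)
    (H : ∀ ⦃Z : Over S⦄, IsAffine Z.left → ∀ (g : (AlgSp.yon S).obj Z ⟶ G),
      ∃ (W : Over S) (i : W ⟶ Z) (fst : (AlgSp.yon S).obj W ⟶ F),
        IsPullback fst ((AlgSp.yon S).map i) f g) : AlgSp.Representable f := by
  intro T g
  obtain ⟨W, snd, fst, sq⟩ := exists_isPullback_of_openCover f g T.left.affineCover (fun i =>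
    H (Z := coverOver T T.left.affineCover i)
      (show IsAffine (T.left.affineCover.X i) from inferInstance) _)
  exact ⟨W, snd, fst, sq⟩

end Groth.Agent.Lib.Helper30.Glue
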