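import Groth.Agent.Lib.Helper30.AlgSpQC
import Groth.Agent.Lib.Helper51.AlgSpOpen

/-!
Diagonals of products and fibre products of sheaves; quasi-separatedness (helper30).
-/

set_option autoImplicit false
set_option linter.unusedSectionVars false
universe u
open CategoryTheory CategoryTheory.Limits AlgebraicGeometry Opposite

set_option backward.isDefEq.respectTransparency false

namespace Groth.Agent.Lib.Helper30

section DiagProd

variable {D : Type*} [Category D] [HasBinaryProducts D] [HasPullbacks D]

/-- The comparison `X × Z ⟶ X ×_{X × X} ((X × Z) × (X × Z))` used to factor the diagonal of a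
product. -/
noncomputable def diagProdLift (X Z : D) :
    X ⨯ Z ⟶ pullback (Limits.diag X)
      (prod.map prod.fst prod.fst : (X ⨯ Z) ⨯ (X ⨯ Z) ⟶ X ⨯ X) :=
  pullback.lift prod.fst (Limits.diag (X ⨯ Z)) (by ext <;> simp)

theorem diagProdLift_snd (X Z : D) :
    diagProdLift X Z ≫ pullback.snd _ _ = Limits.diag (X ⨯ Z) :=
  pullback.lift_snd _ _ _

theorem diagProdLift_fst (X Z : D) :
    diagProdLift X Z ≫ pullback.fst _ _ = prod.fst :=
  pullback.lift_fst _ _ _

/-- The second step of the factorization of the diagonal of `X × Z` is a base change of the diagonal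
of `Z`. -/
theorem isPullback_diagProdLift (X Z : D) :
    IsPullback (prod.snd : X ⨯ Z ⟶ Z) (diagProdLift X Z) (Limits.diag Z)
      (pullback.snd (Limits.diag X)
        (prod.map prod.fst prod.fst : (X ⨯ Z) ⨯ (X ⨯ Z) ⟶ X ⨯ X) ≫
          (prod.map prod.snd prod.snd : (X ⨯ Z) ⨯ (X ⨯ Z) ⟶ Z ⨯ Z)) := by
  have w : (prod.snd : X ⨯ Z ⟶ Z) ≫ Limits.diag Z = diagProdLift X Z ≫
      pullback.snd (Limits.diag X) (prod.map prod.fst prod.fst : (X ⨯ Z) ⨯ (X ⨯ Z) ⟶ X ⨯ X) ≫
        (prod.map prod.snd prod.snd : (X ⨯ Z) ⨯ (X ⨯ Z) ⟶ Z ⨯ Z) := by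
    rw [← Category.assoc, diagProdLift_snd]
    ext <;> simp
  refine ⟨⟨w⟩, ⟨PullbackCone.IsLimit.mk _
    (fun s => prod.lift (s.snd ≫ pullback.fst _ _) s.fst) ?_ ?_ ?_⟩⟩
  · intro s
    simp
  · intro s
    have hc := s.condition
    have c1 := hc =≫ prod.fst
    have c2 := hc =≫ prod.snd
    have hp := pullback.condition (f := Limits.diag X)
      (g := (prod.map prod.fst prod.fst : (X ⨯ Z) ⨯ (X ⨯ Z) ⟶ X ⨯ X))
    have p1 := (s.snd ≫= hp) =≫ prod.fst
    have p2 := (s.snd ≫= hp) =≫ prod.snd
    simp only [Category.assoc, prod.lift_fst, prod.lift_snd, Category.comp_id, prod.map_fst,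
      prod.map_snd] at c1 c2 p1 p2
    apply pullback.hom_ext
    · rw [Category.assoc, diagProdLift_fst, prod.lift_fst]
    · rw [Category.assoc, diagProdLift_snd]
      ext
      · simp only [Category.assoc, prod.lift_fst, Category.comp_id]
        exact p1
      · simp only [Category.assoc, prod.lift_fst, prod.lift_snd, Category.comp_id]
        exact c1
      · simp only [Category.assoc, prod.lift_fst, prod.lift_snd, Category.comp_id]
        exact p2
      · simp only [Category.assoc, prod.lift_snd, Category.comp_id]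
        exact c2
  · intro s m h1 h2
    ext
    · rw [prod.lift_fst, ← h2, Category.assoc, diagProdLift_fst]
    · rw [prod.lift_snd, ← h1]

/-- If the diagonals of `X` and `Z` have a property stable under base change and composition, so does
the diagonal of `X × Z`. -/
theorem diag_prod_of_diag (R : MorphismProperty D) [R.IsStableUnderBaseChange]
    [R.IsStableUnderComposition] {X Z : D} (hX : R (Limits.diag X)) (hZ : R (Limits.diag Z)) :
    R (Limits.diag (X ⨯ Z)) := by
  rw [← diagProdLift_snd]
  refine R.comp_mem _ _ ?_ ?_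
  · exact MorphismProperty.of_isPullback (isPullback_diagProdLift X Z) hZ
  · exact MorphismProperty.of_isPullback (IsPullback.of_hasPullback _ _) hX

/-- The fibre product `X ×_Y Z` is a subobject of `X × Z`. -/
theorem mono_prod_lift_of_isPullback {P X Y Z : D} {pX : P ⟶ X} {pZ : P ⟶ Z} {f : X ⟶ Y} {c : Z ⟶ Y}
    (sqP : IsPullback pX pZ f c) : Mono (prod.lift pX pZ) :=
  ⟨fun a b h => sqP.hom_ext (by simpa using h =≫ prod.fst) (by simpa using h =≫ prod.snd)⟩

/-- If the diagonals of `X` and `Z` have a property stable under base change and composition, so does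
the diagonal of any fibre product `X ×_Y Z`. -/
theorem diag_of_isPullback_of_diag (R : MorphismProperty D) [R.IsStableUnderBaseChange]
    [R.IsStableUnderComposition] {P X Y Z : D} {pX : P ⟶ X} {pZ : P ⟶ Z} {f : X ⟶ Y} {c : Z ⟶ Y}
    (sqP : IsPullback pX pZ f c) (hX : R (Limits.diag X)) (hZ : R (Limits.diag Z)) :
    R (Limits.diag P) := by
  have := mono_prod_lift_of_isPullback sqP
  exact MorphismProperty.of_isPullback
    (Groth.Agent.Lib.Helper51.isPullback_diag_of_mono (prod.lift pX pZ)) (diag_prod_of_diag R hX hZ)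

/-- A morphism is the base change of its composite with a monomorphism. -/
theorem isPullback_id_of_mono {F' F G : D} (t : F' ⟶ F) (j : F ⟶ G) [Mono j] :
    IsPullback (𝟙 F') t (t ≫ j) j :=
  IsPullback.of_horiz_isIso_mono ⟨by simp⟩

theorem diagonal_comp_prod_lift {X Y : D} (f : X ⟶ Y) :
    pullback.diagonal f ≫ prod.lift (pullback.fst f f) (pullback.snd f f) = Limits.diag X := by
  ext <;> simp

/-- A base-change-stable property of the absolute diagonal of `X` passes to every relative
diagonal `X ⟶ X ×_Y X`. -/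
theorem diagonal_of_diag (R : MorphismProperty D) [R.IsStableUnderBaseChange] {X Y : D} (f : X ⟶ Y)
    (h : R (Limits.diag X)) : R (pullback.diagonal f) := by
  rw [← diagonal_comp_prod_lift f] at h
  exact MorphismProperty.of_isPullback (isPullback_id_of_mono _ _) h

lemma isPullback_map_fst_aux {X Y X' Y' : D} {p : X' ⟶ X} {f' : X' ⟶ Y'} {f : X ⟶ Y}
    {g : Y' ⟶ Y} (H : IsPullback p f' f g)
    (m : pullback f' f' ⟶ pullback f f)
    (e1 : m ≫ pullback.fst f f = pullback.fst f' f' ≫ p)
    (e2 : m ≫ pullback.snd f f = pullback.snd f' f' ≫ p) :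
    IsPullback m (pullback.fst f' f') (pullback.fst f f) p := by
  have h1 := (IsPullback.of_hasPullback f' f').flip.paste_horiz H
  rw [← e2, ← H.w] at h1
  exact IsPullback.of_right h1 e1 (IsPullback.of_hasPullback f f).flip

/-- The map on fibre squares induced by a cartesian square is a base change of `p` (after helper53). -/
lemma isPullback_map_fst {X Y X' Y' : D} {p : X' ⟶ X} {f' : X' ⟶ Y'} {f : X ⟶ Y} {g : Y' ⟶ Y}
    (H : IsPullback p f' f g) :
    IsPullback (pullback.map f' f' f f p p g H.w.symm H.w.symm) (pullback.fst f' f')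
      (pullback.fst f f) p :=
  isPullback_map_fst_aux H _ (pullback.lift_fst _ _ _) (pullback.lift_snd _ _ _)

/-- The diagonal of a base change is the base change of the diagonal (after helper53). -/
lemma isPullback_diagonal_of_isPullback {X Y X' Y' : D} {p : X' ⟶ X} {f' : X' ⟶ Y'} {f : X ⟶ Y}
    {g : Y' ⟶ Y} (H : IsPullback p f' f g) :
    IsPullback p (pullback.diagonal f') (pullback.diagonal f)
      (pullback.map f' f' f f p p g H.w.symm H.w.symm) := by
  have h1 : IsPullback (pullback.diagonal f' ≫ pullback.fst f' f') p p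
      (pullback.diagonal f ≫ pullback.fst f f) := by
    simp only [pullback.diagonal_fst]
    exact IsPullback.of_horiz_isIso ⟨by simp⟩
  refine (IsPullback.of_right h1 ?_ (isPullback_map_fst H).flip).flip
  apply pullback.hom_ext
  · simp only [Category.assoc, pullback.lift_fst, pullback.diagonal_fst,
      pullback.diagonal_fst_assoc, Category.comp_id]
  · simp only [Category.assoc, pullback.lift_snd, pullback.diagonal_snd,
      pullback.diagonal_snd_assoc, Category.comp_id]

/-- The map on fibre squares induced by a cartesian square is a base change of `g` (after helper53). -/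
lemma isPullback_map_base {X Y X' Y' : D} {p : X' ⟶ X} {f' : X' ⟶ Y'} {f : X ⟶ Y} {g : Y' ⟶ Y}
    (H : IsPullback p f' f g) :
    IsPullback (pullback.map f' f' f f p p g H.w.symm H.w.symm) (pullback.fst f' f' ≫ f')
      (pullback.fst f f ≫ f) g :=
  (isPullback_map_fst H).paste_vert H

/-- A property of diagonals that is stable under base change passes to base changes. -/
theorem diagonal_of_isPullback (R : MorphismProperty D) [R.IsStableUnderBaseChange]
    {X Y X' Y' : D} {p : X' ⟶ X} {f' : X' ⟶ Y'} {f : X ⟶ Y} {g : Y' ⟶ Y}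
    (H : IsPullback p f' f g) (h : R (pullback.diagonal f)) : R (pullback.diagonal f') :=
  MorphismProperty.of_isPullback (isPullback_diagonal_of_isPullback H) h

/-- Lifting a test map `t : T ⟶ X ×_Y X` to `X' ×_{T} X'` where `X' = X ×_Y T`; the pullback of the
diagonal of `f` along `t` is the pullback of the diagonal of the base change along the lift. -/
theorem isPullback_diagonal_lift {X Y T P V : D} {f : X ⟶ Y} (t : T ⟶ pullback f f)
    {p1 : P ⟶ X} {p2 : P ⟶ T} (sqP : IsPullback p1 p2 f (t ≫ pullback.fst f f ≫ f))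
    {a : V ⟶ X} {v : V ⟶ T} (sq : IsPullback a v (pullback.diagonal f) t) :
    ∃ (t' : T ⟶ pullback p2 p2) (a' : V ⟶ P), IsPullback a' v (pullback.diagonal p2) t' := by
  have dsq := isPullback_diagonal_of_isPullback sqP
  have hw2 : (t ≫ pullback.snd f f) ≫ f = 𝟙 T ≫ t ≫ pullback.fst f f ≫ f := by
    rw [Category.id_comp, Category.assoc, pullback.condition]
  have hw1 : (t ≫ pullback.fst f f) ≫ f = 𝟙 T ≫ t ≫ pullback.fst f f ≫ f := by
    rw [Category.id_comp, Category.assoc]
  let t' : T ⟶ pullback p2 p2 := pullback.lift (sqP.lift _ _ hw1) (sqP.lift _ _ hw2)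
    (by rw [sqP.lift_snd, sqP.lift_snd])
  have ht' : t' ≫ pullback.map p2 p2 f f p1 p1 (t ≫ pullback.fst f f ≫ f) sqP.w.symm sqP.w.symm
      = t := by
    apply pullback.hom_ext
    · simp only [t', Category.assoc, pullback.lift_fst, pullback.lift_fst_assoc, sqP.lift_fst]
    · simp only [t', Category.assoc, pullback.lift_snd, pullback.lift_snd_assoc, sqP.lift_fst]
  have hw : a ≫ pullback.diagonal f = (v ≫ t') ≫
      pullback.map p2 p2 f f p1 p1 (t ≫ pullback.fst f f ≫ f) sqP.w.symm sqP.w.symm := by
    rw [Category.assoc, ht', sq.w]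
  refine ⟨t', dsq.lift a (v ≫ t') hw, ?_⟩
  refine IsPullback.of_right ?_ (dsq.lift_snd _ _ hw) dsq
  rw [dsq.lift_fst, ht']
  exact sq

end DiagProd

open AlgSp Groth.Agent.Lib.Helper51 Groth.Agent.Lib.Helper52

variable {S : Scheme.{u}}

/-- A fibre product of quasi-separated sheaves is quasi-separated. -/
theorem isQuasiSeparatedSp_of_isPullback {P X Y Z : AlgSp.Sp S} {pX : P ⟶ X} {pZ : P ⟶ Z}
    {f : X ⟶ Y} {c : Z ⟶ Y} (sqP : IsPullback pX pZ f c) (hX : AlgSp.IsQuasiSeparatedSp X)
    (hZ : AlgSp.IsQuasiSeparatedSp Z) : AlgSp.IsQuasiSeparatedSp P :=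
  diag_of_isPullback_of_diag (AlgSp.RepWith @QuasiCompact) sqP hX hZ

/-- A fibre product of separated sheaves is separated. -/
theorem isSeparatedSp_of_isPullback {P X Y Z : AlgSp.Sp S} {pX : P ⟶ X} {pZ : P ⟶ Z}
    {f : X ⟶ Y} {c : Z ⟶ Y} (sqP : IsPullback pX pZ f c) (hX : AlgSp.IsSeparatedSp X)
    (hZ : AlgSp.IsSeparatedSp Z) : AlgSp.IsSeparatedSp P :=
  diag_of_isPullback_of_diag (AlgSp.RepWith @IsClosedImmersion) sqP hX hZ

/-- Representability and `RepWith Q` can be cancelled along a monomorphism on the right. -/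
theorem repWith_of_comp_mono (Q : MorphismProperty Scheme.{u}) {F' F G : AlgSp.Sp S} (t : F' ⟶ F)
    (j : F ⟶ G) [Mono j] (h : AlgSp.RepWith Q (t ≫ j)) : AlgSp.RepWith Q t :=
  MorphismProperty.of_isPullback (isPullback_id_of_mono t j) h

theorem representable_of_comp_mono {F' F G : AlgSp.Sp S} (t : F' ⟶ F)
    (j : F ⟶ G) [Mono j] (h : AlgSp.Representable (t ≫ j)) : AlgSp.Representable t :=
  MorphismProperty.of_isPullback (isPullback_id_of_mono t j) h

/-- The relative diagonal of a morphism from a sheaf with representable diagonal is representable. -/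
theorem representable_diagonal {X Y : AlgSp.Sp S} (hX : AlgSp.Representable (Limits.diag X))
    (f : X ⟶ Y) : AlgSp.Representable (pullback.diagonal f) :=
  diagonal_of_diag AlgSp.Representable f hX

/-- `RepWith Q` of the absolute diagonal passes to relative diagonals. -/
theorem repWith_diagonal_of_diag (Q : MorphismProperty Scheme.{u}) {X Y : AlgSp.Sp S}
    (f : X ⟶ Y) (hX : AlgSp.RepWith Q (Limits.diag X)) : AlgSp.RepWith Q (pullback.diagonal f) :=
  diagonal_of_diag (AlgSp.RepWith Q) f hX

/-- For a property `Q` that is Zariski local on the target, `RepWith Q` can be tested on affine test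
schemes. -/
theorem repWith_of_affine (Q : MorphismProperty Scheme.{u}) [IsZariskiLocalAtTarget Q]
    {F G : AlgSp.Sp S} {f : F ⟶ G} (hf : AlgSp.Representable f)
    (H : ∀ (T V : Over S), IsAffine T.left → ∀ (g : (AlgSp.yon S).obj T ⟶ G)
      (fst : (AlgSp.yon S).obj V ⟶ F) (snd : V ⟶ T), IsPullback fst ((AlgSp.yon S).map snd) f g →
      Q snd.left) : AlgSp.RepWith Q f := by
  refine ⟨hf, ?_⟩
  intro T V g fst snd sq
  show Q snd.left
  rw [IsZariskiLocalAtTarget.iff_of_openCover (P := Q) T.left.affineCover]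
  intro i
  have sq' := (IsPullback.of_hasPullback snd.left (T.left.affineCover.f i)).flip
  have hw := over_w snd _ _ _ sq'
  have sqo := (isPullback_over snd _ _ _ sq' hw).map (AlgSp.yon S)
  have big := sqo.flip.paste_horiz sq
  exact H (Over.mk (T.left.affineCover.f i ≫ T.hom)) _
    (show IsAffine (T.left.affineCover.X i) from inferInstance) _ _ _ big

/-- If the diagonal of one base change of `f` along `t ≫ π : h_T ⟶ Y` is `RepWith Q`, every
pullback of the diagonal of `f` along `t : h_T ⟶ X ×_Y X` has `Q`. -/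
theorem prop_of_isPullback_diagonal (Q : MorphismProperty Scheme.{u}) {X Y : AlgSp.Sp S} {f : X ⟶ Y}
    {T V : Over S} (t : (AlgSp.yon S).obj T ⟶ pullback f f) {P : AlgSp.Sp S} {p1 : P ⟶ X}
    {p2 : P ⟶ (AlgSp.yon S).obj T} (sqP : IsPullback p1 p2 f (t ≫ pullback.fst f f ≫ f))
    (hQ : AlgSp.RepWith Q (pullback.diagonal p2))
    (a : (AlgSp.yon S).obj V ⟶ X) (v : V ⟶ T)
    (sq : IsPullback a ((AlgSp.yon S).map v) (pullback.diagonal f) t) : Q v.left := by
  obtain ⟨t', a', sq'⟩ := isPullback_diagonal_lift t sqP sq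
  exact hQ.2 t' a' v sq'

/-- `RepWith Q` of the diagonal of `f` can be tested after base change to all schemes mapping to the
target. -/
theorem repWith_diagonal_of_base_change (Q : MorphismProperty Scheme.{u}) {X Y : AlgSp.Sp S}
    (f : X ⟶ Y) (hΔ : AlgSp.Representable (pullback.diagonal f))
    (H : ∀ (T : Over S) (g : (AlgSp.yon S).obj T ⟶ Y), ∃ (P : AlgSp.Sp S) (p1 : P ⟶ X)
      (p2 : P ⟶ (AlgSp.yon S).obj T), IsPullback p1 p2 f g ∧
      AlgSp.RepWith Q (pullback.diagonal p2)) : AlgSp.RepWith Q (pullback.diagonal f) := by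
  refine ⟨hΔ, ?_⟩
  intro T V t a v sq
  obtain ⟨P, p1, p2, sqP, hQ⟩ := H T (t ≫ pullback.fst f f ≫ f)
  exact prop_of_isPullback_diagonal Q t sqP hQ a v sq

/-- `RepWith Q` of the diagonal of `f` can be tested after base change to affine schemes mapping to the
target, for `Q` Zariski local on the target. -/
theorem repWith_diagonal_of_affine_base_change (Q : MorphismProperty Scheme.{u})
    [IsZariskiLocalAtTarget Q] {X Y : AlgSp.Sp S}
    (f : X ⟶ Y) (hΔ : AlgSp.Representable (pullback.diagonal f))
    (H : ∀ (T : Over S), IsAffine T.left → ∀ (g : (AlgSp.yon S).obj T ⟶ Y), ∃ (P : AlgSp.Sp S)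
      (p1 : P ⟶ X) (p2 : P ⟶ (AlgSp.yon S).obj T), IsPullback p1 p2 f g ∧
      AlgSp.RepWith Q (pullback.diagonal p2)) : AlgSp.RepWith Q (pullback.diagonal f) := by
  refine repWith_of_affine Q hΔ ?_
  intro T V hT t a v sq
  obtain ⟨P, p1, p2, sqP, hQ⟩ := H T hT (t ≫ pullback.fst f f ≫ f)
  exact prop_of_isPullback_diagonal Q t sqP hQ a v sq

end Groth.Agent.Lib.Helper30
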