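import Groth.Agent.Lib.Helper30.AlgSpAffTested
import Groth.Agent.Lib.Helper30.AlgSpGlue2
import Groth.Agent.Lib.Helper30.AlgSpSep

/-!
# Affine-tested properties are representable properties (helper30)

`affTested_iff_repWith` : for `Q` Zariski local on the target, respecting isomorphisms and implying
`IsAffineHom`, `AffTested Q f ↔ RepWith Q f` (uses Zariski gluing of representability).
-/

set_option autoImplicit false
universe u
set_option maxHeartbeats 400000
set_option backward.isDefEq.respectTransparency false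

open CategoryTheory CategoryTheory.Limits AlgebraicGeometry MorphismProperty AlgSp

namespace Groth.Agent.Lib.Helper30

open Glue

variable {S : Scheme.{u}}

theorem affTested_of_repWith (Q : MorphismProperty Scheme.{u})
    (hQ : ∀ {A B : Scheme.{u}} (i : A ⟶ B), Q i → IsAffineHom i) {F G : AlgSp.Sp S} {f : F ⟶ G}
    (hf : AlgSp.RepWith Q f) : AffTested Q f := by
  intro Z hZ k
  have h1 : Q (hf.rep.snd k).left := hf.property_snd k
  refine ⟨hf.rep.pullback k, hf.rep.snd k, hf.rep.fst k, hf.rep.isPullback k, ?_, h1⟩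
  have : IsAffine Z.left := hZ
  have := hQ _ h1
  exact isAffine_of_isAffineHom (hf.rep.snd k).left

theorem repWith_of_affTested (Q : MorphismProperty Scheme.{u}) [IsZariskiLocalAtTarget Q]
    {F G : AlgSp.Sp S} {f : F ⟶ G} (hf : AffTested Q f) : AlgSp.RepWith Q f := by
  have hr : AlgSp.Representable f := representable_of_affine f (fun Z hZ g => by
    obtain ⟨W, i, fst, sq, _⟩ := hf hZ g
    exact ⟨W, i, fst, sq⟩)
  refine repWith_of_affine Q hr ?_
  intro T V hT g fst snd sq
  obtain ⟨W, i, fst', sq', hW, hi⟩ := hf hT g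
  let e := sq.isoIsPullback _ _ sq'
  have he : e.hom ≫ (AlgSp.yon S).map i = (AlgSp.yon S).map snd :=
    IsPullback.isoIsPullback_hom_snd _ _ sq sq'
  let e' : V ≅ W := (AlgSp.yon S).preimageIso e
  have he' : e'.hom ≫ i = snd := (AlgSp.yon S).map_injective (by
    rw [Functor.map_comp, Functor.preimageIso_hom, Functor.map_preimage]
    exact he)
  have h3 : snd.left = ((Over.forget S).mapIso e').hom ≫ i.left := by
    rw [← he']
    rfl
  rw [h3]
  exact (Q.cancel_left_of_respectsIso _ _).2 hi

theorem affTested_iff_repWith (Q : MorphismProperty Scheme.{u}) [IsZariskiLocalAtTarget Q]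
    (hQ : ∀ {A B : Scheme.{u}} (i : A ⟶ B), Q i → IsAffineHom i) {F G : AlgSp.Sp S} (f : F ⟶ G) :
    AffTested Q f ↔ AlgSp.RepWith Q f :=
  ⟨repWith_of_affTested Q, affTested_of_repWith Q hQ⟩

end Groth.Agent.Lib.Helper30
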