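import Groth.Agent.Lib.Helper30.AlgSpAffTested2
import Groth.Agent.Lib.Helper30.AlgSpSep

/-!
# Affine-tested morphisms are separated; representing scheme of an integral morphism to a scheme
(helper30)
-/

set_option autoImplicit false
set_option linter.unusedSectionVars false
universe u
set_option maxHeartbeats 400000
set_option backward.isDefEq.respectTransparency false

open CategoryTheory CategoryTheory.Limits AlgebraicGeometry MorphismProperty AlgSp Opposite

namespace Groth.Agent.Lib.Helper30

variable {S : Scheme.{u}}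

/-- An affine-tested morphism (e.g. an affine, integral or finite morphism) whose source has
representable diagonal is separated. -/
theorem isSeparatedMor_of_affTested (Q : MorphismProperty Scheme.{u}) {F G : AlgSp.Sp S}
    {f : F ⟶ G} (hF : AlgSp.Representable (Limits.diag F)) (hf : AffTested Q f) :
    AlgSp.IsSeparatedMor f := by
  refine repWith_diagonal_of_affine_base_change @IsClosedImmersion f
    (representable_diagonal hF f) ?_
  intro T hT g
  obtain ⟨W, i, fst, sq, hW, -⟩ := hf hT g
  refine ⟨_, fst, (AlgSp.yon S).map i, sq, ?_⟩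
  show AlgSp.IsSeparatedMor ((AlgSp.yon S).map i)
  rw [AlgSp.isSeparatedMor_yon_map_iff]
  have : IsAffine T.left := hT
  have : IsAffine W.left := hW
  infer_instance

/-- A morphism to a representable sheaf which is `RepWith Q` has representable source. -/
theorem exists_iso_yon_of_repWith (Q : MorphismProperty Scheme.{u}) {Z : AlgSp.Sp S} {U : Over S}
    {π : Z ⟶ (AlgSp.yon S).obj U} (hπ : AlgSp.RepWith Q π) :
    ∃ (W : Over S) (w : W ⟶ U) (e : (AlgSp.yon S).obj W ≅ Z),
      e.hom ≫ π = (AlgSp.yon S).map w ∧ Q w.left := by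
  have sq := hπ.rep.isPullback (𝟙 ((AlgSp.yon S).obj U))
  have : IsIso (hπ.rep.fst (𝟙 ((AlgSp.yon S).obj U))) := sq.isIso_fst_of_isIso
  refine ⟨hπ.rep.pullback (𝟙 _), hπ.rep.snd (𝟙 _), asIso (hπ.rep.fst (𝟙 _)), ?_,
    hπ.property_snd (𝟙 _)⟩
  rw [asIso_hom, sq.w, Category.comp_id]

end Groth.Agent.Lib.Helper30
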