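import Groth.Prelude.Def_AlgSp
import Groth.Agent.Lib.Helper51.AlgSpOpen
import Groth.Agent.Lib.Helper8.SheafType

/-!
# Change of base for fppf sheaves: the restriction functor `j⁻¹` (helper30)

For `g : S ⟶ S'`, `Rg g : Sp S' ⥤ Sp S` is restriction along `Over.map g`.  It preserves
`RepWith P` for `P` stable under base change, sends `h_{X'}` to `h_{X' ×_{S'} S}` and sends
algebraic spaces to algebraic spaces.
-/

set_option autoImplicit false
set_option maxHeartbeats 400000
set_option backward.isDefEq.respectTransparency false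

universe u

open CategoryTheory CategoryTheory.Limits AlgebraicGeometry Opposite

namespace Groth.Agent.Lib.Helper30.BC

open Groth.Agent.Lib.Helper51 Groth.Agent.Lib.Helper8

variable {S S' : Scheme.{u}} (g : S ⟶ S')

/-- The restriction functor `j⁻¹`. -/
noncomputable abbrev Rg : AlgSp.Sp S' ⥤ AlgSp.Sp S :=
  Scheme.fppfTopology.overMapPullback (Type (u + 1)) g

/-- The morphism `h_T ⟶ F` attached to a section. -/
noncomputable abbrev sec {S : Scheme.{u}} {F : AlgSp.Sp S} {T : Over S} (x : F.obj.obj (op T)) :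
    (AlgSp.yon S).obj T ⟶ F :=
  (AlgSp.J S).uliftYonedaEquiv.symm x

theorem sec_app {S : Scheme.{u}} {F : AlgSp.Sp S} {T W : Over S} (x : F.obj.obj (op T))
    (w : W ⟶ T) : (sec x).hom.app (op W) ⟨w⟩ = F.obj.map w.op x := by
  unfold sec
  rw [GrothendieckTopology.uliftYonedaEquiv_symm_app_apply]

theorem hom_app_eq {S : Scheme.{u}} {F : AlgSp.Sp S} {T W : Over S}
    (a : (AlgSp.yon S).obj T ⟶ F) (w : W ⟶ T) :
    a.hom.app (op W) ⟨w⟩ = F.obj.map w.op ((AlgSp.J S).uliftYonedaEquiv a) := by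
  have h : sec ((AlgSp.J S).uliftYonedaEquiv a) = a := Equiv.symm_apply_apply _ a
  have := sec_app ((AlgSp.J S).uliftYonedaEquiv a) w
  rwa [h] at this

theorem Rg_obj_map {F' : AlgSp.Sp S'} {T W : Over S} (w : W ⟶ T)
    (x : F'.obj.obj (op ((Over.map g).obj T))) :
    ((Rg g).obj F').obj.map w.op x = F'.obj.map ((Over.map g).map w).op x := rfl

theorem Rg_map_app {F' G' : AlgSp.Sp S'} (f : F' ⟶ G') (T : Over S)
    (x : F'.obj.obj (op ((Over.map g).obj T))) :
    ((Rg g).map f).hom.app (op T) x = f.hom.app (op ((Over.map g).obj T)) x := rfl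

/-- `j⁻¹` preserves `RepWith P` for `P` stable under base change. -/
theorem repWith_Rg_map (P : MorphismProperty Scheme.{u}) [P.IsStableUnderBaseChange]
    {F' G' : AlgSp.Sp S'} (f : F' ⟶ G') (hf : AlgSp.RepWith P f) :
    AlgSp.RepWith P ((Rg g).map f) := by
  apply MorphismProperty.relative.of_exists
  intro T a
  let s : G'.obj.obj (op ((Over.map g).obj T)) := (AlgSp.J S).uliftYonedaEquiv a
  let a' : (AlgSp.yon S').obj ((Over.map g).obj T) ⟶ G' := sec s
  obtain ⟨V', snd', fst', sq'⟩ := hf.rep a'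
  have hP : P snd'.left := hf.property a' fst' snd' sq'
  let V : Over S := Over.mk (snd'.left ≫ T.hom)
  let snd : V ⟶ T := Over.homMk snd'.left rfl
  have hw : snd'.left ≫ T.hom ≫ g = V'.hom := by
    have := Over.w snd'
    simpa using this
  let e : (Over.map g).obj V ⟶ V' := Over.homMk (𝟙 _) (by simp [V, hw])
  let x' : F'.obj.obj (op V') := (AlgSp.J S').uliftYonedaEquiv fst'
  let fst : (AlgSp.yon S).obj V ⟶ (Rg g).obj F' := sec (F'.obj.map e.op x')
  -- evaluation formulas
  have hfst : ∀ (W : Over S) (w : W ⟶ V), fst.hom.app (op W) ⟨w⟩ =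
      fst'.hom.app (op ((Over.map g).obj W)) ⟨(Over.map g).map w ≫ e⟩ := by
    intro W w
    rw [sec_app, Rg_obj_map, hom_app_eq, ← Functor.map_comp_apply, ← op_comp]
  have ha : ∀ (W : Over S) (t : W ⟶ T), a.hom.app (op W) ⟨t⟩ =
      a'.hom.app (op ((Over.map g).obj W)) ⟨(Over.map g).map t⟩ := by
    intro W t
    rw [hom_app_eq, sec_app, Rg_obj_map]
  refine ⟨V, fst, snd, ?_, hP⟩
  apply isPullback_sheaf_of_sections
  · -- commutativity
    apply Sheaf.hom_ext
    ext W ⟨w⟩
    obtain ⟨W⟩ := W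
    change ((Rg g).map f).hom.app (op W) (fst.hom.app (op W) ⟨w⟩) = a.hom.app (op W) ⟨w ≫ snd⟩
    rw [hfst, ha, Rg_map_app]
    have h1 := congrArg (fun t => t.hom.app (op ((Over.map g).obj W)) ⟨(Over.map g).map w ≫ e⟩) sq'.w
    have h2 : ((Over.map g).map w ≫ e) ≫ snd' = (Over.map g).map (w ≫ snd) := by
      apply Over.OverMorphism.ext
      simp [e, snd]
    change f.hom.app _ (fst'.hom.app _ _) = a'.hom.app _ ⟨((Over.map g).map w ≫ e) ≫ snd'⟩ at h1
    rw [h1, h2]
  · rintro ⟨W⟩ ⟨x⟩ ⟨y⟩ h1 h2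
    rw [hfst, hfst] at h1
    have h3 : x ≫ snd = y ≫ snd := congrArg ULift.down h2
    have h4 : ((Over.map g).map x ≫ e) ≫ snd' = ((Over.map g).map y ≫ e) ≫ snd' := by
      have := congrArg (fun t => t.left) h3
      apply Over.OverMorphism.ext
      simpa [e, snd] using this
    have h5 := Types.ext_of_isPullback (isPullback_ev _ sq' ((Over.map g).obj W)) h1
      (congrArg ULift.up h4)
    have h6 := congrArg (fun t => t.down.left) h5
    have h7 : x.left = y.left := by simpa [e] using h6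
    rw [Over.OverMorphism.ext h7]
  · rintro ⟨W⟩ x₂ ⟨t⟩ h
    rw [Rg_map_app, ha] at h
    obtain ⟨⟨p⟩, hp1, hp2⟩ := Types.exists_of_isPullback (isPullback_ev _ sq' ((Over.map g).obj W))
      x₂ ⟨(Over.map g).map t⟩ h
    have hp3 : p ≫ snd' = (Over.map g).map t := congrArg ULift.down hp2
    have hp4 : p.left ≫ snd'.left = t.left := by
      have := congrArg (fun t => t.left) hp3
      simpa using this
    let w : W ⟶ V := Over.homMk p.left (by
      change p.left ≫ snd'.left ≫ T.hom = W.hom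
      rw [← Category.assoc, hp4]
      exact Over.w t)
    refine ⟨⟨w⟩, ?_, ?_⟩
    · rw [hfst]
      have : (Over.map g).map w ≫ e = p := by
        apply Over.OverMorphism.ext
        simp [e, w]
      rw [this]
      exact hp1
    · have : w ≫ snd = t := by
        apply Over.OverMorphism.ext
        simpa [w, snd] using hp4
      change (⟨w ≫ snd⟩ : ULift (W ⟶ T)) = ⟨t⟩
      rw [this]

/-- `j⁻¹ h_{X'}` is represented by `X' ×_{S'} S`. -/
noncomputable def RgYonRepresentableBy (X' : Over S') :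
    ((Rg g).obj ((AlgSp.yon S').obj X')).obj.RepresentableBy
      (Over.mk (pullback.snd X'.hom g)) where
  homEquiv {T} := (((Over.mapPullbackAdj g).homEquiv T X').symm).trans Equiv.ulift.symm
  homEquiv_comp {T T'} f φ := by
    change (⟨((Over.mapPullbackAdj g).homEquiv T X').symm (f ≫ φ)⟩ : ULift _) =
      ⟨(Over.map g).map f ≫ ((Over.mapPullbackAdj g).homEquiv T' X').symm φ⟩
    rw [Adjunction.homEquiv_naturality_left_symm]

/-- The isomorphism `h_{X' ×_{S'} S} ≅ j⁻¹ h_{X'}`. -/
noncomputable def RgYonIso (X' : Over S') :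
    (AlgSp.yon S).obj (Over.mk (pullback.snd X'.hom g)) ≅ (Rg g).obj ((AlgSp.yon S').obj X') :=
  AlgSp.isoOfRepresentableBy (RgYonRepresentableBy g X')

instance : (Rg g).IsRightAdjoint :=
  (Functor.sheafAdjunctionContinuous (Over.map g) (Type (u + 1)) (AlgSp.J S)
    (AlgSp.J S')).isRightAdjoint

theorem representable_iff_repWith_top {S : Scheme.{u}} {F G : AlgSp.Sp S} (f : F ⟶ G) :
    AlgSp.Representable f ↔ AlgSp.RepWith ⊤ f :=
  ⟨fun h => ⟨h, fun _ _ _ _ _ _ => trivial⟩, fun h => h.rep⟩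

theorem representable_Rg_map {F' G' : AlgSp.Sp S'} (f : F' ⟶ G') (hf : AlgSp.Representable f) :
    AlgSp.Representable ((Rg g).map f) :=
  (representable_iff_repWith_top _).2
    (repWith_Rg_map g ⊤ f ((representable_iff_repWith_top _).1 hf))

theorem representable_diag_Rg {F' : AlgSp.Sp S'} (h : AlgSp.Representable (Limits.diag F')) :
    AlgSp.Representable (Limits.diag ((Rg g).obj F')) := by
  have h1 : Limits.diag ((Rg g).obj F') = (Rg g).map (Limits.diag F') ≫
      prodComparison (Rg g) F' F' := by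
    apply Limits.prod.hom_ext
    · simp [prodComparison_fst, ← Functor.map_comp]
    · simp [prodComparison_snd, ← Functor.map_comp]
  rw [h1]
  exact (MorphismProperty.cancel_right_of_respectsIso _ _ _).2 (representable_Rg_map g _ h)

/-- `j⁻¹` sends algebraic spaces to algebraic spaces. -/
theorem isAlgSpace_Rg {F' : AlgSp.Sp S'} (hF' : AlgSp.IsAlgSpace F') :
    AlgSp.IsAlgSpace ((Rg g).obj F') := by
  refine ⟨representable_diag_Rg g hF'.diag, ?_⟩
  obtain ⟨U', p', het, hsurj⟩ := hF'.atlas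
  refine ⟨Over.mk (pullback.snd U'.hom g), (RgYonIso g U').hom ≫ (Rg g).map p', ?_, ?_⟩
  · exact (MorphismProperty.cancel_left_of_respectsIso _ _ _).2 (repWith_Rg_map g _ p' het)
  · exact (MorphismProperty.cancel_left_of_respectsIso _ _ _).2 (repWith_Rg_map g _ p' hsurj)

end Groth.Agent.Lib.Helper30.BC
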