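import Groth.Prelude.Def_AlgSp2
import Mathlib.CategoryTheory.Sites.LocallyBijective
import Groth.Agent.Lib.Helper51.FppfSurj
import Groth.Agent.Lib.Helper40.AlgSpLocal

/-!
# Coproducts of fppf sheaves over a scheme (helper30)

Explicit description of coproducts in `AlgSp.Sp S`: the sheafification of the sectionwise
disjoint union.  Consequences for an arbitrary colimit cofan `c` of a family `F : ι → Sp S`:
* sections of `c.pt` locally come from some `F i` (`exists_cover_lift`);
* the coprojections are monomorphisms (`mono_inj`);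
* sections of `F i` and `F j`, `i ≠ j`, that agree in `c.pt` live over the empty scheme
  (`isEmpty_of_inj_eq`).
-/

set_option autoImplicit false
set_option maxHeartbeats 800000
set_option backward.isDefEq.respectTransparency false
set_option linter.style.haveILetI false
universe u
open CategoryTheory CategoryTheory.Limits AlgebraicGeometry Opposite

namespace Groth.Agent.Lib.Helper30.Coprod

variable {S : Scheme.{u}} {ι : Type u} (F : ι → AlgSp.Sp S)

/-- The sectionwise disjoint union of the presheaves underlying `F i`. -/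
def sigmaPsh : (Over S)ᵒᵖ ⥤ Type (u + 1) where
  obj T := Σ i, (F i).obj.obj T
  map f := TypeCat.ofHom fun x => ⟨x.1, (F x.1).obj.map f x.2⟩
  map_id T := by
    refine ConcreteCategory.hom_ext _ _ (fun ⟨i, a⟩ => ?_)
    show (⟨i, (F i).obj.map (𝟙 T) a⟩ : Σ i, (F i).obj.obj T) = ⟨i, a⟩
    rw [FunctorToTypes.map_id_apply]
  map_comp {T₁ T₂ T₃} f g := by
    refine ConcreteCategory.hom_ext _ _ (fun ⟨i, a⟩ => ?_)
    show (⟨i, (F i).obj.map (f ≫ g) a⟩ : Σ i, (F i).obj.obj T₃) =
      ⟨i, (F i).obj.map g ((F i).obj.map f a)⟩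
    rw [FunctorToTypes.map_comp_apply]

/-- The coprojection of presheaves. -/
def sigmaι (i : ι) : (F i).obj ⟶ sigmaPsh F where
  app T := TypeCat.ofHom fun a => ⟨i, a⟩
  naturality := by
    intro T₁ T₂ f
    rfl

/-- Copairing of presheaf maps. -/
def sigmaDesc {G : (Over S)ᵒᵖ ⥤ Type (u + 1)} (φ : ∀ i, (F i).obj ⟶ G) : sigmaPsh F ⟶ G where
  app T := TypeCat.ofHom fun x => (φ x.1).app T x.2
  naturality := by
    intro T₁ T₂ f
    refine ConcreteCategory.hom_ext _ _ (fun ⟨i, a⟩ => ?_)
    exact FunctorToTypes.naturality (φ i) f a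

theorem sigmaι_desc {G : (Over S)ᵒᵖ ⥤ Type (u + 1)} (φ : ∀ i, (F i).obj ⟶ G) (i : ι) :
    sigmaι F i ≫ sigmaDesc F φ = φ i := rfl

theorem sigma_hom_ext {G : (Over S)ᵒᵖ ⥤ Type (u + 1)} (α β : sigmaPsh F ⟶ G)
    (h : ∀ i, sigmaι F i ≫ α = sigmaι F i ≫ β) : α = β := by
  ext T ⟨i, a⟩
  have := congrArg (fun γ => (γ.app T) a) (h i)
  exact this

/-- The explicit coproduct sheaf. -/
noncomputable def coprodSh : AlgSp.Sp S :=
  (presheafToSheaf (AlgSp.J S) (Type (u + 1))).obj (sigmaPsh F)

/-- The explicit coproduct cofan. -/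
noncomputable def cof : Cofan F :=
  Cofan.mk (coprodSh F)
    (fun i => ObjectProperty.homMk (sigmaι F i ≫ toSheafify (AlgSp.J S) (sigmaPsh F)))

theorem cof_inj_hom (i : ι) :
    ((cof F).inj i).hom = sigmaι F i ≫ toSheafify (AlgSp.J S) (sigmaPsh F) := rfl

/-- The explicit cofan is a colimit. -/
noncomputable def cofIsColimit : IsColimit (cof F) :=
  Cofan.IsColimit.mk _
    (fun t => ObjectProperty.homMk
      (sheafifyLift (AlgSp.J S) (sigmaDesc F (fun i => (t.inj i).hom)) t.pt.property))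
    (fun t j => by
      apply Sheaf.hom_ext
      rw [ObjectProperty.FullSubcategory.comp_hom, cof_inj_hom, Category.assoc]
      erw [toSheafify_sheafifyLift]
      rfl)
    (fun t m hm => by
      apply Sheaf.hom_ext
      apply sheafifyLift_unique
      apply sigma_hom_ext
      intro i
      rw [sigmaι_desc, ← Category.assoc, ← cof_inj_hom, ← ObjectProperty.FullSubcategory.comp_hom,
        hm i])

/-- Sections of the explicit coproduct locally come from a summand. -/
theorem cof_locally_surj {T : Over S} (x : (coprodSh F).obj.obj (op T)) :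
    ∃ R ∈ AlgSp.J S T, ∀ ⦃V : Over S⦄ (f : V ⟶ T), R f →
      ∃ (i : ι) (a : (F i).obj.obj (op V)),
        ((cof F).inj i).hom.app (op V) a = (coprodSh F).obj.map f.op x := by
  refine ⟨Presheaf.imageSieve (toSheafify (AlgSp.J S) (sigmaPsh F)) x,
    Presheaf.imageSieve_mem (AlgSp.J S) (toSheafify (AlgSp.J S) (sigmaPsh F)) (U := op T) x, ?_⟩
  rintro V f ⟨⟨i, a⟩, h⟩
  exact ⟨i, a, h⟩

/-- Sections of summands with the same image in the explicit coproduct locally agree in the
sectionwise disjoint union. -/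
theorem cof_locally_inj {T : Over S} {i j : ι} (a : (F i).obj.obj (op T))
    (b : (F j).obj.obj (op T))
    (h : ((cof F).inj i).hom.app (op T) a = ((cof F).inj j).hom.app (op T) b) :
    ∃ R ∈ AlgSp.J S T, ∀ ⦃V : Over S⦄ (f : V ⟶ T), R f →
      (⟨i, (F i).obj.map f.op a⟩ : Σ i, (F i).obj.obj (op V)) = ⟨j, (F j).obj.map f.op b⟩ := by
  refine ⟨Presheaf.equalizerSieve (F := sigmaPsh F) (X := op T) ⟨i, a⟩ ⟨j, b⟩,
    Presheaf.equalizerSieve_mem (AlgSp.J S) (toSheafify (AlgSp.J S) (sigmaPsh F)) _ _ h, ?_⟩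
  intro V f hf
  exact hf

section General

variable {F}
variable (c : Cofan F) (hc : IsColimit c)

/-- Comparison with the explicit coproduct. -/
noncomputable def compIso : c.pt ≅ coprodSh F :=
  hc.coconePointUniqueUpToIso (cofIsColimit F)

theorem inj_compIso_hom (i : ι) : c.inj i ≫ (compIso c hc).hom = (cof F).inj i :=
  hc.comp_coconePointUniqueUpToIso_hom (cofIsColimit F) ⟨i⟩

include hc in
/-- Sections of a coproduct of sheaves locally come from a summand. -/
theorem locally_surj {T : Over S} (x : c.pt.obj.obj (op T)) :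
    ∃ R ∈ AlgSp.J S T, ∀ ⦃V : Over S⦄ (f : V ⟶ T), R f →
      ∃ (i : ι) (a : (F i).obj.obj (op V)),
        (c.inj i).hom.app (op V) a = c.pt.obj.map f.op x := by
  obtain ⟨R, hR, H⟩ := cof_locally_surj F ((compIso c hc).hom.hom.app (op T) x)
  refine ⟨R, hR, fun V f hf => ?_⟩
  obtain ⟨i, a, h⟩ := H f hf
  refine ⟨i, a, ?_⟩
  have hinj : Function.Injective ((compIso c hc).hom.hom.app (op V)) := by
    intro y z hyz
    have := congrArg ((compIso c hc).inv.hom.app (op V)) hyz
    simpa [← ConcreteCategory.comp_apply, ← NatTrans.comp_app,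
      ← ObjectProperty.FullSubcategory.comp_hom] using this
  apply hinj
  rw [← inj_compIso_hom c hc i] at h
  rw [FunctorToTypes.naturality]
  exact h

theorem compIso_app_injective (V : Over S) :
    Function.Injective ((compIso c hc).hom.hom.app (op V)) := by
  intro y z hyz
  have := congrArg ((compIso c hc).inv.hom.app (op V)) hyz
  simpa [← ConcreteCategory.comp_apply, ← NatTrans.comp_app,
    ← ObjectProperty.FullSubcategory.comp_hom] using this

theorem cof_inj_app (i : ι) {T : Over S} (a : (F i).obj.obj (op T)) :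
    ((cof F).inj i).hom.app (op T) a =
      (compIso c hc).hom.hom.app (op T) ((c.inj i).hom.app (op T) a) := by
  rw [← inj_compIso_hom c hc i]
  rfl

include hc in
/-- The coprojections of a coproduct of sheaves are injective on sections. -/
theorem inj_app_injective (i : ι) (T : Over S) :
    Function.Injective ((c.inj i).hom.app (op T)) := by
  intro a b h
  have h' : ((cof F).inj i).hom.app (op T) a = ((cof F).inj i).hom.app (op T) b := by
    rw [cof_inj_app c hc, cof_inj_app c hc, h]
  obtain ⟨R, hR, H⟩ := cof_locally_inj F a b h'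
  have hF : Presieve.IsSheaf (AlgSp.J S) (F i).obj :=
    (isSheaf_iff_isSheaf_of_type _ _).1 (F i).property
  apply (hF _ hR).isSeparatedFor.ext
  intro V f hf
  exact eq_of_heq (Sigma.mk.inj (H f hf)).2

include hc in
/-- The coprojections of a coproduct of sheaves are monomorphisms. -/
theorem mono_inj (i : ι) : Mono (c.inj i) := by
  have : Mono (c.inj i).hom := by
    apply (config := { allowSynthFailures := true }) NatTrans.mono_of_mono_app
    intro T
    rw [mono_iff_injective]
    exact inj_app_injective c hc i T.unop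
  exact Sheaf.Hom.mono_of_presheaf_mono _ _ _

include hc in
/-- Sections of different summands that agree in the coproduct live over the empty scheme. -/
theorem isEmpty_of_inj_app_eq {i j : ι} (hij : i ≠ j) {T : Over S} (a : (F i).obj.obj (op T))
    (b : (F j).obj.obj (op T))
    (h : (c.inj i).hom.app (op T) a = (c.inj j).hom.app (op T) b) : IsEmpty ↥T.left := by
  have h' : ((cof F).inj i).hom.app (op T) a = ((cof F).inj j).hom.app (op T) b := by
    rw [cof_inj_app c hc, cof_inj_app c hc, h]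
  obtain ⟨R, hR, H⟩ := cof_locally_inj F a b h'
  constructor
  intro t
  obtain ⟨T', f, t', hf, -⟩ := Groth.Agent.Lib.Helper51.exists_mem_sieve_of_mem_J R hR t
  exact hij (Sigma.mk.inj (H f hf)).1

include hc in
/-- Morphism form of `locally_surj`. -/
theorem exists_cover_lift {T : Over S} (g : (AlgSp.yon S).obj T ⟶ c.pt) :
    ∃ R ∈ AlgSp.J S T, ∀ ⦃V : Over S⦄ (f : V ⟶ T), R f →
      ∃ (i : ι) (a : (AlgSp.yon S).obj V ⟶ F i),
        a ≫ c.inj i = (AlgSp.yon S).map f ≫ g := by
  obtain ⟨R, hR, H⟩ := locally_surj c hc ((AlgSp.J S).uliftYonedaEquiv g)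
  refine ⟨R, hR, fun V f hf => ?_⟩
  obtain ⟨i, a, h⟩ := H f hf
  refine ⟨i, (AlgSp.J S).uliftYonedaEquiv.symm a, ?_⟩
  apply (AlgSp.J S).uliftYonedaEquiv.injective
  rw [GrothendieckTopology.uliftYonedaEquiv_comp, Equiv.apply_symm_apply, h,
    GrothendieckTopology.uliftYonedaEquiv_naturality]

include hc in
/-- Morphism form of `isEmpty_of_inj_app_eq`. -/
theorem isEmpty_of_comp_inj_eq {i j : ι} (hij : i ≠ j) {T : Over S}
    (a : (AlgSp.yon S).obj T ⟶ F i) (b : (AlgSp.yon S).obj T ⟶ F j)
    (h : a ≫ c.inj i = b ≫ c.inj j) : IsEmpty ↥T.left := by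
  apply isEmpty_of_inj_app_eq c hc hij ((AlgSp.J S).uliftYonedaEquiv a)
    ((AlgSp.J S).uliftYonedaEquiv b)
  rw [← GrothendieckTopology.uliftYonedaEquiv_comp, ← GrothendieckTopology.uliftYonedaEquiv_comp,
    h]

end General

section Tools

/-- The empty sieve covers the empty scheme. -/
theorem bot_mem_J (T : Over S) [IsEmpty ↥T.left] : (⊥ : Sieve T) ∈ AlgSp.J S T := by
  rw [AlgSp.J_eq, GrothendieckTopology.mem_over_iff]
  have h : (⊥ : Presieve T.left) ∈ Scheme.fppfPrecoverage T.left :=
    Scheme.bot_mem_precoverage _ T.left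
  refine Scheme.fppfTopology.superset_covering ?_ (Precoverage.generate_mem_toGrothendieck h)
  rintro Y f ⟨Z, a, b, hb, -⟩
  exact hb.elim

/-- Any two sections of a sheaf over the empty scheme agree. -/
theorem eq_of_isEmpty {G : AlgSp.Sp S} {T : Over S} [IsEmpty ↥T.left]
    (a b : (AlgSp.yon S).obj T ⟶ G) : a = b := by
  apply (AlgSp.J S).uliftYonedaEquiv.injective
  have hG : Presieve.IsSheaf (AlgSp.J S) G.obj :=
    (isSheaf_iff_isSheaf_of_type _ _).1 G.property
  apply (hG _ (bot_mem_J T)).isSeparatedFor.ext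
  intro V f hf
  exact hf.elim

/-- A sheaf has a section over the empty scheme. -/
theorem exists_of_isEmpty (G : AlgSp.Sp S) (T : Over S) [IsEmpty ↥T.left] :
    Nonempty ((AlgSp.yon S).obj T ⟶ G) := by
  have hG : Presieve.IsSheaf (AlgSp.J S) G.obj :=
    (isSheaf_iff_isSheaf_of_type _ _).1 G.property
  have h := hG _ (bot_mem_J T)
  let x : Presieve.FamilyOfElements G.obj (⊥ : Sieve T).arrows := fun V f hf => hf.elim
  have hx : x.Compatible := fun V₁ V₂ W g₁ g₂ f₁ f₂ h₁ => h₁.elim
  exact ⟨(AlgSp.J S).uliftYonedaEquiv.symm (h.amalgamate x hx)⟩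

/-- Pullback squares of sheaves can be checked sectionwise. -/
theorem isPullback_of_sections {P X Y Z : AlgSp.Sp S} {fst : P ⟶ X} {snd : P ⟶ Y}
    {f : X ⟶ Z} {g : Y ⟶ Z} (w : fst ≫ f = snd ≫ g)
    (hinj : ∀ (T : Over S) (p q : P.obj.obj (op T)), fst.hom.app _ p = fst.hom.app _ q →
      snd.hom.app _ p = snd.hom.app _ q → p = q)
    (hsurj : ∀ (T : Over S) (x : X.obj.obj (op T)) (y : Y.obj.obj (op T)),
      f.hom.app _ x = g.hom.app _ y → ∃ p, fst.hom.app _ p = x ∧ snd.hom.app _ p = y) :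
    IsPullback fst snd f g := by
  apply IsPullback.of_map (sheafToPresheaf _ _) w
  apply IsPullback.of_forall_isPullback_app
  intro T
  rw [Types.isPullback_iff]
  refine ⟨congrArg (fun k => k.hom.app T) w, fun p q ⟨h1, h2⟩ => hinj T.unop p q h1 h2,
    hsurj T.unop⟩

/-- Pullback squares of sheaves can be checked on representable test objects. -/
theorem isPullback_of_yon {P X Y Z : AlgSp.Sp S} {fst : P ⟶ X} {snd : P ⟶ Y}
    {f : X ⟶ Z} {g : Y ⟶ Z} (w : fst ≫ f = snd ≫ g)
    (hinj : ∀ (T : Over S) (p q : (AlgSp.yon S).obj T ⟶ P), p ≫ fst = q ≫ fst →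
      p ≫ snd = q ≫ snd → p = q)
    (hsurj : ∀ (T : Over S) (x : (AlgSp.yon S).obj T ⟶ X) (y : (AlgSp.yon S).obj T ⟶ Y),
      x ≫ f = y ≫ g → ∃ p : (AlgSp.yon S).obj T ⟶ P, p ≫ fst = x ∧ p ≫ snd = y) :
    IsPullback fst snd f g := by
  refine isPullback_of_sections w (fun T p q h1 h2 => ?_) (fun T x y h => ?_)
  · have key : ((AlgSp.J S).uliftYonedaEquiv.symm p : (AlgSp.yon S).obj T ⟶ P) =
        (AlgSp.J S).uliftYonedaEquiv.symm q := ?_
    · exact (AlgSp.J S).uliftYonedaEquiv.symm.injective key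
    apply hinj
    · apply (AlgSp.J S).uliftYonedaEquiv.injective
      rw [GrothendieckTopology.uliftYonedaEquiv_comp, GrothendieckTopology.uliftYonedaEquiv_comp,
        Equiv.apply_symm_apply, Equiv.apply_symm_apply, h1]
    · apply (AlgSp.J S).uliftYonedaEquiv.injective
      rw [GrothendieckTopology.uliftYonedaEquiv_comp, GrothendieckTopology.uliftYonedaEquiv_comp,
        Equiv.apply_symm_apply, Equiv.apply_symm_apply, h2]
  · obtain ⟨p, hp1, hp2⟩ := hsurj T ((AlgSp.J S).uliftYonedaEquiv.symm x)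
      ((AlgSp.J S).uliftYonedaEquiv.symm y) (by
        apply (AlgSp.J S).uliftYonedaEquiv.injective
        rw [GrothendieckTopology.uliftYonedaEquiv_comp,
          GrothendieckTopology.uliftYonedaEquiv_comp,
          Equiv.apply_symm_apply, Equiv.apply_symm_apply, h])
    refine ⟨(AlgSp.J S).uliftYonedaEquiv p, ?_, ?_⟩
    · rw [← GrothendieckTopology.uliftYonedaEquiv_comp, hp1, Equiv.apply_symm_apply]
    · rw [← GrothendieckTopology.uliftYonedaEquiv_comp, hp2, Equiv.apply_symm_apply]

/-- Monomorphisms of sheaves are injective on sections. -/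
theorem app_injective_of_mono {G H : AlgSp.Sp S} (f : G ⟶ H) [Mono f] (T : Over S) :
    Function.Injective (f.hom.app (op T)) := by
  intro a b h
  have key : ((AlgSp.J S).uliftYonedaEquiv.symm a : (AlgSp.yon S).obj T ⟶ G) =
      (AlgSp.J S).uliftYonedaEquiv.symm b := by
    rw [← cancel_mono f]
    apply (AlgSp.J S).uliftYonedaEquiv.injective
    rw [GrothendieckTopology.uliftYonedaEquiv_comp, GrothendieckTopology.uliftYonedaEquiv_comp,
      Equiv.apply_symm_apply, Equiv.apply_symm_apply, h]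
  exact (AlgSp.J S).uliftYonedaEquiv.symm.injective key

/-- A monomorphism of sheaves through which every section of the target locally lifts is an
isomorphism. -/
theorem isIso_of_mono_of_locally_lifts {G H : AlgSp.Sp S} (f : G ⟶ H) [Mono f]
    (hl : ∀ ⦃V : Over S⦄ (σ : (AlgSp.yon S).obj V ⟶ H), ∃ R ∈ AlgSp.J S V,
      ∀ ⦃V' : Over S⦄ (k : V' ⟶ V), R k →
        ∃ a : (AlgSp.yon S).obj V' ⟶ G, a ≫ f = (AlgSp.yon S).map k ≫ σ) : IsIso f := by
  rw [← Sheaf.isLocallyBijective_iff_isIso f]
  constructor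
  · exact (Sheaf.isLocallyInjective_iff_injective f).2
      (fun X => app_injective_of_mono f X.unop)
  · constructor
    intro V s
    obtain ⟨R, hR, Hl⟩ := hl ((AlgSp.J S).uliftYonedaEquiv.symm s)
    refine GrothendieckTopology.superset_covering _ ?_ hR
    intro V' k hk
    obtain ⟨a, ha⟩ := Hl k hk
    refine ⟨(AlgSp.J S).uliftYonedaEquiv a, ?_⟩
    show f.hom.app _ ((AlgSp.J S).uliftYonedaEquiv a) = H.obj.map k.op s
    rw [← GrothendieckTopology.uliftYonedaEquiv_comp, ha,
      ← GrothendieckTopology.uliftYonedaEquiv_naturality, Equiv.apply_symm_apply]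

end Tools

section Decomp

variable {F}
variable (c : Cofan F) (hc : IsColimit c) {T : Over S} (g : (AlgSp.yon S).obj T ⟶ c.pt)

/-- The set of points of `T` near which `g` lifts to `F i`. -/
def liftSet (i : ι) : Set ↥T.left :=
  {t | ∃ (V : Over S) (f : V ⟶ T) (v : ↥V.left) (a : (AlgSp.yon S).obj V ⟶ F i),
      f.left v = t ∧ a ≫ c.inj i = (AlgSp.yon S).map f ≫ g}

include hc in
theorem eq_of_mem_liftSet {i j : ι} {t : ↥T.left} (hi : t ∈ liftSet c g i)
    (hj : t ∈ liftSet c g j) : i = j := by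
  by_contra hij
  obtain ⟨V, f, v, a, hv, ha⟩ := hi
  obtain ⟨V', f', v', a', hv', ha'⟩ := hj
  obtain ⟨p, hp1, hp2⟩ := Scheme.Pullback.exists_preimage_pullback v v' (hv.trans hv'.symm)
  let PO : Over S := Over.mk (pullback.fst f.left f'.left ≫ V.hom)
  let π₁ : PO ⟶ V := Over.homMk (pullback.fst f.left f'.left) rfl
  let π₂ : PO ⟶ V' := Over.homMk (pullback.snd f.left f'.left) (by
    show pullback.snd f.left f'.left ≫ V'.hom = pullback.fst f.left f'.left ≫ V.hom
    rw [← Over.w f, ← Over.w f', ← Category.assoc, ← Category.assoc, pullback.condition])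
  have hπ : π₁ ≫ f = π₂ ≫ f' := by
    apply Over.OverMorphism.ext
    exact pullback.condition
  have h : ((AlgSp.yon S).map π₁ ≫ a) ≫ c.inj i = ((AlgSp.yon S).map π₂ ≫ a') ≫ c.inj j := by
    rw [Category.assoc, Category.assoc, ha, ha', ← Category.assoc, ← Category.assoc,
      ← Functor.map_comp, ← Functor.map_comp, hπ]
  have := isEmpty_of_comp_inj_eq c hc hij _ _ h
  exact this.elim p

include hc in
theorem iUnion_liftSet : ⋃ i, liftSet c g i = Set.univ := by
  rw [Set.eq_univ_iff_forall]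
  intro t
  obtain ⟨R, hR, H⟩ := exists_cover_lift c hc g
  obtain ⟨T', f, t', hf, ht⟩ := Groth.Agent.Lib.Helper51.exists_mem_sieve_of_mem_J R hR t
  obtain ⟨i, a, ha⟩ := H f hf
  exact Set.mem_iUnion.2 ⟨i, T', f, t', a, ht, ha⟩

include hc in
theorem isOpen_liftSet (i : ι) : IsOpen (liftSet c g i) := by
  rw [isOpen_iff_forall_mem_open]
  intro t ht
  obtain ⟨R, hR, H⟩ := exists_cover_lift c hc g
  obtain ⟨R₀, hR₀, hle⟩ := Groth.Agent.Lib.Helper40.AlgSpBasic.exists_precover_of_mem_J R hR
  have hsurj := hR₀.1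
  rw [Presieve.mem_comap_jointlySurjectivePrecoverage_iff] at hsurj
  obtain ⟨Y, k, hk, y, hy⟩ := hsurj t
  have hfl : (@Flat ⊓ @LocallyOfFinitePresentation : MorphismProperty Scheme.{u}) k := hR₀.2 hk
  have : Flat k := hfl.1
  have : LocallyOfFinitePresentation k := hfl.2
  obtain ⟨j, a, ha⟩ := H _ (hle k hk)
  have hsub : Set.range k ⊆ liftSet c g j := by
    rintro _ ⟨y', rfl⟩
    exact ⟨_, _, y', a, rfl, ha⟩
  have hij : i = j := eq_of_mem_liftSet c hc g ht (hsub ⟨y, hy⟩)
  subst hij
  exact ⟨Set.range k, hsub, k.isOpenMap.isOpen_range, ⟨y, hy⟩⟩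

include hc in
theorem isClosed_liftSet (i : ι) : IsClosed (liftSet c g i) := by
  rw [← isOpen_compl_iff]
  have h : (liftSet c g i)ᶜ = ⋃ j ∈ {j : ι | j ≠ i}, liftSet c g j := by
    ext t
    simp only [Set.mem_compl_iff, Set.mem_iUnion, Set.mem_setOf_eq, exists_prop]
    constructor
    · intro ht
      have hu : t ∈ ⋃ j, liftSet c g j := by rw [iUnion_liftSet c hc g]; trivial
      obtain ⟨j, hj⟩ := Set.mem_iUnion.1 hu
      refine ⟨j, ?_, hj⟩
      rintro rfl
      exact ht hj
    · rintro ⟨j, hji, hj⟩ hi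
      exact hji (eq_of_mem_liftSet c hc g hj hi)
  rw [h]
  exact isOpen_biUnion fun j _ => isOpen_liftSet c hc g j

/-- The open subscheme of `T` over which `g` lifts to `F i`. -/
def liftOpen (i : ι) : T.left.Opens := ⟨liftSet c g i, isOpen_liftSet c hc g i⟩

/-- `liftOpen` as a scheme over `S`. -/
def liftOver (i : ι) : Over S := Over.mk ((liftOpen c hc g i).ι ≫ T.hom)

/-- The inclusion of `liftOpen`. -/
def liftι (i : ι) : liftOver c hc g i ⟶ T := Over.homMk (liftOpen c hc g i).ι rfl

theorem liftι_left_mem (i : ι) (w : ↥(liftOver c hc g i).left) :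
    (liftι c hc g i).left w ∈ liftSet c g i := by
  have : (liftι c hc g i).left w ∈ Set.range (liftOpen c hc g i).ι := ⟨w, rfl⟩
  rw [Scheme.Opens.range_ι] at this
  exact this

theorem exists_lift (i : ι) : ∃ x : (AlgSp.yon S).obj (liftOver c hc g i) ⟶ F i,
    x ≫ c.inj i = (AlgSp.yon S).map (liftι c hc g i) ≫ g := by
  have := mono_inj c hc i
  have hiso : IsIso (pullback.snd (c.inj i) ((AlgSp.yon S).map (liftι c hc g i) ≫ g)) := by
    apply isIso_of_mono_of_locally_lifts
    intro V σ
    obtain ⟨σ', rfl⟩ := (AlgSp.yon S).map_surjective σ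
    obtain ⟨R, hR, H⟩ := exists_cover_lift c hc g
    refine ⟨R.pullback (σ' ≫ liftι c hc g i), (AlgSp.J S).pullback_stable _ hR, ?_⟩
    intro V' k hk
    obtain ⟨j, a, ha⟩ := H _ hk
    rcases isEmpty_or_nonempty ↥V'.left with hE | ⟨⟨v'⟩⟩
    · obtain ⟨a'⟩ := exists_of_isEmpty
        (pullback (c.inj i) ((AlgSp.yon S).map (liftι c hc g i) ≫ g)) V'
      exact ⟨a', eq_of_isEmpty _ _⟩
    · have hmem : (liftι c hc g i).left (σ'.left (k.left v')) ∈ liftSet c g i :=
        liftι_left_mem c hc g i _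
      have hmem' : (liftι c hc g i).left (σ'.left (k.left v')) ∈ liftSet c g j :=
        ⟨V', k ≫ σ' ≫ liftι c hc g i, v', a, rfl, ha⟩
      obtain rfl := eq_of_mem_liftSet c hc g hmem hmem'
      refine ⟨pullback.lift a ((AlgSp.yon S).map (k ≫ σ')) ?_, ?_⟩
      · rw [ha, Functor.map_comp, Functor.map_comp, Functor.map_comp, Category.assoc,
          Category.assoc, Category.assoc]
      · rw [pullback.lift_snd, Functor.map_comp]
  refine ⟨inv (pullback.snd (c.inj i) ((AlgSp.yon S).map (liftι c hc g i) ≫ g)) ≫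
    pullback.fst _ _, ?_⟩
  rw [Category.assoc, pullback.condition, IsIso.inv_hom_id_assoc]

theorem isPullback_lift (i : ι) (x : (AlgSp.yon S).obj (liftOver c hc g i) ⟶ F i)
    (hx : x ≫ c.inj i = (AlgSp.yon S).map (liftι c hc g i) ≫ g) :
    IsPullback x ((AlgSp.yon S).map (liftι c hc g i)) (c.inj i) g := by
  have := mono_inj c hc i
  refine isPullback_of_yon hx (fun V p q _ h2 => ?_) (fun V a b h => ?_)
  · obtain ⟨p', rfl⟩ := (AlgSp.yon S).map_surjective p
    obtain ⟨q', rfl⟩ := (AlgSp.yon S).map_surjective q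
    rw [← Functor.map_comp, ← Functor.map_comp] at h2
    have h3 := (AlgSp.yon S).map_injective h2
    congr 1
    apply Over.OverMorphism.ext
    have h4 : p'.left ≫ (liftOpen c hc g i).ι = q'.left ≫ (liftOpen c hc g i).ι :=
      congrArg CommaMorphism.left h3
    exact (cancel_mono _).1 h4
  · obtain ⟨b', rfl⟩ := (AlgSp.yon S).map_surjective b
    have hsub : Set.range b'.left ⊆ Set.range (liftOpen c hc g i).ι := by
      rw [Scheme.Opens.range_ι]
      rintro _ ⟨v, rfl⟩
      exact ⟨V, b', v, a, rfl, h⟩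
    let l : V.left ⟶ (liftOpen c hc g i).toScheme :=
      IsOpenImmersion.lift (liftOpen c hc g i).ι b'.left hsub
    have hl : l ≫ (liftOpen c hc g i).ι = b'.left := IsOpenImmersion.lift_fac _ _ _
    let lO : V ⟶ liftOver c hc g i := Over.homMk l (by
      show l ≫ (liftOpen c hc g i).ι ≫ T.hom = V.hom
      rw [← Category.assoc, hl, Over.w])
    have hlO : lO ≫ liftι c hc g i = b' := by
      apply Over.OverMorphism.ext
      exact hl
    refine ⟨(AlgSp.yon S).map lO, ?_, ?_⟩
    · rw [← cancel_mono (c.inj i), Category.assoc, hx, ← Category.assoc, ← Functor.map_comp,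
        hlO, h]
    · rw [← Functor.map_comp, hlO]

include hc in
/-- **Decomposition.** A map from a scheme to a coproduct of sheaves decomposes the scheme into
open and closed pieces, each mapping to one summand. -/
theorem exists_decomposition : ∃ (W : ι → T.left.Opens),
    (∀ i, IsClosed (W i : Set ↥T.left)) ∧
    (∀ i j, i ≠ j → Disjoint (W i : Set ↥T.left) (W j)) ∧
    (⋃ i, (W i : Set ↥T.left)) = Set.univ ∧
    ∀ i, ∃ x : (AlgSp.yon S).obj (Over.mk ((W i).ι ≫ T.hom)) ⟶ F i,
      IsPullback x ((AlgSp.yon S).map (Over.homMk (W i).ι rfl : Over.mk ((W i).ι ≫ T.hom) ⟶ T))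
        (c.inj i) g := by
  refine ⟨liftOpen c hc g, fun i => isClosed_liftSet c hc g i, fun i j hij => ?_,
    iUnion_liftSet c hc g, fun i => ?_⟩
  · rw [Set.disjoint_left]
    intro t hi hj
    exact hij (eq_of_mem_liftSet c hc g hi hj)
  · obtain ⟨x, hx⟩ := exists_lift c hc g i
    exact ⟨x, isPullback_lift c hc g i x hx⟩

end Decomp

end Groth.Agent.Lib.Helper30.Coprod
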