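import Groth.Agent.Lib.Helper51.AlgSpPoints
import Mathlib.CategoryTheory.Limits.Constructions.Over.Connected

/-!
Morphisms of algebraic spaces: openness criteria on points, lifting pullback squares of schemes
to `Over S` and to sheaves (helper30).
-/

set_option autoImplicit false
set_option linter.unusedSectionVars false
universe u
open CategoryTheory CategoryTheory.Limits AlgebraicGeometry Opposite

set_option backward.isDefEq.respectTransparency false

namespace Groth.Agent.Lib.Helper30

open AlgSp Groth.Agent.Lib.Helper51 Groth.Agent.Lib.Helper52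

variable {S : Scheme.{u}}

/-- Openness criterion for the map on points: it is enough to find, for every `h : h_T ⟶ Z`, a scheme
`V` with `a : h_V ⟶ Z'` lying over an open map `ψ : V ⟶ T` such that `V` covers the fibre
product of points. -/
theorem isOpenMap_map_of_charts {Z' Z : AlgSp.Sp S} (snd : Z' ⟶ Z)
    (H : ∀ (T : Over S) (h : (AlgSp.yon S).obj T ⟶ Z),
      ∃ (V : Over S) (a : (AlgSp.yon S).obj V ⟶ Z') (ψ : V ⟶ T),
        a ≫ snd = (AlgSp.yon S).map ψ ≫ h ∧ IsOpenMap ψ.left ∧
        ∀ (w : Points Z') (t : ↥T.left), Points.map snd w = Points.ofPt h t →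
          ∃ v : ↥V.left, Points.ofPt a v = w ∧ ψ.left v = t) :
    IsOpenMap (Points.map snd) := by
  intro W hW
  rw [Points.isOpen_iff]
  intro T h
  obtain ⟨V, a, ψ, hcomm, hopen, hcov⟩ := H T h
  have : Points.ofPt h ⁻¹' (Points.map snd '' W) = ψ.left '' (Points.ofPt a ⁻¹' W) := by
    ext t
    constructor
    · rintro ⟨w, hw, hwt⟩
      obtain ⟨v, hv1, hv2⟩ := hcov w t hwt
      exact ⟨v, by rw [Set.mem_preimage, hv1]; exact hw, hv2⟩
    · rintro ⟨v, hv, rfl⟩
      refine ⟨Points.ofPt a v, hv, ?_⟩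
      rw [Points.map_ofPt, hcomm, ofPt_yon_map_comp]
  rw [this]
  exact hopen _ (hW.preimage (Points.continuous_ofPt a))

/-- Points of a pullback square `h_V ⟶ Z'`, `h_V ⟶ h_T` cover the fibre product of points. -/
theorem exists_pt_of_isPullback_yon {Z' Z : AlgSp.Sp S} {snd : Z' ⟶ Z} {T V : Over S}
    {h : (AlgSp.yon S).obj T ⟶ Z} {a : (AlgSp.yon S).obj V ⟶ Z'} {ψ : V ⟶ T}
    (sq : IsPullback a ((AlgSp.yon S).map ψ) snd h) (w : Points Z') (t : ↥T.left)
    (hwt : Points.map snd w = Points.ofPt h t) :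
    ∃ v : ↥V.left, Points.ofPt a v = w ∧ ψ.left v = t := by
  rw [Points.ofPt_eq_map_ofScheme] at hwt
  obtain ⟨p, hp1, hp2⟩ := exists_point_of_isPullback sq w (Points.ofScheme T t) hwt
  obtain ⟨v, rfl⟩ := (Points.schemeEquiv V).surjective p
  change Points.map _ (Points.ofScheme V v) = _ at hp1
  change Points.map _ (Points.ofScheme V v) = _ at hp2
  rw [map_yon_map_ofScheme] at hp2
  exact ⟨v, (Points.ofPt_eq_map_ofScheme a v).trans hp1, ofScheme_injective T hp2⟩

/-- The map on points of `h_φ` is open iff `φ` is an open map. -/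
theorem isOpenMap_map_yon_map_iff {T T' : Over S} (φ : T ⟶ T') :
    IsOpenMap (Points.map ((AlgSp.yon S).map φ)) ↔ IsOpenMap φ.left := by
  rw [Points.map_yon_map_eq]
  constructor
  · intro h
    have h2 := ((Points.schemeHomeo T').symm.isOpenMap.comp h).comp (Points.schemeHomeo T).isOpenMap
    convert h2 using 1
    funext t
    simp
  · intro h
    exact ((Points.schemeHomeo T').isOpenMap.comp h).comp (Points.schemeHomeo T).symm.isOpenMap

/-- A pullback square of schemes whose base is the underlying morphism of a morphism over `S`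
lifts to a pullback square in `Over S`. -/
theorem isPullback_over {U V : Over S} (snd : V ⟶ U) {X' Y' : Scheme.{u}}
    (i₁ : X' ⟶ V.left) (i₂ : Y' ⟶ U.left) (f' : X' ⟶ Y') (sq : IsPullback f' i₁ i₂ snd.left)
    (hw : f' ≫ i₂ ≫ U.hom = i₁ ≫ V.hom) :
    IsPullback (Over.homMk f' hw : Over.mk (i₁ ≫ V.hom) ⟶ Over.mk (i₂ ≫ U.hom))
      (Over.homMk i₁ rfl : Over.mk (i₁ ≫ V.hom) ⟶ V)
      (Over.homMk i₂ rfl : Over.mk (i₂ ≫ U.hom) ⟶ U) snd :=
  IsPullback.of_map_of_faithful (Over.forget S) sq

theorem over_w {U V : Over S} (snd : V ⟶ U) {X' Y' : Scheme.{u}}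
    (i₁ : X' ⟶ V.left) (i₂ : Y' ⟶ U.left) (f' : X' ⟶ Y') (sq : IsPullback f' i₁ i₂ snd.left) :
    f' ≫ i₂ ≫ U.hom = i₁ ≫ V.hom := by
  rw [← Category.assoc, sq.w, Category.assoc, Over.w snd]

/-- If `h_snd : h_V ⟶ h_U` is a base change of `f`, and all base changes of `f` to algebraic spaces
are open on points, then `snd` is universally open. -/
theorem universallyOpen_of_isUnivOpenMor {F G : AlgSp.Sp S} {f : F ⟶ G}
    (hO : AlgSp.IsUnivOpenMor f) {U V : Over S} (g : (AlgSp.yon S).obj U ⟶ G)
    (fst : (AlgSp.yon S).obj V ⟶ F) (snd : V ⟶ U)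
    (sq : IsPullback fst ((AlgSp.yon S).map snd) f g) : UniversallyOpen snd.left := by
  refine ⟨fun X' Y' i₁ i₂ f' sq' => ?_⟩
  have hw := over_w snd i₁ i₂ f' sq'
  have sqo := (isPullback_over snd i₁ i₂ f' sq' hw).map (AlgSp.yon S)
  have big := sqo.flip.paste_horiz sq
  have hopen := hO (AlgSp.IsAlgSpace.yon_obj (Over.mk (i₂ ≫ U.hom))) _ _ _ big
  exact (isOpenMap_map_yon_map_iff _).1 hopen

/-- A representable universally open morphism is universally open on points. -/
theorem isUnivOpenMor_of_repWith {F G : AlgSp.Sp S} {f : F ⟶ G}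
    (hU : AlgSp.RepWith @UniversallyOpen f) : AlgSp.IsUnivOpenMor f := by
  intro Z Z' _ g fst snd sq
  have hsnd : AlgSp.Representable snd := MorphismProperty.of_isPullback sq hU.1
  apply isOpenMap_map_of_charts
  intro T h
  have hpb := hsnd.isPullback h
  have hψ : UniversallyOpen (hsnd.snd h).left := hU.2 (h ≫ g) _ _ (hpb.paste_horiz sq)
  exact ⟨hsnd.pullback h, hsnd.fst h, hsnd.snd h, hsnd.w h, (hsnd.snd h).left.isOpenMap,
    fun w t hwt => exists_pt_of_isPullback_yon hpb w t hwt⟩

end Groth.Agent.Lib.Helper30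

namespace Groth.Agent.Lib.Helper30

open AlgSp Groth.Agent.Lib.Helper51 Groth.Agent.Lib.Helper52

variable {S : Scheme.{u}}

/-- If `q ≫ p` is universally open and `q` is representable surjective, then `p` is universally
open. -/
theorem isUnivOpenMor_of_comp {F G H : AlgSp.Sp S} (q : F ⟶ G) (p : G ⟶ H)
    (hq : AlgSp.RepWith @Surjective q) (hO : AlgSp.IsUnivOpenMor (q ≫ p)) :
    AlgSp.IsUnivOpenMor p := by
  intro Z Z' hZ g fst snd sq
  have sq1 := IsPullback.of_hasPullback q fst
  have hsurj : Function.Surjective (Points.map (pullback.snd q fst)) :=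
    surjective_map_of_repWith_surjective (MorphismProperty.of_isPullback sq1 hq)
  have hopen : IsOpenMap (Points.map (pullback.snd q fst ≫ snd)) :=
    hO hZ g _ _ (sq1.paste_vert sq)
  intro W hW
  have : Points.map snd '' W =
      Points.map (pullback.snd q fst ≫ snd) '' (Points.map (pullback.snd q fst) ⁻¹' W) := by
    ext z
    constructor
    · rintro ⟨w, hw, rfl⟩
      obtain ⟨y, rfl⟩ := hsurj w
      exact ⟨y, hw, Points.map_comp _ _ _⟩
    · rintro ⟨y, hy, rfl⟩
      exact ⟨_, hy, (Points.map_comp _ _ _).symm⟩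
  rw [this]
  exact hopen _ (hW.preimage (Points.continuous_map _))

end Groth.Agent.Lib.Helper30

namespace Groth.Agent.Lib.Helper30

open AlgSp Groth.Agent.Lib.Helper51 Groth.Agent.Lib.Helper52

variable {S : Scheme.{u}}

/-- `h_U` is a quasi-compact sheaf when `U` is a quasi-compact scheme. -/
theorem isQuasiCompactSp_yon_obj (U : Over S) [CompactSpace ↥U.left] :
    AlgSp.IsQuasiCompactSp ((AlgSp.yon S).obj U) := by
  refine ⟨U, 𝟙 _, ?_, ?_, inferInstance⟩
  · rw [← (AlgSp.yon S).map_id]
    exact (AlgSp.repWith_yon_map_iff _ _).2 (by dsimp; infer_instance)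
  · rw [← (AlgSp.yon S).map_id]
    exact (AlgSp.repWith_yon_map_iff _ _).2 (by dsimp; infer_instance)

/-- If `h_U` is a quasi-compact sheaf then `U` is a quasi-compact scheme. -/
theorem compactSpace_of_isQuasiCompactSp_yon_obj (U : Over S)
    (h : AlgSp.IsQuasiCompactSp ((AlgSp.yon S).obj U)) : CompactSpace ↥U.left := by
  have := compactSpace_points_of_isQuasiCompactSp h
  exact (Points.schemeHomeo U).symm.compactSpace

/-- A representable quasi-compact morphism is quasi-compact in the sense of base change to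
quasi-compact algebraic spaces. -/
theorem isQuasiCompactMor_of_repWith {F G : AlgSp.Sp S} {f : F ⟶ G}
    (hQ : AlgSp.RepWith @QuasiCompact f) : AlgSp.IsQuasiCompactMor f := by
  rintro Z Z' _ ⟨U, c, hce, hcs, hU⟩ g fst snd sq
  have hU' : CompactSpace ↥U.left := hU
  have hsnd : AlgSp.Representable snd := MorphismProperty.of_isPullback sq hQ.1
  have hpb := hsnd.isPullback c
  have hψ : QuasiCompact (hsnd.snd c).left := hQ.2 (c ≫ g) _ _ (hpb.paste_horiz sq)
  refine ⟨hsnd.pullback c, hsnd.fst c, MorphismProperty.of_isPullback hpb.flip hce,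
    MorphismProperty.of_isPullback hpb.flip hcs, ?_⟩
  exact QuasiCompact.compactSpace_of_compactSpace (hsnd.snd c).left

/-- Converse: if all base changes of `f` to quasi-compact algebraic spaces are quasi-compact, then
any represented base change of `f` is a quasi-compact morphism of schemes. -/
theorem quasiCompact_of_isQuasiCompactMor {F G : AlgSp.Sp S} {f : F ⟶ G}
    (hM : AlgSp.IsQuasiCompactMor f) {U V : Over S} (g : (AlgSp.yon S).obj U ⟶ G)
    (fst : (AlgSp.yon S).obj V ⟶ F) (snd : V ⟶ U)
    (sq : IsPullback fst ((AlgSp.yon S).map snd) f g) : QuasiCompact snd.left := by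
  rw [quasiCompact_iff_forall_isAffineOpen]
  intro W hW
  have sq' := isPullback_morphismRestrict snd.left W
  have hw := over_w snd _ _ _ sq'
  have sqo := (isPullback_over snd _ _ _ sq' hw).map (AlgSp.yon S)
  have big := sqo.flip.paste_horiz sq
  have hWc : CompactSpace ↥(Over.mk (W.ι ≫ U.hom)).left := by
    change CompactSpace ↥W
    exact isCompact_iff_compactSpace.1 hW.isCompact
  have hqc := hM (AlgSp.IsAlgSpace.yon_obj (Over.mk (W.ι ≫ U.hom)))
    (isQuasiCompactSp_yon_obj _) _ _ _ big
  have hc := compactSpace_of_isQuasiCompactSp_yon_obj _ hqc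
  exact isCompact_iff_compactSpace.2 hc

end Groth.Agent.Lib.Helper30

namespace Groth.Agent.Lib.Helper30

open AlgSp Groth.Agent.Lib.Helper51 Groth.Agent.Lib.Helper52

variable {S : Scheme.{u}}

/-- Openness of a set of points can be tested on affine schemes. -/
theorem isOpen_points_iff_affine {F : AlgSp.Sp S} {W : Set (Points F)} :
    IsOpen W ↔ ∀ (T : Over S), IsAffine T.left → ∀ (g : (AlgSp.yon S).obj T ⟶ F),
      IsOpen (Points.ofPt g ⁻¹' W) := by
  constructor
  · intro h T _ g
    exact Points.isOpen_iff.1 h T g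
  · intro h
    rw [Points.isOpen_iff]
    intro T g
    rw [isOpen_iff_forall_mem_open]
    intro t ht
    obtain ⟨V, hV, htV, _⟩ := exists_isAffineOpen_mem_and_subset
      (TopologicalSpace.Opens.mem_top t)
    let T' : Over S := Over.mk (V.ι ≫ T.hom)
    let j : T' ⟶ T := Over.homMk V.ι rfl
    have hT' : IsAffine T'.left := hV
    have hopen := h T' hT' ((AlgSp.yon S).map j ≫ g)
    have heq : Points.ofPt ((AlgSp.yon S).map j ≫ g) ⁻¹' W = V.ι ⁻¹' (Points.ofPt g ⁻¹' W) := by
      ext v
      simp only [Set.mem_preimage]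
      rw [ofPt_yon_map_comp]
      rfl
    rw [heq] at hopen
    refine ⟨V.ι '' (V.ι ⁻¹' (Points.ofPt g ⁻¹' W)), ?_, V.ι.isOpenEmbedding.isOpenMap _ hopen, ?_⟩
    · rintro _ ⟨v, hv, rfl⟩
      exact hv
    · exact ⟨⟨t, htV⟩, ht, rfl⟩

/-- Description of the preimage of the image of a set under `snd` in terms of a pullback. -/
theorem preimage_ofPt_image_map {Z' Z P : AlgSp.Sp S} {snd : Z' ⟶ Z} {T : Over S}
    {h : (AlgSp.yon S).obj T ⟶ Z} {a : P ⟶ Z'} {b : P ⟶ (AlgSp.yon S).obj T}
    (sq : IsPullback a b snd h) (W : Set (Points Z')) :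
    Points.ofPt h ⁻¹' (Points.map snd '' W) =
      Points.ofScheme T ⁻¹' (Points.map b '' (Points.map a ⁻¹' W)) := by
  ext t
  constructor
  · rintro ⟨w, hw, hwt⟩
    rw [Points.ofPt_eq_map_ofScheme] at hwt
    obtain ⟨π, hπ1, hπ2⟩ := exists_point_of_isPullback sq w (Points.ofScheme T t) hwt
    exact ⟨π, by rw [Set.mem_preimage, hπ1]; exact hw, hπ2⟩
  · rintro ⟨π, hπ, hπt⟩
    refine ⟨Points.map a π, hπ, ?_⟩
    rw [Points.ofPt_eq_map_ofScheme, ← hπt, ← Points.map_comp, ← Points.map_comp, sq.w]

/-- Openness of `Points.map snd` can be tested after base change to affine schemes. -/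
theorem isOpenMap_map_of_affine {Z' Z : AlgSp.Sp S} (snd : Z' ⟶ Z)
    (H : ∀ (T : Over S), IsAffine T.left → ∀ (h : (AlgSp.yon S).obj T ⟶ Z),
      IsOpenMap (Points.map (pullback.snd snd h))) :
    IsOpenMap (Points.map snd) := by
  intro W hW
  rw [isOpen_points_iff_affine]
  intro T hT h
  rw [preimage_ofPt_image_map (IsPullback.of_hasPullback snd h) W]
  exact (H T hT h _ (hW.preimage (Points.continuous_map _))).preimage
    (Points.continuous_ofPt _)

end Groth.Agent.Lib.Helper30

namespace Groth.Agent.Lib.Helper30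

open AlgSp Groth.Agent.Lib.Helper51 Groth.Agent.Lib.Helper52

variable {S : Scheme.{u}}

/-- Openness of `Points.map snd` can be tested after base change along one etale surjective
chart of the target. -/
theorem isOpenMap_map_of_chart {Z' Z : AlgSp.Sp S} (snd : Z' ⟶ Z) {T : Over S}
    (c : (AlgSp.yon S).obj T ⟶ Z) (hce : AlgSp.RepWith @Etale c)
    (hcs : AlgSp.RepWith @Surjective c)
    (H : IsOpenMap (Points.map (pullback.snd snd c))) : IsOpenMap (Points.map snd) := by
  intro W hW
  rw [← (isQuotientMap_ofPt c hce hcs).isOpen_preimage,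
    preimage_ofPt_image_map (IsPullback.of_hasPullback snd c) W]
  exact (H _ (hW.preimage (Points.continuous_map _))).preimage (Points.continuous_ofPt _)

/-- Universal openness descends along a representable etale surjective base change from a
scheme. -/
theorem isUnivOpenMor_of_etale_cover {X Y : AlgSp.Sp S} (f : X ⟶ Y) (V : Over S)
    (p : (AlgSp.yon S).obj V ⟶ Y) (hp : AlgSp.RepWith @Etale p)
    (hps : AlgSp.RepWith @Surjective p)
    {P : AlgSp.Sp S} (fst : P ⟶ X) (snd : P ⟶ (AlgSp.yon S).obj V)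
    (sq : IsPullback fst snd f p) (h : AlgSp.IsUnivOpenMor snd) : AlgSp.IsUnivOpenMor f := by
  intro Z Z' hZ g fst' snd' sq'
  obtain ⟨T, c₀, hc₀e, hc₀s⟩ := hZ.atlas
  obtain ⟨T', d, e, hpb⟩ : ∃ (T' : Over S) (d : (AlgSp.yon S).obj T' ⟶ (AlgSp.yon S).obj V)
      (e : T' ⟶ T), IsPullback d ((AlgSp.yon S).map e) p (c₀ ≫ g) :=
    ⟨_, _, _, hp.1.isPullback (c₀ ≫ g)⟩
  have hee : AlgSp.RepWith @Etale ((AlgSp.yon S).map e) := MorphismProperty.of_isPullback hpb hp
  have hes : AlgSp.RepWith @Surjective ((AlgSp.yon S).map e) :=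
    MorphismProperty.of_isPullback hpb hps
  obtain ⟨c, hc⟩ : ∃ c : (AlgSp.yon S).obj T' ⟶ Z, c = (AlgSp.yon S).map e ≫ c₀ := ⟨_, rfl⟩
  have hce : AlgSp.RepWith @Etale c := by
    rw [hc]
    exact (AlgSp.RepWith @Etale).comp_mem _ _ hee hc₀e
  have hcs : AlgSp.RepWith @Surjective c := by
    rw [hc]
    exact (AlgSp.RepWith @Surjective).comp_mem _ _ hes hc₀s
  have hcd : c ≫ g = d ≫ p := by
    rw [hc, Category.assoc]
    exact hpb.w.symm
  apply isOpenMap_map_of_chart snd' c hce hcs
  have big := (IsPullback.of_hasPullback snd' c).paste_horiz sq'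
  have hw : (pullback.fst snd' c ≫ fst') ≫ f = (pullback.snd snd' c ≫ d) ≫ p :=
    calc (pullback.fst snd' c ≫ fst') ≫ f = pullback.snd snd' c ≫ (c ≫ g) := big.w
      _ = pullback.snd snd' c ≫ (d ≫ p) := by rw [hcd]
      _ = (pullback.snd snd' c ≫ d) ≫ p := (Category.assoc _ _ _).symm
  have big' : IsPullback (sq.lift _ _ hw ≫ fst) (pullback.snd snd' c) f (d ≫ p) := by
    rw [sq.lift_fst, ← hcd]
    exact big
  have small := IsPullback.of_right big' (sq.lift_snd _ _ hw) sq
  exact h (AlgSp.IsAlgSpace.yon_obj _) d _ _ small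

end Groth.Agent.Lib.Helper30

namespace Groth.Agent.Lib.Helper30

open AlgSp Groth.Agent.Lib.Helper51 Groth.Agent.Lib.Helper52

variable {S : Scheme.{u}}

/-- Closedness of a set of points is tested on all schemes. -/
theorem isClosed_points_iff {F : AlgSp.Sp S} {C : Set (Points F)} :
    IsClosed C ↔ ∀ (T : Over S) (g : (AlgSp.yon S).obj T ⟶ F), IsClosed (Points.ofPt g ⁻¹' C) := by
  rw [← isOpen_compl_iff, Points.isOpen_iff]
  refine forall₂_congr fun T g => ?_
  rw [Set.preimage_compl, isOpen_compl_iff]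

/-- Closedness of a set of points is tested on affine schemes. -/
theorem isClosed_points_iff_affine {F : AlgSp.Sp S} {C : Set (Points F)} :
    IsClosed C ↔ ∀ (T : Over S), IsAffine T.left → ∀ (g : (AlgSp.yon S).obj T ⟶ F),
      IsClosed (Points.ofPt g ⁻¹' C) := by
  rw [← isOpen_compl_iff, isOpen_points_iff_affine]
  refine forall₃_congr fun T _ g => ?_
  rw [Set.preimage_compl, isOpen_compl_iff]

/-- The map on points of `h_φ` is closed iff `φ` is a closed map. -/
theorem isClosedMap_map_yon_map_iff {T T' : Over S} (φ : T ⟶ T') :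
    IsClosedMap (Points.map ((AlgSp.yon S).map φ)) ↔ IsClosedMap φ.left := by
  rw [Points.map_yon_map_eq]
  constructor
  · intro h
    have h2 := ((Points.schemeHomeo T').symm.isClosedMap.comp h).comp
      (Points.schemeHomeo T).isClosedMap
    convert h2 using 1
    funext t
    simp
  · intro h
    exact ((Points.schemeHomeo T').isClosedMap.comp h).comp (Points.schemeHomeo T).symm.isClosedMap

/-- The map on points of `h_φ` is a quotient map iff `φ` is. -/
theorem isQuotientMap_map_yon_map_iff {T T' : Over S} (φ : T ⟶ T') :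
    Topology.IsQuotientMap (Points.map ((AlgSp.yon S).map φ)) ↔ Topology.IsQuotientMap φ.left := by
  rw [Points.map_yon_map_eq]
  constructor
  · intro h
    have h2 := ((Points.schemeHomeo T').symm.isQuotientMap.comp h).comp
      (Points.schemeHomeo T).isQuotientMap
    convert h2 using 1
    funext t
    simp
  · intro h
    exact ((Points.schemeHomeo T').isQuotientMap.comp h).comp
      (Points.schemeHomeo T).symm.isQuotientMap

/-- Closedness of `Points.map snd` can be tested after base change to affine schemes. -/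
theorem isClosedMap_map_of_affine {Z' Z : AlgSp.Sp S} (snd : Z' ⟶ Z)
    (H : ∀ (T : Over S), IsAffine T.left → ∀ (h : (AlgSp.yon S).obj T ⟶ Z),
      IsClosedMap (Points.map (pullback.snd snd h))) :
    IsClosedMap (Points.map snd) := by
  intro C hC
  rw [isClosed_points_iff_affine]
  intro T hT h
  rw [preimage_ofPt_image_map (IsPullback.of_hasPullback snd h) C]
  exact (H T hT h _ (hC.preimage (Points.continuous_map _))).preimage
    (Points.continuous_ofPt _)

/-- Closedness of `Points.map snd` can be tested after base change along one etale surjective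
chart of the target. -/
theorem isClosedMap_map_of_chart {Z' Z : AlgSp.Sp S} (snd : Z' ⟶ Z) {T : Over S}
    (c : (AlgSp.yon S).obj T ⟶ Z) (hce : AlgSp.RepWith @Etale c)
    (hcs : AlgSp.RepWith @Surjective c)
    (H : IsClosedMap (Points.map (pullback.snd snd c))) : IsClosedMap (Points.map snd) := by
  intro C hC
  rw [← (isQuotientMap_ofPt c hce hcs).isClosed_preimage,
    preimage_ofPt_image_map (IsPullback.of_hasPullback snd c) C]
  exact (H _ (hC.preimage (Points.continuous_map _))).preimage (Points.continuous_ofPt _)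

/-- If `h_snd : h_V ⟶ h_U` is a base change of `f`, and all base changes of `f` to algebraic spaces
are closed on points, then `snd` is universally closed. -/
theorem universallyClosed_of_isUnivClosedMor {F G : AlgSp.Sp S} {f : F ⟶ G}
    (hO : AlgSp.IsUnivClosedMor f) {U V : Over S} (g : (AlgSp.yon S).obj U ⟶ G)
    (fst : (AlgSp.yon S).obj V ⟶ F) (snd : V ⟶ U)
    (sq : IsPullback fst ((AlgSp.yon S).map snd) f g) : UniversallyClosed snd.left := by
  refine ⟨fun X' Y' i₁ i₂ f' sq' => ?_⟩
  have hw := over_w snd i₁ i₂ f' sq'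
  have sqo := (isPullback_over snd i₁ i₂ f' sq' hw).map (AlgSp.yon S)
  have big := sqo.flip.paste_horiz sq
  have hcl := hO (AlgSp.IsAlgSpace.yon_obj (Over.mk (i₂ ≫ U.hom))) _ _ _ big
  exact (isClosedMap_map_yon_map_iff _).1 hcl

/-- A representable universally closed morphism is universally closed on points. -/
theorem isUnivClosedMor_of_repWith {F G : AlgSp.Sp S} {f : F ⟶ G}
    (hU : AlgSp.RepWith @UniversallyClosed f) : AlgSp.IsUnivClosedMor f := by
  intro Z Z' _ g fst snd sq
  have hsnd : AlgSp.Representable snd := MorphismProperty.of_isPullback sq hU.1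
  intro C hC
  rw [isClosed_points_iff]
  intro T h
  have hpb := hsnd.isPullback h
  have hψ : UniversallyClosed (hsnd.snd h).left := hU.2 (h ≫ g) _ _ (hpb.paste_horiz sq)
  have : Points.ofPt h ⁻¹' (Points.map snd '' C) =
      (hsnd.snd h).left '' (Points.ofPt (hsnd.fst h) ⁻¹' C) := by
    ext t
    constructor
    · rintro ⟨w, hw, hwt⟩
      obtain ⟨v, hv1, hv2⟩ := exists_pt_of_isPullback_yon hpb w t hwt
      exact ⟨v, by rw [Set.mem_preimage, hv1]; exact hw, hv2⟩
    · rintro ⟨v, hv, rfl⟩
      refine ⟨Points.ofPt (hsnd.fst h) v, hv, ?_⟩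
      rw [Points.map_ofPt, hsnd.w h, ofPt_yon_map_comp]
  rw [this]
  exact (hsnd.snd h).left.isClosedMap _ (hC.preimage (Points.continuous_ofPt _))

/-- Universal closedness descends along a representable etale surjective base change from a
scheme. -/
theorem isUnivClosedMor_of_etale_cover {X Y : AlgSp.Sp S} (f : X ⟶ Y) (V : Over S)
    (p : (AlgSp.yon S).obj V ⟶ Y) (hp : AlgSp.RepWith @Etale p)
    (hps : AlgSp.RepWith @Surjective p)
    {P : AlgSp.Sp S} (fst : P ⟶ X) (snd : P ⟶ (AlgSp.yon S).obj V)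
    (sq : IsPullback fst snd f p) (h : AlgSp.IsUnivClosedMor snd) : AlgSp.IsUnivClosedMor f := by
  intro Z Z' hZ g fst' snd' sq'
  obtain ⟨T, c₀, hc₀e, hc₀s⟩ := hZ.atlas
  obtain ⟨T', d, e, hpb⟩ : ∃ (T' : Over S) (d : (AlgSp.yon S).obj T' ⟶ (AlgSp.yon S).obj V)
      (e : T' ⟶ T), IsPullback d ((AlgSp.yon S).map e) p (c₀ ≫ g) :=
    ⟨_, _, _, hp.1.isPullback (c₀ ≫ g)⟩
  have hee : AlgSp.RepWith @Etale ((AlgSp.yon S).map e) := MorphismProperty.of_isPullback hpb hp
  have hes : AlgSp.RepWith @Surjective ((AlgSp.yon S).map e) :=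
    MorphismProperty.of_isPullback hpb hps
  obtain ⟨c, hc⟩ : ∃ c : (AlgSp.yon S).obj T' ⟶ Z, c = (AlgSp.yon S).map e ≫ c₀ := ⟨_, rfl⟩
  have hce : AlgSp.RepWith @Etale c := by
    rw [hc]
    exact (AlgSp.RepWith @Etale).comp_mem _ _ hee hc₀e
  have hcs : AlgSp.RepWith @Surjective c := by
    rw [hc]
    exact (AlgSp.RepWith @Surjective).comp_mem _ _ hes hc₀s
  have hcd : c ≫ g = d ≫ p := by
    rw [hc, Category.assoc]
    exact hpb.w.symm
  apply isClosedMap_map_of_chart snd' c hce hcs
  have big := (IsPullback.of_hasPullback snd' c).paste_horiz sq'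
  have hw : (pullback.fst snd' c ≫ fst') ≫ f = (pullback.snd snd' c ≫ d) ≫ p :=
    calc (pullback.fst snd' c ≫ fst') ≫ f = pullback.snd snd' c ≫ (c ≫ g) := big.w
      _ = pullback.snd snd' c ≫ (d ≫ p) := by rw [hcd]
      _ = (pullback.snd snd' c ≫ d) ≫ p := (Category.assoc _ _ _).symm
  have big' : IsPullback (sq.lift _ _ hw ≫ fst) (pullback.snd snd' c) f (d ≫ p) := by
    rw [sq.lift_fst, ← hcd]
    exact big
  have small := IsPullback.of_right big' (sq.lift_snd _ _ hw) sq
  exact h (AlgSp.IsAlgSpace.yon_obj _) d _ _ small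

end Groth.Agent.Lib.Helper30

namespace Groth.Agent.Lib.Helper30

open AlgSp Groth.Agent.Lib.Helper51 Groth.Agent.Lib.Helper52

variable {S : Scheme.{u}}

/-- If `h_snd : h_V ⟶ h_U` is a base change of `f`, and all base changes of `f` to algebraic spaces
are quotient maps on points, then every base change of `snd` is a quotient map. -/
theorem universally_isQuotientMap_of_isUnivSubmersiveMor {F G : AlgSp.Sp S} {f : F ⟶ G}
    (hO : AlgSp.IsUnivSubmersiveMor f) {U V : Over S} (g : (AlgSp.yon S).obj U ⟶ G)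
    (fst : (AlgSp.yon S).obj V ⟶ F) (snd : V ⟶ U)
    (sq : IsPullback fst ((AlgSp.yon S).map snd) f g) :
    MorphismProperty.universally
      (AlgebraicGeometry.topologically fun f => Topology.IsQuotientMap f) snd.left := by
  intro X' Y' i₁ i₂ f' sq'
  have hw := over_w snd i₁ i₂ f' sq'
  have sqo := (isPullback_over snd i₁ i₂ f' sq' hw).map (AlgSp.yon S)
  have big := sqo.flip.paste_horiz sq
  have hq := hO (AlgSp.IsAlgSpace.yon_obj (Over.mk (i₂ ≫ U.hom))) _ _ _ big
  exact (isQuotientMap_map_yon_map_iff _).1 hq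

/-- A representable morphism all of whose represented base changes are universally quotient maps
is universally submersive on points. -/
theorem isUnivSubmersiveMor_of_repWith {F G : AlgSp.Sp S} {f : F ⟶ G}
    (hU : AlgSp.RepWith (MorphismProperty.universally
      (AlgebraicGeometry.topologically fun f => Topology.IsQuotientMap f)) f) :
    AlgSp.IsUnivSubmersiveMor f := by
  intro Z Z' _ g fst snd sq
  have hsnd : AlgSp.Representable snd := MorphismProperty.of_isPullback sq hU.1
  have hψ : ∀ (T : Over S) (h : (AlgSp.yon S).obj T ⟶ Z),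
      Topology.IsQuotientMap (hsnd.snd h).left := by
    intro T h
    have h1 := hU.2 (h ≫ g) _ _ ((hsnd.isPullback h).paste_horiz sq)
    exact h1 (𝟙 _) (𝟙 _) _ (IsPullback.id_vert _)
  show Topology.IsQuotientMap (Points.map snd)
  refine ⟨Topology.isCoinducing_iff.2 fun W => ⟨fun hW => ?_, fun hW =>
    hW.preimage (Points.continuous_map snd)⟩, fun z => ?_⟩
  · rw [Points.isOpen_iff]
    intro T h
    rw [← (hψ T h).isOpen_preimage]
    have : (hsnd.snd h).left ⁻¹' (Points.ofPt h ⁻¹' W) =
        Points.ofPt (hsnd.fst h) ⁻¹' (Points.map snd ⁻¹' W) := by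
      ext v
      simp only [Set.mem_preimage]
      rw [Points.map_ofPt, hsnd.w h, ofPt_yon_map_comp]
    rw [this]
    exact hW.preimage (Points.continuous_ofPt _)
  · obtain ⟨T, h, t, rfl⟩ := exists_ofPt_eq z
    obtain ⟨v, rfl⟩ := (hψ T h).surjective t
    refine ⟨Points.ofPt (hsnd.fst h) v, ?_⟩
    rw [Points.map_ofPt, hsnd.w h, ofPt_yon_map_comp]

end Groth.Agent.Lib.Helper30
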