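import Mathlib
import Groth.Prelude.Def_AlgSp4
import Groth.Agent.Lib.Helper30.AlgSpAffDesc2
import Groth.Agent.Lib.Helper30.AlgSpAffTested2
import Groth.Agent.Lib.Helper30.AlgSpAffTested3
import Groth.Agent.Lib.Helper30.AlgSpDesc
import Groth.Agent.Lib.Helper30.AlgSpMor
import Groth.Agent.Lib.Helper51.AlgSpPoints2

/-!
# Descent of closed immersions and immersions along étale covers of sheaves (helper30)
-/

set_option autoImplicit false
set_option linter.style.haveILetI false
set_option maxHeartbeats 800000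
set_option backward.isDefEq.respectTransparency false

universe u

open CategoryTheory CategoryTheory.Limits AlgebraicGeometry Opposite TopologicalSpace

namespace Groth.Agent.Lib.Helper30.AffDesc

open Groth.Agent.Lib.Helper30 Groth.Agent.Lib.Helper8

variable {S : Scheme.{u}}

/-- Closed immersions descend along étale covers of sheaves. -/
theorem repWith_isClosedImmersion_of_etale_cover {F G : AlgSp.Sp S} (f : F ⟶ G)
    (V : Over S) (p : (AlgSp.yon S).obj V ⟶ G) (hp : AlgSp.RepWith @Etale p)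
    (hps : AlgSp.RepWith @Surjective p) {P : AlgSp.Sp S} (fst : P ⟶ F)
    (snd : P ⟶ (AlgSp.yon S).obj V) (sq : IsPullback fst snd f p)
    (h : AlgSp.RepWith @IsClosedImmersion snd) : AlgSp.RepWith @IsClosedImmersion f := by
  have hsnd : AffTested @IsClosedImmersion snd :=
    affTested_of_repWith @IsClosedImmersion (fun i hi => by
      have : IsClosedImmersion i := hi
      infer_instance) h
  exact repWith_of_affTested @IsClosedImmersion
    (affTested_of_etale_cover @IsClosedImmersion f V p hp hps fst snd sq hsnd)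

/-- Invariance of the image of `W' ⟶ VT` under the equivalence relation of `VT ⟶ T`. -/
theorem mem_range_of_mem_range {T VT W' R : Over S} (q : VT ⟶ T) (i' : W' ⟶ VT)
    {Z : AlgSp.Sp S} (π : Z ⟶ (AlgSp.yon S).obj T) (l : (AlgSp.yon S).obj W' ⟶ Z)
    (sq : IsPullback l ((AlgSp.yon S).map i') π ((AlgSp.yon S).map q)) (s t : R ⟶ VT)
    (hst : s ≫ q = t ≫ q) (r : R.left) (hr : s.left r ∈ Set.range i'.left) :
    t.left r ∈ Set.range i'.left := by
  obtain ⟨w, hw⟩ := hr
  obtain ⟨Ws, ρ, pw, sqWs, sqWsL⟩ := isPullback_over' s i'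
  obtain ⟨x, hx, -⟩ := Scheme.exists_preimage_of_isPullback sqWsL r w hw.symm
  have comm : ((AlgSp.yon S).map pw ≫ l) ≫ π =
      (AlgSp.yon S).map (ρ ≫ t) ≫ (AlgSp.yon S).map q := by
    rw [Category.assoc, sq.w, ← Category.assoc, ← Functor.map_comp, ← Functor.map_comp,
      ← Functor.map_comp, ← sqWs.w, Category.assoc, Category.assoc, hst]
  let θ : Ws ⟶ W' := (AlgSp.yon S).preimage (sq.lift _ _ comm)
  have hθ : θ ≫ i' = ρ ≫ t := by
    apply (AlgSp.yon S).map_injective
    rw [Functor.map_comp, (AlgSp.yon S).map_preimage, sq.lift_snd]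
  refine ⟨θ.left x, ?_⟩
  have h1 : (θ ≫ i').left x = (ρ ≫ t).left x := by rw [hθ]
  rw [Over.comp_left, Over.comp_left, Scheme.Hom.comp_apply, Scheme.Hom.comp_apply, hx] at h1
  exact h1

/-- **Descent of immersions over a sheaf along an étale cover of schemes.** -/
theorem exists_immersion_of_isPullback {T VT W' : Over S} (q : VT ⟶ T) [Etale q.left]
    [Surjective q.left] (i' : W' ⟶ VT) [IsImmersion i'.left] {Z : AlgSp.Sp S}
    (π : Z ⟶ (AlgSp.yon S).obj T) (l : (AlgSp.yon S).obj W' ⟶ Z)
    (sq : IsPullback l ((AlgSp.yon S).map i') π ((AlgSp.yon S).map q)) :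
    ∃ (W : Over S) (w : W ⟶ T) (e : (AlgSp.yon S).obj W ≅ Z),
      e.hom ≫ π = (AlgSp.yon S).map w ∧ IsImmersion w.left := by
  -- the equivalence relation
  obtain ⟨R, s, t, sqR, sqRL⟩ := isPullback_over' q q
  haveI : Etale t.left := MorphismProperty.of_isPullback (P := @Etale) sqRL inferInstance
  haveI : Etale s.left := MorphismProperty.of_isPullback (P := @Etale) sqRL.flip inferInstance
  let A : Set VT.left := Set.range i'.left
  have hinv : s.left ⁻¹' A = t.left ⁻¹' A := by
    ext r
    exact ⟨fun hr => mem_range_of_mem_range q i' π l sq s t sqR.w r hr,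
      fun hr => mem_range_of_mem_range q i' π l sq t s sqR.w.symm r hr⟩
  have hcob : s.left ⁻¹' coborder A = t.left ⁻¹' coborder A := by
    rw [← coborder_preimage s.left.isOpenMap s.left.continuous,
      ← coborder_preimage t.left.isOpenMap t.left.continuous, hinv]
  have hAo : IsOpen (coborder A) := (i'.left.isLocallyClosed_range).isOpen_coborder
  let T' : T.left.Opens := ⟨q.left '' coborder A, q.left.isOpenMap _ hAo⟩
  have hpre : ((q.left ⁻¹ᵁ T' : VT.left.Opens) : Set VT.left) = coborder A := by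
    ext v
    constructor
    · rintro ⟨v', hv', hvv'⟩
      obtain ⟨r, hr1, hr2⟩ := Scheme.exists_preimage_of_isPullback sqRL v v' hvv'.symm
      have : r ∈ t.left ⁻¹' coborder A := by
        change t.left r ∈ coborder A
        rw [hr2]
        exact hv'
      rw [← hcob] at this
      change s.left r ∈ coborder A at this
      rwa [hr1] at this
    · intro hv
      exact ⟨v, hv, rfl⟩
  -- the objects over `S`
  let T'O : Over S := Over.mk (T'.ι ≫ T.hom)
  let ιT' : T'O ⟶ T := Over.homMk T'.ι rfl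
  let V'O : Over S := Over.mk ((q.left ⁻¹ᵁ T').ι ≫ VT.hom)
  let ιV' : V'O ⟶ VT := Over.homMk (q.left ⁻¹ᵁ T').ι rfl
  have sqS := isPullback_morphismRestrict q.left T'
  have hw' := over_w q (q.left ⁻¹ᵁ T').ι T'.ι (q.left ∣_ T') sqS
  let q' : V'O ⟶ T'O := Over.homMk (q.left ∣_ T') hw'
  have sqO : IsPullback q' ιV' ιT' q := isPullback_over q _ _ _ sqS hw'
  haveI : Etale q'.left := MorphismProperty.of_isPullback (P := @Etale) sqS.flip inferInstance
  haveI : Surjective q'.left :=
    MorphismProperty.of_isPullback (P := @Surjective) sqS.flip inferInstance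
  -- `W'` lands in `V'`
  have hrange : Set.range i'.left ⊆ Set.range (q.left ⁻¹ᵁ T').ι := by
    rw [Scheme.Opens.range_ι, hpre]
    exact subset_coborder
  let i''₀ : W'.left ⟶ (q.left ⁻¹ᵁ T').toScheme := IsOpenImmersion.lift (q.left ⁻¹ᵁ T').ι i'.left hrange
  have hi''₀ : i''₀ ≫ (q.left ⁻¹ᵁ T').ι = i'.left := IsOpenImmersion.lift_fac _ _ _
  let i'' : W' ⟶ V'O := Over.homMk i''₀ (by
    change i''₀ ≫ (q.left ⁻¹ᵁ T').ι ≫ VT.hom = W'.hom
    rw [← Category.assoc, hi''₀, Over.w])
  have hi'' : i'' ≫ ιV' = i' := by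
    apply Over.OverMorphism.ext
    exact hi''₀
  haveI : IsImmersion (i''₀ ≫ (q.left ⁻¹ᵁ T').ι) := by rw [hi''₀]; infer_instance
  haveI : IsImmersion i''₀ := IsImmersion.of_comp i''₀ (q.left ⁻¹ᵁ T').ι
  have hclosed : IsClosed (Set.range i''₀) := by
    have : Set.range i''₀ = (q.left ⁻¹ᵁ T').ι ⁻¹' closure A := by
      ext x
      constructor
      · rintro ⟨w, rfl⟩
        apply subset_closure
        refine ⟨w, ?_⟩
        rw [← hi''₀, Scheme.Hom.comp_apply]
      · intro hx
        have hx2 : (q.left ⁻¹ᵁ T').ι x ∈ coborder A := by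
          rw [← hpre]
          exact x.2
        have hx3 : (q.left ⁻¹ᵁ T').ι x ∈ A := by
          rw [← coborder_inter_closure (s := A)]
          exact ⟨hx2, hx⟩
        obtain ⟨w, hw⟩ := hx3
        refine ⟨w, ?_⟩
        apply (q.left ⁻¹ᵁ T').ι.isOpenEmbedding.injective
        rw [← Scheme.Hom.comp_apply, hi''₀]
        exact hw
    rw [this]
    exact isClosed_closure.preimage (q.left ⁻¹ᵁ T').ι.continuous
  haveI : IsClosedImmersion i''.left := IsClosedImmersion.of_isPreimmersion i''₀ hclosed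
  -- factor `π` through `h_{T'}`
  haveI : Epi ((AlgSp.yon S).map q) :=
    epi_of_repWith_etale_surjective _ ((AlgSp.repWith_yon_map_iff @Etale q).2 inferInstance)
      ((AlgSp.repWith_yon_map_iff @Surjective q).2 inferInstance)
  haveI : Epi l := epi_of_isPullback_of_epi (AlgSp.J S) sq
  haveI : Mono ((AlgSp.yon S).map ιT') :=
    Groth.Agent.Lib.Helper51.mono_of_repWith (P := @IsOpenImmersion)
      (fun g (_ : IsOpenImmersion g) => inferInstance)
      ((AlgSp.repWith_yon_map_iff @IsOpenImmersion ιT').2 (inferInstanceAs (IsOpenImmersion T'.ι)))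
  have hlw : l ≫ π = (AlgSp.yon S).map (i'' ≫ q') ≫ (AlgSp.yon S).map ιT' := by
    rw [sq.w, ← Functor.map_comp, ← Functor.map_comp, Category.assoc, sqO.w, ← Category.assoc, hi'']
  let l' : (AlgSp.yon S).obj W' ⟶ pullback π ((AlgSp.yon S).map ιT') :=
    pullback.lift l ((AlgSp.yon S).map (i'' ≫ q')) hlw
  have hl' : l' ≫ pullback.fst π ((AlgSp.yon S).map ιT') = l := pullback.lift_fst _ _ _
  haveI : Epi (l' ≫ pullback.fst π ((AlgSp.yon S).map ιT')) := by rw [hl']; infer_instance
  haveI : Epi (pullback.fst π ((AlgSp.yon S).map ιT')) := epi_of_epi l' _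
  haveI : IsIso (pullback.fst π ((AlgSp.yon S).map ιT')) := isIso_of_mono_of_epi _
  let π' : Z ⟶ (AlgSp.yon S).obj T'O :=
    inv (pullback.fst π ((AlgSp.yon S).map ιT')) ≫ pullback.snd π ((AlgSp.yon S).map ιT')
  have hπ' : π' ≫ (AlgSp.yon S).map ιT' = π := by
    rw [Category.assoc, ← pullback.condition, IsIso.inv_hom_id_assoc]
  have hlπ' : l ≫ π' = (AlgSp.yon S).map i'' ≫ (AlgSp.yon S).map q' := by
    rw [← cancel_mono ((AlgSp.yon S).map ιT'), Category.assoc, hπ', hlw, Functor.map_comp]
  have sqf : IsPullback l ((AlgSp.yon S).map i'') π' ((AlgSp.yon S).map q') := by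
    refine IsPullback.of_bot ?_ hlπ' ((sqO.map (AlgSp.yon S)))
    rw [hπ', ← Functor.map_comp, hi'']
    exact sq
  have hcl : AlgSp.RepWith @IsClosedImmersion π' :=
    repWith_isClosedImmersion_of_etale_cover π' V'O ((AlgSp.yon S).map q')
      ((AlgSp.repWith_yon_map_iff @Etale q').2 inferInstance)
      ((AlgSp.repWith_yon_map_iff @Surjective q').2 inferInstance) l ((AlgSp.yon S).map i'') sqf
      ((AlgSp.repWith_yon_map_iff @IsClosedImmersion i'').2 inferInstance)
  obtain ⟨W, w, e, he, hw⟩ := exists_iso_yon_of_repWith @IsClosedImmersion hcl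
  haveI : IsClosedImmersion w.left := hw
  refine ⟨W, w ≫ ιT', e, ?_, ?_⟩
  · rw [Functor.map_comp, ← he, Category.assoc, hπ']
  · change IsImmersion (w.left ≫ T'.ι)
    infer_instance

/-- A morphism all of whose base changes to schemes are represented with `Q` is `RepWith Q`. -/
theorem repWith_of_forall_exists (Q : MorphismProperty Scheme.{u}) [Q.RespectsIso]
    {F G : AlgSp.Sp S} {f : F ⟶ G}
    (H : ∀ (T : Over S) (g : (AlgSp.yon S).obj T ⟶ G), ∃ (W : Over S) (w : W ⟶ T)
      (fstW : (AlgSp.yon S).obj W ⟶ F), IsPullback fstW ((AlgSp.yon S).map w) f g ∧ Q w.left) :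
    AlgSp.RepWith Q f := by
  refine ⟨fun T g => ?_, ?_⟩
  · obtain ⟨W, w, fstW, sqW, -⟩ := H T g
    exact ⟨W, w, fstW, sqW⟩
  · intro T V g fstV v sqV
    obtain ⟨W, w, fstW, sqW, hw⟩ := H T g
    let e' := sqV.isoIsPullback _ _ sqW
    have he' : e'.hom ≫ (AlgSp.yon S).map w = (AlgSp.yon S).map v :=
      IsPullback.isoIsPullback_hom_snd _ _ sqV sqW
    let e : V ≅ W := (AlgSp.yon S).preimageIso e'
    have he : e.hom ≫ w = v := by
      apply (AlgSp.yon S).map_injective
      rw [Functor.map_comp, ← he']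
      congr 1
      exact (AlgSp.yon S).map_preimage _
    change Q v.left
    rw [← he]
    change Q (((Over.forget S).mapIso e).hom ≫ w.left)
    rw [Q.cancel_left_of_respectsIso]
    exact hw

/-- **Immersions descend along étale covers of sheaves.** -/
theorem repWith_isImmersion_of_etale_cover {F G : AlgSp.Sp S} (f : F ⟶ G)
    (V : Over S) (p : (AlgSp.yon S).obj V ⟶ G) (hp : AlgSp.RepWith @Etale p)
    (hps : AlgSp.RepWith @Surjective p) {P : AlgSp.Sp S} (fst : P ⟶ F)
    (snd : P ⟶ (AlgSp.yon S).obj V) (sq : IsPullback fst snd f p)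
    (h : AlgSp.RepWith @IsImmersion snd) : AlgSp.RepWith @IsImmersion f := by
  refine repWith_of_forall_exists @IsImmersion ?_
  intro T g
  haveI : Etale (hp.rep.snd g).left := hp.property_snd g
  haveI : Surjective (hp.rep.snd g).left :=
    hps.property g _ _ (hp.rep.isPullback g)
  haveI : IsImmersion (h.rep.snd (hp.rep.fst g)).left := h.property_snd (hp.rep.fst g)
  have sqbig : IsPullback (h.rep.fst (hp.rep.fst g) ≫ fst)
      ((AlgSp.yon S).map (h.rep.snd (hp.rep.fst g))) f
      ((AlgSp.yon S).map (hp.rep.snd g) ≫ g) := by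
    rw [← (hp.rep.isPullback g).w]
    exact (h.rep.isPullback (hp.rep.fst g)).paste_horiz sq
  have w0 : (h.rep.fst (hp.rep.fst g) ≫ fst) ≫ f =
      ((AlgSp.yon S).map (h.rep.snd (hp.rep.fst g)) ≫ (AlgSp.yon S).map (hp.rep.snd g)) ≫ g := by
    rw [sqbig.w, Category.assoc]
  let l : (AlgSp.yon S).obj (h.rep.pullback (hp.rep.fst g)) ⟶ pullback f g :=
    pullback.lift _ _ w0
  have hl1 : l ≫ pullback.fst f g = h.rep.fst (hp.rep.fst g) ≫ fst := pullback.lift_fst _ _ _
  have hl2 : l ≫ pullback.snd f g =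
      (AlgSp.yon S).map (h.rep.snd (hp.rep.fst g)) ≫ (AlgSp.yon S).map (hp.rep.snd g) :=
    pullback.lift_snd _ _ _
  have sqZ : IsPullback l ((AlgSp.yon S).map (h.rep.snd (hp.rep.fst g))) (pullback.snd f g)
      ((AlgSp.yon S).map (hp.rep.snd g)) := by
    refine IsPullback.of_right ?_ hl2 (IsPullback.of_hasPullback f g)
    rw [hl1]
    exact sqbig
  obtain ⟨W, w, e, he, hw⟩ := exists_immersion_of_isPullback (hp.rep.snd g)
    (h.rep.snd (hp.rep.fst g)) (pullback.snd f g) l sqZ
  refine ⟨W, w, e.hom ≫ pullback.fst f g, ?_, hw⟩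
  refine IsPullback.of_iso (IsPullback.of_hasPullback f g) e.symm (Iso.refl _) (Iso.refl _)
    (Iso.refl _) ?_ ?_ ?_ ?_
  · simp
  · simp [← he]
  · simp
  · simp

/-- Open immersions descend along étale covers of sheaves. -/
theorem repWith_isOpenImmersion_of_etale_cover {F G : AlgSp.Sp S} (f : F ⟶ G)
    (V : Over S) (p : (AlgSp.yon S).obj V ⟶ G) (hp : AlgSp.RepWith @Etale p)
    (hps : AlgSp.RepWith @Surjective p) {P : AlgSp.Sp S} (fst : P ⟶ F)
    (snd : P ⟶ (AlgSp.yon S).obj V) (sq : IsPullback fst snd f p)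
    (h : AlgSp.RepWith @IsOpenImmersion snd) : AlgSp.RepWith @IsOpenImmersion f := by
  have h1 : AlgSp.RepWith @IsImmersion snd :=
    MorphismProperty.relative_monotone (fun A B k hk => by
      have : IsOpenImmersion k.left := hk
      change IsImmersion k.left
      infer_instance) _ h
  have h2 := repWith_isImmersion_of_etale_cover f V p hp hps fst snd sq h1
  exact repWith_of_etale_cover @IsOpenImmersion sq h2.rep hp hps h

end Groth.Agent.Lib.Helper30.AffDesc
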