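import Mathlib
import Groth.Prelude.Def_AlgSp4
import Groth.Agent.Lib.Helper30.AlgSpImmDesc
import Groth.Agent.Lib.Helper30.AlgSpIsoDesc
import Groth.Agent.Lib.Helper80.Boot2

/-!
# Invariant immersions descend to subspaces (helper30)
-/

set_option autoImplicit false
set_option linter.style.haveILetI false
set_option maxHeartbeats 800000
set_option backward.isDefEq.respectTransparency false

universe u

open CategoryTheory CategoryTheory.Limits AlgebraicGeometry Opposite

namespace Groth.Agent.Lib.Helper30.AffDesc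

open Groth.Agent.Lib.Helper30

variable {S : Scheme.{u}}

/-- The source of a representable morphism to an algebraic space is an algebraic space. -/
theorem isAlgSpace_of_representable {F G : AlgSp.Sp S} (f : F ⟶ G) (hf : AlgSp.Representable f)
    (hG : AlgSp.IsAlgSpace G) : AlgSp.IsAlgSpace F :=
  Groth.Agent.Lib.Helper80.isAlgSpace_of_fibres f
    (fun U ξ => (AlgSp.IsAlgSpace.yon_obj _).of_iso ((hf.isPullback ξ).isoPullback)) hG

/-- Kernel pair of `ι ≫ p` for a monomorphism `ι`. -/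
theorem isKernelPair_of_mono_comp {A B C D : AlgSp.Sp S} (ι : B ⟶ C) [Mono ι] (p : C ⟶ D)
    (a b : A ⟶ B) (H : IsPullback (a ≫ ι) b p (ι ≫ p)) : IsKernelPair (ι ≫ p) a b := by
  have hw : a ≫ ι ≫ p = b ≫ ι ≫ p := by
    have := H.w
    rw [Category.assoc] at this
    exact this
  refine ⟨⟨hw⟩, ⟨PullbackCone.IsLimit.mk _ (fun c => H.lift (c.fst ≫ ι) c.snd (by
    rw [Category.assoc]; exact c.condition)) ?_ ?_ ?_⟩⟩
  · intro c
    rw [← cancel_mono ι, Category.assoc, H.lift_fst]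
  · intro c
    exact H.lift_snd _ _ _
  · intro c m h1 h2
    apply H.hom_ext
    · rw [H.lift_fst, ← Category.assoc, h1]
    · rw [H.lift_snd, h2]

theorem exists_subspace_of_invariant {X : AlgSp.Sp S} {R U : Over S}
    (s t : R ⟶ U) (p : (AlgSp.yon S).obj U ⟶ X) (hp : AlgSp.IsPresentation s t p)
    {Z' R' : Scheme.{u}} (i' : Z' ⟶ U.left) [IsImmersion i'] (k : R' ⟶ R.left) (s' t' : R' ⟶ Z')
    (hs : IsPullback k s' s.left i') (ht : IsPullback k t' t.left i') :
    ∃ (Z : AlgSp.Sp S) (i : Z ⟶ X) (q : (AlgSp.yon S).obj (Over.mk (i' ≫ U.hom)) ⟶ Z),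
      Mono i ∧
      IsPullback q ((AlgSp.yon S).map (Over.homMk i' rfl : Over.mk (i' ≫ U.hom) ⟶ U)) i p := by
  let Z'O : Over S := Over.mk (i' ≫ U.hom)
  let ι : Z'O ⟶ U := Over.homMk i' rfl
  let R'O : Over S := Over.mk (k ≫ R.hom)
  let kO : R'O ⟶ R := Over.homMk k rfl
  have hws := over_w s k i' s' hs.flip
  have hwt := over_w t k i' t' ht.flip
  let s'O : R'O ⟶ Z'O := Over.homMk s' hws
  let t'O : R'O ⟶ Z'O := Over.homMk t' hwt
  have sqs : IsPullback s'O kO ι s := isPullback_over s k i' s' hs.flip hws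
  have sqt : IsPullback t'O kO ι t := isPullback_over t k i' t' ht.flip hwt
  haveI : Mono ((AlgSp.yon S).map ι) :=
    Groth.Agent.Lib.Helper51.mono_of_repWith_isImmersion
      ((AlgSp.repWith_yon_map_iff @IsImmersion ι).2 (inferInstanceAs (IsImmersion i')))
  let φ : (AlgSp.yon S).obj Z'O ⟶ X := (AlgSp.yon S).map ι ≫ p
  -- `R' = U ×_X Z'`
  have H : IsPullback ((AlgSp.yon S).map t'O ≫ (AlgSp.yon S).map ι) ((AlgSp.yon S).map s'O) p φ := by
    have h1 := (sqs.map (AlgSp.yon S)).paste_vert hp.isPullback.flip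
    rw [← Functor.map_comp, ← sqt.w, Functor.map_comp] at h1
    exact h1.flip
  have kpφ : IsKernelPair φ ((AlgSp.yon S).map t'O) ((AlgSp.yon S).map s'O) :=
    isKernelPair_of_mono_comp _ p _ _ H
  let q : (AlgSp.yon S).obj Z'O ⟶ Sheaf.image φ := Sheaf.toImage φ
  let iZ : Sheaf.image φ ⟶ X := Sheaf.imageι φ
  have hq : q ≫ iZ = φ := Sheaf.toImage_ι φ
  have kpq : IsKernelPair q ((AlgSp.yon S).map t'O) ((AlgSp.yon S).map s'O) := by
    have : IsKernelPair (q ≫ iZ) ((AlgSp.yon S).map t'O) ((AlgSp.yon S).map s'O) := by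
      rw [hq]; exact kpφ
    exact this.cancel_right_of_mono
  refine ⟨Sheaf.image φ, iZ, q, inferInstance, ?_⟩
  have hcomm : q ≫ iZ = (AlgSp.yon S).map ι ≫ p := hq
  let lam : (AlgSp.yon S).obj Z'O ⟶ pullback iZ p := pullback.lift q ((AlgSp.yon S).map ι) hcomm
  have hl1 : lam ≫ pullback.fst iZ p = q := pullback.lift_fst _ _ _
  have hl2 : lam ≫ pullback.snd iZ p = (AlgSp.yon S).map ι := pullback.lift_snd _ _ _
  have sq₂ : IsPullback ((AlgSp.yon S).map t'O ≫ lam) ((AlgSp.yon S).map s'O)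
      (pullback.fst iZ p) q := by
    refine IsPullback.of_right ?_ ?_ (IsPullback.of_hasPullback iZ p).flip
    · rw [Category.assoc, hl2, hq]
      exact H
    · rw [Category.assoc, hl1]
      exact kpq.w
  haveI : IsIso lam := isIso_of_isPullback_of_epi q (pullback.fst iZ p) lam hl1 q
    ((AlgSp.yon S).map t'O) ((AlgSp.yon S).map s'O) kpq sq₂
  exact IsPullback.of_iso_pullback ⟨hcomm⟩ (asIso lam) hl1 hl2

end Groth.Agent.Lib.Helper30.AffDesc
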