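import Groth.Agent.Lib.Helper30.AlgSpCoprod
import Groth.Agent.Lib.Helper30.AlgSpImmDesc
import Groth.Agent.Lib.Helper30.AlgSpInvImm

/-!
# Coproducts of fppf sheaves, II (helper30)

* `repWith_openClosed_inj`: coprojections of a coproduct of sheaves are representable by open and
  closed immersions;
* `isAlgSpace_summand`: summands of an algebraic space are algebraic spaces;
* `binaryCofan`: reindexing a binary cofan by `ULift WalkingPair`.
-/

set_option autoImplicit false
set_option maxHeartbeats 800000
set_option backward.isDefEq.respectTransparency false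
set_option linter.style.haveILetI false
universe u
open CategoryTheory CategoryTheory.Limits AlgebraicGeometry Opposite

namespace Groth.Agent.Lib.Helper30.Coprod

variable {S : Scheme.{u}} {ι : Type u} {F : ι → AlgSp.Sp S}

/-- An open immersion with closed range is a closed immersion. -/
theorem isClosedImmersion_opens_ι {X : Scheme.{u}} (W : X.Opens) (hW : IsClosed (W : Set ↥X)) :
    IsClosedImmersion W.ι := by
  apply IsClosedImmersion.of_isPreimmersion
  rw [Scheme.Opens.range_ι]
  exact hW

/-- Coprojections of a coproduct of sheaves are representable by open and closed immersions. -/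
theorem repWith_openClosed_inj (c : Cofan F) (hc : IsColimit c) (i : ι) :
    AlgSp.RepWith (@IsOpenImmersion ⊓ @IsClosedImmersion) (c.inj i) := by
  apply Groth.Agent.Lib.Helper30.AffDesc.repWith_of_forall_exists
  intro T g
  obtain ⟨W, hcl, -, -, H⟩ := exists_decomposition c hc g
  obtain ⟨x, sq⟩ := H i
  exact ⟨_, _, x, sq, inferInstanceAs (IsOpenImmersion (W i).ι),
    isClosedImmersion_opens_ι (W i) (hcl i)⟩

/-- Summands of an algebraic space are algebraic spaces. -/
theorem isAlgSpace_summand (c : Cofan F) (hc : IsColimit c) (h : AlgSp.IsAlgSpace c.pt) (i : ι) :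
    AlgSp.IsAlgSpace (F i) :=
  Groth.Agent.Lib.Helper30.AffDesc.isAlgSpace_of_representable (c.inj i)
    (repWith_openClosed_inj c hc i).rep h

section Binary

variable {A B : AlgSp.Sp S}

/-- The family indexed by `ULift WalkingPair` attached to a pair. -/
def pairFam (A B : AlgSp.Sp S) : ULift.{u} WalkingPair → AlgSp.Sp S :=
  fun j => WalkingPair.casesOn j.down A B

/-- Reindexing a binary cofan. -/
def binaryCofan (c : BinaryCofan A B) : Cofan (pairFam A B) :=
  Cofan.mk c.pt (fun j => match j with
    | ⟨WalkingPair.left⟩ => c.inl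
    | ⟨WalkingPair.right⟩ => c.inr)

/-- The reindexed binary cofan is a colimit. -/
def binaryCofanIsColimit (c : BinaryCofan A B) (hc : IsColimit c) :
    IsColimit (binaryCofan c) :=
  Cofan.IsColimit.mk _
    (fun t => hc.desc (BinaryCofan.mk (t.inj ⟨WalkingPair.left⟩) (t.inj ⟨WalkingPair.right⟩)))
    (fun t j => by
      match j with
      | ⟨WalkingPair.left⟩ => exact hc.fac _ ⟨WalkingPair.left⟩
      | ⟨WalkingPair.right⟩ => exact hc.fac _ ⟨WalkingPair.right⟩)
    (fun t m hm => by
      apply BinaryCofan.IsColimit.hom_ext hc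
      · rw [hc.fac _ ⟨WalkingPair.left⟩]
        exact hm ⟨WalkingPair.left⟩
      · rw [hc.fac _ ⟨WalkingPair.right⟩]
        exact hm ⟨WalkingPair.right⟩)

theorem binaryCofan_inj_left (c : BinaryCofan A B) :
    (binaryCofan c).inj ⟨WalkingPair.left⟩ = c.inl := rfl

theorem binaryCofan_inj_right (c : BinaryCofan A B) :
    (binaryCofan c).inj ⟨WalkingPair.right⟩ = c.inr := rfl

end Binary

end Groth.Agent.Lib.Helper30.Coprod
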