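import Groth.Agent.Lib.Helper30.AlgSpCoprod2

/-!
# Coproducts of fppf sheaves, III (helper30)

* `isColimit_of_char`: a cofan of sheaves whose coprojections are monomorphisms, pairwise disjoint
  and jointly locally surjective is a colimit cofan;
* `isPullback_of_cofan_map`: a morphism of coproducts has cartesian squares;
* `yonCofan`: `h_{∐ U_i}` is the coproduct of the `h_{U_i}`.
-/

set_option autoImplicit false
set_option maxHeartbeats 800000
set_option backward.isDefEq.respectTransparency false
set_option linter.style.haveILetI false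
universe u
open CategoryTheory CategoryTheory.Limits AlgebraicGeometry Opposite

namespace Groth.Agent.Lib.Helper30.Coprod

variable {S : Scheme.{u}} {ι : Type u} {F : ι → AlgSp.Sp S}

/-- **Characterization of coproducts of sheaves.** -/
theorem isColimit_of_char (c : Cofan F)
    (h1 : ∀ (T : Over S) (x : (AlgSp.yon S).obj T ⟶ c.pt), ∃ R ∈ AlgSp.J S T,
      ∀ ⦃V : Over S⦄ (f : V ⟶ T), R f → ∃ (i : ι) (a : (AlgSp.yon S).obj V ⟶ F i),
        a ≫ c.inj i = (AlgSp.yon S).map f ≫ x)
    (h2 : ∀ i, Mono (c.inj i))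
    (h3 : ∀ i j, i ≠ j → ∀ (T : Over S) (a : (AlgSp.yon S).obj T ⟶ F i)
      (b : (AlgSp.yon S).obj T ⟶ F j), a ≫ c.inj i = b ≫ c.inj j → IsEmpty ↥T.left) :
    Nonempty (IsColimit c) := by
  let φ : sigmaPsh F ⟶ c.pt.obj := sigmaDesc F (fun i => (c.inj i).hom)
  have hsurj : Presheaf.IsLocallySurjective (AlgSp.J S) φ := by
    constructor
    intro T s
    obtain ⟨R, hR, H⟩ := h1 T ((AlgSp.J S).uliftYonedaEquiv.symm s)
    refine GrothendieckTopology.superset_covering _ ?_ hR
    intro V f hf
    obtain ⟨i, a, ha⟩ := H f hf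
    refine ⟨⟨i, (AlgSp.J S).uliftYonedaEquiv a⟩, ?_⟩
    show (c.inj i).hom.app _ ((AlgSp.J S).uliftYonedaEquiv a) = c.pt.obj.map f.op s
    rw [← GrothendieckTopology.uliftYonedaEquiv_comp, ha,
      ← GrothendieckTopology.uliftYonedaEquiv_naturality, Equiv.apply_symm_apply]
  have hinj : Presheaf.IsLocallyInjective (AlgSp.J S) φ := by
    constructor
    rintro ⟨T⟩ ⟨i, a⟩ ⟨j, b⟩ h
    have h' : (c.inj i).hom.app (op T) a = (c.inj j).hom.app (op T) b := h
    by_cases hij : i = j
    · subst hij
      have := h2 i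
      have hab : a = b := app_injective_of_mono (c.inj i) T h'
      subst hab
      rw [Presheaf.equalizerSieve_self_eq_top]
      exact (AlgSp.J S).top_mem T
    · have hE : IsEmpty ↥T.left := by
        apply h3 i j hij T ((AlgSp.J S).uliftYonedaEquiv.symm a)
          ((AlgSp.J S).uliftYonedaEquiv.symm b)
        apply (AlgSp.J S).uliftYonedaEquiv.injective
        rw [GrothendieckTopology.uliftYonedaEquiv_comp,
          GrothendieckTopology.uliftYonedaEquiv_comp, Equiv.apply_symm_apply,
          Equiv.apply_symm_apply, h']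
      exact GrothendieckTopology.superset_covering _ bot_le (bot_mem_J T)
  have fac : toSheafify (AlgSp.J S) (sigmaPsh F) ≫
      ((cofIsColimit F).desc c).hom = φ := toSheafify_sheafifyLift _ _ _
  have hs : Sheaf.IsLocallySurjective ((cofIsColimit F).desc c) :=
    Presheaf.isLocallySurjective_of_isLocallySurjective_fac (AlgSp.J S) fac
  have hi : Sheaf.IsLocallyInjective ((cofIsColimit F).desc c) :=
    Presheaf.isLocallyInjective_of_isLocallyInjective_of_isLocallySurjective_fac (AlgSp.J S) φ fac
  have hiso : IsIso ((cofIsColimit F).desc c) :=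
    (Sheaf.isLocallyBijective_iff_isIso _).1 ⟨hi, hs⟩
  exact ⟨IsColimit.ofPointIso (cofIsColimit F)⟩

/-- A morphism of coproducts of sheaves has cartesian squares. -/
theorem isPullback_of_cofan_map {F' : ι → AlgSp.Sp S} (c : Cofan F) (hc : IsColimit c)
    (c' : Cofan F') (hc' : IsColimit c') (φ : ∀ i, F' i ⟶ F i) (d : c'.pt ⟶ c.pt)
    (hd : ∀ i, c'.inj i ≫ d = φ i ≫ c.inj i) (i : ι) :
    IsPullback (φ i) (c'.inj i) (c.inj i) d := by
  have hm := mono_inj c hc i
  have hm' := mono_inj c' hc' i
  refine isPullback_of_yon (hd i).symm (fun V p q _ h2 => (cancel_mono (c'.inj i)).1 h2)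
    (fun V a b h => ?_)
  obtain ⟨W, hcl, hdisj, hcov, H⟩ := exists_decomposition c' hc' b
  choose y sq using H
  have hempty : ∀ j, j ≠ i → IsEmpty ↥(W j) := by
    intro j hji
    have hE : IsEmpty ↥(Over.mk ((W j).ι ≫ V.hom)).left := by
      apply isEmpty_of_comp_inj_eq c hc hji (y j ≫ φ j)
        ((AlgSp.yon S).map (Over.homMk (W j).ι rfl : Over.mk ((W j).ι ≫ V.hom) ⟶ V) ≫ a)
      rw [Category.assoc, ← hd j, ← Category.assoc, (sq j).w, Category.assoc, Category.assoc, h]
    exact hE
  have htop : (W i).ι.opensRange = ⊤ := by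
    rw [Scheme.Opens.opensRange_ι, eq_top_iff]
    intro t _
    have ht : t ∈ ⋃ j, (W j : Set ↥V.left) := by rw [hcov]; trivial
    obtain ⟨j, hj⟩ := Set.mem_iUnion.1 ht
    by_cases hji : j = i
    · subst hji; exact hj
    · exact ((hempty j hji).false ⟨t, hj⟩).elim
  have hiso : IsIso (W i).ι := isIso_of_isOpenImmersion_of_opensRange_eq_top _ htop
  let ιO : Over.mk ((W i).ι ≫ V.hom) ⟶ V := Over.homMk (W i).ι rfl
  have hisoO : IsIso ιO := by
    have : IsIso ((Over.forget S).map ιO) := hiso
    exact isIso_of_reflects_iso ιO (Over.forget S)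
  have hp : (inv ((AlgSp.yon S).map ιO) ≫ y i) ≫ c'.inj i = b := by
    rw [Category.assoc, (sq i).w, IsIso.inv_hom_id_assoc]
  refine ⟨inv ((AlgSp.yon S).map ιO) ≫ y i, ?_, hp⟩
  rw [← cancel_mono (c.inj i), Category.assoc, ← hd i, ← Category.assoc, hp, h]

section Yon

variable (U : ι → Over S)

/-- The coproduct of schemes over `S`. -/
noncomputable def sigmaOver : Over S :=
  Over.mk (Sigma.desc (fun i => (U i).hom) : (∐ fun i => (U i).left) ⟶ S)

/-- The coprojections of the coproduct of schemes over `S`. -/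
noncomputable def sigmaOverι (i : ι) : U i ⟶ sigmaOver U :=
  Over.homMk (Sigma.ι (fun i => (U i).left) i) (by simp [sigmaOver])

instance (i : ι) : IsOpenImmersion (sigmaOverι U i).left :=
  inferInstanceAs (IsOpenImmersion (Sigma.ι (fun i => (U i).left) i))

/-- The cofan `h_{U_i} ⟶ h_{∐ U_i}`. -/
noncomputable def yonCofan : Cofan (fun i => (AlgSp.yon S).obj (U i)) :=
  Cofan.mk ((AlgSp.yon S).obj (sigmaOver U)) (fun i => (AlgSp.yon S).map (sigmaOverι U i))

theorem mono_yon_map_of_mono_left {V W : Over S} (f : V ⟶ W) [Mono f.left] :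
    Mono ((AlgSp.yon S).map f) := by
  have hf : Mono f := by
    constructor
    intro Z a b hab
    apply Over.OverMorphism.ext
    have : a.left ≫ f.left = b.left ≫ f.left := congrArg CommaMorphism.left hab
    exact (cancel_mono _).1 this
  infer_instance

/-- `h_{∐ U_i}` is the coproduct of the `h_{U_i}` in sheaves. -/
theorem yonCofan_isColimit : Nonempty (IsColimit (yonCofan U)) := by
  apply isColimit_of_char
  · intro T x
    obtain ⟨x', rfl⟩ := (AlgSp.yon S).map_surjective x
    let 𝒰 : Scheme.OpenCover.{u} T.left :=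
      (sigmaOpenCover (fun i => (U i).left)).pullback₁ x'.left
    refine ⟨_, Groth.Agent.Lib.Helper30.Glue.ofArrows_openCover_mem T 𝒰, ?_⟩
    rintro V f ⟨W₁, k, _, ⟨i⟩, fac⟩
    let sO : Groth.Agent.Lib.Helper30.Glue.coverOver T 𝒰 i ⟶ U i :=
      Over.homMk (pullback.snd x'.left (Sigma.ι (fun i => (U i).left) i)) (by
        show pullback.snd x'.left (Sigma.ι (fun i => (U i).left) i) ≫ (U i).hom =
          pullback.fst x'.left (Sigma.ι (fun i => (U i).left) i) ≫ T.hom
        have h1 : (U i).hom = Sigma.ι (fun i => (U i).left) i ≫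
            Sigma.desc (fun i => (U i).hom) := by simp
        have h2 : T.hom = x'.left ≫ Sigma.desc (fun i => (U i).hom) := (Over.w x').symm
        rw [h1, h2, ← Category.assoc, ← Category.assoc, pullback.condition])
    have hs : sO ≫ sigmaOverι U i = Groth.Agent.Lib.Helper30.Glue.coverι T 𝒰 i ≫ x' := by
      apply Over.OverMorphism.ext
      exact pullback.condition.symm
    refine ⟨i, (AlgSp.yon S).map (k ≫ sO), ?_⟩
    show (AlgSp.yon S).map (k ≫ sO) ≫ (AlgSp.yon S).map (sigmaOverι U i) = _
    rw [← Functor.map_comp, ← Functor.map_comp, Category.assoc, hs, ← Category.assoc, fac]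
  · intro i
    exact mono_yon_map_of_mono_left _
  · intro i j hij T a b h
    obtain ⟨a', rfl⟩ := (AlgSp.yon S).map_surjective a
    obtain ⟨b', rfl⟩ := (AlgSp.yon S).map_surjective b
    have h' : (AlgSp.yon S).map (a' ≫ sigmaOverι U i) =
        (AlgSp.yon S).map (b' ≫ sigmaOverι U j) := by
      rw [Functor.map_comp, Functor.map_comp]
      exact h
    have h2 := (AlgSp.yon S).map_injective h'
    have h3 : a'.left ≫ Sigma.ι (fun i => (U i).left) i =
        b'.left ≫ Sigma.ι (fun i => (U i).left) j := congrArg CommaMorphism.left h2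
    exact isEmpty_of_commSq_sigmaι_of_ne ⟨h3⟩ hij

end Yon

end Groth.Agent.Lib.Helper30.Coprod
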