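import Groth.Agent.Lib.Helper30.AlgSpCoprod3
import Groth.Agent.Lib.Helper30.AlgSpGlue3
import Mathlib.AlgebraicGeometry.Morphisms.Etale
import Mathlib.AlgebraicGeometry.Morphisms.Finite

/-!
# Coproducts of fppf sheaves, IV (helper30)

* `repWith_of_cofan`: a morphism to a coproduct of sheaves is `RepWith Q` as soon as its
  restrictions to the summands are;
* `isAlgSpace_cofan_pt`: a coproduct of algebraic spaces is an algebraic space.
-/

set_option autoImplicit false
set_option maxHeartbeats 800000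
set_option backward.isDefEq.respectTransparency false
set_option linter.style.haveILetI false
universe u
open CategoryTheory CategoryTheory.Limits AlgebraicGeometry Opposite

namespace Groth.Agent.Lib.Helper30.Coprod

variable {S : Scheme.{u}} {ι : Type u} {F : ι → AlgSp.Sp S}

theorem isOpenCover_of_iUnion {X : Scheme.{u}} (W : ι → X.Opens)
    (h : (⋃ i, (W i : Set ↥X)) = Set.univ) : TopologicalSpace.IsOpenCover W := by
  show ⨆ i, W i = ⊤
  rw [eq_top_iff]
  intro t _
  have ht : t ∈ ⋃ i, (W i : Set ↥X) := by rw [h]; trivial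
  obtain ⟨i, hi⟩ := Set.mem_iUnion.1 ht
  exact TopologicalSpace.Opens.mem_iSup.2 ⟨i, hi⟩

/-- A morphism to a coproduct of sheaves is `RepWith Q` as soon as its restrictions to the
summands are (`Q` Zariski local on the target). -/
theorem repWith_of_cofan (Q : MorphismProperty Scheme.{u}) [IsZariskiLocalAtTarget Q]
    (c : Cofan F) (hc : IsColimit c) {G : AlgSp.Sp S} (f : G ⟶ c.pt)
    (Gi : ι → AlgSp.Sp S) (fi : ∀ i, Gi i ⟶ F i) (ki : ∀ i, Gi i ⟶ G)
    (sq : ∀ i, IsPullback (fi i) (ki i) (c.inj i) f)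
    (hfi : ∀ i, AlgSp.RepWith Q (fi i)) : AlgSp.RepWith Q f := by
  have : Q.RespectsIso := inferInstance
  apply Groth.Agent.Lib.Helper30.AffDesc.repWith_of_forall_exists
  intro T g
  obtain ⟨W', -, -, hcov', H'⟩ := exists_decomposition c hc g
  choose x' sq' using H'
  let 𝒰 : Scheme.OpenCover.{u} T.left :=
    Scheme.openCoverOfIsOpenCover T.left W' (isOpenCover_of_iUnion W' hcov')
  apply Groth.Agent.Lib.Helper30.Glue.exists_isPullback_of_openCover_prop Q f g 𝒰
  intro i
  obtain ⟨P, snd, fst, sqP⟩ := (hfi i).rep (x' i)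
  have hQ : Q snd.left := (hfi i).property (x' i) fst snd sqP
  refine ⟨P, snd, fst ≫ ki i, ?_, hQ⟩
  have h1 := sqP.paste_horiz (sq i).flip
  have h2 : x' i ≫ c.inj i = (AlgSp.yon S).map
      (Groth.Agent.Lib.Helper30.Glue.coverι T 𝒰 i) ≫ g := (sq' i).w
  rw [h2] at h1
  exact h1

/-- Every morphism from a scheme to a coproduct of algebraic spaces is representable. -/
theorem representable_from_yon_cofan (h : ∀ i, AlgSp.IsAlgSpace (F i)) (c : Cofan F)
    (hc : IsColimit c) {T : Over S} (g : (AlgSp.yon S).obj T ⟶ c.pt) :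
    AlgSp.Representable g := by
  obtain ⟨W, -, -, -, H⟩ := exists_decomposition c hc g
  choose x sq using H
  have := repWith_of_cofan ⊤ c hc g _ x _ sq (fun i =>
    ⟨(h i).representable_from_yon (x i), fun _ _ _ _ _ _ => trivial⟩)
  exact this.rep

/-- A coproduct of algebraic spaces is an algebraic space. -/
theorem isAlgSpace_cofan_pt (h : ∀ i, AlgSp.IsAlgSpace (F i)) (c : Cofan F)
    (hc : IsColimit c) : AlgSp.IsAlgSpace c.pt where
  diag := Functor.relativelyRepresentable.diag_of_map_from_obj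
    (fun _ g => representable_from_yon_cofan h c hc g)
  atlas := by
    choose U p hpe hps using fun i => (h i).atlas
    obtain ⟨hcU⟩ := yonCofan_isColimit U
    let P : (AlgSp.yon S).obj (sigmaOver U) ⟶ c.pt :=
      Cofan.IsColimit.desc hcU (fun i => p i ≫ c.inj i)
    have hP : ∀ i, (yonCofan U).inj i ≫ P = p i ≫ c.inj i :=
      fun i => Cofan.IsColimit.fac hcU _ i
    have sq : ∀ i, IsPullback (p i) ((yonCofan U).inj i) (c.inj i) P :=
      fun i => isPullback_of_cofan_map c hc (yonCofan U) hcU p P hP i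
    exact ⟨sigmaOver U, P, repWith_of_cofan @Etale c hc P _ p _ sq hpe,
      repWith_of_cofan @Surjective c hc P _ p _ sq hps⟩

/-- The atlas of a coproduct built from atlases of the summands, with any property of the
coproduct scheme. -/
theorem etaleLocally_cofan_pt (Pr : Scheme.{u} → Prop) (c : Cofan F) (hc : IsColimit c)
    (U : ι → Over S) (p : ∀ i, (AlgSp.yon S).obj (U i) ⟶ F i)
    (hpe : ∀ i, AlgSp.RepWith @Etale (p i)) (hps : ∀ i, AlgSp.RepWith @Surjective (p i))
    (hPr : Pr (∐ fun i => (U i).left)) : AlgSp.EtaleLocally Pr c.pt := by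
  obtain ⟨hcU⟩ := yonCofan_isColimit U
  let P : (AlgSp.yon S).obj (sigmaOver U) ⟶ c.pt :=
    Cofan.IsColimit.desc hcU (fun i => p i ≫ c.inj i)
  have hP : ∀ i, (yonCofan U).inj i ≫ P = p i ≫ c.inj i :=
    fun i => Cofan.IsColimit.fac hcU _ i
  have sq : ∀ i, IsPullback (p i) ((yonCofan U).inj i) (c.inj i) P :=
    fun i => isPullback_of_cofan_map c hc (yonCofan U) hcU p P hP i
  exact ⟨sigmaOver U, P, repWith_of_cofan @Etale c hc P _ p _ sq hpe,
    repWith_of_cofan @Surjective c hc P _ p _ sq hps, hPr⟩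

/-- A finite coproduct of quasi-compact schemes is quasi-compact. -/
theorem compactSpace_sigma [Finite ι] (X : ι → Scheme.{u}) [∀ i, CompactSpace ↥(X i)] :
    CompactSpace ↥(∐ X) :=
  (sigmaMk X).compactSpace

/-- A finite coproduct of quasi-compact sheaves is quasi-compact. -/
theorem isQuasiCompactSp_cofan_pt [Finite ι] (c : Cofan F) (hc : IsColimit c)
    (hqc : ∀ i, AlgSp.IsQuasiCompactSp (F i)) : AlgSp.IsQuasiCompactSp c.pt := by
  choose U p hpe hps hcpt using hqc
  exact etaleLocally_cofan_pt _ c hc U p hpe hps (compactSpace_sigma _)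

end Groth.Agent.Lib.Helper30.Coprod
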