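import Groth.Agent.Lib.Helper30.AlgSpCoprod5

/-!
# Coproducts of fppf sheaves, VI (helper30)

* `exists_isPullback_of_open_family`: representability is Zariski local on the target, for a
  jointly surjective family of open immersions over `S`;
* `isAlgSpace_of_open_family`: a sheaf covered by open subsheaves that are algebraic spaces is an
  algebraic space.
-/

set_option autoImplicit false
set_option maxHeartbeats 800000
set_option backward.isDefEq.respectTransparency false
set_option linter.style.haveILetI false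
universe u
open CategoryTheory CategoryTheory.Limits AlgebraicGeometry Opposite

namespace Groth.Agent.Lib.Helper30.Coprod

variable {S : Scheme.{u}} {ι : Type u}

/-- Representability is Zariski local on the target (family version). -/
theorem exists_isPullback_of_open_family {F G : AlgSp.Sp S} (f : F ⟶ G) {T : Over S}
    (g : (AlgSp.yon S).obj T ⟶ G) (W : ι → Over S) (w : ∀ i, W i ⟶ T)
    [∀ i, IsOpenImmersion (w i).left] (hcov : ∀ t : ↥T.left, ∃ i y, (w i).left y = t)
    (H : ∀ i, ∃ (P : Over S) (p : P ⟶ W i) (fst : (AlgSp.yon S).obj P ⟶ F),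
      IsPullback fst ((AlgSp.yon S).map p) f ((AlgSp.yon S).map (w i) ≫ g)) :
    ∃ (P : Over S) (snd : P ⟶ T) (fst : (AlgSp.yon S).obj P ⟶ F),
      IsPullback fst ((AlgSp.yon S).map snd) f g := by
  let 𝒰 : Scheme.OpenCover.{u} T.left :=
    Scheme.Cover.mkOfCovers ι (fun i => (W i).left) (fun i => (w i).left) hcov
  apply Groth.Agent.Lib.Helper30.Glue.exists_isPullback_of_openCover f g 𝒰
  intro i
  obtain ⟨P, p, fst, sq⟩ := H i
  let e : Groth.Agent.Lib.Helper30.Glue.coverOver T 𝒰 i ≅ W i :=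
    Over.isoMk (Iso.refl _) (by
      show 𝟙 _ ≫ (W i).hom = (w i).left ≫ T.hom
      rw [Category.id_comp, Over.w])
  have he : e.hom ≫ w i = Groth.Agent.Lib.Helper30.Glue.coverι T 𝒰 i := by
    apply Over.OverMorphism.ext
    show 𝟙 _ ≫ (w i).left = (w i).left
    rw [Category.id_comp]
  refine ⟨P, p ≫ e.inv, fst, ?_⟩
  refine IsPullback.of_iso sq (Iso.refl _) (Iso.refl _) ((AlgSp.yon S).mapIso e.symm)
    (Iso.refl _) (by simp) (by simp) (by simp) ?_
  rw [← he]
  show ((AlgSp.yon S).map (w i) ≫ g) ≫ 𝟙 _ =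
    (AlgSp.yon S).map e.inv ≫ (AlgSp.yon S).map (e.hom ≫ w i) ≫ g
  rw [Category.comp_id, ← Category.assoc, ← Functor.map_comp, ← Category.assoc, e.inv_hom_id,
    Category.id_comp]

section OpenFamily

variable {F : AlgSp.Sp S} {Fi : ι → AlgSp.Sp S} (f : ∀ i, Fi i ⟶ F) (c : Cofan Fi)
  (hc : IsColimit c) (hsurj : Sheaf.IsLocallySurjective (Cofan.IsColimit.desc hc f))

include hsurj in
/-- The open subschemes `h⁻¹(F_i)` cover `T`. -/
theorem exists_mem_range_of_locallySurjective {T : Over S} (h : (AlgSp.yon S).obj T ⟶ F)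
    (W : ι → Over S) (w : ∀ i, W i ⟶ T) (a : ∀ i, (AlgSp.yon S).obj (W i) ⟶ Fi i)
    (sq : ∀ i, IsPullback (a i) ((AlgSp.yon S).map (w i)) (f i) h) (t : ↥T.left) :
    ∃ i y, (w i).left y = t := by
  have hd : ∀ i, c.inj i ≫ Cofan.IsColimit.desc hc f = f i := fun i =>
    Cofan.IsColimit.fac hc f i
  have hR := Presheaf.imageSieve_mem (AlgSp.J S) (Cofan.IsColimit.desc hc f).hom
    (U := op T) ((AlgSp.J S).uliftYonedaEquiv h)
  obtain ⟨V, k, v, ⟨s, hs⟩, hv⟩ := Groth.Agent.Lib.Helper51.exists_mem_sieve_of_mem_J _ hR t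
  let s' : (AlgSp.yon S).obj V ⟶ c.pt := (AlgSp.J S).uliftYonedaEquiv.symm s
  have hs' : s' ≫ Cofan.IsColimit.desc hc f = (AlgSp.yon S).map k ≫ h := by
    apply (AlgSp.J S).uliftYonedaEquiv.injective
    rw [GrothendieckTopology.uliftYonedaEquiv_comp, Equiv.apply_symm_apply,
      ← GrothendieckTopology.uliftYonedaEquiv_naturality]
    exact hs
  obtain ⟨R', hR', H'⟩ := exists_cover_lift c hc s'
  obtain ⟨V', k', v', hk', hv'⟩ := Groth.Agent.Lib.Helper51.exists_mem_sieve_of_mem_J R' hR' v
  obtain ⟨i, b, hb⟩ := H' k' hk'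
  have hcomm : b ≫ f i = (AlgSp.yon S).map (k' ≫ k) ≫ h := by
    rw [← hd i, ← Category.assoc, hb, Category.assoc, hs', Functor.map_comp, Category.assoc]
  obtain ⟨l, hl⟩ := (AlgSp.yon S).map_surjective ((sq i).lift b _ hcomm)
  have hl2 : l ≫ w i = k' ≫ k := by
    apply (AlgSp.yon S).map_injective
    rw [Functor.map_comp, hl, (sq i).lift_snd]
  refine ⟨i, l.left v', ?_⟩
  have : (l ≫ w i).left v' = (k' ≫ k).left v' := by rw [hl2]
  rw [← hv, ← hv']
  exact this

include hsurj in
/-- A sheaf covered by open subsheaves that are algebraic spaces is an algebraic space. -/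
theorem isAlgSpace_of_open_family (halg : ∀ i, AlgSp.IsAlgSpace (Fi i))
    (hopen : ∀ i, AlgSp.RepWith @IsOpenImmersion (f i)) (hcop : AlgSp.IsAlgSpace c.pt) :
    AlgSp.IsAlgSpace F := by
  have hd : ∀ i, c.inj i ≫ Cofan.IsColimit.desc hc f = f i := fun i =>
    Cofan.IsColimit.fac hc f i
  -- pullbacks of the `f i` along a map from a scheme
  have key : ∀ {T : Over S} (h : (AlgSp.yon S).obj T ⟶ F), ∃ (W : ι → Over S)
      (w : ∀ i, W i ⟶ T) (a : ∀ i, (AlgSp.yon S).obj (W i) ⟶ Fi i),
      (∀ i, IsPullback (a i) ((AlgSp.yon S).map (w i)) (f i) h) ∧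
      ∀ i, IsOpenImmersion (w i).left := by
    intro T h
    choose W w a sq using fun i => (hopen i).rep h
    exact ⟨W, w, a, sq, fun i => (hopen i).property h (a i) (w i) (sq i)⟩
  refine ⟨Functor.relativelyRepresentable.diag_of_map_from_obj (fun T g => ?_), ?_⟩
  · -- every map from a scheme is representable
    intro T' h
    obtain ⟨W, w, a, sq, hw⟩ := key g
    obtain ⟨W', w', a', sq', hw'⟩ := key h
    obtain ⟨P, snd, fst, sqP⟩ := exists_isPullback_of_open_family g h W' w'
      (fun t => exists_mem_range_of_locallySurjective f c hc hsurj h W' w' a' sq' t)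
      (fun i => by
        obtain ⟨P, snd, fst, sqP⟩ := (halg i).representable_from_yon (a i) (a' i)
        refine ⟨P, snd, fst ≫ (AlgSp.yon S).map (w i), ?_⟩
        have h1 := sqP.paste_horiz (sq i).flip
        rw [(sq' i).w] at h1
        exact h1)
    exact ⟨P, snd, fst, sqP⟩
  · -- the atlas
    obtain ⟨V, q, hqe, hqs⟩ := hcop.atlas
    have hdes : AlgSp.RepWith (@Etale ⊓ @Surjective) (Cofan.IsColimit.desc hc f) := by
      apply Groth.Agent.Lib.Helper30.AffDesc.repWith_of_forall_exists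
      intro T h
      obtain ⟨W, w, a, sq, hw⟩ := key h
      have sq2 : ∀ i, IsPullback (a i) ((AlgSp.yon S).map (w i))
          (c.inj i ≫ Cofan.IsColimit.desc hc f) h := fun i => by rw [hd i]; exact sq i
      obtain ⟨w₀, a₀, sq₀, hw₀, -⟩ := exists_isPullback_desc c hc _ h W w a sq2
      refine ⟨_, w₀, a₀, sq₀, ?_, ?_⟩
      · rw [sigmaOver_hom_left W w w₀ hw₀]
        exact IsZariskiLocalAtSource.sigmaDesc (P := @Etale) (fun i => inferInstance)
      · rw [sigmaOver_hom_left W w w₀ hw₀]
        constructor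
        intro t
        obtain ⟨i, y, hy⟩ := exists_mem_range_of_locallySurjective f c hc hsurj h W w a sq t
        refine ⟨Sigma.ι (fun i => (W i).left) i y, ?_⟩
        have h1 : (Sigma.ι (fun i => (W i).left) i ≫ Sigma.desc (fun i => (w i).left)) y = t := by
          rw [Sigma.ι_desc]
          exact hy
        exact h1
    have hde : AlgSp.RepWith @Etale (Cofan.IsColimit.desc hc f) :=
      ⟨hdes.rep, fun _ _ g fst snd sq => (hdes.property g fst snd sq).1⟩
    have hds : AlgSp.RepWith @Surjective (Cofan.IsColimit.desc hc f) :=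
      ⟨hdes.rep, fun _ _ g fst snd sq => (hdes.property g fst snd sq).2⟩
    exact ⟨V, q ≫ Cofan.IsColimit.desc hc f,
      (AlgSp.RepWith @Etale).comp_mem _ _ hqe hde,
      (AlgSp.RepWith @Surjective).comp_mem _ _ hqs hds⟩

end OpenFamily

end Groth.Agent.Lib.Helper30.Coprod
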