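import Groth.Agent.Lib.Helper30.AlgSpUnram
import Groth.Agent.Lib.Helper78.AlgSpLocP

/-!
# Chart diagrams for the diagonal of a morphism of algebraic spaces (helper30)

* `exists_diagonal_chart_iso` : as `exists_diagonal_chart`, recording the isomorphism
  `Z ≅ U ×_V U` identifying `k` with the diagonal of `h`.
* `locP_diagonal_of_locP` : if `P h ⇒ Q Δ_h` for morphisms of schemes and `Q` is étale local on the
  source-and-target, then `LocP P f ⇒ LocP Q Δ_f` for morphisms of algebraic spaces.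
-/

set_option autoImplicit false
set_option linter.unusedSectionVars false
universe u
set_option maxHeartbeats 400000

set_option backward.isDefEq.respectTransparency false

open CategoryTheory CategoryTheory.Limits AlgebraicGeometry MorphismProperty AlgSp
open Groth.Agent.Lib.Helper51 Groth.Agent.Lib.Helper52 Groth.Agent.Lib.Helper78.AlgSpLocP

namespace Groth.Agent.Lib.Helper30

variable {S : Scheme.{u}}

theorem exists_diagonal_chart_iso {Y : AlgSp.Sp S} (hY : AlgSp.IsAlgSpace Y) {U V : Over S}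
    (b : (AlgSp.yon S).obj V ⟶ Y) (hb : AlgSp.RepWith @Etale b) (h : U ⟶ V) :
    ∃ (Z : Over S) (k : U ⟶ Z)
      (m : (AlgSp.yon S).obj Z ⟶ pullback ((AlgSp.yon S).map h ≫ b) ((AlgSp.yon S).map h ≫ b))
      (e : Z.left ≅ pullback h.left h.left),
      AlgSp.RepWith @IsOpenImmersion m ∧ Mono m ∧
      (AlgSp.yon S).map k ≫ m = pullback.diagonal ((AlgSp.yon S).map h ≫ b) ∧
      k.left ≫ e.hom = pullback.diagonal h.left := by
  obtain ⟨Z, p1, p2, sqZ, sqZ'⟩ := isPullback_over' h h
  have sqY := sqZ.map (AlgSp.yon S)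
  let k : U ⟶ Z := sqZ.lift (𝟙 U) (𝟙 U) rfl
  have hk1 : k ≫ p1 = 𝟙 U := sqZ.lift_fst _ _ _
  have hk2 : k ≫ p2 = 𝟙 U := sqZ.lift_snd _ _ _
  have hΔb : AlgSp.RepWith @IsOpenImmersion (pullback.diagonal b) :=
    repWith_isOpenImmersion_diagonal_of_isEtaleMor (AlgSp.IsAlgSpace.yon_obj V) hY b
      (isEtaleMor_of_repWith_etale hb)
  have sqD := pullback_map_diagonal_isPullback ((AlgSp.yon S).map h) ((AlgSp.yon S).map h) b
  have hm1 : AlgSp.RepWith @IsOpenImmersion
      (pullback.map ((AlgSp.yon S).map h) ((AlgSp.yon S).map h) ((AlgSp.yon S).map h ≫ b)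
        ((AlgSp.yon S).map h ≫ b) (𝟙 _) (𝟙 _) b (Category.id_comp _).symm
        (Category.id_comp _).symm) :=
    MorphismProperty.of_isPullback sqD hΔb
  have hm2 : Mono (pullback.map ((AlgSp.yon S).map h) ((AlgSp.yon S).map h)
      ((AlgSp.yon S).map h ≫ b) ((AlgSp.yon S).map h ≫ b) (𝟙 _) (𝟙 _) b
      (Category.id_comp _).symm (Category.id_comp _).symm) := sqD.mono_snd_of_mono
  refine ⟨Z, k, sqY.isoPullback.hom ≫ pullback.map ((AlgSp.yon S).map h) ((AlgSp.yon S).map h)
      ((AlgSp.yon S).map h ≫ b) ((AlgSp.yon S).map h ≫ b) (𝟙 _) (𝟙 _) b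
      (Category.id_comp _).symm (Category.id_comp _).symm, sqZ'.isoPullback, ?_, ?_, ?_, ?_⟩
  · refine (AlgSp.RepWith (S := S) @IsOpenImmersion).comp_mem _ _ ?_ hm1
    exact Groth.Agent.Lib.Helper78.AlgSpBasic.repWith_of_isIso _ _
  · exact mono_comp _ _
  · apply pullback.hom_ext
    · simp only [Category.assoc, pullback.lift_fst, pullback.diagonal_fst, Category.comp_id]
      rw [IsPullback.isoPullback_hom_fst, ← Functor.map_comp, hk1, CategoryTheory.Functor.map_id]
    · simp only [Category.assoc, pullback.lift_snd, pullback.diagonal_snd, Category.comp_id]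
      rw [IsPullback.isoPullback_hom_snd, ← Functor.map_comp, hk2, CategoryTheory.Functor.map_id]
  · apply pullback.hom_ext
    · rw [Category.assoc, IsPullback.isoPullback_hom_fst, pullback.diagonal_fst, ← Over.comp_left,
        hk1, Over.id_left]
    · rw [Category.assoc, IsPullback.isoPullback_hom_snd, pullback.diagonal_snd, ← Over.comp_left,
        hk2, Over.id_left]

/-- If `P h` implies `Q Δ_h` for morphisms of schemes and `Q` is étale local on the source and
target, then `LocP P f` implies `LocP Q Δ_f` for morphisms of algebraic spaces. -/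
theorem locP_diagonal_of_locP {P Q : MorphismProperty Scheme.{u}} (hQ : EtLocalST Q)
    (hPQ : ∀ {A B : Scheme.{u}} (h : A ⟶ B), P h → Q (pullback.diagonal h))
    {X Y : AlgSp.Sp S} (hX : AlgSp.IsAlgSpace X) (hY : AlgSp.IsAlgSpace Y) (f : X ⟶ Y)
    (hf : AlgSp.LocP P f) : AlgSp.LocP Q (pullback.diagonal f) := by
  obtain ⟨V, b, hb, hbs⟩ := hY.atlas
  obtain ⟨U₀, a₀, ha₀, ha₀s⟩ := hX.atlas
  obtain ⟨U, j, h, sq, hae, has⟩ :=
    Groth.Agent.Lib.Helper78.AlgSpBasic.exists_chart_diagram f a₀ ha₀ b hb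
  have has' := has ha₀s hbs
  have comm : ((AlgSp.yon S).map j ≫ a₀) ≫ f = (AlgSp.yon S).map h ≫ b := by
    rw [Category.assoc]; exact sq.w.symm
  have hh := hf _ b h hae hb comm
  obtain ⟨Z, k, m, e, hm, hmm, hkm, hke⟩ := exists_diagonal_chart_iso hY b hb h
  have hk : Q k.left := by
    have h1 : k.left = pullback.diagonal h.left ≫ e.inv := by
      rw [← hke, Category.assoc, Iso.hom_inv_id, Category.comp_id]
    rw [h1]
    exact hQ.postcomp _ _ (hPQ _ hh) inferInstance
  have hpm : AlgSp.RepWith @Etale (pullback.map ((AlgSp.yon S).map h ≫ b)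
      ((AlgSp.yon S).map h ≫ b) f f ((AlgSp.yon S).map j ≫ a₀) ((AlgSp.yon S).map j ≫ a₀) (𝟙 Y)
      ((Category.comp_id _).trans comm.symm) ((Category.comp_id _).trans comm.symm)) :=
    MorphismProperty.pullbackMap hae hae comm.symm comm.symm
  refine locP_of_chart hQ (pullback.diagonal f) ((AlgSp.yon S).map j ≫ a₀)
    (m ≫ pullback.map ((AlgSp.yon S).map h ≫ b)
      ((AlgSp.yon S).map h ≫ b) f f ((AlgSp.yon S).map j ≫ a₀) ((AlgSp.yon S).map j ≫ a₀) (𝟙 Y)
      ((Category.comp_id _).trans comm.symm) ((Category.comp_id _).trans comm.symm)) k hae has' ?_ ?_ hk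
  · exact (AlgSp.RepWith (S := S) @Etale).comp_mem _ _
      (repWith_etale_of_repWith_isOpenImmersion hm) hpm
  · rw [← Category.assoc, hkm]
    apply pullback.hom_ext <;> simp

end Groth.Agent.Lib.Helper30
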