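import Groth.Agent.Lib.Helper30.AlgSpQuotEff2
import Groth.Prelude.Def_AlgSpRep

/-!
# An etale sheaf with an etale chart is an algebraic space (helper30)

* `jet_le`: the etale topology over `S` is coarser than the fppf topology;
* `exists_iso_of_common_kernelPair`: two epimorphisms with the same kernel pair in a regular epi
  category have isomorphic targets;
* `isAlgSpaceP_of_etale_chart`: an etale sheaf `F` with a map `p : h_U ⟶ F` whose kernel pair is an
  etale equivalence relation of schemes and through which every section lifts etale locally is an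
  algebraic space (it is isomorphic to the fppf quotient `U/R`).
-/

set_option autoImplicit false
set_option maxHeartbeats 800000
set_option backward.isDefEq.respectTransparency false
set_option linter.style.haveILetI false
set_option linter.unusedSectionVars false
universe u

open CategoryTheory CategoryTheory.Limits AlgebraicGeometry MorphismProperty AlgSp Opposite

namespace Groth.Agent.Lib.Helper30.EtChart

open Groth.Agent.Lib.Helper40.QuotShApi Groth.Agent.Lib.Helper30.QuotEff

variable {S : Scheme.{u}}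

/-- The etale topology on schemes over `S`. -/
abbrev Jet (S : Scheme.{u}) : GrothendieckTopology (Over S) := QuotSh.J Scheme.etalePrecoverage S

theorem etalePrecoverage_le_fppfPrecoverage :
    Scheme.etalePrecoverage.{u} ≤ Scheme.fppfPrecoverage.{u} := by
  rw [Scheme.etalePrecoverage, Scheme.fppfPrecoverage]
  refine Scheme.precoverage_mono ?_
  intro X Y f hf
  have : Etale f := hf
  exact ⟨inferInstance, inferInstance⟩

theorem jet_le : Jet S ≤ AlgSp.J S := by
  intro T R hR
  rw [GrothendieckTopology.mem_over_iff] at hR ⊢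
  exact Precoverage.toGrothendieck_mono etalePrecoverage_le_fppfPrecoverage _ hR

theorem isSheaf_jet_of_isSheaf {F : AlgSp.PSp S} (h : Presheaf.IsSheaf (AlgSp.J S) F) :
    Presheaf.IsSheaf (Jet S) F := by
  rw [isSheaf_iff_isSheaf_of_type] at h ⊢
  exact Presieve.isSheaf_of_le _ jet_le h

/-- Two epimorphisms with the same kernel pair in a regular epi category have isomorphic
targets. -/
theorem exists_iso_of_common_kernelPair {C : Type*} [Category C] [IsRegularEpiCategory C]
    {R U F Q : C} {a b : R ⟶ U} (p : U ⟶ F) (q : U ⟶ Q) [Epi p] [Epi q]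
    (hp : IsKernelPair p a b) (hq : IsKernelPair q a b) : ∃ e : F ≅ Q, p ≫ e.hom = q := by
  haveI : IsRegularEpi p := IsRegularEpiCategory.regularEpiOfEpi p
  haveI : IsRegularEpi q := IsRegularEpiCategory.regularEpiOfEpi q
  have c1 := hp.toCoequalizer'
  have c2 := hq.toCoequalizer'
  refine ⟨c1.coconePointUniqueUpToIso c2, ?_⟩
  exact c1.comp_coconePointUniqueUpToIso_hom c2 WalkingParallelPair.one

/-- Locally surjective maps of sheaves of types are epimorphisms. -/
theorem epi_of_imageSieve_mem {C : Type*} [Category C] (J : GrothendieckTopology C)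
    {G H : Sheaf J (Type (u + 1))} (f : G ⟶ H)
    (h : ∀ ⦃V : C⦄ (x : H.obj.obj (op V)), Presheaf.imageSieve f.hom x ∈ J V) : Epi f := by
  haveI : Sheaf.IsLocallySurjective f := ⟨fun x => h x⟩
  infer_instance

section Main

variable {R U : Over S} (s t : R ⟶ U) {F : AlgSp.PSp S} (p : (AlgSp.pyon S).obj U ⟶ F)

/-- If `h_R` with `h_t, h_s` is the kernel pair of `p : h_U ⟶ F` in presheaves, then `(s, t)` is an
equivalence relation. -/
theorem isEqvRel_of_isPullback_pyon
    (sq : IsPullback ((AlgSp.pyon S).map t) ((AlgSp.pyon S).map s) p p) : AlgSp.IsEqvRel s t := by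
  have key : ∀ (T : Over S) (a b : T ⟶ U), (∃ r : T ⟶ R, r ≫ t = a ∧ r ≫ s = b) ↔
      (AlgSp.pyon S).map a ≫ p = (AlgSp.pyon S).map b ≫ p := by
    intro T a b
    constructor
    · rintro ⟨r, rfl, rfl⟩
      rw [Functor.map_comp, Functor.map_comp, Category.assoc, Category.assoc, sq.w]
    · intro h
      obtain ⟨r, hr⟩ := (AlgSp.pyon S).map_surjective (sq.lift _ _ h)
      refine ⟨r, ?_, ?_⟩
      · apply (AlgSp.pyon S).map_injective
        rw [Functor.map_comp, hr, sq.lift_fst]
      · apply (AlgSp.pyon S).map_injective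
        rw [Functor.map_comp, hr, sq.lift_snd]
  refine ⟨?_, ?_⟩
  · intro T r r' h1 h2
    apply (AlgSp.pyon S).map_injective
    apply sq.hom_ext
    · rw [← Functor.map_comp, ← Functor.map_comp, h1]
    · rw [← Functor.map_comp, ← Functor.map_comp, h2]
  · intro T
    exact ⟨fun a => (key T a a).2 rfl, fun {a b} h => (key T b a).2 ((key T a b).1 h).symm,
      fun {a b c} h1 h2 => (key T a c).2 (((key T a b).1 h1).trans ((key T b c).1 h2))⟩

/-- **An etale sheaf with an etale chart is an algebraic space.** -/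
theorem isAlgSpaceP_of_etale_chart (h1 : Presheaf.IsSheaf (Jet S) F)
    (sq : IsPullback ((AlgSp.pyon S).map t) ((AlgSp.pyon S).map s) p p)
    (hs : Etale s.left) (ht : Etale t.left)
    (hsurj : ∀ (T : Over S) (ξ : (AlgSp.pyon S).obj T ⟶ F), ∃ (W : Over S) (w : W ⟶ T)
      (a : (AlgSp.pyon S).obj W ⟶ (AlgSp.pyon S).obj U), a ≫ p = (AlgSp.pyon S).map w ≫ ξ ∧
        Etale w.left ∧ Surjective w.left) : AlgSp.IsAlgSpaceP F := by
  have hE : AlgSp.IsEtaleEqvRel s t :=
    { toIsEqvRel := isEqvRel_of_isPullback_pyon s t p sq, etale_left := hs, etale_right := ht }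
  have hQ : AlgSp.IsAlgSpace (QuotSh.quot Scheme.fppfPrecoverage s t) := isAlgSpace_quot hE
  have hpres := isPresentation_qπ hE
  let Fe : Sheaf (Jet S) (Type (u + 1)) := ⟨F, h1⟩
  let Ue : Sheaf (Jet S) (Type (u + 1)) :=
    ⟨(AlgSp.pyon S).obj U, isSheaf_jet_of_isSheaf ((AlgSp.yon S).obj U).property⟩
  let Re : Sheaf (Jet S) (Type (u + 1)) :=
    ⟨(AlgSp.pyon S).obj R, isSheaf_jet_of_isSheaf ((AlgSp.yon S).obj R).property⟩
  let Qe : Sheaf (Jet S) (Type (u + 1)) :=
    ⟨(QuotSh.quot Scheme.fppfPrecoverage s t).obj,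
      isSheaf_jet_of_isSheaf (QuotSh.quot Scheme.fppfPrecoverage s t).property⟩
  let pe : Ue ⟶ Fe := ObjectProperty.homMk p
  let qe : Ue ⟶ Qe := ObjectProperty.homMk (qπ s t).hom
  let te : Re ⟶ Ue := ObjectProperty.homMk ((AlgSp.pyon S).map t)
  let se : Re ⟶ Ue := ObjectProperty.homMk ((AlgSp.pyon S).map s)
  have kp : IsKernelPair pe te se :=
    IsPullback.of_map_of_faithful (sheafToPresheaf (Jet S) (Type (u + 1))) sq
  have kq : IsKernelPair qe te se :=
    IsPullback.of_map_of_faithful (sheafToPresheaf (Jet S) (Type (u + 1)))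
      (hpres.isPullback.map (sheafToPresheaf (AlgSp.J S) (Type (u + 1))))
  haveI : Epi pe := by
    refine epi_of_imageSieve_mem (Jet S) pe ?_
    intro T x
    obtain ⟨W, w, a, ha, hwe, hws⟩ := hsurj T (uliftYonedaEquiv.{u + 1}.symm x)
    refine mem_J_of_singleton Scheme.etalePrecoverage _ w ?_ ?_
    · refine ⟨uliftYonedaEquiv.{u + 1} a, ?_⟩
      show p.app _ (uliftYonedaEquiv.{u + 1} a) = F.map w.op x
      rw [← uliftYonedaEquiv_comp, ha]
      exact ((uliftYonedaEquiv_naturality.{u + 1} (uliftYonedaEquiv.{u + 1}.symm x) w.op).symm).trans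
        (by rw [Equiv.apply_symm_apply])
    · show Presieve.singleton w.left ∈ Scheme.precoverage @Etale T.left
      rw [Scheme.singleton_mem_precoverage_iff]
      exact ⟨hws.surj, hwe⟩
  haveI : Epi qe := by
    refine epi_of_imageSieve_mem (Jet S) qe ?_
    intro T x
    obtain ⟨W, w, a, sqW⟩ := hpres.etale.1 ((AlgSp.J S).uliftYonedaEquiv.symm x)
    have hwe : Etale w.left := hpres.etale.2 _ a w sqW
    have hws : Surjective w.left := hpres.surjective.2 _ a w sqW
    refine mem_J_of_singleton Scheme.etalePrecoverage _ w ?_ ?_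
    · refine ⟨(AlgSp.J S).uliftYonedaEquiv a, ?_⟩
      show (qπ s t).hom.app _ ((AlgSp.J S).uliftYonedaEquiv a) =
        (QuotSh.quot Scheme.fppfPrecoverage s t).obj.map w.op x
      rw [← GrothendieckTopology.uliftYonedaEquiv_comp, sqW.w,
        ← GrothendieckTopology.uliftYonedaEquiv_naturality, Equiv.apply_symm_apply]
    · show Presieve.singleton w.left ∈ Scheme.precoverage @Etale T.left
      rw [Scheme.singleton_mem_precoverage_iff]
      exact ⟨hws.surj, hwe⟩
  obtain ⟨e, -⟩ := exists_iso_of_common_kernelPair pe qe kp kq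
  have iso : F ≅ (QuotSh.quot Scheme.fppfPrecoverage s t).obj :=
    (sheafToPresheaf (Jet S) (Type (u + 1))).mapIso e
  exact AlgSp.IsAlgSpaceP.of_iso ((AlgSp.isAlgSpaceP_obj_iff _).2 hQ) iso.symm

end Main

end Groth.Agent.Lib.Helper30.EtChart
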