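import Groth.Agent.Lib.Helper30.AlgSpZMT4
import Groth.Agent.Lib.Helper30.AlgSpEtChart

/-!
# Bootstrap: a sheaf receiving a surjective étale map, representable by algebraic spaces, from an
algebraic space is an algebraic space (helper30)
-/

set_option autoImplicit false
set_option maxHeartbeats 1600000
set_option backward.isDefEq.respectTransparency false
set_option linter.unusedSectionVars false
universe u
open CategoryTheory CategoryTheory.Limits AlgebraicGeometry Opposite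

namespace Groth.Agent.Lib.Helper30.ZMT

open AlgSp Groth.Agent.Lib.Helper51 Groth.Agent.Lib.Helper52
open Groth.Agent.Lib.Helper78.AlgSpBasic Groth.Agent.Lib.Helper78.AlgSpFibre
open Groth.Agent.Lib.Helper30.EtChart

variable {S : Scheme.{u}}

/-- The fibre product of an atlas of `U` with a scheme over `F` is a scheme, étale and surjective
over the scheme. -/
theorem exists_scheme_of_isPullback_atlas {F : AlgSp.PSp S} {U : AlgSp.Sp S}
    (hU : AlgSp.IsAlgSpace U) (p : U.obj ⟶ F)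
    (hp : AlgSp.RepBySpWith (AlgSp.IsSurjectiveMor ⊓ AlgSp.IsEtaleMor) p)
    {V : Over S} (a : (AlgSp.yon S).obj V ⟶ U) (hae : AlgSp.RepWith @Etale a)
    (has : AlgSp.RepWith @Surjective a) {T : Over S} (ξ : (AlgSp.pyon S).obj T ⟶ F)
    {Q : AlgSp.PSp S} (fst : Q ⟶ (AlgSp.pyon S).obj V) (snd : Q ⟶ (AlgSp.pyon S).obj T)
    (sqQ : IsPullback fst snd (a.hom ≫ p) ξ) :
    ∃ (W : Over S) (eQ : (AlgSp.pyon S).obj W ≅ Q) (w : W ⟶ T),
      eQ.hom ≫ snd = (AlgSp.pyon S).map w ∧ Etale w.left ∧ Surjective w.left := by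
  -- the algebraic space `F' = U ×_F T`
  obtain ⟨F', f1', f2', hF', sqF, hsurj, het⟩ : ∃ (F' : AlgSp.Sp S) (f1' : F' ⟶ U)
      (f2' : F' ⟶ (AlgSp.yon S).obj T), AlgSp.IsAlgSpace F' ∧ IsPullback f1'.hom f2'.hom p ξ ∧
        AlgSp.IsSurjectiveMor f2' ∧ AlgSp.IsEtaleMor f2' := by
    have sqF := IsPullback.of_hasPullback p ξ
    obtain ⟨h, hF', hsurj, het⟩ := hp ξ (pullback.fst p ξ) (pullback.snd p ξ) sqF
    exact ⟨⟨pullback p ξ, h⟩, ObjectProperty.homMk (pullback.fst p ξ),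
      ObjectProperty.homMk (pullback.snd p ξ), hF', sqF, hsurj, het⟩
  -- `R' = V ×_U F'`
  obtain ⟨R', r1, r2, sqR⟩ : ∃ (R' : AlgSp.Sp S) (r1 : R' ⟶ (AlgSp.yon S).obj V) (r2 : R' ⟶ F'),
      IsPullback r1 r2 a f1' := ⟨_, _, _, IsPullback.of_hasPullback a f1'⟩
  have hyV : AlgSp.IsAlgSpace ((AlgSp.yon S).obj V) := AlgSp.IsAlgSpace.yon_obj V
  have hR' : AlgSp.IsAlgSpace R' :=
    Groth.Agent.Lib.Helper30.isAlgSpace_of_isPullback hU.diag hyV hF' sqR
  have hr2e : AlgSp.RepWith @Etale r2 := MorphismProperty.of_isPullback sqR hae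
  have hr2s : AlgSp.RepWith @Surjective r2 := MorphismProperty.of_isPullback sqR has
  have hg : AlgSp.IsEtaleMor (r2 ≫ f2') := fun A φ hφ => by
    rw [← Category.assoc]
    exact het (φ ≫ r2) ((AlgSp.RepWith @Etale).comp_mem _ _ hφ hr2e)
  have hmono : ∀ ⦃Z : AlgSp.Sp S⦄ (x y : Z ⟶ R'), x ≫ (r2 ≫ f2') = y ≫ (r2 ≫ f2') →
      x ≫ r1 = y ≫ r1 → x = y := by
    intro Z x y h1 h2
    apply sqR.hom_ext h2
    apply (sheafToPresheaf (AlgSp.J S) (Type (u + 1))).map_injective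
    apply sqF.hom_ext
    · have e1 : (x ≫ r2) ≫ f1' = (y ≫ r2) ≫ f1' := by
        rw [Category.assoc, Category.assoc, ← sqR.w, ← Category.assoc, h2, Category.assoc]
      exact congrArg (fun k => (sheafToPresheaf (AlgSp.J S) (Type (u + 1))).map k) e1
    · have e2 : (x ≫ r2) ≫ f2' = (y ≫ r2) ≫ f2' := by
        rw [Category.assoc, Category.assoc]; exact h1
      exact congrArg (fun k => (sheafToPresheaf (AlgSp.J S) (Type (u + 1))).map k) e2
  obtain ⟨W, ⟨eW⟩⟩ := exists_iso_yon_of_etale_jointly_mono hR' (r2 ≫ f2') r1 hg hmono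
  -- the presheaf pullback square
  have sqR' : IsPullback r1.hom r2.hom a.hom f1'.hom :=
    sqR.map (sheafToPresheaf (AlgSp.J S) (Type (u + 1)))
  have sqbig : IsPullback r1.hom (r2.hom ≫ f2'.hom) (a.hom ≫ p) ξ :=
    (sqR'.flip.paste_horiz sqF.flip).flip
  obtain ⟨w, hw⟩ := (AlgSp.yon S).map_surjective (eW.hom ≫ r2 ≫ f2')
  have hwet : Etale w.left := by
    rw [← AlgSp.repWith_yon_map_iff @Etale w, hw]
    exact hg eW.hom (repWith_of_isIso _ eW.hom)
  have hwsurj : Surjective w.left := by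
    refine ⟨fun t => ?_⟩
    obtain ⟨x1, hx1⟩ := hsurj (Points.ofScheme T t)
    obtain ⟨x2, hx2⟩ := surjective_map_of_repWith_surjective hr2s x1
    obtain ⟨w₀, hw₀⟩ := (Points.schemeEquiv W).surjective (Points.map eW.inv x2)
    refine ⟨w₀, ?_⟩
    apply ofScheme_injective T
    rw [← map_yon_map_ofScheme, hw]
    have : Points.ofScheme W w₀ = Points.map eW.inv x2 := hw₀
    rw [this, ← Points.map_comp, Iso.inv_hom_id_assoc, Points.map_comp, hx2, hx1]
  let eQ : (AlgSp.pyon S).obj W ≅ Q :=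
    (sheafToPresheaf (AlgSp.J S) (Type (u + 1))).mapIso eW ≪≫ sqbig.isoIsPullback _ _ sqQ
  refine ⟨W, eQ, w, ?_, hwet, hwsurj⟩
  have h1 : (sqbig.isoIsPullback _ _ sqQ).hom ≫ snd = r2.hom ≫ f2'.hom :=
    IsPullback.isoIsPullback_hom_snd _ _ sqbig sqQ
  show (eW.hom.hom ≫ (sqbig.isoIsPullback _ _ sqQ).hom) ≫ snd = (AlgSp.pyon S).map w
  rw [Category.assoc, h1]
  exact congrArg (fun k => (sheafToPresheaf (AlgSp.J S) (Type (u + 1))).map k) hw.symm

/-- **Bootstrap.** An étale sheaf receiving a surjective étale map, representable by algebraic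
spaces, from an algebraic space is an algebraic space. -/
theorem isAlgSpaceP_of_repBySp_surj_etale {F : AlgSp.PSp S}
    (h1 : Presheaf.IsSheaf (Jet S) F) {U : AlgSp.Sp S} (hU : AlgSp.IsAlgSpace U) (p : U.obj ⟶ F)
    (hp : AlgSp.RepBySpWith (AlgSp.IsSurjectiveMor ⊓ AlgSp.IsEtaleMor) p) :
    AlgSp.IsAlgSpaceP F := by
  obtain ⟨V, a, hae, has⟩ := hU.atlas
  have sqQ := IsPullback.of_hasPullback (a.hom ≫ p) (a.hom ≫ p)
  obtain ⟨W₂, e₂, w₂, he₂, hw₂e, hw₂s⟩ :=
    exists_scheme_of_isPullback_atlas hU p hp a hae has (a.hom ≫ p) _ _ sqQ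
  obtain ⟨W₁, e₁, w₁, he₁, hw₁e, -⟩ :=
    exists_scheme_of_isPullback_atlas hU p hp a hae has (a.hom ≫ p) _ _ sqQ.flip
  obtain ⟨t, ht⟩ := (AlgSp.pyon S).map_surjective
    (e₂.hom ≫ pullback.fst (a.hom ≫ p) (a.hom ≫ p))
  obtain ⟨c, hc⟩ := (AlgSp.pyon S).map_surjective (e₂.hom ≫ e₁.inv)
  have hciso : IsIso ((AlgSp.pyon S).map c) := by rw [hc]; infer_instance
  have hciso' : IsIso c := isIso_of_fully_faithful (AlgSp.pyon S) c
  have hcl : IsIso c.left := inferInstanceAs (IsIso ((Over.forget S).map c))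
  have htc : t = c ≫ w₁ := by
    apply (AlgSp.pyon S).map_injective
    rw [Functor.map_comp, hc, ← he₁, ht]
    simp only [Category.assoc, Iso.inv_hom_id_assoc]
  have hte : Etale t.left := by
    rw [htc, Over.comp_left]
    infer_instance
  have sq : IsPullback ((AlgSp.pyon S).map t) ((AlgSp.pyon S).map w₂) (a.hom ≫ p) (a.hom ≫ p) := by
    refine IsPullback.of_iso sqQ e₂.symm (Iso.refl _) (Iso.refl _) (Iso.refl _) ?_ ?_ ?_ ?_
    · rw [ht]; simp
    · rw [← he₂]; simp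
    · simp
    · simp
  refine isAlgSpaceP_of_etale_chart w₂ t (a.hom ≫ p) h1 sq hw₂e hte ?_
  intro T ξ
  have sqT := IsPullback.of_hasPullback (a.hom ≫ p) ξ
  obtain ⟨W, eQ, w, heQ, hwe, hws⟩ :=
    exists_scheme_of_isPullback_atlas hU p hp a hae has ξ _ _ sqT
  refine ⟨W, w, eQ.hom ≫ pullback.fst (a.hom ≫ p) ξ, ?_, hwe, hws⟩
  rw [Category.assoc, sqT.w, ← Category.assoc, heQ]

end Groth.Agent.Lib.Helper30.ZMT
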