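import Groth.Agent.Lib.Helper30.AlgSpLqfField
import Groth.Agent.Lib.Helper78.AlgSpLqfDesc
import Groth.Agent.Lib.Helper78.AlgSpFpqcSingle
import Groth.Agent.Lib.Helper78.AlgSpLocP2

/-!
# Algebraic spaces of finite type over a field with finitely many points (helper30)
-/

set_option autoImplicit false
set_option maxHeartbeats 1600000
set_option backward.isDefEq.respectTransparency false
set_option linter.unusedSectionVars false
universe u
open CategoryTheory CategoryTheory.Limits AlgebraicGeometry Opposite TopologicalSpace Topology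

namespace Groth.Agent.Lib.Helper30.FinFib

open AlgSp Groth.Agent.Lib.Helper51 Groth.Agent.Lib.Helper52
open Groth.Agent.Lib.Helper78.AlgSpBasic Groth.Agent.Lib.Helper78.AlgSpFibre
open Groth.Agent.Lib.Helper78.DiagCover

variable {S : Scheme.{u}}

/-- A quasi-compact algebraic space, separated and locally of finite type over a field, with
finitely many points is locally quasi-finite over the field. -/
theorem locP_lqf_of_finite_points {F : AlgSp.Sp S} (hF : AlgSp.IsAlgSpace F) (k : Type u)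
    [Field k] (str : Spec (CommRingCat.of k) ⟶ S) (q : F ⟶ (AlgSp.yon S).obj (Over.mk str))
    (hlft : AlgSp.LocP @LocallyOfFiniteType q) (hsep : AlgSp.IsSeparatedMor q)
    (hqc : AlgSp.IsQuasiCompactSp F) [Finite (AlgSp.Points F)] :
    AlgSp.LocP (@LocallyQuasiFinite ⊓ @LocallyOfFiniteType) q := by
  obtain ⟨A, a, hAaff, hae, has⟩ := (isQuasiCompactSp_iff_exists_affine_chart hF).1 hqc
  haveI : IsAffine A.left := hAaff
  obtain ⟨h₀, hh₀⟩ := (AlgSp.yon S).map_surjective (a ≫ q)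
  haveI hlft₀ : LocallyOfFiniteType h₀.left :=
    hlft a (𝟙 _) h₀ hae (AlgSp.repWith_id _ _) (by rw [Category.comp_id, hh₀])
  obtain ⟨V, pr₁, pr₂, sqV, sqVl⟩ := Groth.Agent.Lib.Helper30.isPullback_over' h₀ h₀
  have hP : IsPullback ((AlgSp.yon S).map pr₁) ((AlgSp.yon S).map pr₂) (a ≫ q) (a ≫ q) := by
    rw [← hh₀]; exact sqV.map (AlgSp.yon S)
  have hR := hae.rep.isPullback' a
  have hcw : (AlgSp.yon S).map (hae.rep.fst' a) ≫ a ≫ q =
      (AlgSp.yon S).map (hae.rep.snd a) ≫ a ≫ q := by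
    rw [← Category.assoc, hR.w, Category.assoc]
  obtain ⟨c₀, hc₀⟩ := (AlgSp.yon S).map_surjective (hP.lift _ _ hcw)
  have hc₁ : (AlgSp.yon S).map c₀ ≫ (AlgSp.yon S).map pr₁ = (AlgSp.yon S).map (hae.rep.fst' a) := by
    rw [hc₀]; exact hP.lift_fst _ _ _
  have hc₂ : (AlgSp.yon S).map c₀ ≫ (AlgSp.yon S).map pr₂ = (AlgSp.yon S).map (hae.rep.snd a) := by
    rw [hc₀]; exact hP.lift_snd _ _ _
  have sqΔ := isPullback_diagonal_prodMap q a a hP hR ((AlgSp.yon S).map c₀) hc₁ hc₂
  haveI : IsClosedImmersion c₀.left := hsep.2 _ _ c₀ sqΔ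
  haveI : IsAffine (Over.mk str).left := inferInstanceAs (IsAffine (Spec (CommRingCat.of k)))
  haveI : IsAffine V.left := IsAffine.of_isIso sqVl.isoPullback.hom
  haveI : CompactSpace (hae.rep.pullback a).left :=
    QuasiCompact.compactSpace_of_compactSpace c₀.left
  haveI : Etale (hae.rep.fst' a).left := hae.property _ _ _ hR.flip
  haveI : LocallyQuasiFinite (hae.rep.fst' a).left :=
    Groth.Agent.Lib.Helper78.AlgSpLocPLqf.lqf_of_etale _
  haveI : QuasiCompact (hae.rep.fst' a).left := inferInstance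
  -- the chart is a finite set
  have hfib : ∀ x₀ : A.left, (Points.ofPt a ⁻¹' {Points.ofPt a x₀}).Finite := by
    intro x₀
    refine ((Scheme.Hom.finite_preimage_singleton (hae.rep.fst' a).left x₀).image
      (hae.rep.snd a).left).subset ?_
    intro x hx
    have h1 : Points.ofPt a x₀ = Points.ofPt a x := hx.symm
    obtain ⟨r, hr1, hr2⟩ := exists_of_ofPt_eq_ofPt hR h1
    exact ⟨r, hr1, hr2⟩
  haveI hAfin : Finite A.left := by
    rw [← Set.finite_univ_iff]
    refine Set.Finite.of_finite_fibers (Points.ofPt a) (Set.toFinite _) ?_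
    rintro _ ⟨x₀, -, rfl⟩
    rw [Set.univ_inter]
    exact hfib x₀
  haveI : JacobsonSpace (Over.mk str).left :=
    inferInstanceAs (JacobsonSpace (Spec (CommRingCat.of k)))
  haveI : JacobsonSpace A.left := LocallyOfFiniteType.jacobsonSpace h₀.left
  haveI : DiscreteTopology A.left := inferInstance
  have hlqf : LocallyQuasiFinite h₀.left := by
    rw [locallyQuasiFinite_iff_isDiscrete_preimage_singleton]
    intro y
    rw [isDiscrete_iff_discreteTopology]
    infer_instance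
  exact Groth.Agent.Lib.Helper78.AlgSpLocP.locP_of_chart
    Groth.Agent.Lib.Helper78.AlgSpLocPLqf.etLocalST_lqf q a (𝟙 _) h₀ hae has
    (AlgSp.repWith_id _ _) (by rw [Category.comp_id, hh₀]) ⟨hlqf, hlft₀⟩

/-- In a chart diagram of `f`, the scheme-theoretic fibre of the chart morphism `h` over a point
`y` of the target chart is discrete as soon as the points of the fibre of `f` over the
residue-field point of `y` form a discrete space. -/
theorem discreteTopology_chart_fibre {X Y : AlgSp.Sp S} (hX : AlgSp.IsAlgSpace X)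
    (hY : AlgSp.IsAlgSpace Y) (f : X ⟶ Y) {A B : Over S} (a : (AlgSp.yon S).obj A ⟶ X)
    (b : (AlgSp.yon S).obj B ⟶ Y) (h : A ⟶ B) (ha : AlgSp.RepWith @Etale a)
    (hb : AlgSp.RepWith @Etale b) (comm : a ≫ f = (AlgSp.yon S).map h ≫ b)
    [hlft : LocallyOfFiniteType h.left] (y : B.left)
    (hd : DiscreteTopology (AlgSp.Points (pullback f (AlgSp.FieldPt.ofPt b y).toHom))) :
    DiscreteTopology (h.left.fiber y) := by
  have sq0 : IsPullback (h.left.fiberToSpecResidueField y) (h.left.fiberι y)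
      (B.left.fromSpecResidueField y) h.left :=
    (IsPullback.of_hasPullback h.left (B.left.fromSpecResidueField y)).flip
  have hw : h.left.fiberToSpecResidueField y ≫ B.left.fromSpecResidueField y ≫ B.hom =
      h.left.fiberι y ≫ A.hom := by
    rw [← Over.w h, ← Category.assoc, ← Category.assoc, sq0.w]
  have sqO := Groth.Agent.Lib.Helper30.isPullback_over h (h.left.fiberι y)
    (B.left.fromSpecResidueField y) (h.left.fiberToSpecResidueField y) sq0 hw
  obtain ⟨K, ι, ybar, hybar, hdisc, A', q, j, sqO', hnoeth, ⟨e⟩⟩ : ∃ (K : Over S) (ι : K ⟶ B)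
      (ybar : (AlgSp.yon S).obj K ⟶ Y), ybar = (AlgSp.yon S).map ι ≫ b ∧
      DiscreteTopology (AlgSp.Points (pullback f ybar)) ∧
      ∃ (A' : Over S) (q : A' ⟶ K) (j : A' ⟶ A), IsPullback q j ι h ∧
        IsLocallyNoetherian A'.left ∧ Nonempty (A'.left ≃ₜ h.left.fiber y) := by
    refine ⟨_, _, _, AlgSp.FieldPt.toHom_ofPt b y, hd, _, _, _, sqO, ?_, ⟨Homeomorph.refl _⟩⟩
    change IsLocallyNoetherian (pullback h.left (B.left.fromSpecResidueField y))
    infer_instance
  clear sqO hw sq0 hd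
  have sqY : IsPullback ((AlgSp.yon S).map q) ((AlgSp.yon S).map j) ((AlgSp.yon S).map ι)
      ((AlgSp.yon S).map h) := sqO'.map (AlgSp.yon S)
  have sqP := IsPullback.of_hasPullback f ybar
  have hP : AlgSp.IsAlgSpace (pullback f ybar) :=
    Groth.Agent.Lib.Helper30.isAlgSpace_of_isPullback hY.diag hX (AlgSp.IsAlgSpace.yon_obj K) sqP
  have sqQ := IsPullback.of_hasPullback f b
  have hQ : AlgSp.IsAlgSpace (pullback f b) :=
    Groth.Agent.Lib.Helper30.isAlgSpace_of_isPullback hY.diag hX (AlgSp.IsAlgSpace.yon_obj B) sqQ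
  obtain ⟨c, hc1, hc2⟩ : ∃ c : (AlgSp.yon S).obj A ⟶ pullback f b,
      c ≫ pullback.fst f b = a ∧ c ≫ pullback.snd f b = (AlgSp.yon S).map h :=
    ⟨sqQ.lift a ((AlgSp.yon S).map h) comm, sqQ.lift_fst _ _ _, sqQ.lift_snd _ _ _⟩
  have hmw : pullback.fst f ybar ≫ f = (pullback.snd f ybar ≫ (AlgSp.yon S).map ι) ≫ b := by
    rw [sqP.w, hybar, Category.assoc]
  obtain ⟨m, hm1, hm2⟩ : ∃ m : pullback f ybar ⟶ pullback f b,
      m ≫ pullback.fst f b = pullback.fst f ybar ∧
      m ≫ pullback.snd f b = pullback.snd f ybar ≫ (AlgSp.yon S).map ι :=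
    ⟨sqQ.lift _ _ hmw, sqQ.lift_fst _ _ _, sqQ.lift_snd _ _ _⟩
  have ha'w : ((AlgSp.yon S).map j ≫ a) ≫ f = (AlgSp.yon S).map q ≫ ybar := by
    rw [Category.assoc, comm, ← Category.assoc, ← sqY.w, hybar, Category.assoc]
  obtain ⟨a', ha'1, ha'2⟩ : ∃ a' : (AlgSp.yon S).obj A' ⟶ pullback f ybar,
      a' ≫ pullback.fst f ybar = (AlgSp.yon S).map j ≫ a ∧
      a' ≫ pullback.snd f ybar = (AlgSp.yon S).map q :=
    ⟨sqP.lift _ _ ha'w, sqP.lift_fst _ _ _, sqP.lift_snd _ _ _⟩
  have sqPQ : IsPullback m (pullback.snd f ybar) (pullback.snd f b) ((AlgSp.yon S).map ι) := by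
    refine IsPullback.of_right ?_ hm2 sqQ
    rw [hm1, ← hybar]; exact sqP
  have sqA' : IsPullback ((AlgSp.yon S).map j) a' c m := by
    refine IsPullback.of_bot ?_ ?_ sqPQ
    · rw [ha'2, hc2]; exact sqY.flip
    · apply sqQ.hom_ext
      · rw [Category.assoc, hc1, Category.assoc, hm1, ha'1]
      · rw [Category.assoc, hc2, Category.assoc, hm2, ← Category.assoc, ha'2]
        exact sqY.w.symm
  have hae : AlgSp.LocP @Etale a := Groth.Agent.Lib.Helper78.AlgSpMisc.locP_of_repWith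
    Groth.Agent.Lib.Helper78.AlgSpLocPSmooth.etLocalST_etale a hX.atlas ha
  have hbe : AlgSp.LocP @Etale b := Groth.Agent.Lib.Helper78.AlgSpMisc.locP_of_repWith
    Groth.Agent.Lib.Helper78.AlgSpLocPSmooth.etLocalST_etale b hY.atlas hb
  have hp1 : AlgSp.LocP @Etale (pullback.fst f b) :=
    Groth.Agent.Lib.Helper78.AlgSpSmLocal.locP_etale_baseChange (AlgSp.IsAlgSpace.yon_obj B) hY
      sqQ.flip hbe
  have hce : AlgSp.LocP @Etale c :=
    Groth.Agent.Lib.Helper78.AlgSpSmLocal.locP_etale_of_comp (AlgSp.IsAlgSpace.yon_obj A) hQ hX c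
      (pullback.fst f b) (hc1 ▸ hae) hp1
  have ha'e : AlgSp.LocP @Etale a' :=
    Groth.Agent.Lib.Helper78.AlgSpSmLocal.locP_etale_baseChange (AlgSp.IsAlgSpace.yon_obj A) hQ
      sqA' hce
  have ha'E : AlgSp.IsEtaleMor a' :=
    (Groth.Agent.Lib.Helper78.AlgSpMisc.isEtaleMor_iff_locP hP a').2 ha'e
  have hrep : AlgSp.RepWith @Etale a' := by
    have := ha'E (𝟙 _) (AlgSp.repWith_id _ A')
    rwa [Category.id_comp] at this
  haveI := hnoeth
  haveI := hdisc
  have hd : DiscreteTopology A'.left := FibDisc.discreteTopology_of_etale_chart a' hrep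
  exact e.discreteTopology

/-- A morphism `Spec Ω ⟶ Spec k` of spectra of fields over `S` gives an fpqc covering of sheaves. -/
theorem isFpqcCover_field {Ω k : Type u} [Field Ω] [Field k] (w : Spec (CommRingCat.of Ω) ⟶ S)
    (str : Spec (CommRingCat.of k) ⟶ S) (β : Over.mk w ⟶ Over.mk str) :
    AlgSp.IsFpqcCover (fun _ : PUnit.{u + 1} => (AlgSp.yon S).obj (Over.mk w))
      (fun _ => (AlgSp.yon S).map β) := by
  haveI : IsAffine (Over.mk w).left := inferInstanceAs (IsAffine (Spec (CommRingCat.of Ω)))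
  haveI : IsAffine (Over.mk str).left := inferInstanceAs (IsAffine (Spec (CommRingCat.of k)))
  haveI : Subsingleton (Over.mk str).left :=
    inferInstanceAs (Subsingleton (Spec (CommRingCat.of k)))
  haveI : IsIntegral (Over.mk str).left :=
    inferInstanceAs (IsIntegral (Spec (CommRingCat.of k)))
  haveI : Nonempty (Over.mk w).left := inferInstanceAs (Nonempty (Spec (CommRingCat.of Ω)))
  have hflat : Flat β.left := inferInstance
  have hqc : QuasiCompact β.left := inferInstance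
  have hsurj : Surjective β.left :=
    ⟨fun x => ⟨Classical.arbitrary _, Subsingleton.elim _ _⟩⟩
  refine Groth.Agent.Lib.Helper78.AlgSpFpqcSingle.isFpqcCover_single (AlgSp.IsAlgSpace.yon_obj _)
    (AlgSp.IsAlgSpace.yon_obj _) ((AlgSp.yon S).map β) ?_ ?_ ?_
  · exact Groth.Agent.Lib.Helper30.isQuasiCompactMor_of_repWith
      ((AlgSp.repWith_yon_map_iff _ _).2 hqc)
  · exact (Groth.Agent.Lib.Helper78.AlgSpLocP.locP_yon_map_iff
      Groth.Agent.Lib.Helper78.AlgSpLocPFlat.etLocalST_flat β).2 hflat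
  · exact surjective_map_of_repWith_surjective ((AlgSp.repWith_yon_map_iff _ _).2 hsurj)

/-- If the fibre of `f` over a field-valued point `p` is locally quasi-finite over the field, then
the fibre over any equivalent field-valued point `p'` has a discrete space of points. -/
theorem discreteTopology_fibre_of_rel {X Y : AlgSp.Sp S} (hX : AlgSp.IsAlgSpace X)
    (hY : AlgSp.IsAlgSpace Y) (f : X ⟶ Y) (p p' : AlgSp.FieldPt Y)
    (hrel : AlgSp.Points.mk p = AlgSp.Points.mk p')
    (Xp : AlgSp.Sp S) (fst : Xp ⟶ X) (snd : Xp ⟶ (AlgSp.yon S).obj p.pt)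
    (sq : IsPullback fst snd f p.toHom)
    (hqf : AlgSp.LocP (@LocallyQuasiFinite ⊓ @LocallyOfFiniteType) snd) :
    DiscreteTopology (AlgSp.Points (pullback f p'.toHom)) := by
  obtain ⟨Ω, _, w, α, β, hαβ⟩ := (rel_iff_toHom _ _).1 (Points.mk_eq_mk_iff.1 hrel)
  have hXp : AlgSp.IsAlgSpace Xp :=
    Groth.Agent.Lib.Helper30.isAlgSpace_of_isPullback hY.diag hX (AlgSp.IsAlgSpace.yon_obj _) sq
  obtain ⟨z, hz⟩ : ∃ z : (AlgSp.yon S).obj (Over.mk w) ⟶ Y, z = (AlgSp.yon S).map α ≫ p.toHom :=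
    ⟨_, rfl⟩
  have hz' : z = (AlgSp.yon S).map β ≫ p'.toHom := hz.trans hαβ
  have sqZ := IsPullback.of_hasPullback f z
  have hZ : AlgSp.IsAlgSpace (pullback f z) :=
    Groth.Agent.Lib.Helper30.isAlgSpace_of_isPullback hY.diag hX (AlgSp.IsAlgSpace.yon_obj _) sqZ
  have sqP' := IsPullback.of_hasPullback f p'.toHom
  have hP' : AlgSp.IsAlgSpace (pullback f p'.toHom) :=
    Groth.Agent.Lib.Helper30.isAlgSpace_of_isPullback hY.diag hX (AlgSp.IsAlgSpace.yon_obj _) sqP'
  -- the square over `p`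
  have hw1 : pullback.fst f z ≫ f = (pullback.snd f z ≫ (AlgSp.yon S).map α) ≫ p.toHom := by
    rw [sqZ.w, hz, Category.assoc]
  obtain ⟨m, hm1, hm2⟩ : ∃ m : pullback f z ⟶ Xp, m ≫ fst = pullback.fst f z ∧
      m ≫ snd = pullback.snd f z ≫ (AlgSp.yon S).map α :=
    ⟨sq.lift _ _ hw1, sq.lift_fst _ _ _, sq.lift_snd _ _ _⟩
  have sq1 : IsPullback m (pullback.snd f z) snd ((AlgSp.yon S).map α) := by
    refine IsPullback.of_right ?_ hm2 sq
    rw [hm1, ← hz]; exact sqZ
  have hqfΩ : AlgSp.LocP (@LocallyQuasiFinite ⊓ @LocallyOfFiniteType) (pullback.snd f z) :=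
    Groth.Agent.Lib.Helper78.AlgSpLocP.locP_of_isPullback
      Groth.Agent.Lib.Helper78.AlgSpLocPLqf.etLocalST_lqf sq1
      (repAll_of_isAlgSpace (AlgSp.IsAlgSpace.yon_obj _)) hXp.atlas
      (AlgSp.IsAlgSpace.yon_obj _).atlas hqf
  -- the square over `p'`
  have hw2 : pullback.fst f z ≫ f = (pullback.snd f z ≫ (AlgSp.yon S).map β) ≫ p'.toHom := by
    rw [sqZ.w, hz', Category.assoc]
  obtain ⟨m', hm'1, hm'2⟩ : ∃ m' : pullback f z ⟶ pullback f p'.toHom,
      m' ≫ pullback.fst f p'.toHom = pullback.fst f z ∧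
      m' ≫ pullback.snd f p'.toHom = pullback.snd f z ≫ (AlgSp.yon S).map β :=
    ⟨sqP'.lift _ _ hw2, sqP'.lift_fst _ _ _, sqP'.lift_snd _ _ _⟩
  have sq2 : IsPullback m' (pullback.snd f z) (pullback.snd f p'.toHom) ((AlgSp.yon S).map β) := by
    refine IsPullback.of_right ?_ hm'2 sqP'
    rw [hm'1, ← hz']; exact sqZ
  have hcov := isFpqcCover_field w p'.str β
  have hdesc := (Groth.Agent.Lib.Helper78.AlgSpLqfDesc.isLocalOnBase_fpqc_lqf S
    (fun _ : PUnit.{u + 1} => (AlgSp.yon S).obj (Over.mk w)) (fun _ => (AlgSp.yon S).map β)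
    (AlgSp.IsAlgSpace.yon_obj _) (fun _ => AlgSp.IsAlgSpace.yon_obj _) hcov
    (pullback.snd f p'.toHom) hP' (fun _ => pullback f z) (fun _ => pullback.snd f z)
    (fun _ => m') (fun _ => hZ) (fun _ => sq2)).2 (fun _ => hqfΩ)
  exact FibDisc.discreteTopology_fibre_of_lqf hP' (AlgSp.IsAlgSpace.yon_obj _)
    (pullback.snd f p'.toHom) hdesc p'.K p'.str (𝟙 _) _ (𝟙 _) (pullback.snd f p'.toHom)
    (IsPullback.id_horiz _)

end Groth.Agent.Lib.Helper30.FinFib
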