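import Groth.Agent.Lib.Helper98.AlgSpPtLocal
import Groth.Agent.Lib.Helper78.AlgSpLocP
import Groth.Agent.Lib.Helper51.AlgSpOpen
import Groth.Agent.Lib.Helper51.AlgSpPoints2

/-!
# "P near a point" as an étale local pointwise property (helper30)

For a property `P` of morphisms of schemes which is étale local on the source and target
(`EtLocalST P`), the pointwise property `Near P h u` (`P` holds for `h` on an open neighbourhood of
`u`) is `EtLocalPt`; a morphism of algebraic spaces is `LocP P` as soon as it is `Near P` at every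
point, and the restriction of `f` to an open on which it is `Near P` is `LocP P`.
-/

set_option autoImplicit false
set_option linter.unusedSectionVars false
universe u
set_option maxHeartbeats 800000
set_option backward.isDefEq.respectTransparency false

open CategoryTheory CategoryTheory.Limits AlgebraicGeometry AlgSp
open Groth.Agent.Lib.Helper51 Groth.Agent.Lib.Helper52
open Groth.Agent.Lib.Helper31.AlgSpFlatAt Groth.Agent.Lib.Helper98.AlgSpPtLocal
open Groth.Agent.Lib.Helper78.AlgSpLocP

namespace Groth.Agent.Lib.Helper30.Near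

/-- `P` holds for `h` on an open neighbourhood of `u`. -/
def Near (P : MorphismProperty Scheme.{u}) : ∀ (U V : Scheme.{u}), (U ⟶ V) → ↥U → Prop :=
  fun U _ h u => ∃ W : U.Opens, u ∈ W ∧ P (W.ι ≫ h)

theorem isOpen_near (P : MorphismProperty Scheme.{u}) {U V : Scheme.{u}} (h : U ⟶ V) :
    IsOpen {u : U | Near P U V h u} := by
  rw [isOpen_iff_forall_mem_open]
  rintro u ⟨W, hu, h1⟩
  exact ⟨W, fun u' hu' => ⟨W, hu', h1⟩, W.2, hu⟩

theorem etLocalPt_near {P : MorphismProperty Scheme.{u}} (hP : EtLocalST P) :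
    EtLocalPt (Near P) where
  precomp := by
    rintro A B C e h _ a ⟨W, ha, h1⟩
    have key : (e ⁻¹ᵁ W).ι ≫ e ≫ h = (e ∣_ W) ≫ W.ι ≫ h := by
      rw [← Category.assoc, ← Category.assoc, morphismRestrict_ι]
    refine ⟨e ⁻¹ᵁ W, ha, ?_⟩
    rw [key]
    exact hP.precomp _ _ inferInstance h1
  postcomp := by
    rintro A B C h e _ a ⟨W, ha, h1⟩
    refine ⟨W, ha, ?_⟩
    rw [← Category.assoc]
    exact hP.postcomp _ _ h1 inferInstance
  descend := by
    rintro A B C e h _ a ⟨W, ha, h1⟩
    set j : (W : Scheme.{u}) ⟶ B := W.ι ≫ e with hj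
    have hopen : IsOpen (Set.range j) := j.isOpenMap.isOpen_range
    let W' : B.Opens := ⟨Set.range j, hopen⟩
    have hle : Set.range j ⊆ Set.range W'.ι := by
      rw [Scheme.Opens.range_ι]; exact subset_rfl
    let j' : (W : Scheme.{u}) ⟶ W' := IsOpenImmersion.lift W'.ι j hle
    have fac : j' ≫ W'.ι = j := IsOpenImmersion.lift_fac _ _ _
    have hj'e : Etale j' :=
      MorphismProperty.of_postcomp (W := @Etale) (W' := @Etale) j' W'.ι inferInstance
        (by rw [fac]; infer_instance)
    have hj's : Surjective j' := ⟨fun w' => by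
      obtain ⟨w, hw⟩ := w'.2
      refine ⟨w, ?_⟩
      apply W'.ι.isOpenEmbedding.injective
      rw [← Scheme.Hom.comp_apply, fac]
      exact hw⟩
    have e1 : j' ≫ (W'.ι ≫ h) = W.ι ≫ e ≫ h := by
      rw [← Category.assoc, fac, hj, Category.assoc]
    refine ⟨W', ⟨⟨a, ha⟩, rfl⟩, hP.descend j' _ hj'e hj's ?_⟩
    rw [e1]; exact h1
  cancel := by
    rintro A B C g e _ a ⟨W, ha, h1⟩
    refine ⟨W, ha, hP.cancel _ e inferInstance ?_⟩
    rw [Category.assoc]; exact h1

variable {S : Scheme.{u}}

/-- A morphism which has `P` near every point has `P` etale locally. -/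
theorem locP_of_forall_hasAtMor_near {P : MorphismProperty Scheme.{u}} (hP : EtLocalST P)
    [IsZariskiLocalAtSource P] {X Y : AlgSp.Sp S} (f : X ⟶ Y)
    (H : ∀ x, HasAtMor (Near P) f x) : LocP P f := by
  intro U V a b h ha hb comm
  have hu : ∀ u : U.left, Near P _ _ h.left u := fun u =>
    (hasAtMor_iff_of_chart (etLocalPt_near hP) f a b h ha hb comm u).1 (H _)
  choose W hW1 hW2 using hu
  have hcov : iSup W = ⊤ :=
    top_le_iff.1 fun u _ => TopologicalSpace.Opens.mem_iSup.2 ⟨u, hW1 u⟩
  exact IsZariskiLocalAtSource.of_iSup_eq_top W hcov hW2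

/-- The restriction of `f` to an open subspace on which `f` has `P` near every point has `P`. -/
theorem locP_openSpι_comp {P : MorphismProperty Scheme.{u}} (hP : EtLocalST P)
    [IsZariskiLocalAtSource P] {X Y : AlgSp.Sp S}
    (f : X ⟶ Y) (O : Set (Points X)) (hO : IsOpen O) (hOu : ∀ x ∈ O, HasAtMor (Near P) f x) :
    LocP P (openSpι X O ≫ f) := by
  have hι : AlgSp.RepWith @IsOpenImmersion (openSpι X O) := repWith_isOpenImmersion_openSpι O hO
  have : Mono (openSpι X O) :=
    mono_of_repWith (fun g (_ : IsOpenImmersion g) => inferInstance) hι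
  apply locP_of_forall_hasAtMor_near hP
  intro xu
  have hx : Points.map (openSpι X O) xu ∈ O := by
    have : Points.map (openSpι X O) xu ∈ Set.range (Points.map (openSpι X O)) := ⟨_, rfl⟩
    rwa [range_map_openSpι] at this
  obtain ⟨U, V, a, b, h, u, ha, hb, comm, hu, hq⟩ := hOu _ hx
  have sq := hι.1.isPullback a
  have he : IsOpenImmersion (hι.1.snd a).left := hι.2 a _ _ sq
  have ha' : AlgSp.RepWith @Etale (hι.1.fst a) :=
    MorphismProperty.of_isPullback sq.flip ha
  have hmem : Points.ofPt a u ∈ Set.range (Points.map (openSpι X O)) := ⟨xu, hu.symm⟩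
  obtain ⟨u', hu'⟩ := (ofPt_mem_range_map_iff sq u).1 hmem
  refine ⟨hι.1.pullback a, V, hι.1.fst a, b, hι.1.snd a ≫ h, u', ha', hb, ?_, ?_, ?_⟩
  · rw [← Category.assoc, sq.w, Category.assoc, comm, Functor.map_comp, Category.assoc]
  · apply injective_map_of_mono (openSpι X O)
    rw [Points.map_ofPt, sq.w, ofPt_yon_map_comp, hu', hu]
  · have := (etLocalPt_near hP).precomp (hι.1.snd a).left h.left u' (by rw [hu']; exact hq)
    exact this

end Groth.Agent.Lib.Helper30.Near
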