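import Groth.Agent.Lib.Helper30.AlgSpZMT6
import Groth.Agent.Lib.Helper78.AlgSpLocPLqf
import Groth.Agent.Lib.Helper78.AlgSpLocPLoft
import Groth.Agent.Lib.Helper78.AlgSpLocPUnram

/-!
# Stacks 03XX: separated + locally quasi-finite over a scheme implies scheme (helper30)
-/

set_option autoImplicit false
set_option maxHeartbeats 1600000
set_option backward.isDefEq.respectTransparency false
set_option linter.unusedSectionVars false
universe u
open CategoryTheory CategoryTheory.Limits AlgebraicGeometry Opposite TopologicalSpace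

namespace Groth.Agent.Lib.Helper30.ZMT

open AlgSp Groth.Agent.Lib.Helper51 Groth.Agent.Lib.Helper52
open Groth.Agent.Lib.Helper78.AlgSpBasic Groth.Agent.Lib.Helper78.AlgSpFibre
open Groth.Agent.Lib.Helper51.KerAt

variable {S : Scheme.{u}}

/-- **Stacks 03XX, affine base.** -/
theorem exists_iso_yon_of_sep_lqf_affine {T : Over S} [IsAffine T.left] {X : AlgSp.Sp S}
    (hX : AlgSp.IsAlgSpace X) (f : X ⟶ (AlgSp.yon S).obj T) (hsep : AlgSp.IsSeparatedMor f)
    (hqf : AlgSp.LocP (@LocallyQuasiFinite ⊓ @LocallyOfFiniteType) f) :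
    ∃ W : Over S, Nonempty ((AlgSp.yon S).obj W ≅ X) :=
  exists_iso_yon_of_schematicLocus hX
    (fun x => mem_schematicLocus_of_sep_lqf_affine hX f hsep hqf x)

/-- **Stacks 03XX.** An algebraic space separated and locally quasi-finite over a scheme is a
scheme. -/
theorem exists_iso_yon_of_sep_lqf {T : Over S} {X : AlgSp.Sp S}
    (hX : AlgSp.IsAlgSpace X) (f : X ⟶ (AlgSp.yon S).obj T) (hsep : AlgSp.IsSeparatedMor f)
    (hqf : AlgSp.LocP (@LocallyQuasiFinite ⊓ @LocallyOfFiniteType) f) :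
    ∃ W : Over S, Nonempty ((AlgSp.yon S).obj W ≅ X) := by
  apply exists_iso_yon_of_schematicLocus hX
  intro x
  obtain ⟨T₀, ι₀, t₀, hT₀, hι₀, ht₀⟩ :=
    exists_affine_open_over T (Points.toScheme T (Points.map f x))
  have hyT : AlgSp.IsAlgSpace ((AlgSp.yon S).obj T) := AlgSp.IsAlgSpace.yon_obj T
  have hyT₀ : AlgSp.IsAlgSpace ((AlgSp.yon S).obj T₀) := AlgSp.IsAlgSpace.yon_obj T₀
  obtain ⟨X₀, b₀, f₀, sq₀⟩ : ∃ (X₀ : AlgSp.Sp S) (b₀ : X₀ ⟶ X)
      (f₀ : X₀ ⟶ (AlgSp.yon S).obj T₀), IsPullback b₀ f₀ f ((AlgSp.yon S).map ι₀) :=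
    ⟨_, _, _, IsPullback.of_hasPullback f ((AlgSp.yon S).map ι₀)⟩
  have hι₀rep : AlgSp.RepWith @IsOpenImmersion ((AlgSp.yon S).map ι₀) :=
    (AlgSp.repWith_yon_map_iff _ ι₀).2 hι₀
  have hb₀ : AlgSp.RepWith @IsOpenImmersion b₀ := MorphismProperty.of_isPullback sq₀.flip hι₀rep
  have hX₀ : AlgSp.IsAlgSpace X₀ :=
    Groth.Agent.Lib.Helper30.isAlgSpace_of_isPullback hyT.diag hX hyT₀ sq₀
  have hf₀sep : AlgSp.IsSeparatedMor f₀ :=
    MorphismProperty.of_isPullback (P := (AlgSp.RepWith (S := S) @IsClosedImmersion).diagonal)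
      sq₀ hsep
  have hf₀qf : AlgSp.LocP (@LocallyQuasiFinite ⊓ @LocallyOfFiniteType) f₀ := by
    intro U V a b h ha hb comm
    refine hqf (a ≫ b₀) (b ≫ (AlgSp.yon S).map ι₀) h
      ((AlgSp.RepWith @Etale).comp_mem _ _ ha (repWith_etale_of_isOpenImmersion' _ hb₀))
      ((AlgSp.RepWith @Etale).comp_mem _ _ hb (repWith_etale_of_isOpenImmersion' _ hι₀rep)) ?_
    rw [Category.assoc, sq₀.w, ← Category.assoc, comm, Category.assoc]
  obtain ⟨x₀, hx₀, -⟩ := exists_point_of_isPullback sq₀ x (Points.ofScheme T₀ t₀) (by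
    rw [map_yon_map_ofScheme, ht₀, Points.ofScheme_toScheme])
  obtain ⟨W, ⟨eW⟩⟩ := exists_iso_yon_of_sep_lqf_affine hX₀ f₀ hf₀sep hf₀qf
  have hc : AlgSp.RepWith @IsOpenImmersion (eW.hom ≫ b₀) :=
    (AlgSp.RepWith @IsOpenImmersion).comp_mem _ _ (repWith_of_isIso _ eW.hom) hb₀
  apply range_map_subset_schematicLocus _ hc
  refine ⟨Points.map eW.inv x₀, ?_⟩
  rw [← Points.map_comp, Iso.inv_hom_id_assoc, hx₀]

/-- **Stacks 03XX, relative form.** A separated locally quasi-finite morphism of algebraic spaces is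
representable. -/
theorem representable_of_sep_lqf {X Y : AlgSp.Sp S} (hX : AlgSp.IsAlgSpace X)
    (hY : AlgSp.IsAlgSpace Y) (f : X ⟶ Y) (hsep : AlgSp.IsSeparatedMor f)
    (hqf : AlgSp.LocP (@LocallyQuasiFinite ⊓ @LocallyOfFiniteType) f) :
    AlgSp.Representable f := by
  intro T t
  have hyT : AlgSp.IsAlgSpace ((AlgSp.yon S).obj T) := AlgSp.IsAlgSpace.yon_obj T
  have sqT := IsPullback.of_hasPullback f t
  have hXT : AlgSp.IsAlgSpace (pullback f t) :=
    Groth.Agent.Lib.Helper30.isAlgSpace_of_isPullback hY.diag hX hyT sqT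
  have hsT : AlgSp.IsSeparatedMor (pullback.snd f t) :=
    MorphismProperty.of_isPullback (P := (AlgSp.RepWith (S := S) @IsClosedImmersion).diagonal)
      sqT hsep
  have hlT : AlgSp.LocP (@LocallyQuasiFinite ⊓ @LocallyOfFiniteType) (pullback.snd f t) :=
    Groth.Agent.Lib.Helper78.AlgSpLocP.locP_of_isPullback
      Groth.Agent.Lib.Helper78.AlgSpLocPLqf.etLocalST_lqf sqT (repAll_of_isAlgSpace hY)
      hX.atlas hY.atlas hqf
  obtain ⟨V, ⟨eV⟩⟩ := exists_iso_yon_of_sep_lqf hXT (pullback.snd f t) hsT hlT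
  obtain ⟨snd, hsnd⟩ := (AlgSp.yon S).map_surjective (eV.hom ≫ pullback.snd f t)
  refine ⟨V, snd, eV.hom ≫ pullback.fst f t, ?_⟩
  rw [hsnd]
  exact IsPullback.of_iso sqT eV.symm (Iso.refl _) (Iso.refl _) (Iso.refl _) (by simp) (by simp)
    (by simp) (by simp)

end Groth.Agent.Lib.Helper30.ZMT
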