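import Groth.Agent.Lib.Helper30.AlgSpFpqc2
import Groth.Agent.Lib.Helper30.AlgSpLoc
import Groth.Agent.Lib.Helper51.AlgSpEtaleMor
import Groth.Agent.Lib.Helper51.AlgSpCharts
import Groth.Agent.S9938
import Mathlib.AlgebraicGeometry.Morphisms.FlatMono

/-!
# Étale monomorphisms of algebraic spaces are open immersions (helper30)

* `isOpenImmersion_of_isEtaleMor_mono_square` : a base change to schemes of an étale monomorphism is an
  open immersion.
* `repWith_isOpenImmersion_diagonal_of_isEtaleMor` : the diagonal of an étale morphism is an open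
  immersion.
* `mono_of_isEtaleMor_of_isUnivInjectiveMor` : étale + universally injective ⇒ monomorphism.
* `repWith_isOpenImmersion_of_isEtaleMor_mono` : an étale monomorphism of algebraic spaces is
  representable by open immersions.
-/

set_option autoImplicit false
set_option linter.unusedSectionVars false
universe u
set_option maxHeartbeats 400000

set_option backward.isDefEq.respectTransparency false

open CategoryTheory CategoryTheory.Limits AlgebraicGeometry MorphismProperty AlgSp
open Groth.Agent.Lib.Helper51 Groth.Agent.Lib.Helper52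

namespace Groth.Agent.Lib.Helper30

variable {S : Scheme.{u}}

/-- A representable étale surjective-on-points... : if the diagonal is étale and surjective then `f` is
a monomorphism. -/
theorem mono_of_diagonal_etale_surjective {X Y : AlgSp.Sp S} (f : X ⟶ Y)
    (he : AlgSp.RepWith @Etale (pullback.diagonal f))
    (hs : AlgSp.RepWith @Surjective (pullback.diagonal f)) : Mono f := by
  have hepi : Epi (pullback.diagonal f) := epi_of_repWith_etale_surjective _ he hs
  have heq : pullback.fst f f = pullback.snd f f := by
    rw [← cancel_epi (pullback.diagonal f)]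
    simp
  refine ⟨fun {G} u v huv => ?_⟩
  have h1 : pullback.lift u v huv ≫ pullback.fst f f = u := pullback.lift_fst _ _ _
  have h2 : pullback.lift u v huv ≫ pullback.snd f f = v := pullback.lift_snd _ _ _
  exact h1.symm.trans ((congrArg (pullback.lift u v huv ≫ ·) heq).trans h2)

/-- A base change to schemes of an étale monomorphism of algebraic spaces is an open immersion. -/
theorem isOpenImmersion_of_isEtaleMor_mono_square {X Y : AlgSp.Sp S} (hX : AlgSp.IsAlgSpace X)
    (hY : AlgSp.IsAlgSpace Y) (f : X ⟶ Y) (hf : AlgSp.IsEtaleMor f) [Mono f] {T V : Over S}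
    (g : (AlgSp.yon S).obj T ⟶ Y) (fst : (AlgSp.yon S).obj V ⟶ X) (snd : V ⟶ T)
    (sq : IsPullback fst ((AlgSp.yon S).map snd) f g) : IsOpenImmersion snd.left := by
  have h1 : AlgSp.IsEtaleMor ((AlgSp.yon S).map snd) :=
    isEtaleMor_of_isPullback hX hY (AlgSp.IsAlgSpace.yon_obj T) sq.flip hf
  have h2 : Etale snd.left := (AlgSp.isEtaleMor_yon_map_iff snd).1 h1
  have h3 : Mono ((AlgSp.yon S).map snd) := sq.mono_snd_of_mono
  have h4 : Mono snd := (AlgSp.yon S).mono_of_mono_map h3
  have h5 : Mono snd.left := inferInstance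
  exact IsOpenImmersion.of_flat_of_mono snd.left

theorem isEtaleMor_id (X : AlgSp.Sp S) : AlgSp.IsEtaleMor (𝟙 X) := by
  intro U φ hφ
  rw [Category.comp_id]
  exact hφ

/-- The diagonal of an étale morphism of algebraic spaces is representable by open immersions. -/
theorem repWith_isOpenImmersion_diagonal_of_isEtaleMor {X Y : AlgSp.Sp S}
    (hX : AlgSp.IsAlgSpace X) (hY : AlgSp.IsAlgSpace Y) (f : X ⟶ Y) (hf : AlgSp.IsEtaleMor f) :
    AlgSp.RepWith @IsOpenImmersion (pullback.diagonal f) := by
  have hP : AlgSp.IsAlgSpace (pullback f f) :=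
    isAlgSpace_of_isPullback hY.diag hX hX (IsPullback.of_hasPullback f f)
  have h1 : AlgSp.IsEtaleMor (pullback.fst f f) :=
    isEtaleMor_of_isPullback hX hY hX (IsPullback.of_hasPullback f f) hf
  have h2 : AlgSp.IsEtaleMor (pullback.diagonal f) := by
    refine isEtaleMor_of_comp hP (pullback.diagonal f) (pullback.fst f f) ?_ h1
    rw [pullback.diagonal_fst]
    exact isEtaleMor_id X
  refine ⟨representable_diagonal hX.diag f, ?_⟩
  intro T V g fst snd sq
  exact isOpenImmersion_of_isEtaleMor_mono_square hX hP (pullback.diagonal f) h2 g fst snd sq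

/-- An étale, universally injective morphism of algebraic spaces is a monomorphism. -/
theorem mono_of_isEtaleMor_of_isUnivInjectiveMor {X Y : AlgSp.Sp S}
    (hX : AlgSp.IsAlgSpace X) (hY : AlgSp.IsAlgSpace Y) (f : X ⟶ Y) (hf : AlgSp.IsEtaleMor f)
    (hinj : AlgSp.IsUnivInjectiveMor f) : Mono f := by
  have hΔ := repWith_isOpenImmersion_diagonal_of_isEtaleMor hX hY f hf
  have he : AlgSp.RepWith @Etale (pullback.diagonal f) := by
    refine MorphismProperty.relative_monotone ?_ _ hΔ
    intro A B k hk
    have : IsOpenImmersion k.left := hk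
    show Etale k.left
    infer_instance
  have hs : AlgSp.RepWith @Surjective (pullback.diagonal f) :=
    repWith_surjective_of_surjective_map hΔ.1 (Groth.Agent.S9938.diagSurj_of_univInj hX f hinj)
  exact mono_of_diagonal_etale_surjective f he hs

/-- An étale monomorphism from an algebraic space to a scheme is representable by open
immersions. -/
theorem repWith_isOpenImmersion_of_isEtaleMor_mono_yon {X : AlgSp.Sp S} (hX : AlgSp.IsAlgSpace X)
    {T : Over S} (f : X ⟶ (AlgSp.yon S).obj T) (hf : AlgSp.IsEtaleMor f) [Mono f] :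
    AlgSp.RepWith @IsOpenImmersion f := by
  obtain ⟨W, c, hce, hcs⟩ := hX.atlas
  have hO : IsOpen (Set.range (Points.map f)) :=
    (isOpenMap_map_of_isEtaleMor f hf c hce hcs).isOpen_range
  have hj := repWith_isOpenImmersion_openSpι (F := (AlgSp.yon S).obj T) _ hO
  have hjm : Mono (openSpι ((AlgSp.yon S).obj T) (Set.range (Points.map f))) := inferInstance
  obtain ⟨f₀, hf₀⟩ := exists_factor_of_range_subset _ hj f
    (by rw [range_map_openSpι])
  have hm : Mono f₀ := by
    have : Mono (f₀ ≫ openSpι ((AlgSp.yon S).obj T) (Set.range (Points.map f))) := by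
      rw [hf₀]; infer_instance
    exact mono_of_mono f₀ (openSpι ((AlgSp.yon S).obj T) (Set.range (Points.map f)))
  have hce' : AlgSp.RepWith @Etale (c ≫ f₀) := by
    refine repWith_of_comp_mono @Etale (c ≫ f₀)
      (openSpι ((AlgSp.yon S).obj T) (Set.range (Points.map f))) ?_
    rw [Category.assoc, hf₀]
    exact hf c hce
  have hcs' : AlgSp.RepWith @Surjective (c ≫ f₀) := by
    refine repWith_surjective_of_surjective_map hce'.1 ?_
    intro y
    have hy : Points.map (openSpι ((AlgSp.yon S).obj T) (Set.range (Points.map f))) y ∈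
        Set.range (Points.map f) := by
      have := Set.mem_range_self (f := Points.map
        (openSpι ((AlgSp.yon S).obj T) (Set.range (Points.map f)))) y
      rwa [range_map_openSpι] at this
    obtain ⟨x, hx⟩ := hy
    obtain ⟨w, rfl⟩ := surjective_map_of_repWith_surjective hcs x
    refine ⟨w, ?_⟩
    apply injective_map_of_mono (openSpι ((AlgSp.yon S).obj T) (Set.range (Points.map f)))
    rw [← Points.map_comp, Category.assoc, hf₀, Points.map_comp]
    exact hx
  have hepi : Epi (c ≫ f₀) := epi_of_repWith_etale_surjective _ hce' hcs'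
  have hepi' : Epi f₀ := epi_of_epi c f₀
  have hiso : IsIso f₀ := isIso_of_mono_of_epi f₀
  rw [← hf₀]
  exact ((AlgSp.RepWith @IsOpenImmersion).cancel_left_of_respectsIso f₀ _).2 hj

/-- An étale monomorphism of algebraic spaces is representable by open immersions. -/
theorem repWith_isOpenImmersion_of_isEtaleMor_mono {X Y : AlgSp.Sp S} (hX : AlgSp.IsAlgSpace X)
    (hY : AlgSp.IsAlgSpace Y) (f : X ⟶ Y) (hf : AlgSp.IsEtaleMor f) [Mono f] :
    AlgSp.RepWith @IsOpenImmersion f := by
  have hrep : AlgSp.Representable f := by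
    intro T t
    have sqT := IsPullback.of_hasPullback f t
    have hXT : AlgSp.IsAlgSpace (pullback f t) :=
      isAlgSpace_of_isPullback hY.diag hX (AlgSp.IsAlgSpace.yon_obj T) sqT
    have hfT : AlgSp.IsEtaleMor (pullback.snd f t) :=
      isEtaleMor_of_isPullback hX hY (AlgSp.IsAlgSpace.yon_obj T) sqT.flip hf
    have hmT : Mono (pullback.snd f t) := sqT.mono_snd_of_mono
    have hR := repWith_isOpenImmersion_of_isEtaleMor_mono_yon hXT (pullback.snd f t) hfT
    obtain ⟨V, snd, fst, sqV⟩ := hR.1 (𝟙 _)
    refine ⟨V, snd, fst ≫ pullback.fst f t, ?_⟩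
    have := sqV.paste_horiz sqT
    rwa [Category.id_comp] at this
  refine ⟨hrep, ?_⟩
  intro T V g fst snd sq
  exact isOpenImmersion_of_isEtaleMor_mono_square hX hY f hf g fst snd sq

end Groth.Agent.Lib.Helper30
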