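import Groth.Agent.Lib.Helper30.AlgSpLoc

/-!
Universally closed, separated and proper morphisms of algebraic spaces: base change, composition,
cancellation (helper30).
-/

set_option autoImplicit false
set_option linter.unusedSectionVars false
universe u
open CategoryTheory CategoryTheory.Limits AlgebraicGeometry Opposite

set_option backward.isDefEq.respectTransparency false

namespace Groth.Agent.Lib.Helper30

open AlgSp Groth.Agent.Lib.Helper51 Groth.Agent.Lib.Helper52

variable {S : Scheme.{u}}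

/-- `UnivSp Q` is stable under base change. -/
theorem univSp_snd_of_isPullback (Q : MorphismProperty (AlgSp.Sp S)) {P X Y Y' : AlgSp.Sp S}
    {fst : P ⟶ X} {snd : P ⟶ Y'} {f : X ⟶ Y} {g : Y' ⟶ Y} (sq : IsPullback fst snd f g)
    (hf : AlgSp.UnivSp Q f) : AlgSp.UnivSp Q snd := by
  intro Z W hZ c a b sqW
  exact hf hZ (c ≫ g) (a ≫ fst) b (sqW.paste_horiz sq)

theorem isUnivClosedMor_snd_of_isPullback {P X Y Y' : AlgSp.Sp S}
    {fst : P ⟶ X} {snd : P ⟶ Y'} {f : X ⟶ Y} {g : Y' ⟶ Y} (sq : IsPullback fst snd f g)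
    (hf : AlgSp.IsUnivClosedMor f) : AlgSp.IsUnivClosedMor snd :=
  univSp_snd_of_isPullback _ sq hf

/-- `UnivSp Q` is stable under composition of morphisms of algebraic spaces when `Q` is. -/
theorem univSp_comp (Q : MorphismProperty (AlgSp.Sp S))
    (hQ : ∀ {A B C : AlgSp.Sp S} (u : A ⟶ B) (v : B ⟶ C), Q u → Q v → Q (u ≫ v))
    {X Y Z : AlgSp.Sp S} (hY : AlgSp.IsAlgSpace Y)
    (hZ : AlgSp.IsAlgSpace Z) {f : X ⟶ Y} {g : Y ⟶ Z} (hf : AlgSp.UnivSp Q f)
    (hg : AlgSp.UnivSp Q g) : AlgSp.UnivSp Q (f ≫ g) := by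
  intro W P hW w pX pW sqP
  have sqQ := IsPullback.of_hasPullback g w
  have hQa : AlgSp.IsAlgSpace (pullback g w) := isAlgSpace_of_isPullback hZ.diag hY hW sqQ
  have hw : (pX ≫ f) ≫ g = pW ≫ w := by rw [Category.assoc, sqP.w]
  have h1 : pullback.lift (pX ≫ f) pW hw ≫ pullback.fst g w = pX ≫ f := pullback.lift_fst _ _ _
  have h2 : pullback.lift (pX ≫ f) pW hw ≫ pullback.snd g w = pW := pullback.lift_snd _ _ _
  have sqm : IsPullback pX (pullback.lift (pX ≫ f) pW hw) f (pullback.fst g w) := by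
    refine IsPullback.of_bot ?_ h1.symm sqQ
    rw [h2]
    exact sqP
  have c1 := hf hQa _ _ _ sqm
  have c2 := hg hW w _ _ sqQ
  rw [← h2]
  exact hQ _ _ c1 c2

theorem isUnivClosedMor_comp {X Y Z : AlgSp.Sp S} (hY : AlgSp.IsAlgSpace Y)
    (hZ : AlgSp.IsAlgSpace Z) {f : X ⟶ Y} {g : Y ⟶ Z} (hf : AlgSp.IsUnivClosedMor f)
    (hg : AlgSp.IsUnivClosedMor g) : AlgSp.IsUnivClosedMor (f ≫ g) := by
  refine univSp_comp _ ?_ hY hZ hf hg
  intro A B C u v hu hv
  show IsClosedMap (Points.map (u ≫ v))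
  have : Points.map (u ≫ v) = Points.map v ∘ Points.map u := funext (Points.map_comp u v)
  rw [this]
  exact IsClosedMap.comp hv hu

theorem isUnivOpenMor_comp {X Y Z : AlgSp.Sp S} (hY : AlgSp.IsAlgSpace Y)
    (hZ : AlgSp.IsAlgSpace Z) {f : X ⟶ Y} {g : Y ⟶ Z} (hf : AlgSp.IsUnivOpenMor f)
    (hg : AlgSp.IsUnivOpenMor g) : AlgSp.IsUnivOpenMor (f ≫ g) := by
  refine univSp_comp _ ?_ hY hZ hf hg
  intro A B C u v hu hv
  show IsOpenMap (Points.map (u ≫ v))
  have : Points.map (u ≫ v) = Points.map v ∘ Points.map u := funext (Points.map_comp u v)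
  rw [this]
  exact IsOpenMap.comp hv hu

/-- A universally closed morphism to an algebraic space is closed on points. -/
theorem isClosedMap_of_isUnivClosedMor {X Y : AlgSp.Sp S} (hY : AlgSp.IsAlgSpace Y) {f : X ⟶ Y}
    (hf : AlgSp.IsUnivClosedMor f) : IsClosedMap (Points.map f) :=
  hf hY (𝟙 Y) (𝟙 X) f IsPullback.of_id_fst

/-- A closed immersion is universally closed. -/
theorem isUnivClosedMor_of_repWith_isClosedImmersion {X Y : AlgSp.Sp S} {f : X ⟶ Y}
    (hf : AlgSp.RepWith @IsClosedImmersion f) : AlgSp.IsUnivClosedMor f := by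
  refine isUnivClosedMor_of_repWith (MorphismProperty.relative_monotone ?_ _ hf)
  intro A B k hk
  have : IsClosedImmersion k.left := hk
  show UniversallyClosed k.left
  infer_instance

/-- A separated morphism is quasi-separated. -/
theorem isQuasiSeparatedMor_of_isSeparatedMor {X Y : AlgSp.Sp S} {f : X ⟶ Y}
    (hf : AlgSp.IsSeparatedMor f) : AlgSp.IsQuasiSeparatedMor f := by
  refine MorphismProperty.relative_monotone ?_ _ hf
  intro A B k hk
  have : IsClosedImmersion k.left := hk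
  show QuasiCompact k.left
  infer_instance

/-- The graph `X ⟶ X ×_B Y` of `f : X ⟶ Y` over `B` has every base-change-stable property of the
diagonal of `Y ⟶ B`. -/
theorem graph_of_diagonal (R : MorphismProperty (AlgSp.Sp S)) [R.IsStableUnderBaseChange]
    {X Y B : AlgSp.Sp S} (f : X ⟶ Y) (q : Y ⟶ B) (hq : R (pullback.diagonal q)) :
    R (pullback.lift (𝟙 X) f (by simp) : X ⟶ pullback (f ≫ q) q) :=
  MorphismProperty.of_isPullback (pullback_lift_diagonal_isPullback f q) hq

/-- Cancellation: if the diagonal of `f ≫ q` has a base-change-stable property `R`, so does the diagonal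
of `f`. -/
theorem diagonal_of_diagonal_comp (R : MorphismProperty (AlgSp.Sp S)) [R.IsStableUnderBaseChange]
    {X Y B : AlgSp.Sp S} (f : X ⟶ Y) (q : Y ⟶ B) (h : R (pullback.diagonal (f ≫ q))) :
    R (pullback.diagonal f) := by
  rw [pullback.diagonal_comp] at h
  exact MorphismProperty.of_isPullback (isPullback_id_of_mono _ _) h

/-- Over a separated `q : Y ⟶ B`, a morphism `f : X ⟶ Y` with `f ≫ q` universally closed is universally
closed. -/
theorem isUnivClosedMor_of_comp_of_isSeparatedMor {X Y B : AlgSp.Sp S} (hX : AlgSp.IsAlgSpace X)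
    (hY : AlgSp.IsAlgSpace Y) (hB : AlgSp.IsAlgSpace B) (f : X ⟶ Y) (q : Y ⟶ B)
    (hq : AlgSp.IsSeparatedMor q) (hp : AlgSp.IsUnivClosedMor (f ≫ q)) :
    AlgSp.IsUnivClosedMor f := by
  have hΓ := isUnivClosedMor_of_repWith_isClosedImmersion
    (graph_of_diagonal (AlgSp.RepWith @IsClosedImmersion) f q hq)
  have sqs := IsPullback.of_hasPullback (f ≫ q) q
  have hs : AlgSp.IsUnivClosedMor (pullback.snd (f ≫ q) q) :=
    isUnivClosedMor_snd_of_isPullback sqs hp
  have hP : AlgSp.IsAlgSpace (pullback (f ≫ q) q) := isAlgSpace_of_isPullback hB.diag hX hY sqs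
  have := isUnivClosedMor_comp hP hY hΓ hs
  rwa [pullback.lift_snd] at this

end Groth.Agent.Lib.Helper30
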