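import Groth.Agent.Lib.Helper30.AlgSpFib

/-!
Quasi-compact morphisms of algebraic spaces (helper30): descent of quasi-compactness along
surjective / open surjective maps.
-/

set_option autoImplicit false
set_option linter.unusedSectionVars false
universe u
open CategoryTheory CategoryTheory.Limits AlgebraicGeometry Opposite

set_option backward.isDefEq.respectTransparency false

namespace Groth.Agent.Lib.Helper30

open AlgSp Groth.Agent.Lib.Helper51 Groth.Agent.Lib.Helper52

variable {S : Scheme.{u}}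

/-- The target of a map of sheaves which is surjective on points, with quasi-compact source and target an
algebraic space, is quasi-compact. -/
theorem isQuasiCompactSp_of_surjective {F G : AlgSp.Sp S} (hG : AlgSp.IsAlgSpace G) (f : F ⟶ G)
    (hs : Function.Surjective (Points.map f)) (hF : AlgSp.IsQuasiCompactSp F) :
    AlgSp.IsQuasiCompactSp G := by
  rw [isQuasiCompactSp_iff_compactSpace_points hG]
  have hc := compactSpace_points_of_isQuasiCompactSp hF
  constructor
  rw [← hs.range_eq]
  exact isCompact_range (Points.continuous_map f)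

/-- Surjectivity on points is stable under base change. -/
theorem surjective_map_snd_of_isPullback {P X Y Y' : AlgSp.Sp S} {fst : P ⟶ X} {snd : P ⟶ Y'}
    {f : X ⟶ Y} {g : Y' ⟶ Y} (sq : IsPullback fst snd f g)
    (hf : Function.Surjective (Points.map f)) : Function.Surjective (Points.map snd) := by
  intro z
  obtain ⟨x, hx⟩ := hf (Points.map g z)
  obtain ⟨w, _, hw⟩ := exists_point_of_isPullback sq x z hx
  exact ⟨w, hw⟩

theorem surjective_map_fst_of_isPullback {P X Y Y' : AlgSp.Sp S} {fst : P ⟶ X} {snd : P ⟶ Y'}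
    {f : X ⟶ Y} {g : Y' ⟶ Y} (sq : IsPullback fst snd f g)
    (hg : Function.Surjective (Points.map g)) : Function.Surjective (Points.map fst) :=
  surjective_map_snd_of_isPullback sq.flip hg

/-- If `h : Z' ⟶ Z` is open and surjective on points, `Z'` has an étale atlas and `|Z|` is quasi-compact,
then there is a quasi-compact scheme `T` with a map `h_T ⟶ Z'` (an open subscheme of an atlas) such that
`h_T ⟶ Z' ⟶ Z` is still surjective on points. -/
theorem exists_qc_chart_of_open_surjective {Z' Z : AlgSp.Sp S} (hZ' : AlgSp.IsAlgSpace Z')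
    [CompactSpace (Points Z)] (h : Z' ⟶ Z) (ho : IsOpenMap (Points.map h))
    (hs : Function.Surjective (Points.map h)) :
    ∃ (T : Over S) (t : (AlgSp.yon S).obj T ⟶ Z'), CompactSpace ↥T.left ∧
      AlgSp.RepWith @Etale t ∧ Function.Surjective (Points.map (t ≫ h)) := by
  classical
  obtain ⟨U, p, hp, hps⟩ := hZ'.atlas
  have hpsurj := surjective_ofPt_of_repWith_surjective p hps
  have hpo := isOpenMap_ofPt_of_etale p hp
  have hch : ∀ u : ↥U.left, ∃ A : U.left.Opens, IsAffineOpen A ∧ u ∈ A := by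
    intro u
    obtain ⟨A, hA, huA, _⟩ := exists_isAffineOpen_mem_and_subset (x := u) (U := ⊤) trivial
    exact ⟨A, hA, huA⟩
  choose A hA huA using hch
  have hcover : (Set.univ : Set (Points Z)) ⊆
      ⋃ u : ↥U.left, Points.map h '' (Points.ofPt p '' (A u : Set ↥U.left)) := by
    intro z _
    obtain ⟨z', rfl⟩ := hs z
    obtain ⟨u, rfl⟩ := hpsurj z'
    exact Set.mem_iUnion.2 ⟨u, _, ⟨u, huA u, rfl⟩, rfl⟩
  obtain ⟨s, hsub⟩ := isCompact_univ.elim_finite_subcover _
    (fun u => ho _ (hpo _ (A u).2)) hcover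
  let K : U.left.Opens := ⨆ u ∈ s, A u
  have hKc : IsCompact (K : Set ↥U.left) := by
    have : (K : Set ↥U.left) = ⋃ u ∈ s, (A u : Set ↥U.left) := by
      simp [K]
    rw [this]
    exact s.isCompact_biUnion fun u _ => (hA u).isCompact
  let T : Over S := Over.mk (K.ι ≫ U.hom)
  let ι : T ⟶ U := Over.homMk K.ι rfl
  have hT : CompactSpace ↥T.left := isCompact_iff_compactSpace.1 hKc
  refine ⟨T, (AlgSp.yon S).map ι ≫ p, hT, ?_, ?_⟩
  · refine (AlgSp.RepWith @Etale).comp_mem _ _ ?_ hp
    exact (AlgSp.repWith_yon_map_iff _ _).2 (show Etale K.ι from inferInstance)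
  · intro z
    have hz := hsub (Set.mem_univ z)
    simp only [Set.mem_iUnion] at hz
    obtain ⟨u, hus, _, ⟨x, hxu, rfl⟩, rfl⟩ := hz
    have hxK : x ∈ (K : Set ↥U.left) := by
      show x ∈ ((⨆ u ∈ s, A u : U.left.Opens) : Set ↥U.left)
      simp only [TopologicalSpace.Opens.coe_iSup, Set.mem_iUnion]
      exact ⟨u, hus, hxu⟩
    refine ⟨Points.ofScheme T ⟨x, hxK⟩, ?_⟩
    rw [Points.map_comp, ← Points.ofPt_eq_map_ofScheme, ofPt_yon_map_comp]
    rfl

/-- Criterion: `P` is quasi-compact if it is an algebraic space receiving a points-surjective map from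
a quasi-compact sheaf. Version for a base change along a chart. -/
theorem isQuasiCompactSp_of_isPullback_chart {P Z PT T' : AlgSp.Sp S} (hP : AlgSp.IsAlgSpace P)
    {pZ : P ⟶ Z} {t : T' ⟶ Z} {m : PT ⟶ P} {a : PT ⟶ T'} (sq : IsPullback m a pZ t)
    (ht : Function.Surjective (Points.map t)) (hPT : AlgSp.IsQuasiCompactSp PT) :
    AlgSp.IsQuasiCompactSp P :=
  isQuasiCompactSp_of_surjective hP m (surjective_map_fst_of_isPullback sq ht) hPT

/-- Quasi-compactness of a morphism descends along a base change `g : Y' ⟶ Y` such that every base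
change of `g` to an algebraic space is open and surjective on points. -/
theorem isQuasiCompactMor_of_open_surjective_base_change {X Y Y' X' : AlgSp.Sp S}
    (hX : AlgSp.IsAlgSpace X) (hY : AlgSp.IsAlgSpace Y) (hY' : AlgSp.IsAlgSpace Y')
    {f : X ⟶ Y} {g : Y' ⟶ Y} {fst : X' ⟶ X} {f' : X' ⟶ Y'} (sq : IsPullback fst f' f g)
    (hg : AlgSp.IsUnivOpenMor g) (hgs : Function.Surjective (Points.map g))
    (hf' : AlgSp.IsQuasiCompactMor f') : AlgSp.IsQuasiCompactMor f := by
  intro Z P hZ hZc c pX pZ sqP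
  have hPalg : AlgSp.IsAlgSpace P := isAlgSpace_of_isPullback hY.diag hX hZ sqP
  have sqZ' := IsPullback.of_hasPullback c g
  have hZ'alg : AlgSp.IsAlgSpace (pullback c g) := isAlgSpace_of_isPullback hY.diag hZ hY' sqZ'
  have hz1o : IsOpenMap (Points.map (pullback.fst c g)) := hg hZ c _ _ sqZ'.flip
  have hz1s : Function.Surjective (Points.map (pullback.fst c g)) :=
    surjective_map_fst_of_isPullback sqZ' hgs
  have := compactSpace_points_of_isQuasiCompactSp hZc
  obtain ⟨T, t, hT, _, hts⟩ :=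
    exists_qc_chart_of_open_surjective hZ'alg (pullback.fst c g) hz1o hz1s
  -- the base change of `f'` to `h_T`
  have sqT := IsPullback.of_hasPullback f' (t ≫ pullback.snd c g)
  have hPT : AlgSp.IsQuasiCompactSp (pullback f' (t ≫ pullback.snd c g)) :=
    hf' (AlgSp.IsAlgSpace.yon_obj T) (isQuasiCompactSp_yon_obj T) _ _ _ sqT
  have hw : (pullback.fst f' (t ≫ pullback.snd c g) ≫ fst) ≫ f =
      (pullback.snd f' (t ≫ pullback.snd c g) ≫ t ≫ pullback.fst c g) ≫ c := by
    rw [Category.assoc, sq.w, ← Category.assoc, pullback.condition]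
    simp only [Category.assoc]
    rw [pullback.condition]
  have big : IsPullback (pullback.fst f' (t ≫ pullback.snd c g) ≫ fst)
      (pullback.snd f' (t ≫ pullback.snd c g)) f ((t ≫ pullback.fst c g) ≫ c) := by
    have := sqT.paste_horiz sq
    have e : (t ≫ pullback.snd c g) ≫ g = (t ≫ pullback.fst c g) ≫ c := by
      simp only [Category.assoc]
      rw [pullback.condition]
    rwa [e] at this
  have hm1 : sqP.lift _ _ hw ≫ pX = pullback.fst f' (t ≫ pullback.snd c g) ≫ fst :=
    sqP.lift_fst _ _ _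
  have hm2 : sqP.lift _ _ hw ≫ pZ = pullback.snd f' (t ≫ pullback.snd c g) ≫ t ≫ pullback.fst c g :=
    sqP.lift_snd _ _ _
  have sqm : IsPullback (sqP.lift _ _ hw) (pullback.snd f' (t ≫ pullback.snd c g)) pZ
      (t ≫ pullback.fst c g) := by
    refine IsPullback.of_right ?_ hm2 sqP
    rw [hm1]
    exact big
  exact isQuasiCompactSp_of_isPullback_chart hPalg sqm hts hPT

/-- Quasi-compact morphisms are stable under base change. -/
theorem isQuasiCompactMor_snd_of_isPullback {P X Y Y' : AlgSp.Sp S} {fst : P ⟶ X} {snd : P ⟶ Y'}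
    {f : X ⟶ Y} {g : Y' ⟶ Y} (sq : IsPullback fst snd f g) (hf : AlgSp.IsQuasiCompactMor f) :
    AlgSp.IsQuasiCompactMor snd := by
  intro Z W hZ hZc c a b sqW
  exact hf hZ hZc (c ≫ g) (a ≫ fst) b (sqW.paste_horiz sq)

/-- Quasi-compact morphisms of algebraic spaces are stable under composition. -/
theorem isQuasiCompactMor_comp {X Y Z : AlgSp.Sp S} (hY : AlgSp.IsAlgSpace Y)
    (hZ : AlgSp.IsAlgSpace Z) {f : X ⟶ Y} {g : Y ⟶ Z} (hf : AlgSp.IsQuasiCompactMor f)
    (hg : AlgSp.IsQuasiCompactMor g) : AlgSp.IsQuasiCompactMor (f ≫ g) := by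
  intro W P hW hWc w pX pW sqP
  have sqQ := IsPullback.of_hasPullback g w
  have hQc : AlgSp.IsQuasiCompactSp (pullback g w) := hg hW hWc w _ _ sqQ
  have hQ : AlgSp.IsAlgSpace (pullback g w) := isAlgSpace_of_isPullback hZ.diag hY hW sqQ
  have hw : (pX ≫ f) ≫ g = pW ≫ w := by rw [Category.assoc, sqP.w]
  have h1 : pullback.lift (pX ≫ f) pW hw ≫ pullback.fst g w = pX ≫ f := pullback.lift_fst _ _ _
  have h2 : pullback.lift (pX ≫ f) pW hw ≫ pullback.snd g w = pW := pullback.lift_snd _ _ _
  have sqm : IsPullback pX (pullback.lift (pX ≫ f) pW hw) f (pullback.fst g w) := by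
    refine IsPullback.of_bot ?_ h1.symm sqQ
    rw [h2]
    exact sqP
  exact hf hQ hQc _ _ _ sqm

/-- If `f ≫ g` is quasi-compact and `g` is quasi-separated then `f` is quasi-compact (algebraic
spaces). -/
theorem isQuasiCompactMor_of_comp_of_isQuasiSeparatedMor {X Y Z : AlgSp.Sp S}
    (hX : AlgSp.IsAlgSpace X) (hY : AlgSp.IsAlgSpace Y) (hZ : AlgSp.IsAlgSpace Z)
    (f : X ⟶ Y) (g : Y ⟶ Z) (hgf : AlgSp.IsQuasiCompactMor (f ≫ g))
    (hg : AlgSp.IsQuasiSeparatedMor g) : AlgSp.IsQuasiCompactMor f := by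
  have sqΓ := pullback_lift_diagonal_isPullback f g
  have hΓ : AlgSp.RepWith @QuasiCompact (pullback.lift (𝟙 X) f (by simp) : X ⟶ pullback (f ≫ g) g) :=
    MorphismProperty.of_isPullback sqΓ hg
  have hΓ' := isQuasiCompactMor_of_repWith hΓ
  have sqs := IsPullback.of_hasPullback (f ≫ g) g
  have hs : AlgSp.IsQuasiCompactMor (pullback.snd (f ≫ g) g) :=
    isQuasiCompactMor_snd_of_isPullback sqs hgf
  have hP : AlgSp.IsAlgSpace (pullback (f ≫ g) g) := isAlgSpace_of_isPullback hZ.diag hX hY sqs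
  have := isQuasiCompactMor_comp hP hY hΓ' hs
  rwa [pullback.lift_snd] at this

section Magic

variable {D : Type*} [Category D] [HasBinaryProducts D]

/-- The magic square: `X ×_Y Z ⟶ X × Z` is the base change of the diagonal of `Y`. -/
theorem isPullback_prod_lift_diag {P X Y Z : D} {pX : P ⟶ X} {pZ : P ⟶ Z} {f : X ⟶ Y} {c : Z ⟶ Y}
    (sqP : IsPullback pX pZ f c) :
    IsPullback (pX ≫ f) (prod.lift pX pZ) (Limits.diag Y) (prod.map f c) := by
  have w : (pX ≫ f) ≫ Limits.diag Y = prod.lift pX pZ ≫ prod.map f c := by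
    ext
    · simp
    · simp [sqP.w]
  have key : ∀ s : PullbackCone (Limits.diag Y) (prod.map f c),
      (s.snd ≫ prod.fst) ≫ f = (s.snd ≫ prod.snd) ≫ c := by
    intro s
    have h1 := s.condition =≫ prod.fst
    have h2 := s.condition =≫ prod.snd
    simp only [Category.assoc, prod.lift_fst, prod.lift_snd, Category.comp_id, prod.map_fst,
      prod.map_snd] at h1 h2
    simp only [Category.assoc]
    rw [← h1, ← h2]
  refine ⟨⟨w⟩, ⟨PullbackCone.IsLimit.mk _ (fun s => sqP.lift _ _ (key s)) ?_ ?_ ?_⟩⟩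
  · intro s
    have h1 := s.condition =≫ prod.fst
    simp only [Category.assoc, prod.lift_fst, Category.comp_id, prod.map_fst] at h1
    rw [← Category.assoc, sqP.lift_fst, Category.assoc, ← h1]
  · intro s
    ext
    · simp
    · simp
  · intro s m _ h2
    apply sqP.hom_ext
    · rw [sqP.lift_fst, ← h2]; simp
    · rw [sqP.lift_snd, ← h2]; simp

end Magic

/-- `h_S` (for `S` over itself by the identity) is a terminal sheaf. -/
noncomputable def isTerminalYonBase :
    IsTerminal ((AlgSp.yon S).obj (Over.mk (𝟙 S))) :=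
  IsTerminal.isTerminalObj (AlgSp.yon S) _ Over.mkIdTerminal

/-- A product of sheaves is a fibre product over `h_S`. -/
theorem isPullback_prod_yonBase (X Z : AlgSp.Sp S) :
    IsPullback (prod.fst : X ⨯ Z ⟶ X) prod.snd (isTerminalYonBase.from X) (isTerminalYonBase.from Z) :=
  IsPullback.of_isLimit_binaryFan_of_isTerminal (prodIsProd X Z) isTerminalYonBase

/-- A product of algebraic spaces is an algebraic space. -/
theorem isAlgSpace_prod {X Z : AlgSp.Sp S} (hX : AlgSp.IsAlgSpace X) (hZ : AlgSp.IsAlgSpace Z) :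
    AlgSp.IsAlgSpace (X ⨯ Z) :=
  isAlgSpace_of_isPullback (AlgSp.IsAlgSpace.yon_obj _).diag hX hZ (isPullback_prod_yonBase X Z)

/-- Over a quasi-separated base, a product of quasi-compact algebraic spaces is quasi-compact. -/
theorem isQuasiCompactSp_prod [QuasiSeparatedSpace ↥S] {X Z : AlgSp.Sp S}
    (hX : AlgSp.IsAlgSpace X) (hZ : AlgSp.IsAlgSpace Z) (hXc : AlgSp.IsQuasiCompactSp X)
    (hZc : AlgSp.IsQuasiCompactSp Z) : AlgSp.IsQuasiCompactSp (X ⨯ Z) := by
  obtain ⟨U, p, hU, hpe, hps⟩ := (isQuasiCompactSp_iff_exists_affine_chart hX).1 hXc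
  obtain ⟨W, q, hW, hqe, hqs⟩ := (isQuasiCompactSp_iff_exists_affine_chart hZ).1 hZc
  obtain ⟨V, r, v₁, v₂, _, _, sqV, hr⟩ := exists_chart_of_isPullback_charts @Etale
    (AlgSp.IsAlgSpace.yon_obj _).diag (isPullback_prod_yonBase X Z) p q
  refine ⟨V, r, hr @Etale hpe hqe, hr @Surjective hps hqs, ?_⟩
  have e1 : p ≫ isTerminalYonBase.from X = (AlgSp.yon S).map (Over.mkIdTerminal.from U) :=
    isTerminalYonBase.hom_ext _ _
  have e2 : q ≫ isTerminalYonBase.from Z = (AlgSp.yon S).map (Over.mkIdTerminal.from W) :=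
    isTerminalYonBase.hom_ext _ _
  rw [e1, e2] at sqV
  have sqO : IsPullback v₁ v₂ (Over.mkIdTerminal.from U) (Over.mkIdTerminal.from W) :=
    IsPullback.of_map (AlgSp.yon S) (Over.mkIdTerminal.hom_ext _ _) sqV
  have sqS := sqO.map (Over.forget S)
  simp only [Over.forget_obj, Over.forget_map, Over.mkIdTerminal_from_left] at sqS
  have hUc : QuasiCompact U.hom := inferInstance
  have hv : QuasiCompact v₂.left := MorphismProperty.of_isPullback sqS hUc
  exact QuasiCompact.compactSpace_of_compactSpace v₂.left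

/-- Over a quasi-separated base, every morphism from a quasi-compact algebraic space to an algebraic space
with quasi-compact diagonal is quasi-compact. -/
theorem isQuasiCompactMor_of_isQuasiSeparatedSp [QuasiSeparatedSpace ↥S] {X Y : AlgSp.Sp S}
    (hXa : AlgSp.IsAlgSpace X) (f : X ⟶ Y) (hX : AlgSp.IsQuasiCompactSp X)
    (hY : AlgSp.IsQuasiSeparatedSp Y) : AlgSp.IsQuasiCompactMor f := by
  intro Z P hZ hZc c pX pZ sqP
  have sqM := isPullback_prod_lift_diag sqP
  have h1 : AlgSp.RepWith @QuasiCompact (prod.lift pX pZ) := MorphismProperty.of_isPullback sqM hY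
  have h2 := isQuasiCompactMor_of_repWith h1
  exact h2 (isAlgSpace_prod hXa hZ) (isQuasiCompactSp_prod hXa hZ hX hZc) (𝟙 _) (𝟙 P) _
    IsPullback.of_id_fst

/-- An étale morphism (in the sense of `AlgSp.IsEtaleMor`) from an algebraic space is universally open. -/
theorem isUnivOpenMor_of_isEtaleMor {F G : AlgSp.Sp S} (hF : AlgSp.IsAlgSpace F) {g : F ⟶ G}
    (hg : AlgSp.IsEtaleMor g) : AlgSp.IsUnivOpenMor g := by
  obtain ⟨U, φ, hφ, hφs⟩ := hF.atlas
  have h1 : AlgSp.RepWith @Etale (φ ≫ g) := hg φ hφ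
  have h2 : AlgSp.RepWith @UniversallyOpen (φ ≫ g) := by
    refine MorphismProperty.relative_monotone ?_ _ h1
    intro A B k hk
    have : Etale k.left := hk
    show UniversallyOpen k.left
    infer_instance
  exact isUnivOpenMor_of_comp φ g hφs (isUnivOpenMor_of_repWith h2)

end Groth.Agent.Lib.Helper30
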