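import Groth.Agent.Lib.Helper30.AlgSpProper
import Mathlib.AlgebraicGeometry.Morphisms.UniversallyClosed

/-!
# Universally closed morphisms of algebraic spaces are quasi-compact (helper30)

Port of Mathlib's `compactSpace_of_universallyClosed` to algebraic spaces.
-/

set_option autoImplicit false
set_option linter.unusedSectionVars false
universe u
set_option maxHeartbeats 400000

set_option backward.isDefEq.respectTransparency false

open CategoryTheory CategoryTheory.Limits AlgebraicGeometry MorphismProperty AlgSp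
open Groth.Agent.Lib.Helper51 Groth.Agent.Lib.Helper52

namespace Groth.Agent.Lib.Helper30

variable {S : Scheme.{u}}

open _root_.PrimeSpectrum MvPolynomial TopologicalSpace in
/-- An algebraic space which is universally closed over a field is quasi-compact. -/
theorem compactSpace_points_of_isUnivClosedMor_field {K : Type u} [Field K]
    (str : Spec (CommRingCat.of K) ⟶ S) {X : AlgSp.Sp S} (hX : AlgSp.IsAlgSpace X)
    (f : X ⟶ (AlgSp.yon S).obj (Over.mk str)) (hf : AlgSp.IsUnivClosedMor f) :
    CompactSpace (Points X) := by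
  classical
  obtain ⟨U, a, hae, has⟩ := hX.atlas
  let 𝒰 : U.left.OpenCover := U.left.affineCover
  let Ui (i : 𝒰.I₀) : Set (Points X) := Points.ofPt a '' Set.range (𝒰.f i)
  have hUi_open : ∀ i, IsOpen (Ui i) := fun i =>
    isOpenMap_ofPt_of_etale a hae _ (𝒰.f i).isOpenEmbedding.isOpen_range
  have hUi_cover : ∀ x : Points X, ∃ i, x ∈ Ui i := by
    intro x
    obtain ⟨u, rfl⟩ := surjective_ofPt_of_repWith_surjective a has x
    exact ⟨𝒰.idx u, u, 𝒰.covers u, rfl⟩
  have hUi_compact : ∀ i, IsCompact (Ui i) := fun i =>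
    (isCompact_range (𝒰.f i).continuous).image (Points.continuous_ofPt a)
  let Tsch : Scheme.{u} := Spec (.of <| MvPolynomial 𝒰.I₀ K)
  let qs : Tsch ⟶ Spec (.of K) := Spec.map (CommRingCat.ofHom MvPolynomial.C)
  let T : Over S := Over.mk (qs ≫ str)
  let q : T ⟶ Over.mk str := Over.homMk qs rfl
  have sq := IsPullback.of_hasPullback f ((AlgSp.yon S).map q)
  let fT := pullback.snd f ((AlgSp.yon S).map q)
  let p := pullback.fst f ((AlgSp.yon S).map q)
  have hfT : IsClosedMap (Points.map fT) :=
    hf (AlgSp.IsAlgSpace.yon_obj T) ((AlgSp.yon S).map q) p fT sq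
  let τ : Points ((AlgSp.yon S).obj T) ≃ₜ Tsch := (Points.schemeHomeo T).symm
  let Ti (i : 𝒰.I₀) : Tsch.Opens := basicOpen (MvPolynomial.X i)
  let Z : Set (Points (pullback f ((AlgSp.yon S).map q))) :=
    (⋃ i, (Points.map fT ⁻¹' (τ ⁻¹' (Ti i : Set Tsch))) ∩ (Points.map p ⁻¹' Ui i))ᶜ
  have hZ : IsClosed Z := by
    refine isClosed_compl_iff.2 (isOpen_iUnion fun i => ?_)
    exact ((((Ti i).2).preimage τ.continuous).preimage (Points.continuous_map fT)).inter
      ((hUi_open i).preimage (Points.continuous_map p))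
  have hclosed : IsClosed (τ '' (Points.map fT '' Z)) := τ.isClosedMap _ (hfT _ hZ)
  let Zc : Tsch.Opens := ⟨(τ '' (Points.map fT '' Z))ᶜ, hclosed.isOpen_compl⟩
  let ψ : MvPolynomial 𝒰.I₀ K →ₐ[K] K := MvPolynomial.aeval (fun _ ↦ 1)
  let t : Tsch := Spec.map (CommRingCat.ofHom ψ.toRingHom) default
  have ht (i : 𝒰.I₀) : t ∈ Ti i := show ψ (.X i) ≠ 0 by simp [ψ]
  have htZc : t ∈ Zc := by
    rintro ⟨y, ⟨z, hz, rfl⟩, hzt⟩
    obtain ⟨i, hi⟩ := hUi_cover (Points.map p z)
    apply hz
    refine Set.mem_iUnion.2 ⟨i, ?_, hi⟩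
    show τ (Points.map fT z) ∈ Ti i
    rw [hzt]
    exact ht i
  obtain ⟨U', ⟨g, rfl⟩, htU', hU'le⟩ := Opens.isBasis_iff_nbhd.mp isBasis_basic_opens htZc
  let σ : Finset 𝒰.I₀ := MvPolynomial.vars g
  let φ : MvPolynomial 𝒰.I₀ K →+* MvPolynomial 𝒰.I₀ K :=
    (MvPolynomial.aeval fun i : 𝒰.I₀ ↦ if i ∈ σ then MvPolynomial.X i else 0).toRingHom
  let t' : Tsch := Spec.map (CommRingCat.ofHom φ) t
  have ht'g : t' ∈ PrimeSpectrum.basicOpen g :=
    show φ g ∉ t.asIdeal from (show φ g = g from aeval_ite_mem_eq_self g subset_rfl).symm ▸ htU'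
  have h : t' ∉ τ '' (Points.map fT '' Z) := hU'le ht'g
  suffices ⋃ i ∈ σ, Ui i = Set.univ from
    ⟨this ▸ Finset.isCompact_biUnion _ fun i _ ↦ hUi_compact i⟩
  rw [Set.iUnion₂_eq_univ_iff]
  contrapose! h
  obtain ⟨x, hx⟩ := h
  have hsub0 : Subsingleton ↥(Spec (CommRingCat.of K)) := inferInstance
  have hsub : Subsingleton (Points ((AlgSp.yon S).obj (Over.mk str))) :=
    @Function.Injective.subsingleton _ _ _ (Points.schemeHomeo (Over.mk str)).symm.injective hsub0
  obtain ⟨z, hz1, hz2⟩ := exists_point_of_isPullback sq x (τ.symm t') (Subsingleton.elim _ _)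
  refine ⟨τ.symm t', ⟨z, ?_, hz2⟩, τ.apply_symm_apply t'⟩
  intro hmem
  obtain ⟨i, hi1, hi2⟩ := Set.mem_iUnion.1 hmem
  have hi1' : t' ∈ Ti i := by
    have : τ (Points.map fT z) ∈ Ti i := hi1
    rwa [hz2, τ.apply_symm_apply] at this
  have hi2' : x ∈ Ui i := by
    have : Points.map p z ∈ Ui i := hi2
    rwa [hz1] at this
  have hiσ : i ∈ σ := by
    by_contra hiσ
    have hφ : φ (MvPolynomial.X i) = 0 := by simp [φ, hiσ]
    have : t ∈ (Ti i).comap ⟨_, continuous_comap φ⟩ := hi1'
    rw [comap_basicOpen, hφ, basicOpen_zero] at this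
    exact this
  exact hx i hiσ hi2'

end Groth.Agent.Lib.Helper30

namespace Groth.Agent.Lib.Helper30

variable {S : Scheme.{u}}

/-- A universally closed morphism of algebraic spaces induces a proper map on points. -/
theorem isProperMap_of_isUnivClosedMor {X Y : AlgSp.Sp S} (hX : AlgSp.IsAlgSpace X)
    (hY : AlgSp.IsAlgSpace Y) (f : X ⟶ Y) (hf : AlgSp.IsUnivClosedMor f) :
    IsProperMap (Points.map f) := by
  have hclosed : IsClosedMap (Points.map f) := hf hY (𝟙 Y) (𝟙 X) f IsPullback.of_id_fst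
  rw [isProperMap_iff_isClosedMap_and_compact_fibers]
  refine ⟨Points.continuous_map f, hclosed, fun z => ?_⟩
  induction z using Points.ind with
  | h pt =>
    have sqP := IsPullback.of_hasPullback f pt.toHom
    have hP : AlgSp.IsAlgSpace (pullback f pt.toHom) :=
      isAlgSpace_of_isPullback hY.diag hX (AlgSp.IsAlgSpace.yon_obj _) sqP
    have hPuc : AlgSp.IsUnivClosedMor (pullback.snd f pt.toHom) :=
      isUnivClosedMor_snd_of_isPullback sqP hf
    have := compactSpace_points_of_isUnivClosedMor_field pt.str hP _ hPuc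
    have hsub0 : Subsingleton ↥(Spec (CommRingCat.of pt.K)) := inferInstance
    have hsub : Subsingleton (Points ((AlgSp.yon S).obj pt.pt)) :=
      @Function.Injective.subsingleton _ _ _ (Points.schemeHomeo pt.pt).symm.injective hsub0
    have e : Points.map f ⁻¹' {Points.mk pt} =
        Set.range (Points.map (pullback.fst f pt.toHom)) := by
      ext x'
      constructor
      · intro hx'
        have hx'' : Points.map f x' = Points.mk pt := hx'
        obtain ⟨w, hw, _⟩ := exists_point_of_isPullback sqP x'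
          (Points.ofScheme pt.pt (IsLocalRing.closedPoint pt.K)) (by
            rw [hx'', ← Points.ofPt_eq_map_ofScheme, Points.ofPt_toHom])
        exact ⟨w, hw⟩
      · rintro ⟨w, rfl⟩
        show Points.map f (Points.map (pullback.fst f pt.toHom) w) = Points.mk pt
        rw [← Points.map_comp, sqP.w, Points.map_comp]
        have : Points.map (pullback.snd f pt.toHom) w =
            Points.ofScheme pt.pt (IsLocalRing.closedPoint pt.K) := Subsingleton.elim _ _
        rw [this, ← Points.ofPt_eq_map_ofScheme, Points.ofPt_toHom]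
    rw [e]
    exact isCompact_range (Points.continuous_map _)

/-- A universally closed morphism of algebraic spaces is quasi-compact. -/
theorem isQuasiCompactMor_of_isUnivClosedMor {X Y : AlgSp.Sp S} (hX : AlgSp.IsAlgSpace X)
    (hY : AlgSp.IsAlgSpace Y) (f : X ⟶ Y) (hf : AlgSp.IsUnivClosedMor f) :
    AlgSp.IsQuasiCompactMor f := by
  intro Z Z' hZ hZqc g fst snd sq
  have hZ' : AlgSp.IsAlgSpace Z' := isAlgSpace_of_isPullback hY.diag hX hZ sq
  rw [isQuasiCompactSp_iff_compactSpace_points hZ']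
  have := compactSpace_points_of_isQuasiCompactSp hZqc
  have hsnd : AlgSp.IsUnivClosedMor snd := isUnivClosedMor_snd_of_isPullback sq hf
  have hproper := isProperMap_of_isUnivClosedMor hZ' hZ snd hsnd
  exact ⟨by simpa using hproper.isCompact_preimage isCompact_univ⟩

end Groth.Agent.Lib.Helper30
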