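import Groth.Agent.Lib.Helper30.EtaleSplit
import Groth.Agent.Lib.Helper30.AlgSpNear
import Groth.Agent.Lib.Helper30.AlgSpFiniteFibre
import Groth.Agent.Lib.Helper98.AlgSpPtLocal
import Groth.Agent.Lib.Helper30.AlgSpZMT7
import Groth.Agent.Lib.Helper51.AlgSpSchImProper
import Groth.Agent.Lib.Helper78.AlgSpMisc
import Groth.Agent.Lib.Helper51.AlgSpEtaleField
import Groth.Agent.S10267
import Groth.Agent.S10272

/-!
# Étale-local splitting of the quasi-finite part for algebraic spaces (helper30)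
-/

set_option autoImplicit false
set_option maxHeartbeats 1600000
set_option backward.isDefEq.respectTransparency false
set_option linter.unusedSectionVars false
universe u
open CategoryTheory CategoryTheory.Limits AlgebraicGeometry Opposite TopologicalSpace Topology

namespace Groth.Agent.Lib.Helper30.AlgSpEtSplit

open AlgSp Groth.Agent.Lib.Helper51 Groth.Agent.Lib.Helper52
open Groth.Agent.Lib.Helper31.AlgSpFlatAt Groth.Agent.Lib.Helper98.AlgSpPtLocal
open Groth.Agent.Lib.Helper30.Near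

variable {S : Scheme.{u}}

/-- `Near P` passes to base changes, for `P` stable under base change. -/
theorem near_of_isPullback {P : MorphismProperty Scheme.{u}} [P.IsStableUnderBaseChange]
    {U'' V'' U V : Scheme.{u}} {mU : U'' ⟶ U} {k'' : U'' ⟶ V''} {k : U ⟶ V} {mV : V'' ⟶ V}
    (sq : IsPullback mU k'' k mV) (u'' : U'') (h : Near P U V k (mU u'')) :
    Near P U'' V'' k'' u'' := by
  obtain ⟨W, hu, hW⟩ := h
  refine ⟨mU ⁻¹ᵁ W, hu, ?_⟩
  have sq2 : IsPullback (mU ∣_ W) ((mU ⁻¹ᵁ W).ι ≫ k'') (W.ι ≫ k) mV :=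
    (isPullback_morphismRestrict mU W).paste_vert sq
  exact MorphismProperty.of_isPullback sq2 hW

section

variable {Q : ∀ (U V : Scheme.{u}), (U ⟶ V) → ↥U → Prop}
variable {X Y Z X' Y' Z' : AlgSp.Sp S}

/-- one direction of `hasAtMor_baseChange_iff`, with a one-directional hypothesis on the chart. -/
theorem hasAtMor_of_baseChange (hQ : EtLocalPt Q) {f : X ⟶ Y} {h : Y ⟶ Z} (G : GoodChart f h)
    (hbc : ∀ {U'' V'' : Scheme.{u}} (mU : U'' ⟶ G.U.left) (k'' : U'' ⟶ V'') (mV : V'' ⟶ G.V.left),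
      IsPullback mU k'' G.k.left mV → ∀ u'' : U'', Q _ _ G.k.left (mU u'') → Q _ _ k'' u'')
    (hZ' : IsAlgSpace Z')
    (g : Z' ⟶ Z) (f' : X' ⟶ Y') (h' : Y' ⟶ Z') (pX : X' ⟶ X) (pY : Y' ⟶ Y)
    (sqY : IsPullback pY h' h g) (sqX : IsPullback pX f' f pY) (x' : Points X')
    (hx' : HasAtMor Q f (Points.map pX x')) : HasAtMor Q f' x' := by
  obtain ⟨W'₁, c'₁, hc'₁, hc'₁s⟩ := hZ'.atlas
  have sqW := G.hc.rep.isPullback' (c'₁ ≫ g)
  set W'' : Over S := G.hc.rep.pullback (c'₁ ≫ g) with hW''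
  set m : W'' ⟶ G.W := G.hc.rep.fst' (c'₁ ≫ g) with hm
  set r₁ : W'' ⟶ W'₁ := G.hc.rep.snd (c'₁ ≫ g) with hr₁
  have hr₁e : Etale r₁.left := G.hc.property _ _ _ sqW
  have hr₁s : Surjective r₁.left := G.hcs.property _ _ _ sqW
  obtain ⟨c'', hc''def⟩ : ∃ c'' : (yon S).obj W'' ⟶ Z', c'' = (yon S).map r₁ ≫ c'₁ := ⟨_, rfl⟩
  have hc''e : RepWith @Etale c'' := by
    rw [hc''def]
    exact (RepWith (S := S) @Etale).comp_mem _ _ ((repWith_yon_map_iff _ _).2 hr₁e) hc'₁
  have hc''s : RepWith @Surjective c'' := by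
    rw [hc''def]
    exact (RepWith (S := S) @Surjective).comp_mem _ _ ((repWith_yon_map_iff _ _).2 hr₁s) hc'₁s
  have hcomm : (yon S).map m ≫ G.c = c'' ≫ g := by
    rw [hc''def, Category.assoc]; exact sqW.w
  obtain ⟨V'', mV, l'', sqVo, sqVs⟩ := Groth.Agent.Lib.Helper30.isPullback_over' G.l m
  obtain ⟨U'', mU, k'', sqUo, sqUs⟩ := Groth.Agent.Lib.Helper30.isPullback_over' G.k mV
  have sqVy := sqVo.map (yon S)
  have sqUy := sqUo.map (yon S)
  have bigV : IsPullback ((yon S).map mV ≫ (yon S).map G.nV) ((yon S).map l'') (G.b₁ ≫ h)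
      (c'' ≫ g) := by
    have := sqVy.paste_horiz G.sqV
    rwa [hcomm] at this
  have wV : ((yon S).map mV ≫ G.b) ≫ h = ((yon S).map l'' ≫ c'') ≫ g := by
    rw [Category.assoc, G.comm_h, ← Category.assoc, sqVy.w, Category.assoc, hcomm, Category.assoc]
  obtain ⟨b'', hb''1, hb''2⟩ : ∃ b'' : (yon S).obj V'' ⟶ Y', b'' ≫ pY = (yon S).map mV ≫ G.b ∧
      b'' ≫ h' = (yon S).map l'' ≫ c'' :=
    ⟨sqY.lift _ _ wV, sqY.lift_fst _ _ _, sqY.lift_snd _ _ _⟩
  have hb''1' : b'' ≫ pY = ((yon S).map mV ≫ (yon S).map G.nV) ≫ G.b₁ := by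
    rw [hb''1, Category.assoc]
  have hb''e : RepWith @Etale b'' :=
    repWith_lift_of_big @Etale sqY G.b₁ c'' G.hb₁ hc''e _ _ bigV b'' hb''1' hb''2
  have hb''s : RepWith @Surjective b'' :=
    repWith_lift_of_big @Surjective sqY G.b₁ c'' G.hb₁s hc''s _ _ bigV b'' hb''1' hb''2
  have bigU : IsPullback ((yon S).map mU ≫ (yon S).map G.nU) ((yon S).map k'') (G.a₁ ≫ f)
      (b'' ≫ pY) := by
    have := sqUy.paste_horiz G.sqU
    rwa [← hb''1] at this
  have wU : ((yon S).map mU ≫ G.a) ≫ f = ((yon S).map k'' ≫ b'') ≫ pY := by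
    rw [Category.assoc, G.comm_f, ← Category.assoc, sqUy.w, Category.assoc, Category.assoc, hb''1]
  obtain ⟨a'', ha''1, ha''2⟩ : ∃ a'' : (yon S).obj U'' ⟶ X', a'' ≫ pX = (yon S).map mU ≫ G.a ∧
      a'' ≫ f' = (yon S).map k'' ≫ b'' :=
    ⟨sqX.lift _ _ wU, sqX.lift_fst _ _ _, sqX.lift_snd _ _ _⟩
  have ha''1' : a'' ≫ pX = ((yon S).map mU ≫ (yon S).map G.nU) ≫ G.a₁ := by
    rw [ha''1, Category.assoc]
  have ha''e : RepWith @Etale a'' :=
    repWith_lift_of_big @Etale sqX G.a₁ b'' G.ha₁ hb''e _ _ bigU a'' ha''1' ha''2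
  have ha''s : RepWith @Surjective a'' :=
    repWith_lift_of_big @Surjective sqX G.a₁ b'' G.ha₁s hb''s _ _ bigU a'' ha''1' ha''2
  obtain ⟨u'', rfl⟩ := surjective_ofPt_of_repWith_surjective a'' ha''s x'
  rw [Points.map_ofPt, ha''1, ofPt_yon_map_comp,
    hasAtMor_iff_of_chart hQ f G.a G.b G.k G.ha G.hb G.comm_f] at hx'
  rw [hasAtMor_iff_of_chart hQ f' a'' b'' k'' ha''e hb''e ha''2 u'']
  exact hbc mU.left k''.left mV.left sqUs u'' hx'

end

/-- a representable finite morphism has finite fibres on points. -/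
theorem finite_fibre_of_repWith_isFinite {F G : AlgSp.Sp S} (m : F ⟶ G)
    (hm : AlgSp.RepWith @IsFinite m) (x : AlgSp.Points G) : (AlgSp.Points.map m ⁻¹' {x}).Finite := by
  induction x using Points.ind with
  | h q =>
  have sq := hm.1.isPullback q.toHom
  haveI hfin : IsFinite (hm.1.snd q.toHom).left := hm.2 q.toHom _ _ sq
  have hE : (Set.univ : Set (hm.1.pullback q.toHom).left).Finite := by
    have h1 := Scheme.Hom.finite_preimage_singleton (hm.1.snd q.toHom).left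
      (IsLocalRing.closedPoint q.K)
    refine h1.subset ?_
    intro e _
    exact Subsingleton.elim (α := PrimeSpectrum q.K) _ _
  refine (hE.image (Points.ofPt (hm.1.fst q.toHom))).subset ?_
  intro ζ hζ
  have h1 : Points.map m ζ =
      Points.map q.toHom (Points.ofScheme q.pt (IsLocalRing.closedPoint q.K)) := by
    rw [← Points.ofPt_eq_map_ofScheme, Points.ofPt_toHom]; exact hζ
  obtain ⟨e, he1, he2⟩ := exists_point_of_isPullback sq ζ _ h1
  obtain ⟨e₀, rfl⟩ : ∃ e₀, Points.ofScheme _ e₀ = e := ⟨_, Points.ofScheme_toScheme _ e⟩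
  exact ⟨e₀, Set.mem_univ _, by rw [Points.ofPt_eq_map_ofScheme]; exact he1⟩

/-- lifting points of `X ×_Y Y'` over `y'` to the fibre over a field-valued point hitting `y'`. -/
theorem exists_lift_point {X Y : AlgSp.Sp S} (f : X ⟶ Y) {Y' K : Over S}
    (b : (AlgSp.yon S).obj Y' ⟶ Y) (c : K ⟶ Y') (k₀ : K.left) :
    ∃ n : pullback f ((AlgSp.yon S).map c ≫ b) ⟶ pullback f b,
      n ≫ pullback.fst f b = pullback.fst f ((AlgSp.yon S).map c ≫ b) ∧
      ∀ ξ : AlgSp.Points (pullback f b),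
        AlgSp.Points.map (pullback.snd f b) ξ = AlgSp.Points.ofScheme Y' (c.left k₀) →
        ∃ ζ, AlgSp.Points.map n ζ = ξ := by
  have sq := IsPullback.of_hasPullback f b
  have sqw := IsPullback.of_hasPullback f ((AlgSp.yon S).map c ≫ b)
  have hw : pullback.fst f ((AlgSp.yon S).map c ≫ b) ≫ f =
      (pullback.snd f ((AlgSp.yon S).map c ≫ b) ≫ (AlgSp.yon S).map c) ≫ b := by
    rw [sqw.w, Category.assoc]
  obtain ⟨n, hn1, hn2⟩ : ∃ n : pullback f ((AlgSp.yon S).map c ≫ b) ⟶ pullback f b,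
      n ≫ pullback.fst f b = pullback.fst f ((AlgSp.yon S).map c ≫ b) ∧
      n ≫ pullback.snd f b = pullback.snd f ((AlgSp.yon S).map c ≫ b) ≫ (AlgSp.yon S).map c :=
    ⟨sq.lift _ _ hw, sq.lift_fst _ _ _, sq.lift_snd _ _ _⟩
  have sqn : IsPullback n (pullback.snd f ((AlgSp.yon S).map c ≫ b)) (pullback.snd f b)
      ((AlgSp.yon S).map c) := by
    refine IsPullback.of_right ?_ hn2 sq
    rw [hn1]; exact sqw
  refine ⟨n, hn1, fun ξ hξ => ?_⟩
  have h1 : Points.map (pullback.snd f b) ξ =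
      Points.map ((AlgSp.yon S).map c) (Points.ofScheme K k₀) := by
    rw [hξ]; exact (Points.map_yon_map_apply c k₀).symm
  obtain ⟨ζ, hζ, -⟩ := exists_point_of_isPullback sqn ξ _ h1
  exact ⟨ζ, hζ⟩

/-- a point of a scheme étale over a field is a finite field-valued point. -/
theorem exists_field_point_finite (E : Over S) {κ : Type u} [Field κ]
    (str : Spec (CommRingCat.of κ) ⟶ S) (e₂ : E ⟶ Over.mk str) [Etale e₂.left] (w : E.left) :
    ∃ (Kw : Over S) (ιw : Kw ⟶ E) (k₀ : Kw.left), ιw.left k₀ = w ∧ IsFinite (ιw ≫ e₂).left := by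
  refine ⟨Over.mk (E.left.fromSpecResidueField w ≫ E.hom),
    Over.homMk (E.left.fromSpecResidueField w) rfl, IsLocalRing.closedPoint _,
    Scheme.fromSpecResidueField_apply _ _, ?_⟩
  haveI := Groth.Agent.Lib.Helper51.isOpenImmersion_fromSpecResidueField_of_etale_field e₂.left w
  change IsFinite (E.left.fromSpecResidueField w ≫ e₂.left)
  exact Groth.Agent.Lib.Helper51.isFinite_of_etale_spec_field (K := κ)
    (L := E.left.residueField w) (E.left.fromSpecResidueField w ≫ e₂.left)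

/-- quasi-compact case: over a field-like (compact, locally Noetherian) base, only finitely many
points of the fibre lie over `xs`. -/
theorem finite_points_qc {X Y : AlgSp.Space S} (f : X ⟶ Y) (xs : Finset (AlgSp.Points X.obj))
    (hf1 : AlgSp.LocP @LocallyOfFiniteType f.hom)
    (hf3 : ∀ x ∈ xs, AlgSp.HasAtMor (Near (@LocallyQuasiFinite ⊓ @LocallyOfFiniteType)) f.hom x)
    (hqc : AlgSp.IsQuasiCompactMor f.hom)
    (K : Over S) (hKc : CompactSpace K.left) (hKa : IsLocallyArtinian K.left)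
    (hKn : IsLocallyNoetherian K.left)
    (z : (AlgSp.yon S).obj K ⟶ Y.obj) :
    {ζ : AlgSp.Points (pullback f.hom z) |
      AlgSp.Points.map (pullback.fst f.hom z) ζ ∈ xs}.Finite := by
  classical
  have hX := X.property
  have hY := Y.property
  have hE := Groth.Agent.Lib.Helper78.AlgSpLocPLqf.etLocalST_lqf.{u}
  have hyK := AlgSp.IsAlgSpace.yon_obj K
  have sqw := IsPullback.of_hasPullback f.hom z
  have hXw : AlgSp.IsAlgSpace (pullback f.hom z) :=
    Groth.Agent.Lib.Helper30.isAlgSpace_of_isPullback hY.diag hX hyK sqw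
  have hqcw : AlgSp.IsQuasiCompactSp (pullback f.hom z) :=
    hqc hyK (Groth.Agent.Lib.Helper30.isQuasiCompactSp_yon_obj K) z _ _ sqw
  have hlftw : AlgSp.LocP @LocallyOfFiniteType (pullback.snd f.hom z) :=
    Groth.Agent.Lib.Helper78.AlgSpLocP.locP_of_isPullback
      Groth.Agent.Lib.Helper78.AlgSpLocPLoft.etLocalST_loft sqw
      (Groth.Agent.Lib.Helper78.AlgSpFibre.repAll_of_isAlgSpace hY) hX.atlas hY.atlas hf1
  obtain ⟨A, a, hAaff, hae, has⟩ := (isQuasiCompactSp_iff_exists_affine_chart hXw).1 hqcw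
  haveI : IsAffine A.left := hAaff
  obtain ⟨gA, hgA⟩ := (AlgSp.yon S).map_surjective (a ≫ pullback.snd f.hom z)
  have hcommA : a ≫ pullback.snd f.hom z = (AlgSp.yon S).map gA ≫ 𝟙 _ := by
    rw [Category.comp_id, hgA]
  haveI : LocallyOfFiniteType gA.left :=
    hlftw a (𝟙 _) gA hae (AlgSp.repWith_id _ _) hcommA
  haveI : IsLocallyNoetherian A.left := LocallyOfFiniteType.isLocallyNoetherian gA.left
  haveI : IsNoetherian A.left := { }
  have hOfin : {u : A.left | Near (@LocallyQuasiFinite ⊓ @LocallyOfFiniteType) _ _ gA.left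
      u}.Finite := by
    apply IsCompact.finite (NoetherianSpace.isCompact _)
    rw [isDiscrete_iff_discreteTopology, discreteTopology_iff_isOpen_singleton]
    rintro ⟨u, W, huW, hW⟩
    haveI : LocallyQuasiFinite (W.ι ≫ gA.left) := hW.1
    haveI : IsLocallyArtinian (W : Scheme) :=
      IsLocallyArtinian.of_locallyQuasiFinite (W.ι ≫ gA.left)
    haveI hd : DiscreteTopology ((W : Scheme.{u}) : Type u) := inferInstance
    have h1 : IsOpen ({⟨u, huW⟩} : Set ((W : Scheme.{u}) : Type u)) := isOpen_discrete _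
    have h2 : IsOpen ({u} : Set A.left) := by
      have := W.ι.isOpenEmbedding.isOpenMap _ h1
      rwa [Set.image_singleton] at this
    have h3 : ({⟨u, ⟨W, huW, hW⟩⟩} : Set {u : A.left |
        Near (@LocallyQuasiFinite ⊓ @LocallyOfFiniteType) _ _ gA.left u}) =
        Subtype.val ⁻¹' {u} := by
      ext ⟨v, hv⟩
      simp [Subtype.ext_iff]
    rw [h3]
    exact h2.preimage continuous_subtype_val
  refine (hOfin.image (Points.ofPt a)).subset ?_
  intro ζ hζ
  obtain ⟨u, rfl⟩ := surjective_ofPt_of_repWith_surjective a has ζ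
  refine ⟨u, ?_, rfl⟩
  have h1 : HasAtMor (Near (@LocallyQuasiFinite ⊓ @LocallyOfFiniteType))
      (pullback.snd f.hom z) (Points.ofPt a u) := by
    obtain ⟨G'⟩ := exists_goodChart f.hom (𝟙 Y.obj) hX hY hY
    exact hasAtMor_of_baseChange (etLocalPt_near hE) G'
      (fun mU k'' mV sq' u'' h => near_of_isPullback sq' u'' h) hyK z
      (pullback.snd f.hom z) (𝟙 _) (pullback.fst f.hom z) z (IsPullback.id_vert z) sqw _
      (hf3 _ hζ)
  exact (hasAtMor_iff_of_chart (etLocalPt_near hE) (pullback.snd f.hom z) a (𝟙 _) gA hae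
    (AlgSp.repWith_id _ _) hcommA u).1 h1

/-- the points of `X ×_Y Y'` over a point `y'` of the chart and over finitely many quasi-finite
points of `X` form a finite set, if `f` is quasi-compact or `Y` is decent. -/
theorem finite_points_over {X Y : AlgSp.Space S} (f : X ⟶ Y) (xs : Finset (AlgSp.Points X.obj))
    (hf1 : AlgSp.LocP @LocallyOfFiniteType f.hom)
    (hf3 : ∀ x ∈ xs, AlgSp.HasAtMor (Near (@LocallyQuasiFinite ⊓ @LocallyOfFiniteType)) f.hom x)
    (hf4 : AlgSp.IsQuasiCompactMor f.hom ∨ AlgSp.IsDecent Y.obj)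
    {Y' : Over S} (b : (AlgSp.yon S).obj Y' ⟶ Y.obj) (hbe : AlgSp.RepWith @Etale b)
    (y' : Y'.left) :
    {ξ : AlgSp.Points (pullback f.hom b) |
      AlgSp.Points.map (pullback.snd f.hom b) ξ = AlgSp.Points.ofScheme Y' y' ∧
      AlgSp.Points.map (pullback.fst f.hom b) ξ ∈ xs}.Finite := by
  classical
  have hX := X.property
  have hY := Y.property
  have hE := Groth.Agent.Lib.Helper78.AlgSpLocPLqf.etLocalST_lqf.{u}
  -- reduction: a field-valued point `c` hitting `y'` such that the points of the fibre over `c`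
  -- lying over `xs` are finitely many
  suffices H : ∃ (K : Over S) (c : K ⟶ Y') (k₀ : K.left), c.left k₀ = y' ∧
      {ζ : AlgSp.Points (pullback f.hom ((AlgSp.yon S).map c ≫ b)) |
        AlgSp.Points.map (pullback.fst f.hom ((AlgSp.yon S).map c ≫ b)) ζ ∈ xs}.Finite by
    obtain ⟨K, c, k₀, hck, hfin⟩ := H
    obtain ⟨n, hn1, hn2⟩ := exists_lift_point f.hom b c k₀
    refine (hfin.image (Points.map n)).subset ?_
    rintro ξ ⟨hξ1, hξ2⟩
    rw [← hck] at hξ1
    obtain ⟨ζ, rfl⟩ := hn2 ξ hξ1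
    refine ⟨ζ, ?_, rfl⟩
    change Points.map _ ζ ∈ xs
    rw [← hn1, Points.map_comp]; exact hξ2
  rcases hf4 with hqc | hdec
  · -- quasi-compact case
    obtain ⟨K, c, k₀, hck, hKc, hKa, hKn⟩ : ∃ (K : Over S) (c : K ⟶ Y') (k₀ : K.left),
        c.left k₀ = y' ∧ CompactSpace K.left ∧ IsLocallyArtinian K.left ∧
        IsLocallyNoetherian K.left := by
      refine ⟨Over.mk (Y'.left.fromSpecResidueField y' ≫ Y'.hom),
        Over.homMk (Y'.left.fromSpecResidueField y') rfl, IsLocalRing.closedPoint _,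
        Scheme.fromSpecResidueField_apply _ _, ?_, ?_, ?_⟩
      · exact inferInstanceAs (CompactSpace (Spec (Y'.left.residueField y')))
      · exact inferInstanceAs (IsLocallyArtinian (Spec (Y'.left.residueField y')))
      · exact inferInstanceAs (IsLocallyNoetherian (Spec (Y'.left.residueField y')))
    refine ⟨K, c, k₀, hck, ?_⟩
    exact finite_points_qc f xs hf1 hf3 hqc K hKc hKa hKn _
  · -- decent case
    obtain ⟨p, hp, hmono, -⟩ := hdec (Points.ofPt b y')
    obtain ⟨E, e₁, e₂, sqE⟩ : ∃ (E : Over S) (e₁ : E ⟶ Y') (e₂ : E ⟶ p.pt),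
        IsPullback ((AlgSp.yon S).map e₁) ((AlgSp.yon S).map e₂) b p.toHom :=
      ⟨_, _, _, hbe.1.isPullback' p.toHom⟩
    haveI hEt : Etale e₂.left := hbe.2 p.toHom _ _ sqE
    have hpt : Points.ofPt b y' = Points.ofPt p.toHom (IsLocalRing.closedPoint p.K) := by
      rw [Points.ofPt_toHom]; exact hp.symm
    obtain ⟨w, hw1, hw2⟩ := exists_of_ofPt_eq_ofPt sqE hpt
    obtain ⟨Kw, ιw, k₀, hk₀, hfin⟩ := exists_field_point_finite E p.str e₂ w
    refine ⟨Kw, ιw ≫ e₁, k₀, ?_, ?_⟩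
    · rw [Over.comp_left, Scheme.Hom.comp_apply, hk₀, hw1]
    have hz : (AlgSp.yon S).map (ιw ≫ e₁) ≫ b = (AlgSp.yon S).map (ιw ≫ e₂) ≫ p.toHom := by
      rw [Functor.map_comp, Functor.map_comp, Category.assoc, Category.assoc, sqE.w]
    obtain ⟨m, hm1, hm2⟩ : ∃ m : pullback f.hom ((AlgSp.yon S).map (ιw ≫ e₁) ≫ b) ⟶
        pullback f.hom p.toHom, m ≫ pullback.fst f.hom p.toHom = pullback.fst f.hom _ ∧
        m ≫ pullback.snd f.hom p.toHom = pullback.snd f.hom _ ≫ (AlgSp.yon S).map (ιw ≫ e₂) := by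
      have hcomm : pullback.fst f.hom ((AlgSp.yon S).map (ιw ≫ e₁) ≫ b) ≫ f.hom =
          (pullback.snd f.hom ((AlgSp.yon S).map (ιw ≫ e₁) ≫ b) ≫
            (AlgSp.yon S).map (ιw ≫ e₂)) ≫ p.toHom := by
        rw [Category.assoc, ← hz]; exact pullback.condition
      exact ⟨pullback.lift _ _ hcomm, pullback.lift_fst _ _ _, pullback.lift_snd _ _ _⟩
    have sq_m : IsPullback m (pullback.snd f.hom ((AlgSp.yon S).map (ιw ≫ e₁) ≫ b))
        (pullback.snd f.hom p.toHom) ((AlgSp.yon S).map (ιw ≫ e₂)) := by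
      refine IsPullback.of_right ?_ hm2 (IsPullback.of_hasPullback f.hom p.toHom)
      rw [hm1, ← hz]
      exact IsPullback.of_hasPullback f.hom _
    have hm : AlgSp.RepWith @IsFinite m :=
      MorphismProperty.of_isPullback sq_m.flip ((AlgSp.repWith_yon_map_iff _ _).2 hfin)
    haveI : Mono p.toHom := hmono
    have hT : (Points.map (pullback.fst f.hom p.toHom) ⁻¹' (xs : Set (Points X.obj))).Finite :=
      Set.Finite.preimage (Set.injOn_of_injective (injective_map_of_mono _)) xs.finite_toSet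
    have hfinal := Set.Finite.preimage' hT
      (fun t _ => finite_fibre_of_repWith_isFinite m hm t)
    refine hfinal.subset ?_
    intro ζ hζ
    change Points.map _ (Points.map m ζ) ∈ (xs : Set (Points X.obj))
    rw [← Points.map_comp, hm1]; exact hζ

/-- the main theorem: étale-local splitting of the quasi-finite part. -/
theorem etale_splits {X Y : AlgSp.Space S} (f : X ⟶ Y) (y : AlgSp.Points Y.obj)
    (xs : Finset (AlgSp.Points X.obj))
    (hf1 : AlgSp.LocP @LocallyOfFiniteType f.hom) (hf2 : AlgSp.IsSeparatedMor f.hom)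
    (hf3 : ∀ x ∈ xs, AlgSp.HasAtMor (Near (@LocallyQuasiFinite ⊓ @LocallyOfFiniteType)) f.hom x)
    (hf4 : AlgSp.IsQuasiCompactMor f.hom ∨ AlgSp.IsDecent Y.obj) :
    ∃ (U : AlgSp.Space S) (a : U ⟶ Y) (u : AlgSp.Points U.obj), AlgSp.IsEtaleMor a.hom ∧
      AlgSp.Points.map a.hom u = y ∧
      ∀ (P : AlgSp.Space S) (prX : P ⟶ X) (prU : P ⟶ U), IsPullback prX.hom prU.hom f.hom a.hom →
        ∃ (V : AlgSp.Space S) (jV : V ⟶ P), AlgSp.RepWith @IsOpenImmersion jV.hom ∧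
          AlgSp.RepWith @IsClosedImmersion jV.hom ∧ AlgSp.IsFiniteMor (jV ≫ prU).hom ∧
          (∀ v : AlgSp.Points V.obj, AlgSp.Points.map (jV ≫ prU).hom v = u →
            AlgSp.Points.map (jV ≫ prX).hom v ∈ xs) ∧
          ∀ w : AlgSp.Points P.obj, w ∉ Set.range (AlgSp.Points.map jV.hom) →
            AlgSp.Points.map prU.hom w = u → AlgSp.Points.map prX.hom w ∉ xs := by
  classical
  have hX := X.property
  have hY := Y.property
  have hE := Groth.Agent.Lib.Helper78.AlgSpLocPLqf.etLocalST_lqf.{u}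
  obtain ⟨Y', b, hbe, hbs⟩ := hY.atlas
  obtain ⟨y', hy'⟩ := surjective_ofPt_of_repWith_surjective b hbs y
  have hyY' := AlgSp.IsAlgSpace.yon_obj Y'
  -- the base change `X'`
  have sqX' := IsPullback.of_hasPullback f.hom b
  obtain ⟨X', π, pr, hX'def, sqX'', hΞfin⟩ : ∃ (X' : AlgSp.Sp S) (π : X' ⟶ X.obj)
      (pr : X' ⟶ (AlgSp.yon S).obj Y'), X' = pullback f.hom b ∧ IsPullback π pr f.hom b ∧
      {ξ : AlgSp.Points X' | AlgSp.Points.map pr ξ = AlgSp.Points.ofScheme Y' y' ∧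
        AlgSp.Points.map π ξ ∈ xs}.Finite :=
    ⟨_, _, _, rfl, sqX', finite_points_over f xs hf1 hf3 hf4 b hbe y'⟩
  clear sqX' hX'def
  have hX' : AlgSp.IsAlgSpace X' :=
    Groth.Agent.Lib.Helper30.isAlgSpace_of_isPullback hY.diag hX hyY' sqX''
  have hpr_sep : AlgSp.IsSeparatedMor pr :=
    MorphismProperty.of_isPullback
      (P := (AlgSp.RepWith (S := S) @IsClosedImmersion).diagonal) sqX'' hf2
  -- the quasi-finite locus
  obtain ⟨G⟩ := exists_goodChart pr (𝟙 _) hX' hyY' hyY'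
  obtain ⟨Qf, hQf⟩ : ∃ Qf : Set (Points X'), Qf = {ξ : Points X' |
      HasAtMor (Near (@LocallyQuasiFinite ⊓ @LocallyOfFiniteType)) pr ξ} := ⟨_, rfl⟩
  have hopen : IsOpen Qf := by
    rw [hQf]; exact isOpen_hasAtMor (etLocalPt_near hE) G (isOpen_near _ _)
  have hT₀ : AlgSp.IsAlgSpace (openSp X' Qf) := isAlgSpace_openSp Qf hopen hX'
  have hιrep : AlgSp.RepWith @IsOpenImmersion (openSpι X' Qf) :=
    repWith_isOpenImmersion_openSpι Qf hopen
  haveI hιmono : Mono (openSpι X' Qf) :=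
    mono_of_repWith (fun g (_ : IsOpenImmersion g) => inferInstance) hιrep
  have hqfT : AlgSp.LocP (@LocallyQuasiFinite ⊓ @LocallyOfFiniteType) (openSpι X' Qf ≫ pr) :=
    locP_openSpι_comp hE pr Qf hopen (fun x hx => by rw [hQf] at hx; exact hx)
  have hsepT : AlgSp.IsSeparatedMor (openSpι X' Qf ≫ pr) :=
    Groth.Agent.Lib.Helper51.KerAt.isSeparatedMor_comp _ _
      (Groth.Agent.Lib.Helper51.KerAt.isSeparatedMor_of_mono _) hpr_sep
  obtain ⟨T, ⟨e⟩⟩ := Groth.Agent.Lib.Helper30.ZMT.exists_iso_yon_of_sep_lqf hT₀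
    (openSpι X' Qf ≫ pr) hsepT hqfT
  obtain ⟨τ, hτ⟩ : ∃ τ : (AlgSp.yon S).obj T ⟶ X', τ = e.hom ≫ openSpι X' Qf := ⟨_, rfl⟩
  have hτrep : AlgSp.RepWith @IsOpenImmersion τ := by
    rw [hτ]
    exact (AlgSp.RepWith (S := S) @IsOpenImmersion).comp_mem _ _
      (Groth.Agent.Lib.Helper78.AlgSpBasic.repWith_of_isIso _ e.hom) hιrep
  haveI hτmono : Mono τ :=
    mono_of_repWith (fun g (_ : IsOpenImmersion g) => inferInstance) hτrep
  have hτrange : Set.range (Points.map τ) = Qf := by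
    rw [← range_map_openSpι (F := X') (W := Qf), hτ]
    ext ξ
    constructor
    · rintro ⟨z, rfl⟩
      exact ⟨Points.map e.hom z, (Points.map_comp _ _ _).symm⟩
    · rintro ⟨z, rfl⟩
      refine ⟨Points.map e.inv z, ?_⟩
      rw [Points.map_comp, ← Points.map_comp e.inv e.hom, e.inv_hom_id, Points.map_id]
  obtain ⟨t, ht⟩ := (AlgSp.yon S).map_surjective (τ ≫ pr)
  have htP : (@LocallyQuasiFinite ⊓ @LocallyOfFiniteType : MorphismProperty Scheme.{u}) t.left :=
    hqfT e.hom (𝟙 _) t (Groth.Agent.Lib.Helper78.AlgSpBasic.repWith_of_isIso _ e.hom)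
      (AlgSp.repWith_id _ _) (by rw [Category.comp_id, ht, hτ, Category.assoc])
  haveI : LocallyQuasiFinite t.left := htP.1
  haveI : LocallyOfFiniteType t.left := htP.2
  haveI : IsSeparated t.left := by
    rw [← AlgSp.isSeparatedMor_yon_map_iff, ht, hτ, Category.assoc]
    exact (MorphismProperty.cancel_left_of_respectsIso
      ((AlgSp.RepWith (S := S) @IsClosedImmersion).diagonal) e.hom _).2 hsepT
  -- the finite set of points of `T`
  obtain ⟨ΞT, hΞT⟩ : ∃ ΞT : Set T.left, ΞT = {ξ : T.left | t.left ξ = y' ∧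
      Points.ofPt (τ ≫ π) ξ ∈ xs} := ⟨_, rfl⟩
  have hΞTfin : ΞT.Finite := by
    refine Set.Finite.of_injOn (f := fun ξ => Points.ofPt τ ξ) ?_ ?_ hΞfin
    · intro ξ hξ
      rw [hΞT] at hξ
      refine ⟨?_, ?_⟩
      · change Points.map pr (Points.ofPt τ ξ) = _
        rw [Points.map_ofPt, ← ht]
        apply Function.LeftInverse.injective (Points.ofScheme_toScheme Y')
        rw [Points.toScheme_ofPt, Points.toScheme_ofScheme]
        exact hξ.1
      · change Points.map π (Points.ofPt τ ξ) ∈ xs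
        rw [Points.map_ofPt]; exact hξ.2
    · intro ξ₁ _ ξ₂ _ h12
      have h12' : Points.map τ (Points.ofScheme T ξ₁) = Points.map τ (Points.ofScheme T ξ₂) := by
        rw [← Points.ofPt_eq_map_ofScheme, ← Points.ofPt_eq_map_ofScheme]; exact h12
      exact (Points.schemeEquiv T).injective (injective_map_of_mono τ h12')
  obtain ⟨U, g, u, hg, hgu, H⟩ : ∃ (U : Over S) (g : U ⟶ Y') (u : U.left), Etale g.left ∧
      g.left u = y' ∧ ∀ (P₀ : Scheme.{u}) (fst₀ : P₀ ⟶ T.left) (snd₀ : P₀ ⟶ U.left),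
        IsPullback fst₀ snd₀ t.left g.left → ∃ V W : P₀.Opens, IsCompl V W ∧
          IsFinite (V.ι ≫ snd₀) ∧ ∀ z : P₀, snd₀ z = u → (z ∈ V ↔ fst₀ z ∈ ΞT) := by
    obtain ⟨U₀, g₀, u, hg₀, hg₀u, H⟩ :=
      Groth.Agent.Lib.Helper30.EtSplit.exists_etale_split_finset
        t.left y' hΞTfin.toFinset
        (fun ξ hξ => by rw [Set.Finite.mem_toFinset, hΞT] at hξ; exact hξ.1)
        (fun ξ _ => Scheme.Hom.quasiFiniteAt t.left ξ)
    refine ⟨Over.mk (g₀ ≫ Y'.hom), Over.homMk g₀ rfl, u, hg₀, hg₀u, fun P₀ fst₀ snd₀ sq₀ => ?_⟩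
    obtain ⟨V, W, h1, h2, h3⟩ := H P₀ fst₀ snd₀ sq₀
    refine ⟨V, W, h1, h2, fun z hz => ?_⟩
    rw [h3 z hz, Set.Finite.mem_toFinset]
  -- the étale neighbourhood
  obtain ⟨a, ha⟩ : ∃ a : (AlgSp.yon S).obj U ⟶ Y.obj, a = (AlgSp.yon S).map g ≫ b := ⟨_, rfl⟩
  have hae : AlgSp.RepWith @Etale a := by
    rw [ha]
    exact (AlgSp.RepWith (S := S) @Etale).comp_mem _ _ ((AlgSp.repWith_yon_map_iff _ _).2 hg) hbe
  have hyU := AlgSp.IsAlgSpace.yon_obj U
  refine ⟨⟨(AlgSp.yon S).obj U, hyU⟩, ObjectProperty.homMk a, Points.ofScheme U u,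
    AlgSp.isEtaleMor_of_repWith a hae, ?_, ?_⟩
  · change Points.map a (Points.ofScheme U u) = y
    rw [← Points.ofPt_eq_map_ofScheme, ha, ofPt_yon_map_comp, hgu, hy']
  intro P prX prU sq
  replace sq : IsPullback prX.hom prU.hom f.hom a := sq
  have hP := P.property
  -- the map to `X'`
  have hw : prX.hom ≫ f.hom = (prU.hom ≫ (AlgSp.yon S).map g) ≫ b := by
    rw [sq.w, ha, Category.assoc]
  obtain ⟨l, hl1, hl2⟩ : ∃ l : P.obj ⟶ X', l ≫ π = prX.hom ∧
      l ≫ pr = prU.hom ≫ (AlgSp.yon S).map g :=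
    ⟨sqX''.lift _ _ hw, sqX''.lift_fst _ _ _, sqX''.lift_snd _ _ _⟩
  have sql : IsPullback l prU.hom pr ((AlgSp.yon S).map g) := by
    refine IsPullback.of_right ?_ hl2 sqX''
    rw [hl1, ← ha]; exact sq
  -- the scheme part
  obtain ⟨P₀, fst₀, snd₀, sqP₀o, sqP₀s⟩ := Groth.Agent.Lib.Helper30.isPullback_over' t g
  have sqP₀y := sqP₀o.map (AlgSp.yon S)
  have hwj : ((AlgSp.yon S).map fst₀ ≫ τ) ≫ pr = (AlgSp.yon S).map snd₀ ≫ (AlgSp.yon S).map g := by
    rw [Category.assoc, ← ht]; exact sqP₀y.w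
  obtain ⟨jT, hj1, hj2⟩ : ∃ jT : (AlgSp.yon S).obj P₀ ⟶ P.obj,
      jT ≫ l = (AlgSp.yon S).map fst₀ ≫ τ ∧ jT ≫ prU.hom = (AlgSp.yon S).map snd₀ :=
    ⟨sql.lift _ _ hwj, sql.lift_fst _ _ _, sql.lift_snd _ _ _⟩
  have sqJ : IsPullback ((AlgSp.yon S).map fst₀) jT τ l := by
    refine IsPullback.of_bot ?_ hj1.symm sql
    rw [hj2, ← ht]; exact sqP₀y
  have hjTrep : AlgSp.RepWith @IsOpenImmersion jT := MorphismProperty.of_isPullback sqJ hτrep
  obtain ⟨V₀, W₀, hVW, hVfin, hVfib⟩ := H _ _ _ sqP₀s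
  obtain ⟨Vo, ιV, hιVoi, hιVfin, hVpts⟩ : ∃ (Vo : Over S) (ιV : Vo ⟶ P₀), IsOpenImmersion ιV.left ∧
      IsFinite (ιV ≫ snd₀).left ∧ Set.range ιV.left = (V₀ : Set P₀.left) := by
    refine ⟨Over.mk (V₀.ι ≫ P₀.hom), Over.homMk V₀.ι rfl, ?_, hVfin, ?_⟩
    · exact inferInstanceAs (IsOpenImmersion V₀.ι)
    · exact Scheme.Opens.range_ι V₀
  clear hVfin
  obtain ⟨jV, hjV⟩ : ∃ jV : (AlgSp.yon S).obj Vo ⟶ P.obj, jV = (AlgSp.yon S).map ιV ≫ jT :=
    ⟨_, rfl⟩
  have hjVrep : AlgSp.RepWith @IsOpenImmersion jV := by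
    rw [hjV]
    exact (AlgSp.RepWith (S := S) @IsOpenImmersion).comp_mem _ _
      ((AlgSp.repWith_yon_map_iff _ _).2 hιVoi) hjTrep
  have hyVo := AlgSp.IsAlgSpace.yon_obj Vo
  have hjVU : jV ≫ prU.hom = (AlgSp.yon S).map (ιV ≫ snd₀) := by
    rw [hjV, Category.assoc, hj2, Functor.map_comp]
  have hjVX : jV ≫ prX.hom = (AlgSp.yon S).map (ιV ≫ fst₀) ≫ (τ ≫ π) := by
    rw [hjV, ← hl1, Category.assoc, ← Category.assoc jT, hj1, Functor.map_comp]
    simp only [Category.assoc]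
  -- finiteness
  obtain ⟨V', hV'⟩ : ∃ V' : AlgSp.Space S, V'.obj = (AlgSp.yon S).obj Vo :=
    ⟨⟨(AlgSp.yon S).obj Vo, hyVo⟩, rfl⟩
  have hfinU : AlgSp.IsFiniteMor (jV ≫ prU.hom) := by
    rw [hjVU]
    have h1 : AlgSp.RepWith @IsFinite ((AlgSp.yon S).map (ιV ≫ snd₀)) :=
      (AlgSp.repWith_yon_map_iff _ _).2 hιVfin
    exact (Groth.Agent.S10267.result (X := ⟨(AlgSp.yon S).obj Vo, hyVo⟩)
      (Y := ⟨(AlgSp.yon S).obj U, hyU⟩) (ObjectProperty.homMk ((AlgSp.yon S).map (ιV ≫ snd₀)))).2.2 h1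
  have hprU_sep : AlgSp.IsSeparatedMor prU.hom :=
    MorphismProperty.of_isPullback
      (P := (AlgSp.RepWith (S := S) @IsClosedImmersion).diagonal) sq hf2
  have hfinV : AlgSp.IsFiniteMor jV :=
    (Groth.Agent.S10272.result (X := ⟨(AlgSp.yon S).obj Vo, hyVo⟩) (Y := P)
      (Z := ⟨(AlgSp.yon S).obj U, hyU⟩) (ObjectProperty.homMk jV) prU hprU_sep).1 hfinU
  have hfinVrep : AlgSp.RepWith @IsFinite jV :=
    (Groth.Agent.S10267.result (X := ⟨(AlgSp.yon S).obj Vo, hyVo⟩) (Y := P)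
      (ObjectProperty.homMk jV)).2.1 hfinV
  have hjVcl : AlgSp.RepWith @IsClosedImmersion jV := by
    refine ⟨hjVrep.1, fun A B c fst snd sqc => ?_⟩
    have h1 : IsFinite snd.left := hfinVrep.2 c fst snd sqc
    have h2 : IsOpenImmersion snd.left := hjVrep.2 c fst snd sqc
    exact (IsClosedImmersion.iff_isFinite_and_mono snd.left).2 ⟨h1, inferInstance⟩
  refine ⟨⟨(AlgSp.yon S).obj Vo, hyVo⟩, ObjectProperty.homMk jV, hjVrep, hjVcl, hfinU, ?_, ?_⟩
  · intro v hv
    replace hv : Points.map (jV ≫ prU.hom) v = Points.ofScheme U u := hv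
    change Points.map (jV ≫ prX.hom) v ∈ xs
    obtain ⟨v₀, rfl⟩ : ∃ v₀ : Vo.left, Points.ofScheme Vo v₀ = v :=
      ⟨_, Points.ofScheme_toScheme Vo v⟩
    rw [hjVU, ← Points.ofPt_eq_map_ofScheme] at hv
    have hv' : (ιV ≫ snd₀).left v₀ = u := by
      have := congrArg (Points.toScheme U) hv
      rwa [Points.toScheme_ofPt, Points.toScheme_ofScheme] at this
    have hz : ιV.left v₀ ∈ V₀ := by
      have : ιV.left v₀ ∈ Set.range ιV.left := ⟨v₀, rfl⟩
      rw [hVpts] at this; exact this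
    have h3 := (hVfib (ιV.left v₀) hv').1 hz
    rw [hΞT] at h3
    rw [hjVX, ← Points.ofPt_eq_map_ofScheme, ofPt_yon_map_comp]
    exact h3.2
  · intro w hw hwu hwx
    replace hwu : Points.map prU.hom w = Points.ofScheme U u := hwu
    apply hw
    change w ∈ Set.range (Points.map jV)
    -- the image in `X'` lies in the quasi-finite locus
    have h1 : Points.map π (Points.map l w) = Points.map prX.hom w := by
      rw [← Points.map_comp, hl1]
    have h2 : Points.map l w ∈ Qf := by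
      rw [hQf]
      obtain ⟨G'⟩ := exists_goodChart f.hom (𝟙 Y.obj) hX hY hY
      refine hasAtMor_of_baseChange (etLocalPt_near hE) G'
        (fun mU k'' mV sq' u'' h => near_of_isPullback sq' u'' h) hyY' b pr (𝟙 _) π b
        (IsPullback.id_vert b) sqX'' (Points.map l w) ?_
      rw [h1]
      exact hf3 _ hwx
    rw [← hτrange] at h2
    obtain ⟨ζ, hζ⟩ := h2
    obtain ⟨w', hw'1, hw'2⟩ := exists_point_of_isPullback sqJ ζ w hζ
    obtain ⟨w₀, rfl⟩ : ∃ w₀ : P₀.left, Points.ofScheme P₀ w₀ = w' :=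
      ⟨_, Points.ofScheme_toScheme P₀ w'⟩
    have hsw : snd₀.left w₀ = u := by
      have h3 : Points.map (jT ≫ prU.hom) (Points.ofScheme P₀ w₀) = Points.ofScheme U u := by
        rw [Points.map_comp, hw'2, hwu]
      rw [hj2, ← Points.ofPt_eq_map_ofScheme] at h3
      have := congrArg (Points.toScheme U) h3
      rwa [Points.toScheme_ofPt, Points.toScheme_ofScheme] at this
    have hζ' : ζ = Points.ofScheme T (fst₀.left w₀) := by
      rw [← hw'1, ← Points.ofPt_eq_map_ofScheme]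
      apply Function.LeftInverse.injective (Points.ofScheme_toScheme T)
      rw [Points.toScheme_ofPt, Points.toScheme_ofScheme]
    have hξ : fst₀.left w₀ ∈ ΞT := by
      rw [hΞT]
      refine ⟨?_, ?_⟩
      · have := congrArg (fun k : P₀.left ⟶ Y'.left => k w₀) sqP₀s.w
        simp only [Scheme.Hom.comp_apply] at this
        rw [this, hsw, hgu]
      · rw [← Points.map_ofPt, Points.ofPt_eq_map_ofScheme, ← hζ', hζ, h1]
        exact hwx
    have hw₀V : w₀ ∈ V₀ := (hVfib w₀ hsw).2 hξ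
    have : w₀ ∈ Set.range ιV.left := by rw [hVpts]; exact hw₀V
    obtain ⟨v₀, hv₀⟩ := this
    refine ⟨Points.ofScheme Vo v₀, ?_⟩
    rw [hjV, Points.map_comp, ← Points.ofPt_eq_map_ofScheme, ← hw'2]
    congr 1
    apply Function.LeftInverse.injective (Points.ofScheme_toScheme P₀)
    rw [Points.toScheme_ofPt, Points.toScheme_ofScheme, hv₀]

end Groth.Agent.Lib.Helper30.AlgSpEtSplit
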