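import Groth.Agent.Lib.Helper30.AlgSpMor

/-!
Fibre products of algebraic spaces (helper30): `X ×_H Y` is an algebraic space when `X`, `Y` are and
the diagonal of the sheaf `H` is representable.
-/

set_option autoImplicit false
set_option linter.unusedSectionVars false
universe u
open CategoryTheory CategoryTheory.Limits AlgebraicGeometry Opposite

set_option backward.isDefEq.respectTransparency false

namespace Groth.Agent.Lib.Helper30

section General

variable {D : Type*} [Category D] [HasBinaryProducts D]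

/-- The fibre product `A ×_P B` over a fibre product `P = X ×_H Y`, computed as the equalizer (cut out
by the diagonal of `Y`) inside `A ×_X B`. -/
theorem isPullback_of_isPullback_diag {P X Y H A B VX V : D} {fstP : P ⟶ X} {sndP : P ⟶ Y}
    {f : X ⟶ H} {g : Y ⟶ H} (h : IsPullback fstP sndP f g) (a : A ⟶ P) (b : B ⟶ P)
    {α : VX ⟶ A} {β : VX ⟶ B} (sqX : IsPullback α β (a ≫ fstP) (b ≫ fstP))
    {e : V ⟶ Y} {s : V ⟶ VX}
    (sqD : IsPullback e s (Limits.diag Y) (prod.lift (α ≫ a ≫ sndP) (β ≫ b ≫ sndP))) :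
    IsPullback (s ≫ α) (s ≫ β) a b := by
  have he1 : s ≫ α ≫ a ≫ sndP = e := by
    have := sqD.w =≫ prod.fst
    simpa using this.symm
  have he2 : s ≫ β ≫ b ≫ sndP = e := by
    have := sqD.w =≫ prod.snd
    simpa using this.symm
  have w : (s ≫ α) ≫ a = (s ≫ β) ≫ b := by
    apply h.hom_ext
    · simp only [Category.assoc]; rw [sqX.w]
    · simp only [Category.assoc]; rw [he1, he2]
  have key : ∀ c : PullbackCone a b, ∃ l : c.pt ⟶ V, l ≫ s ≫ α = c.fst ∧ l ≫ s ≫ β = c.snd := by
    intro c
    have hc : c.fst ≫ a ≫ fstP = c.snd ≫ b ≫ fstP := by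
      rw [← Category.assoc, c.condition, Category.assoc]
    have h1 : sqX.lift c.fst c.snd hc ≫ α = c.fst := sqX.lift_fst _ _ _
    have h2 : sqX.lift c.fst c.snd hc ≫ β = c.snd := sqX.lift_snd _ _ _
    have hd : (sqX.lift c.fst c.snd hc ≫ α ≫ a ≫ sndP) ≫ Limits.diag Y =
        sqX.lift c.fst c.snd hc ≫ prod.lift (α ≫ a ≫ sndP) (β ≫ b ≫ sndP) := by
      ext
      · simp
      · simp only [Category.assoc, prod.lift_snd, Category.comp_id]
        rw [← Category.assoc, h1, ← Category.assoc, c.condition, Category.assoc,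
          ← Category.assoc _ β, h2]
    refine ⟨sqD.lift _ _ hd, ?_, ?_⟩
    · rw [← Category.assoc, sqD.lift_snd, h1]
    · rw [← Category.assoc, sqD.lift_snd, h2]
  choose l hl1 hl2 using key
  refine ⟨⟨w⟩, ⟨PullbackCone.IsLimit.mk _ l (fun c => by rw [← hl1 c]) (fun c => by rw [← hl2 c]) ?_⟩⟩
  intro c m hm1 hm2
  have hms : m ≫ s = l c ≫ s := by
    apply sqX.hom_ext
    · rw [Category.assoc, Category.assoc, hm1, hl1]
    · rw [Category.assoc, Category.assoc, hm2, hl2]
  apply sqD.hom_ext
  · rw [← he1, ← Category.assoc, ← Category.assoc, hms, Category.assoc, Category.assoc]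
  · exact hms

end General

open AlgSp Groth.Agent.Lib.Helper51 Groth.Agent.Lib.Helper52

variable {S : Scheme.{u}}

/-- Every map from a scheme to a fibre product of sheaves with representable diagonals is
representable. -/
theorem representable_from_yon_of_isPullback {H X Y P : AlgSp.Sp S}
    (hX : AlgSp.Representable (Limits.diag X)) (hY : AlgSp.Representable (Limits.diag Y))
    {f : X ⟶ H} {g : Y ⟶ H} {fst : P ⟶ X} {snd : P ⟶ Y} (h : IsPullback fst snd f g)
    {T : Over S} (a : (AlgSp.yon S).obj T ⟶ P) : AlgSp.Representable a := by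
  intro T' b
  have hrX : AlgSp.Representable (a ≫ fst) := Functor.relativelyRepresentable.of_diag hX _
  have sqX := hrX.isPullback' (b ≫ fst)
  have sqD := hY.isPullback (prod.lift ((AlgSp.yon S).map (hrX.fst' (b ≫ fst)) ≫ a ≫ snd)
    ((AlgSp.yon S).map (hrX.snd (b ≫ fst)) ≫ b ≫ snd))
  have := isPullback_of_isPullback_diag h a b sqX sqD
  rw [← Functor.map_comp, ← Functor.map_comp] at this
  exact ⟨_, _, _, this⟩

/-- The diagonal of a fibre product of sheaves with representable diagonals is representable. -/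
theorem representable_diag_of_isPullback {H X Y P : AlgSp.Sp S}
    (hX : AlgSp.Representable (Limits.diag X)) (hY : AlgSp.Representable (Limits.diag Y))
    {f : X ⟶ H} {g : Y ⟶ H} {fst : P ⟶ X} {snd : P ⟶ Y} (h : IsPullback fst snd f g) :
    AlgSp.Representable (Limits.diag P) :=
  Functor.relativelyRepresentable.diag_of_map_from_obj
    (fun _ a => representable_from_yon_of_isPullback hX hY h a)

/-- The chart `h_V = h_U ×_H h_W ⟶ X ×_H Y` induced by charts `h_U ⟶ X`, `h_W ⟶ Y` has every property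
`Q` that is stable under base change and composition and that the two charts have. -/
theorem exists_chart_of_isPullback_charts (Q : MorphismProperty Scheme.{u})
    [Q.IsStableUnderBaseChange] [Q.IsMultiplicative] {H X Y P : AlgSp.Sp S}
    (hH : AlgSp.Representable (Limits.diag H))
    {f : X ⟶ H} {g : Y ⟶ H} {fst : P ⟶ X} {snd : P ⟶ Y} (h : IsPullback fst snd f g)
    {U W : Over S} (p : (AlgSp.yon S).obj U ⟶ X) (q : (AlgSp.yon S).obj W ⟶ Y) :
    ∃ (V : Over S) (r : (AlgSp.yon S).obj V ⟶ P) (v₁ : V ⟶ U) (v₂ : V ⟶ W),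
      r ≫ fst = (AlgSp.yon S).map v₁ ≫ p ∧ r ≫ snd = (AlgSp.yon S).map v₂ ≫ q ∧
      IsPullback ((AlgSp.yon S).map v₁) ((AlgSp.yon S).map v₂) (p ≫ f) (q ≫ g) ∧
      ∀ (Q' : MorphismProperty Scheme.{u}) [Q'.IsStableUnderBaseChange] [Q'.IsMultiplicative],
        AlgSp.RepWith Q' p → AlgSp.RepWith Q' q → AlgSp.RepWith Q' r := by
  have hpf : AlgSp.Representable (p ≫ f) := Functor.relativelyRepresentable.of_diag hH _
  have sqV := hpf.isPullback' (q ≫ g)
  -- the intermediate fibre product `X ×_H h_W`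
  let m1 : pullback f (q ≫ g) ⟶ P :=
    h.lift (pullback.fst f (q ≫ g)) (pullback.snd f (q ≫ g) ≫ q)
      (by rw [pullback.condition, Category.assoc])
  have hm1f : m1 ≫ fst = pullback.fst f (q ≫ g) := h.lift_fst _ _ _
  have hm1s : m1 ≫ snd = pullback.snd f (q ≫ g) ≫ q := h.lift_snd _ _ _
  have sq1 : IsPullback (pullback.snd f (q ≫ g)) m1 q snd := by
    refine IsPullback.of_bot ?_ hm1s.symm h.flip
    rw [hm1f]
    exact (IsPullback.of_hasPullback f (q ≫ g)).flip
  let m2 : (AlgSp.yon S).obj (hpf.pullback (q ≫ g)) ⟶ pullback f (q ≫ g) :=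
    pullback.lift ((AlgSp.yon S).map (hpf.fst' (q ≫ g)) ≫ p) ((AlgSp.yon S).map (hpf.snd (q ≫ g)))
      (by rw [Category.assoc]; exact sqV.w)
  have hm2f : m2 ≫ pullback.fst f (q ≫ g) = (AlgSp.yon S).map (hpf.fst' (q ≫ g)) ≫ p :=
    pullback.lift_fst _ _ _
  have hm2s : m2 ≫ pullback.snd f (q ≫ g) = (AlgSp.yon S).map (hpf.snd (q ≫ g)) :=
    pullback.lift_snd _ _ _
  have sq2 : IsPullback m2 ((AlgSp.yon S).map (hpf.fst' (q ≫ g))) (pullback.fst f (q ≫ g)) p := by
    refine IsPullback.of_right ?_ hm2f (IsPullback.of_hasPullback f (q ≫ g)).flip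
    rw [hm2s]
    exact sqV.flip
  refine ⟨hpf.pullback (q ≫ g), m2 ≫ m1, hpf.fst' (q ≫ g), hpf.snd (q ≫ g), ?_, ?_, sqV, ?_⟩
  · rw [Category.assoc, hm1f, hm2f]
  · rw [Category.assoc, hm1s, ← Category.assoc, hm2s]
  · intro Q' _ _ hp hq
    have h1 : AlgSp.RepWith Q' m1 := MorphismProperty.of_isPullback sq1 hq
    have h2 : AlgSp.RepWith Q' m2 := MorphismProperty.of_isPullback sq2.flip hp
    exact (AlgSp.RepWith Q').comp_mem _ _ h2 h1

/-- A fibre product `X ×_H Y` of algebraic spaces over a sheaf `H` with representable diagonal is an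
algebraic space. -/
theorem isAlgSpace_of_isPullback {H X Y P : AlgSp.Sp S}
    (hH : AlgSp.Representable (Limits.diag H)) (hX : AlgSp.IsAlgSpace X) (hY : AlgSp.IsAlgSpace Y)
    {f : X ⟶ H} {g : Y ⟶ H} {fst : P ⟶ X} {snd : P ⟶ Y} (h : IsPullback fst snd f g) :
    AlgSp.IsAlgSpace P where
  diag := representable_diag_of_isPullback hX.diag hY.diag h
  atlas := by
    obtain ⟨U, p, hp1, hp2⟩ := hX.atlas
    obtain ⟨W, q, hq1, hq2⟩ := hY.atlas
    obtain ⟨V, r, _, _, _, _, _, hr⟩ := exists_chart_of_isPullback_charts @Etale hH h p q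
    exact ⟨V, r, hr @Etale hp1 hq1, hr @Surjective hp2 hq2⟩

end Groth.Agent.Lib.Helper30

namespace Groth.Agent.Lib.Helper30

open AlgSp

variable {S : Scheme.{u}}

/-- Algebraic spaces are closed under fibre products inside fppf sheaves. -/
instance isAlgSpace_isClosedUnderLimitsOfShape_walkingCospan :
    ObjectProperty.IsClosedUnderLimitsOfShape (AlgSp.IsAlgSpace (S := S)) WalkingCospan where
  limitsOfShape_le := by
    rintro X ⟨h⟩
    have sq := IsPullback.of_isLimit_cone h.isLimit
    exact isAlgSpace_of_isPullback (h.prop_diag_obj .one).diag (h.prop_diag_obj .left)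
      (h.prop_diag_obj .right) sq

instance hasPullbacks_space : HasPullbacks (AlgSp.Space S) :=
  hasLimitsOfShape_of_closedUnderLimits _ _

noncomputable instance createsPullbacks_space_ι :
    CreatesLimitsOfShape WalkingCospan (ObjectProperty.ι (AlgSp.IsAlgSpace (S := S))) :=
  createsLimitsOfShapeFullSubcategoryInclusion _ _

instance preservesPullbacks_space_ι :
    PreservesLimitsOfShape WalkingCospan (ObjectProperty.ι (AlgSp.IsAlgSpace (S := S))) :=
  inferInstance

/-- A pullback square of algebraic spaces is a pullback square of sheaves. -/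
theorem isPullback_hom_of_isPullback {P X Y Z : AlgSp.Space S} {fst : P ⟶ X} {snd : P ⟶ Y}
    {f : X ⟶ Z} {g : Y ⟶ Z} (h : IsPullback fst snd f g) :
    IsPullback fst.hom snd.hom f.hom g.hom :=
  h.map (ObjectProperty.ι (AlgSp.IsAlgSpace (S := S)))

end Groth.Agent.Lib.Helper30
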