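import Groth.Agent.Lib.Helper30.SpecializeDiscrete
import Groth.Agent.Lib.Helper30.AlgSpMor
import Groth.Agent.Lib.Helper30.AlgSpFib
import Groth.Agent.Lib.Helper51.AlgSpPoints
import Groth.Agent.Lib.Helper78.AlgSpEtGraph
import Groth.Agent.Lib.Helper78.AlgSpMisc
import Groth.Agent.Lib.Helper78.AlgSpLocPLqf
import Groth.Agent.Lib.Helper78.AlgSpLocP3
import Groth.Agent.Lib.Helper78.AlgSpFibre

/-!
# Locally quasi-finite ⟺ discrete fibres, for algebraic spaces (helper30)
-/

set_option autoImplicit false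
set_option maxHeartbeats 1600000
set_option backward.isDefEq.respectTransparency false
set_option linter.unusedSectionVars false
universe u
open CategoryTheory CategoryTheory.Limits AlgebraicGeometry Opposite TopologicalSpace Topology

namespace Groth.Agent.Lib.Helper30.FibDisc

open AlgSp Groth.Agent.Lib.Helper51 Groth.Agent.Lib.Helper52
open Groth.Agent.Lib.Helper78.AlgSpBasic Groth.Agent.Lib.Helper78.AlgSpFibre

variable {S : Scheme.{u}}

/-- A locally Noetherian scheme étale over a sheaf with discrete space of points is discrete. -/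
theorem discreteTopology_of_etale_chart {P : AlgSp.Sp S} {A' : Over S}
    (a' : (AlgSp.yon S).obj A' ⟶ P) (ha' : AlgSp.RepWith @Etale a')
    [IsLocallyNoetherian A'.left] [DiscreteTopology (AlgSp.Points P)] :
    DiscreteTopology A'.left := by
  have sq := ha'.rep.isPullback' a'
  have hs : Etale (ha'.rep.fst' a').left := ha'.property _ _ _ sq.flip
  have ht : Etale (ha'.rep.snd a').left := ha'.property _ _ _ sq
  haveI : LocallyQuasiFinite (ha'.rep.snd a').left :=
    Groth.Agent.Lib.Helper78.AlgSpLocPLqf.lqf_of_etale _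
  refine SpecDisc.discreteTopology_of_forall_specializes_eq A'.left
    (SpecDisc.eq_of_specializes_of_rel (ha'.rep.fst' a').left (ha'.rep.snd a').left ?_)
  intro η w' h
  have h1 : Points.ofPt a' w' = Points.ofPt a' η :=
    ((h.map (Points.continuous_ofPt a')).eq).symm
  exact exists_of_ofPt_eq_ofPt sq h1

/-- (⟹) the fibres of a locally quasi-finite morphism over field-valued points are discrete. -/
theorem discreteTopology_fibre_of_lqf {X Y : AlgSp.Sp S} (hX : AlgSp.IsAlgSpace X)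
    (hY : AlgSp.IsAlgSpace Y) (f : X ⟶ Y)
    (hqf : AlgSp.LocP (@LocallyQuasiFinite ⊓ @LocallyOfFiniteType) f)
    (k : Type u) [Field k] (str : Spec (CommRingCat.of k) ⟶ S)
    (y : (AlgSp.yon S).obj (Over.mk str) ⟶ Y)
    (P : AlgSp.Sp S) (fst : P ⟶ X) (snd : P ⟶ (AlgSp.yon S).obj (Over.mk str))
    (sq : IsPullback fst snd f y) : DiscreteTopology (AlgSp.Points P) := by
  have hP : AlgSp.IsAlgSpace P :=
    Groth.Agent.Lib.Helper30.isAlgSpace_of_isPullback hY.diag hX (AlgSp.IsAlgSpace.yon_obj _) sq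
  have hsnd : AlgSp.LocP (@LocallyQuasiFinite ⊓ @LocallyOfFiniteType) snd :=
    Groth.Agent.Lib.Helper78.AlgSpLocP.locP_of_isPullback
      Groth.Agent.Lib.Helper78.AlgSpLocPLqf.etLocalST_lqf sq (repAll_of_isAlgSpace hY)
      hX.atlas hY.atlas hqf
  obtain ⟨A, a, ha, has⟩ := hP.atlas
  obtain ⟨g, hg⟩ := (AlgSp.yon S).map_surjective (a ≫ snd)
  have h1 := hsnd a (𝟙 _) g ha (AlgSp.repWith_id _ _) (by rw [hg, Category.comp_id])
  haveI : LocallyQuasiFinite g.left := h1.1
  haveI : IsLocallyArtinian (Over.mk str).left :=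
    inferInstanceAs (IsLocallyArtinian (Spec (CommRingCat.of k)))
  haveI : IsLocallyArtinian A.left := IsLocallyArtinian.of_locallyQuasiFinite g.left
  rw [discreteTopology_iff_isOpen_singleton]
  intro p
  obtain ⟨x, rfl⟩ := surjective_ofPt_of_repWith_surjective a has p
  have := isOpenMap_ofPt_of_etale a ha {x} (isOpen_discrete _)
  rwa [Set.image_singleton] at this

/-- (⟸) a morphism locally of finite type whose fibres over field-valued points are all discrete
is locally quasi-finite. -/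
theorem lqf_of_discrete_fibres {X Y : AlgSp.Sp S} (hX : AlgSp.IsAlgSpace X)
    (hY : AlgSp.IsAlgSpace Y) (f : X ⟶ Y) (hf : AlgSp.LocP @LocallyOfFiniteType f)
    (H : ∀ (k : Type u) [Field k] (str : Spec (CommRingCat.of k) ⟶ S)
      (y : (AlgSp.yon S).obj (Over.mk str) ⟶ Y) (P : AlgSp.Sp S) (fst : P ⟶ X)
      (snd : P ⟶ (AlgSp.yon S).obj (Over.mk str)),
      IsPullback fst snd f y → DiscreteTopology (AlgSp.Points P)) :
    AlgSp.LocP (@LocallyQuasiFinite ⊓ @LocallyOfFiniteType) f := by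
  intro A B a b h ha hb comm
  have hlft : LocallyOfFiniteType h.left := hf a b h ha hb comm
  refine ⟨?_, hlft⟩
  haveI := hlft
  change LocallyQuasiFinite h.left
  rw [locallyQuasiFinite_iff_isDiscrete_preimage_singleton]
  intro y
  have sq0 : IsPullback (h.left.fiberToSpecResidueField y) (h.left.fiberι y)
      (B.left.fromSpecResidueField y) h.left :=
    (IsPullback.of_hasPullback h.left (B.left.fromSpecResidueField y)).flip
  have hw : h.left.fiberToSpecResidueField y ≫ B.left.fromSpecResidueField y ≫ B.hom =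
      h.left.fiberι y ≫ A.hom := by
    rw [← Over.w h, ← Category.assoc, ← Category.assoc, sq0.w]
  have sqO := Groth.Agent.Lib.Helper30.isPullback_over h (h.left.fiberι y)
    (B.left.fromSpecResidueField y) (h.left.fiberToSpecResidueField y) sq0 hw
  -- name the objects and maps
  obtain ⟨K, hK⟩ : ∃ K : Over S, K = Over.mk (B.left.fromSpecResidueField y ≫ B.hom) := ⟨_, rfl⟩
  obtain ⟨A', hA'⟩ : ∃ A' : Over S, A' = Over.mk (h.left.fiberι y ≫ A.hom) := ⟨_, rfl⟩
  have hdiscK : ∀ (y' : (AlgSp.yon S).obj K ⟶ Y) (P : AlgSp.Sp S) (fst : P ⟶ X)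
      (snd : P ⟶ (AlgSp.yon S).obj K), IsPullback fst snd f y' →
      DiscreteTopology (AlgSp.Points P) := by
    subst hK
    exact H (B.left.residueField y) (B.left.fromSpecResidueField y ≫ B.hom)
  have hnoeth : IsLocallyNoetherian A'.left := by
    subst hA'
    change IsLocallyNoetherian (pullback h.left (B.left.fromSpecResidueField y))
    infer_instance
  have hhomeo : Nonempty (A'.left ≃ₜ h.left ⁻¹' {y}) := by
    subst hA'
    exact ⟨h.left.fiberHomeo y⟩
  obtain ⟨q, j, ι, sqO'⟩ : ∃ (q : A' ⟶ K) (j : A' ⟶ A) (ι : K ⟶ B), IsPullback q j ι h := by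
    subst hK hA'
    exact ⟨_, _, _, sqO⟩
  clear sqO hw sq0 hK hA' H
  have sqY : IsPullback ((AlgSp.yon S).map q) ((AlgSp.yon S).map j) ((AlgSp.yon S).map ι)
      ((AlgSp.yon S).map h) := sqO'.map (AlgSp.yon S)
  obtain ⟨ybar, hybar⟩ : ∃ ybar : (AlgSp.yon S).obj K ⟶ Y, ybar = (AlgSp.yon S).map ι ≫ b :=
    ⟨_, rfl⟩
  have sqP := IsPullback.of_hasPullback f ybar
  haveI hdisc : DiscreteTopology (AlgSp.Points (pullback f ybar)) := hdiscK ybar _ _ _ sqP
  have hP : AlgSp.IsAlgSpace (pullback f ybar) :=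
    Groth.Agent.Lib.Helper30.isAlgSpace_of_isPullback hY.diag hX (AlgSp.IsAlgSpace.yon_obj K) sqP
  have sqQ := IsPullback.of_hasPullback f b
  have hQ : AlgSp.IsAlgSpace (pullback f b) :=
    Groth.Agent.Lib.Helper30.isAlgSpace_of_isPullback hY.diag hX (AlgSp.IsAlgSpace.yon_obj B) sqQ
  obtain ⟨c, hc1, hc2⟩ : ∃ c : (AlgSp.yon S).obj A ⟶ pullback f b,
      c ≫ pullback.fst f b = a ∧ c ≫ pullback.snd f b = (AlgSp.yon S).map h :=
    ⟨sqQ.lift a ((AlgSp.yon S).map h) comm, sqQ.lift_fst _ _ _, sqQ.lift_snd _ _ _⟩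
  have hmw : pullback.fst f ybar ≫ f = (pullback.snd f ybar ≫ (AlgSp.yon S).map ι) ≫ b := by
    rw [sqP.w, hybar, Category.assoc]
  obtain ⟨m, hm1, hm2⟩ : ∃ m : pullback f ybar ⟶ pullback f b,
      m ≫ pullback.fst f b = pullback.fst f ybar ∧
      m ≫ pullback.snd f b = pullback.snd f ybar ≫ (AlgSp.yon S).map ι :=
    ⟨sqQ.lift _ _ hmw, sqQ.lift_fst _ _ _, sqQ.lift_snd _ _ _⟩
  have ha'w : ((AlgSp.yon S).map j ≫ a) ≫ f = (AlgSp.yon S).map q ≫ ybar := by
    rw [Category.assoc, comm, ← Category.assoc, ← sqY.w, hybar, Category.assoc]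
  obtain ⟨a', ha'1, ha'2⟩ : ∃ a' : (AlgSp.yon S).obj A' ⟶ pullback f ybar,
      a' ≫ pullback.fst f ybar = (AlgSp.yon S).map j ≫ a ∧
      a' ≫ pullback.snd f ybar = (AlgSp.yon S).map q :=
    ⟨sqP.lift _ _ ha'w, sqP.lift_fst _ _ _, sqP.lift_snd _ _ _⟩
  have sqPQ : IsPullback m (pullback.snd f ybar) (pullback.snd f b) ((AlgSp.yon S).map ι) := by
    refine IsPullback.of_right ?_ hm2 sqQ
    rw [hm1, ← hybar]; exact sqP
  have sqA' : IsPullback ((AlgSp.yon S).map j) a' c m := by
    refine IsPullback.of_bot ?_ ?_ sqPQ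
    · rw [ha'2, hc2]; exact sqY.flip
    · apply sqQ.hom_ext
      · rw [Category.assoc, hc1, Category.assoc, hm1, ha'1]
      · rw [Category.assoc, hc2, Category.assoc, hm2, ← Category.assoc, ha'2]
        exact sqY.w.symm
  have hae : AlgSp.LocP @Etale a := Groth.Agent.Lib.Helper78.AlgSpMisc.locP_of_repWith
    Groth.Agent.Lib.Helper78.AlgSpLocPSmooth.etLocalST_etale a hX.atlas ha
  have hbe : AlgSp.LocP @Etale b := Groth.Agent.Lib.Helper78.AlgSpMisc.locP_of_repWith
    Groth.Agent.Lib.Helper78.AlgSpLocPSmooth.etLocalST_etale b hY.atlas hb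
  have hp1 : AlgSp.LocP @Etale (pullback.fst f b) :=
    Groth.Agent.Lib.Helper78.AlgSpSmLocal.locP_etale_baseChange (AlgSp.IsAlgSpace.yon_obj B) hY
      sqQ.flip hbe
  have hce : AlgSp.LocP @Etale c :=
    Groth.Agent.Lib.Helper78.AlgSpSmLocal.locP_etale_of_comp (AlgSp.IsAlgSpace.yon_obj A) hQ hX c
      (pullback.fst f b) (hc1 ▸ hae) hp1
  have ha'e : AlgSp.LocP @Etale a' :=
    Groth.Agent.Lib.Helper78.AlgSpSmLocal.locP_etale_baseChange (AlgSp.IsAlgSpace.yon_obj A) hQ
      sqA' hce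
  have ha'E : AlgSp.IsEtaleMor a' :=
    (Groth.Agent.Lib.Helper78.AlgSpMisc.isEtaleMor_iff_locP hP a').2 ha'e
  have hrep : AlgSp.RepWith @Etale a' := by
    have := ha'E (𝟙 _) (AlgSp.repWith_id _ A')
    rwa [Category.id_comp] at this
  haveI := hnoeth
  have hd : DiscreteTopology A'.left := discreteTopology_of_etale_chart a' hrep
  obtain ⟨e⟩ := hhomeo
  rw [isDiscrete_iff_discreteTopology]
  exact e.discreteTopology

end Groth.Agent.Lib.Helper30.FibDisc
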