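import Groth.Agent.S10650
import Groth.Agent.Lib.Helper30.AlgSpFiniteFibre

/-!
# A proper morphism with a finite fibre over a field point is finite near that point (helper30)
-/

set_option autoImplicit false
set_option maxHeartbeats 1600000
universe u
open CategoryTheory CategoryTheory.Limits AlgebraicGeometry Opposite

namespace Groth.Agent.Lib.Helper30.FinFib

open AlgSp

/-- a proper morphism whose fibre over some field-valued point has finitely many points is finite
over an open neighbourhood of that point (no hypothesis on the field or on the base). -/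
theorem exists_open_finite_of_proper_of_finite_fibre {S : Scheme.{u}} {X Y : AlgSp.Space S}
    (f : X ⟶ Y) (hf : AlgSp.IsProperMor f.hom) (y : AlgSp.FieldPt Y.obj)
    (Xy : AlgSp.Sp S) (fst : Xy ⟶ X.obj) (snd : Xy ⟶ (AlgSp.yon S).obj y.pt)
    (hsq : IsPullback fst snd f.hom y.toHom) (hfin : Finite (AlgSp.Points Xy)) :
    ∃ (V : AlgSp.Space S) (j : V ⟶ Y), AlgSp.RepWith @IsOpenImmersion j.hom ∧
      AlgSp.Points.mk y ∈ Set.range (AlgSp.Points.map j.hom) ∧
        ∀ (P : AlgSp.Space S) (fst' : P ⟶ X) (snd' : P ⟶ V), IsPullback fst'.hom snd'.hom f.hom j.hom →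
          AlgSp.IsFiniteMor snd'.hom := by
  have hX := X.property
  have hY' := Y.property
  obtain ⟨hsep, ⟨hlft, hqc⟩, huc⟩ := hf
  haveI := hfin
  have hXy : AlgSp.IsAlgSpace Xy :=
    Groth.Agent.Lib.Helper30.isAlgSpace_of_isPullback hY'.diag hX (AlgSp.IsAlgSpace.yon_obj _) hsq
  have hsep' : AlgSp.IsSeparatedMor snd :=
    MorphismProperty.of_isPullback
      (P := (AlgSp.RepWith (S := S) @IsClosedImmersion).diagonal) hsq hsep
  have hlft' : AlgSp.LocP @LocallyOfFiniteType snd :=
    Groth.Agent.Lib.Helper78.AlgSpLocP.locP_of_isPullback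
      Groth.Agent.Lib.Helper78.AlgSpLocPLoft.etLocalST_loft hsq
      (Groth.Agent.Lib.Helper78.AlgSpFibre.repAll_of_isAlgSpace hY') hX.atlas hY'.atlas hlft
  haveI : CompactSpace y.pt.left := inferInstanceAs (CompactSpace (Spec (CommRingCat.of y.K)))
  have hqcXy : AlgSp.IsQuasiCompactSp Xy :=
    hqc (AlgSp.IsAlgSpace.yon_obj _) (Groth.Agent.Lib.Helper30.isQuasiCompactSp_yon_obj y.pt)
      y.toHom fst snd hsq
  have hqf : AlgSp.LocP (@LocallyQuasiFinite ⊓ @LocallyOfFiniteType) snd :=
    Groth.Agent.Lib.Helper30.FinFib.locP_lqf_of_finite_points hXy y.K y.str snd hlft' hsep' hqcXy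
  apply Groth.Agent.S10650.result f (Points.mk y) ⟨hsep, ⟨hlft, hqc⟩, huc⟩
  intro x hx
  -- charts
  obtain ⟨B, b, hbe, hbs⟩ := hY'.atlas
  have sqQ := IsPullback.of_hasPullback f.hom b
  have hQ : AlgSp.IsAlgSpace (pullback f.hom b) :=
    Groth.Agent.Lib.Helper30.isAlgSpace_of_isPullback hY'.diag hX (AlgSp.IsAlgSpace.yon_obj B) sqQ
  obtain ⟨A, c, hce, hcs⟩ := hQ.atlas
  obtain ⟨h, hh⟩ := (AlgSp.yon S).map_surjective (c ≫ pullback.snd f.hom b)
  have hfst : AlgSp.RepWith @Etale (pullback.fst f.hom b) :=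
    MorphismProperty.of_isPullback sqQ.flip hbe
  have hae : AlgSp.RepWith @Etale (c ≫ pullback.fst f.hom b) :=
    (AlgSp.RepWith (S := S) @Etale).comp_mem _ _ hce hfst
  have comm : (c ≫ pullback.fst f.hom b) ≫ f.hom = (AlgSp.yon S).map h ≫ b := by
    rw [Category.assoc, sqQ.w, ← Category.assoc, hh]
  -- the point
  obtain ⟨b₀, hb₀⟩ := Groth.Agent.Lib.Helper51.surjective_ofPt_of_repWith_surjective b hbs (Points.mk y)
  have hxb : Points.map f.hom x = Points.map b (Points.ofScheme B b₀) := by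
    rw [hx, ← Points.ofPt_eq_map_ofScheme]; exact hb₀.symm
  obtain ⟨w, hw1, hw2⟩ := Groth.Agent.Lib.Helper52.exists_point_of_isPullback sqQ x (Points.ofScheme B b₀) hxb
  obtain ⟨u, hu⟩ := Groth.Agent.Lib.Helper51.surjective_ofPt_of_repWith_surjective c hcs w
  have hub : h.left u = b₀ := by
    have h1 : Points.ofPt ((AlgSp.yon S).map h) u = Points.ofScheme B b₀ := by
      rw [hh, ← Points.map_ofPt, hu, hw2]
    have h2 := congrArg (Points.toScheme B) h1
    rwa [Points.toScheme_ofPt, Points.toScheme_ofScheme] at h2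
  haveI hlfth : LocallyOfFiniteType h.left := hlft (c ≫ pullback.fst f.hom b) b h hae hbe comm
  have hd : DiscreteTopology (h.left.fiber b₀) := by
    apply Groth.Agent.Lib.Helper30.FinFib.discreteTopology_chart_fibre hX hY' f.hom
      (c ≫ pullback.fst f.hom b) b h hae hbe comm b₀
    exact Groth.Agent.Lib.Helper30.FinFib.discreteTopology_fibre_of_rel hX hY' f.hom y
      (FieldPt.ofPt b b₀) hb₀.symm Xy fst snd hsq hqf
  have hqfa : h.left.QuasiFiniteAt u := by
    rw [Scheme.Hom.quasiFiniteAt_iff_isOpen_singleton_asFiber]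
    subst hub
    exact isOpen_discrete _
  refine ⟨A, B, c ≫ pullback.fst f.hom b, b, h, u, hae, hbe, comm, ?_,
    h.left.quasiFiniteLocus, hqfa, inferInstance, inferInstance⟩
  rw [← hw1, ← hu, Points.map_ofPt]

end Groth.Agent.Lib.Helper30.FinFib
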