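import Groth.Agent.Lib.Helper30.AlgSpZMT7
import Groth.Agent.Lib.Helper30.AlgSpNear
import Groth.Agent.Lib.Helper30.AlgSpMor
import Groth.Agent.Lib.Helper30.AlgSpProper
import Mathlib.AlgebraicGeometry.ZariskisMainTheorem

/-!
# Proper + locally quasi-finite ⟹ finite, for algebraic spaces (helper30)
-/

set_option autoImplicit false
set_option maxHeartbeats 1600000
set_option backward.isDefEq.respectTransparency false
set_option linter.unusedSectionVars false
universe u
open CategoryTheory CategoryTheory.Limits AlgebraicGeometry Opposite TopologicalSpace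

namespace Groth.Agent.Lib.Helper30.ZMT

open AlgSp Groth.Agent.Lib.Helper51 Groth.Agent.Lib.Helper52
open Groth.Agent.Lib.Helper78.AlgSpBasic Groth.Agent.Lib.Helper78.AlgSpFibre
open Groth.Agent.Lib.Helper51.KerAt

variable {S : Scheme.{u}}

/-- A proper, locally quasi-finite morphism of algebraic spaces is finite. -/
theorem isFiniteMor_of_isProperMor_of_lqf {X Y : AlgSp.Sp S} (hX : AlgSp.IsAlgSpace X)
    (hY : AlgSp.IsAlgSpace Y) (f : X ⟶ Y) (hprop : AlgSp.IsProperMor f)
    (hqf : AlgSp.LocP (@LocallyQuasiFinite ⊓ @LocallyOfFiniteType) f) : AlgSp.IsFiniteMor f := by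
  obtain ⟨hsep, ⟨-, hqc⟩, huc⟩ := hprop
  have hrep := representable_of_sep_lqf hX hY f hsep hqf
  intro Z hZ g
  have sq := hrep.isPullback g
  obtain ⟨W, hWdef⟩ : ∃ W, W = hrep.pullback g := ⟨_, rfl⟩
  obtain ⟨i, hi⟩ : ∃ i : hrep.pullback g ⟶ Z, i = hrep.snd g := ⟨_, rfl⟩
  rw [← hi] at sq
  haveI : IsAffine Z.left := hZ
  have hyZ : AlgSp.IsAlgSpace ((AlgSp.yon S).obj Z) := AlgSp.IsAlgSpace.yon_obj Z
  -- properties of `i`
  have h1 : IsSeparated i.left := by
    rw [← AlgSp.isSeparatedMor_yon_map_iff]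
    exact MorphismProperty.of_isPullback
      (P := (AlgSp.RepWith (S := S) @IsClosedImmersion).diagonal) sq hsep
  have h2 := AlgSp.locP_yon_map (Groth.Agent.Lib.Helper78.AlgSpLocP.locP_of_isPullback
      Groth.Agent.Lib.Helper78.AlgSpLocPLqf.etLocalST_lqf sq (repAll_of_isAlgSpace hY)
      hX.atlas hY.atlas hqf)
  haveI : LocallyQuasiFinite i.left := h2.1
  haveI : LocallyOfFiniteType i.left := h2.2
  haveI h3 : UniversallyClosed i.left :=
    Groth.Agent.Lib.Helper30.universallyClosed_of_isUnivClosedMor huc g _ i sq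
  have h4 : CompactSpace ↥(hrep.pullback g).left := by
    apply Groth.Agent.Lib.Helper30.compactSpace_of_isQuasiCompactSp_yon_obj
    exact hqc hyZ (Groth.Agent.Lib.Helper30.isQuasiCompactSp_yon_obj Z) g _ _ sq
  haveI : QuasiCompact i.left := quasiCompact_of_compactSpace i.left
  haveI : IsProper i.left := { }
  have h5 : IsFinite i.left := IsFinite.of_isProper_of_locallyQuasiFinite i.left
  have h6 : IsAffine (hrep.pullback g).left := isAffine_of_isAffineHom i.left
  exact ⟨hrep.pullback g, i, hrep.fst g, sq, h6, h5⟩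

end Groth.Agent.Lib.Helper30.ZMT
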