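import Mathlib
import Groth.Prelude.Def_AlgSp4
import Groth.Agent.Lib.Helper30.AlgSpImmDesc

/-!
# Descent of closed immersions, immersions and open immersions along fppf covers of sheaves
(helper30)

The fppf versions of the results of `AlgSpAffDesc2`, `AlgSpDesc` and `AlgSpImmDesc`.
-/

set_option autoImplicit false
set_option linter.style.haveILetI false
set_option maxHeartbeats 800000
set_option backward.isDefEq.respectTransparency false

universe u

open CategoryTheory CategoryTheory.Limits AlgebraicGeometry Opposite TopologicalSpace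

namespace Groth.Agent.Lib.Helper30.AffDesc

open Groth.Agent.Lib.Helper30 Groth.Agent.Lib.Helper8

variable {S : Scheme.{u}}

/-- An fppf surjective morphism to a quasi-compact scheme is refined by an affine fppf cover. -/
theorem exists_affine_fppf_cover {X T : Scheme.{u}} [CompactSpace T] (f : X ⟶ T) [Flat f]
    [LocallyOfFinitePresentation f] [Surjective f] :
    ∃ (V₀ : Scheme.{u}) (r : V₀ ⟶ X), IsAffine V₀ ∧ Flat r ∧ LocallyOfFinitePresentation r ∧
      Surjective (r ≫ f) := by
  obtain ⟨V : X.Opens, hV, e⟩ := f.isOpenMap.exists_opens_image_eq_of_prespectralSpace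
    f.continuous (by simp) isOpen_univ isCompact_univ
  haveI : CompactSpace V.toScheme := isCompact_iff_compactSpace.mp hV
  obtain ⟨Y, p, hp1, hp2, hY⟩ :=
    Scheme.exists_hom_isAffine_of_isZariskiLocalAtSource @Etale V.toScheme
  haveI : Etale p := hp2
  refine ⟨Y, p ≫ V.ι, hY, inferInstance, inferInstance, ⟨fun t => ?_⟩⟩
  obtain ⟨x, hxV, hx⟩ := e.ge (Set.mem_univ t)
  obtain ⟨y, hy⟩ := hp1.surj ⟨x, hxV⟩
  refine ⟨y, ?_⟩
  rw [Scheme.Hom.comp_apply, Scheme.Hom.comp_apply, hy]
  exact hx

/-- A representable fppf surjective map of sheaves is an epimorphism. -/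
theorem epi_of_repWith_fppf {F G : AlgSp.Sp S} (a : F ⟶ G)
    (h1 : AlgSp.RepWith @Flat a) (h2 : AlgSp.RepWith @LocallyOfFinitePresentation a)
    (has : AlgSp.RepWith @Surjective a) : Epi a := by
  have := Groth.Agent.S9885.result S F G a h1 h2 has
  infer_instance

/-- **Descent of affine-tested properties along an fppf cover.** -/
theorem affTested_of_fppf_cover (Q : MorphismProperty Scheme.{u})
    [Q.DescendsAlong (@Surjective ⊓ @Flat ⊓ @QuasiCompact)] {F G : AlgSp.Sp S} (f : F ⟶ G)
    (V : Over S) (p : (AlgSp.yon S).obj V ⟶ G) (hp : AlgSp.RepWith @Flat p)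
    (hpl : AlgSp.RepWith @LocallyOfFinitePresentation p)
    (hps : AlgSp.RepWith @Surjective p) {P : AlgSp.Sp S} (fst : P ⟶ F)
    (snd : P ⟶ (AlgSp.yon S).obj V) (sq : IsPullback fst snd f p) (h : AffTested Q snd) :
    AffTested Q f := by
  intro T hT g
  haveI : IsAffine T.left := hT
  haveI hq0e : Flat (hp.rep.snd g).left := hp.property_snd g
  haveI hq0l : LocallyOfFinitePresentation (hp.rep.snd g).left :=
    hpl.property g (hp.rep.fst g) (hp.rep.snd g) (hp.rep.isPullback g)
  haveI hq0s : Surjective (hp.rep.snd g).left :=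
    hps.property g (hp.rep.fst g) (hp.rep.snd g) (hp.rep.isPullback g)
  obtain ⟨V₀s, r, hV₀, hr, hrl, hrs⟩ := exists_affine_fppf_cover (hp.rep.snd g).left
  let V₀ : Over S := Over.mk (r ≫ (hp.rep.pullback g).hom)
  let r' : V₀ ⟶ hp.rep.pullback g := Over.homMk r rfl
  haveI : IsAffine V₀.left := hV₀
  let q : V₀ ⟶ T := r' ≫ hp.rep.snd g
  haveI : Flat q.left := by
    change Flat (r ≫ (hp.rep.snd g).left)
    infer_instance
  haveI : LocallyOfFinitePresentation q.left := by
    change LocallyOfFinitePresentation (r ≫ (hp.rep.snd g).left)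
    infer_instance
  haveI : Surjective q.left := hrs
  obtain ⟨W', i', fst'', sq'', hW', hQ'⟩ := h hV₀ ((AlgSp.yon S).map r' ≫ hp.rep.fst g)
  haveI : IsAffine W'.left := hW'
  have hcomp : ((AlgSp.yon S).map r' ≫ hp.rep.fst g) ≫ p = (AlgSp.yon S).map q ≫ g := by
    rw [Category.assoc, (hp.rep.isPullback g).w, ← Category.assoc, ← Functor.map_comp]
  have sqbig : IsPullback (fst'' ≫ fst) ((AlgSp.yon S).map i') f ((AlgSp.yon S).map q ≫ g) := by
    rw [← hcomp]
    exact sq''.paste_horiz sq
  obtain ⟨W, i, fstW, k, sqW, hW, sqk⟩ := descend_affine f g q i' (fst'' ≫ fst) sqbig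
  haveI : IsAffine W.left := hW
  refine ⟨W, i, fstW, sqW, hW, ?_⟩
  have sqs : IsPullback i'.left k.left q.left i.left := (sqk.map (Over.forget S)).flip
  exact MorphismProperty.of_isPullback_of_descendsAlong
    (Q := (@Surjective ⊓ @Flat ⊓ @QuasiCompact : MorphismProperty Scheme.{u})) sqs
    ⟨⟨inferInstance, inferInstance⟩, inferInstance⟩ hQ'

/-- Closed immersions descend along fppf covers of sheaves. -/
theorem repWith_isClosedImmersion_of_fppf_cover {F G : AlgSp.Sp S} (f : F ⟶ G)
    (V : Over S) (p : (AlgSp.yon S).obj V ⟶ G) (hp : AlgSp.RepWith @Flat p)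
    (hpl : AlgSp.RepWith @LocallyOfFinitePresentation p)
    (hps : AlgSp.RepWith @Surjective p) {P : AlgSp.Sp S} (fst : P ⟶ F)
    (snd : P ⟶ (AlgSp.yon S).obj V) (sq : IsPullback fst snd f p)
    (h : AlgSp.RepWith @IsClosedImmersion snd) : AlgSp.RepWith @IsClosedImmersion f := by
  have hsnd : AffTested @IsClosedImmersion snd :=
    affTested_of_repWith @IsClosedImmersion (fun i hi => by
      have : IsClosedImmersion i := hi
      infer_instance) h
  exact repWith_of_affTested @IsClosedImmersion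
    (affTested_of_fppf_cover @IsClosedImmersion f V p hp hpl hps fst snd sq hsnd)

/-- **Descent of immersions over a sheaf along an fppf cover of schemes.** -/
theorem exists_immersion_of_isPullback_fppf {T VT W' : Over S} (q : VT ⟶ T) [Flat q.left]
    [LocallyOfFinitePresentation q.left]
    [Surjective q.left] (i' : W' ⟶ VT) [IsImmersion i'.left] {Z : AlgSp.Sp S}
    (π : Z ⟶ (AlgSp.yon S).obj T) (l : (AlgSp.yon S).obj W' ⟶ Z)
    (sq : IsPullback l ((AlgSp.yon S).map i') π ((AlgSp.yon S).map q)) :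
    ∃ (W : Over S) (w : W ⟶ T) (e : (AlgSp.yon S).obj W ≅ Z),
      e.hom ≫ π = (AlgSp.yon S).map w ∧ IsImmersion w.left := by
  -- the equivalence relation
  obtain ⟨R, s, t, sqR, sqRL⟩ := isPullback_over' q q
  haveI : Flat t.left := MorphismProperty.of_isPullback (P := @Flat) sqRL inferInstance
  haveI : Flat s.left := MorphismProperty.of_isPullback (P := @Flat) sqRL.flip inferInstance
  haveI : LocallyOfFinitePresentation t.left :=
    MorphismProperty.of_isPullback (P := @LocallyOfFinitePresentation) sqRL inferInstance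
  haveI : LocallyOfFinitePresentation s.left :=
    MorphismProperty.of_isPullback (P := @LocallyOfFinitePresentation) sqRL.flip inferInstance
  let A : Set VT.left := Set.range i'.left
  have hinv : s.left ⁻¹' A = t.left ⁻¹' A := by
    ext r
    exact ⟨fun hr => mem_range_of_mem_range q i' π l sq s t sqR.w r hr,
      fun hr => mem_range_of_mem_range q i' π l sq t s sqR.w.symm r hr⟩
  have hcob : s.left ⁻¹' coborder A = t.left ⁻¹' coborder A := by
    rw [← coborder_preimage s.left.isOpenMap s.left.continuous,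
      ← coborder_preimage t.left.isOpenMap t.left.continuous, hinv]
  have hAo : IsOpen (coborder A) := (i'.left.isLocallyClosed_range).isOpen_coborder
  let T' : T.left.Opens := ⟨q.left '' coborder A, q.left.isOpenMap _ hAo⟩
  have hpre : ((q.left ⁻¹ᵁ T' : VT.left.Opens) : Set VT.left) = coborder A := by
    ext v
    constructor
    · rintro ⟨v', hv', hvv'⟩
      obtain ⟨r, hr1, hr2⟩ := Scheme.exists_preimage_of_isPullback sqRL v v' hvv'.symm
      have : r ∈ t.left ⁻¹' coborder A := by
        change t.left r ∈ coborder A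
        rw [hr2]
        exact hv'
      rw [← hcob] at this
      change s.left r ∈ coborder A at this
      rwa [hr1] at this
    · intro hv
      exact ⟨v, hv, rfl⟩
  -- the objects over `S`
  let T'O : Over S := Over.mk (T'.ι ≫ T.hom)
  let ιT' : T'O ⟶ T := Over.homMk T'.ι rfl
  let V'O : Over S := Over.mk ((q.left ⁻¹ᵁ T').ι ≫ VT.hom)
  let ιV' : V'O ⟶ VT := Over.homMk (q.left ⁻¹ᵁ T').ι rfl
  have sqS := isPullback_morphismRestrict q.left T'
  have hw' := over_w q (q.left ⁻¹ᵁ T').ι T'.ι (q.left ∣_ T') sqS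
  let q' : V'O ⟶ T'O := Over.homMk (q.left ∣_ T') hw'
  have sqO : IsPullback q' ιV' ιT' q := isPullback_over q _ _ _ sqS hw'
  haveI : Flat q'.left := MorphismProperty.of_isPullback (P := @Flat) sqS.flip inferInstance
  haveI : LocallyOfFinitePresentation q'.left :=
    MorphismProperty.of_isPullback (P := @LocallyOfFinitePresentation) sqS.flip inferInstance
  haveI : Surjective q'.left :=
    MorphismProperty.of_isPullback (P := @Surjective) sqS.flip inferInstance
  -- `W'` lands in `V'`
  have hrange : Set.range i'.left ⊆ Set.range (q.left ⁻¹ᵁ T').ι := by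
    rw [Scheme.Opens.range_ι, hpre]
    exact subset_coborder
  let i''₀ : W'.left ⟶ (q.left ⁻¹ᵁ T').toScheme := IsOpenImmersion.lift (q.left ⁻¹ᵁ T').ι i'.left hrange
  have hi''₀ : i''₀ ≫ (q.left ⁻¹ᵁ T').ι = i'.left := IsOpenImmersion.lift_fac _ _ _
  let i'' : W' ⟶ V'O := Over.homMk i''₀ (by
    change i''₀ ≫ (q.left ⁻¹ᵁ T').ι ≫ VT.hom = W'.hom
    rw [← Category.assoc, hi''₀, Over.w])
  have hi'' : i'' ≫ ιV' = i' := by
    apply Over.OverMorphism.ext
    exact hi''₀
  haveI : IsImmersion (i''₀ ≫ (q.left ⁻¹ᵁ T').ι) := by rw [hi''₀]; infer_instance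
  haveI : IsImmersion i''₀ := IsImmersion.of_comp i''₀ (q.left ⁻¹ᵁ T').ι
  have hclosed : IsClosed (Set.range i''₀) := by
    have : Set.range i''₀ = (q.left ⁻¹ᵁ T').ι ⁻¹' closure A := by
      ext x
      constructor
      · rintro ⟨w, rfl⟩
        apply subset_closure
        refine ⟨w, ?_⟩
        rw [← hi''₀, Scheme.Hom.comp_apply]
      · intro hx
        have hx2 : (q.left ⁻¹ᵁ T').ι x ∈ coborder A := by
          rw [← hpre]
          exact x.2
        have hx3 : (q.left ⁻¹ᵁ T').ι x ∈ A := by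
          rw [← coborder_inter_closure (s := A)]
          exact ⟨hx2, hx⟩
        obtain ⟨w, hw⟩ := hx3
        refine ⟨w, ?_⟩
        apply (q.left ⁻¹ᵁ T').ι.isOpenEmbedding.injective
        rw [← Scheme.Hom.comp_apply, hi''₀]
        exact hw
    rw [this]
    exact isClosed_closure.preimage (q.left ⁻¹ᵁ T').ι.continuous
  haveI : IsClosedImmersion i''.left := IsClosedImmersion.of_isPreimmersion i''₀ hclosed
  -- factor `π` through `h_{T'}`
  haveI : Epi ((AlgSp.yon S).map q) :=
    epi_of_repWith_fppf _ ((AlgSp.repWith_yon_map_iff @Flat q).2 inferInstance)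
      ((AlgSp.repWith_yon_map_iff @LocallyOfFinitePresentation q).2 inferInstance)
      ((AlgSp.repWith_yon_map_iff @Surjective q).2 inferInstance)
  haveI : Epi l := epi_of_isPullback_of_epi (AlgSp.J S) sq
  haveI : Mono ((AlgSp.yon S).map ιT') :=
    Groth.Agent.Lib.Helper51.mono_of_repWith (P := @IsOpenImmersion)
      (fun g (_ : IsOpenImmersion g) => inferInstance)
      ((AlgSp.repWith_yon_map_iff @IsOpenImmersion ιT').2 (inferInstanceAs (IsOpenImmersion T'.ι)))
  have hlw : l ≫ π = (AlgSp.yon S).map (i'' ≫ q') ≫ (AlgSp.yon S).map ιT' := by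
    rw [sq.w, ← Functor.map_comp, ← Functor.map_comp, Category.assoc, sqO.w, ← Category.assoc, hi'']
  let l' : (AlgSp.yon S).obj W' ⟶ pullback π ((AlgSp.yon S).map ιT') :=
    pullback.lift l ((AlgSp.yon S).map (i'' ≫ q')) hlw
  have hl' : l' ≫ pullback.fst π ((AlgSp.yon S).map ιT') = l := pullback.lift_fst _ _ _
  haveI : Epi (l' ≫ pullback.fst π ((AlgSp.yon S).map ιT')) := by rw [hl']; infer_instance
  haveI : Epi (pullback.fst π ((AlgSp.yon S).map ιT')) := epi_of_epi l' _
  haveI : IsIso (pullback.fst π ((AlgSp.yon S).map ιT')) := isIso_of_mono_of_epi _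
  let π' : Z ⟶ (AlgSp.yon S).obj T'O :=
    inv (pullback.fst π ((AlgSp.yon S).map ιT')) ≫ pullback.snd π ((AlgSp.yon S).map ιT')
  have hπ' : π' ≫ (AlgSp.yon S).map ιT' = π := by
    rw [Category.assoc, ← pullback.condition, IsIso.inv_hom_id_assoc]
  have hlπ' : l ≫ π' = (AlgSp.yon S).map i'' ≫ (AlgSp.yon S).map q' := by
    rw [← cancel_mono ((AlgSp.yon S).map ιT'), Category.assoc, hπ', hlw, Functor.map_comp]
  have sqf : IsPullback l ((AlgSp.yon S).map i'') π' ((AlgSp.yon S).map q') := by
    refine IsPullback.of_bot ?_ hlπ' ((sqO.map (AlgSp.yon S)))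
    rw [hπ', ← Functor.map_comp, hi'']
    exact sq
  have hcl : AlgSp.RepWith @IsClosedImmersion π' :=
    repWith_isClosedImmersion_of_fppf_cover π' V'O ((AlgSp.yon S).map q')
      ((AlgSp.repWith_yon_map_iff @Flat q').2 inferInstance)
      ((AlgSp.repWith_yon_map_iff @LocallyOfFinitePresentation q').2 inferInstance)
      ((AlgSp.repWith_yon_map_iff @Surjective q').2 inferInstance) l ((AlgSp.yon S).map i'') sqf
      ((AlgSp.repWith_yon_map_iff @IsClosedImmersion i'').2 inferInstance)
  obtain ⟨W, w, e, he, hw⟩ := exists_iso_yon_of_repWith @IsClosedImmersion hcl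
  haveI : IsClosedImmersion w.left := hw
  refine ⟨W, w ≫ ιT', e, ?_, ?_⟩
  · rw [Functor.map_comp, ← he, Category.assoc, hπ']
  · change IsImmersion (w.left ≫ T'.ι)
    infer_instance


/-- `RepWith Q` descends along a representable fppf surjective base change, for `Q` satisfying fppf
descent. -/
theorem repWith_of_fppf_cover (Q : MorphismProperty Scheme.{u})
    [Q.DescendsAlong (@Surjective ⊓ @Flat ⊓ @LocallyOfFinitePresentation)]
    {F G F' G' : AlgSp.Sp S} {f : F ⟶ G} {c : G' ⟶ G} {a : F' ⟶ F} {f' : F' ⟶ G'}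
    (sq : IsPullback a f' f c) (hf : AlgSp.Representable f) (hce : AlgSp.RepWith @Flat c)
    (hcl : AlgSp.RepWith @LocallyOfFinitePresentation c)
    (hcs : AlgSp.RepWith @Surjective c) (hQ : AlgSp.RepWith Q f') : AlgSp.RepWith Q f := by
  refine ⟨hf, ?_⟩
  intro T V g fstV v sqV
  show Q v.left
  have hc := hce.1
  have sqT := hc.isPullback g
  have he : Flat (hc.snd g).left := hce.2 g _ _ sqT
  have hel : LocallyOfFinitePresentation (hc.snd g).left := hcl.2 g _ _ sqT
  have hes : Surjective (hc.snd g).left := hcs.2 g _ _ sqT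
  obtain ⟨W, w1, w2, sqW, sqWl⟩ := isPullback_over' v (hc.snd g)
  have sqW' := sqW.map (AlgSp.yon S)
  have big := sqW'.paste_horiz sqV
  rw [← sqT.w] at big
  have hbw : ((AlgSp.yon S).map w1 ≫ fstV) ≫ f = ((AlgSp.yon S).map w2 ≫ hc.fst g) ≫ c := by
    rw [Category.assoc _ (hc.fst g)]
    exact big.w
  have hl1 : sq.lift _ _ hbw ≫ a = (AlgSp.yon S).map w1 ≫ fstV := sq.lift_fst _ _ _
  have hl2 : sq.lift _ _ hbw ≫ f' = (AlgSp.yon S).map w2 ≫ hc.fst g := sq.lift_snd _ _ _
  have left : IsPullback (sq.lift _ _ hbw) ((AlgSp.yon S).map w2) f' (hc.fst g) := by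
    refine IsPullback.of_right ?_ hl2 sq
    rw [hl1]
    exact big
  have hQw : Q w2.left := hQ.2 _ _ _ left
  exact MorphismProperty.of_isPullback_of_descendsAlong
    (Q := (@Surjective ⊓ @Flat ⊓ @LocallyOfFinitePresentation : MorphismProperty Scheme.{u}))
    sqWl.flip ⟨⟨hes, he⟩, hel⟩ hQw

/-- **Immersions descend along fppf covers of sheaves.** -/
theorem repWith_isImmersion_of_fppf_cover {F G : AlgSp.Sp S} (f : F ⟶ G)
    (V : Over S) (p : (AlgSp.yon S).obj V ⟶ G) (hp : AlgSp.RepWith @Flat p)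
    (hpl : AlgSp.RepWith @LocallyOfFinitePresentation p)
    (hps : AlgSp.RepWith @Surjective p) {P : AlgSp.Sp S} (fst : P ⟶ F)
    (snd : P ⟶ (AlgSp.yon S).obj V) (sq : IsPullback fst snd f p)
    (h : AlgSp.RepWith @IsImmersion snd) : AlgSp.RepWith @IsImmersion f := by
  refine repWith_of_forall_exists @IsImmersion ?_
  intro T g
  haveI : Flat (hp.rep.snd g).left := hp.property_snd g
  haveI : LocallyOfFinitePresentation (hp.rep.snd g).left :=
    hpl.property g _ _ (hp.rep.isPullback g)
  haveI : Surjective (hp.rep.snd g).left :=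
    hps.property g _ _ (hp.rep.isPullback g)
  haveI : IsImmersion (h.rep.snd (hp.rep.fst g)).left := h.property_snd (hp.rep.fst g)
  have sqbig : IsPullback (h.rep.fst (hp.rep.fst g) ≫ fst)
      ((AlgSp.yon S).map (h.rep.snd (hp.rep.fst g))) f
      ((AlgSp.yon S).map (hp.rep.snd g) ≫ g) := by
    rw [← (hp.rep.isPullback g).w]
    exact (h.rep.isPullback (hp.rep.fst g)).paste_horiz sq
  have w0 : (h.rep.fst (hp.rep.fst g) ≫ fst) ≫ f =
      ((AlgSp.yon S).map (h.rep.snd (hp.rep.fst g)) ≫ (AlgSp.yon S).map (hp.rep.snd g)) ≫ g := by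
    rw [sqbig.w, Category.assoc]
  let l : (AlgSp.yon S).obj (h.rep.pullback (hp.rep.fst g)) ⟶ pullback f g :=
    pullback.lift _ _ w0
  have hl1 : l ≫ pullback.fst f g = h.rep.fst (hp.rep.fst g) ≫ fst := pullback.lift_fst _ _ _
  have hl2 : l ≫ pullback.snd f g =
      (AlgSp.yon S).map (h.rep.snd (hp.rep.fst g)) ≫ (AlgSp.yon S).map (hp.rep.snd g) :=
    pullback.lift_snd _ _ _
  have sqZ : IsPullback l ((AlgSp.yon S).map (h.rep.snd (hp.rep.fst g))) (pullback.snd f g)
      ((AlgSp.yon S).map (hp.rep.snd g)) := by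
    refine IsPullback.of_right ?_ hl2 (IsPullback.of_hasPullback f g)
    rw [hl1]
    exact sqbig
  obtain ⟨W, w, e, he, hw⟩ := exists_immersion_of_isPullback_fppf (hp.rep.snd g)
    (h.rep.snd (hp.rep.fst g)) (pullback.snd f g) l sqZ
  refine ⟨W, w, e.hom ≫ pullback.fst f g, ?_, hw⟩
  refine IsPullback.of_iso (IsPullback.of_hasPullback f g) e.symm (Iso.refl _) (Iso.refl _)
    (Iso.refl _) ?_ ?_ ?_ ?_
  · simp
  · simp [← he]
  · simp
  · simp

/-- Open immersions descend along fppf covers of sheaves. -/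
theorem repWith_isOpenImmersion_of_fppf_cover {F G : AlgSp.Sp S} (f : F ⟶ G)
    (V : Over S) (p : (AlgSp.yon S).obj V ⟶ G) (hp : AlgSp.RepWith @Flat p)
    (hpl : AlgSp.RepWith @LocallyOfFinitePresentation p)
    (hps : AlgSp.RepWith @Surjective p) {P : AlgSp.Sp S} (fst : P ⟶ F)
    (snd : P ⟶ (AlgSp.yon S).obj V) (sq : IsPullback fst snd f p)
    (h : AlgSp.RepWith @IsOpenImmersion snd) : AlgSp.RepWith @IsOpenImmersion f := by
  have h1 : AlgSp.RepWith @IsImmersion snd :=
    MorphismProperty.relative_monotone (fun A B k hk => by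
      have : IsOpenImmersion k.left := hk
      change IsImmersion k.left
      infer_instance) _ h
  have h2 := repWith_isImmersion_of_fppf_cover f V p hp hpl hps fst snd sq h1
  exact repWith_of_fppf_cover @IsOpenImmersion sq h2.rep hp hpl hps h

end Groth.Agent.Lib.Helper30.AffDesc
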