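import Groth.Agent.Lib.Helper30.AlgSpProper
import Groth.Prelude.Def_AlgSpCov

/-!
# fpqc descent of topological properties of morphisms of algebraic spaces (helper30)

* `JointlyQuot T h` : a family `h j : T j ⟶ Z` of maps of sheaves which is jointly surjective and
  jointly coinducing on spaces of points.
* `DescendsJQ Q` : a property `Q` of maps of sheaves which descends along jointly-quotient families of
  cartesian squares; holds for open / closed / submersive / injective / surjective / homeomorphism on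
  points.
* `jointlyQuot_fpqc` : for an fpqc covering `Y i ⟶ Y` and `Z ⟶ Y`, the family of all affine schemes over
  `Z` whose map to `Y` lifts to some `Y i` is jointly quotient.
* `univSp_of_fpqc_cover` : `UnivSp Q` descends along fpqc coverings if `DescendsJQ Q`.
-/

set_option autoImplicit false
universe u

open CategoryTheory CategoryTheory.Limits AlgebraicGeometry MorphismProperty AlgSp
open Groth.Agent.Lib.Helper51 Groth.Agent.Lib.Helper52

namespace Groth.Agent.Lib.Helper30

variable {S : Scheme.{u}}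

/-- For a cartesian square of sheaves, the preimage of an image is the image of the preimage (on
points). -/
theorem preimage_map_image_map {P Z' Z T : AlgSp.Sp S} {a : P ⟶ Z'} {b : P ⟶ T} {snd : Z' ⟶ Z}
    {h : T ⟶ Z} (sq : IsPullback a b snd h) (C : Set (Points Z')) :
    Points.map h ⁻¹' (Points.map snd '' C) = Points.map b '' (Points.map a ⁻¹' C) := by
  ext t
  constructor
  · rintro ⟨c, hc, hct⟩
    obtain ⟨w, hw1, hw2⟩ := exists_point_of_isPullback sq c t hct
    exact ⟨w, by simpa [hw1] using hc, hw2⟩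
  · rintro ⟨w, hw, rfl⟩
    refine ⟨Points.map a w, hw, ?_⟩
    rw [← Points.map_comp, ← Points.map_comp, sq.w]

/-- A family of maps of sheaves that is jointly surjective and jointly coinducing on points. -/
structure JointlyQuot {Z : AlgSp.Sp S} {J : Type*} (T : J → AlgSp.Sp S) (h : ∀ j, T j ⟶ Z) :
    Prop where
  surj : ∀ z : Points Z, ∃ j, z ∈ Set.range (Points.map (h j))
  coind : ∀ A : Set (Points Z), (∀ j, IsOpen (Points.map (h j) ⁻¹' A)) → IsOpen A

section Descends

variable {Z' Z : AlgSp.Sp S} {snd : Z' ⟶ Z} {J : Type*} {T : J → AlgSp.Sp S} {h : ∀ j, T j ⟶ Z}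
  {P : J → AlgSp.Sp S} {a : ∀ j, P j ⟶ Z'} {b : ∀ j, P j ⟶ T j}

theorem isOpenMap_of_jointlyQuot (hq : JointlyQuot T h)
    (sq : ∀ j, IsPullback (a j) (b j) snd (h j)) (H : ∀ j, IsOpenMap (Points.map (b j))) :
    IsOpenMap (Points.map snd) := by
  intro C hC
  refine hq.coind _ fun j => ?_
  rw [preimage_map_image_map (sq j)]
  exact H j _ (hC.preimage (Points.continuous_map (a j)))

theorem isClosedMap_of_jointlyQuot (hq : JointlyQuot T h)
    (sq : ∀ j, IsPullback (a j) (b j) snd (h j)) (H : ∀ j, IsClosedMap (Points.map (b j))) :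
    IsClosedMap (Points.map snd) := by
  intro C hC
  rw [← isOpen_compl_iff]
  refine hq.coind _ fun j => ?_
  rw [Set.preimage_compl, preimage_map_image_map (sq j), isOpen_compl_iff]
  exact H j _ (hC.preimage (Points.continuous_map (a j)))

theorem surjective_of_jointlyQuot (hq : JointlyQuot T h)
    (sq : ∀ j, IsPullback (a j) (b j) snd (h j))
    (H : ∀ j, Function.Surjective (Points.map (b j))) :
    Function.Surjective (Points.map snd) := by
  intro z
  obtain ⟨j, t, rfl⟩ := hq.surj z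
  obtain ⟨w, rfl⟩ := H j t
  refine ⟨Points.map (a j) w, ?_⟩
  rw [← Points.map_comp, ← Points.map_comp, (sq j).w]

theorem injective_of_jointlyQuot (hq : JointlyQuot T h)
    (sq : ∀ j, IsPullback (a j) (b j) snd (h j))
    (H : ∀ j, Function.Injective (Points.map (b j))) :
    Function.Injective (Points.map snd) := by
  intro x₁ x₂ hx
  obtain ⟨j, t, ht⟩ := hq.surj (Points.map snd x₁)
  obtain ⟨w₁, hw₁, hw₁'⟩ := exists_point_of_isPullback (sq j) x₁ t ht.symm
  obtain ⟨w₂, hw₂, hw₂'⟩ := exists_point_of_isPullback (sq j) x₂ t (hx ▸ ht.symm)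
  have : w₁ = w₂ := H j (hw₁'.trans hw₂'.symm)
  rw [← hw₁, ← hw₂, this]

theorem isQuotientMap_of_jointlyQuot (hq : JointlyQuot T h)
    (sq : ∀ j, IsPullback (a j) (b j) snd (h j))
    (H : ∀ j, Topology.IsQuotientMap (Points.map (b j))) :
    Topology.IsQuotientMap (Points.map snd) := by
  refine (Topology.isQuotientMap_iff _).2 ⟨Topology.isCoinducing_iff.2 fun A =>
    ⟨fun hA => ?_, fun hA => hA.preimage (Points.continuous_map snd)⟩,
    surjective_of_jointlyQuot hq sq fun j => (H j).surjective⟩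
  refine hq.coind _ fun j => ?_
  rw [← (H j).isOpen_preimage]
  have e : Points.map (b j) ⁻¹' (Points.map (h j) ⁻¹' A) =
      Points.map (a j) ⁻¹' (Points.map snd ⁻¹' A) := by
    ext w
    simp only [Set.mem_preimage]
    rw [← Points.map_comp, ← Points.map_comp, (sq j).w]
  rw [e]
  exact hA.preimage (Points.continuous_map (a j))

theorem isHomeomorph_of_jointlyQuot (hq : JointlyQuot T h)
    (sq : ∀ j, IsPullback (a j) (b j) snd (h j))
    (H : ∀ j, IsHomeomorph (Points.map (b j))) :
    IsHomeomorph (Points.map snd) where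
  continuous := Points.continuous_map snd
  isOpenMap := isOpenMap_of_jointlyQuot hq sq fun j => (H j).isOpenMap
  bijective := ⟨injective_of_jointlyQuot hq sq fun j => (H j).injective,
    surjective_of_jointlyQuot hq sq fun j => (H j).surjective⟩

end Descends

/-- A property of maps of sheaves which descends along jointly-quotient families of cartesian
squares. -/
def DescendsJQ (Q : MorphismProperty (AlgSp.Sp S)) : Prop :=
  ∀ ⦃Z' Z : AlgSp.Sp S⦄ (snd : Z' ⟶ Z) ⦃J : Type (u + 1)⦄ (T : J → AlgSp.Sp S)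
    (h : ∀ j, T j ⟶ Z), JointlyQuot T h →
    ∀ (P : J → AlgSp.Sp S) (a : ∀ j, P j ⟶ Z') (b : ∀ j, P j ⟶ T j),
      (∀ j, IsPullback (a j) (b j) snd (h j)) → (∀ j, Q (b j)) → Q snd

theorem descendsJQ_isOpenMor : DescendsJQ (AlgSp.IsOpenMor (S := S)) :=
  fun _ _ _ _ _ _ hq _ _ _ sq H => isOpenMap_of_jointlyQuot hq sq H

theorem descendsJQ_isClosedMor : DescendsJQ (AlgSp.IsClosedMor (S := S)) :=
  fun _ _ _ _ _ _ hq _ _ _ sq H => isClosedMap_of_jointlyQuot hq sq H

theorem descendsJQ_isSubmersiveMor : DescendsJQ (AlgSp.IsSubmersiveMor (S := S)) :=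
  fun _ _ _ _ _ _ hq _ _ _ sq H => isQuotientMap_of_jointlyQuot hq sq H

theorem descendsJQ_isSurjectiveMor : DescendsJQ (AlgSp.IsSurjectiveMor (S := S)) :=
  fun _ _ _ _ _ _ hq _ _ _ sq H => surjective_of_jointlyQuot hq sq H

theorem descendsJQ_injective :
    DescendsJQ (fun (_ _ : AlgSp.Sp S) f => Function.Injective (Points.map f)) :=
  fun _ _ _ _ _ _ hq _ _ _ sq H => injective_of_jointlyQuot hq sq H

theorem descendsJQ_isHomeomorph :
    DescendsJQ (fun (_ _ : AlgSp.Sp S) f => IsHomeomorph (Points.map f)) :=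
  fun _ _ _ _ _ _ hq _ _ _ sq H => isHomeomorph_of_jointlyQuot hq sq H

/-! ### Jointly quotient families of schemes -/

/-- A subset of an affine scheme is open as soon as its preimages under a finite jointly surjective
family of flat maps from affine schemes are open. -/
theorem isOpen_of_flat_finite_family {V : Scheme.{u}} [IsAffine V] {m : ℕ} (W : Fin m → Scheme.{u})
    (hW : ∀ j, IsAffine (W j)) (c : ∀ j, W j ⟶ V) (hc : ∀ j, Flat (c j))
    (hsurj : ∀ v : V, ∃ j, v ∈ Set.range (c j)) (A : Set V)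
    (hA : ∀ j, IsOpen ((c j) ⁻¹' A)) : IsOpen A := by
  let c' : ∐ W ⟶ V := Sigma.desc c
  have hc'f : Flat c' := IsZariskiLocalAtSource.sigmaDesc (P := @Flat) hc
  have hc's : Surjective c' := ⟨fun v => by
    obtain ⟨j, w, hw⟩ := hsurj v
    refine ⟨Sigma.ι W j w, ?_⟩
    rw [← Scheme.Hom.comp_apply, Sigma.ι_desc]
    exact hw⟩
  have hc'q : QuasiCompact c' := inferInstance
  have hq : Topology.IsQuotientMap c'.base := Flat.isQuotientMap_of_surjective c'
  rw [← hq.isOpen_preimage]
  have e : c' ⁻¹' A = ⋃ j, (Sigma.ι W j) '' ((c j) ⁻¹' A) := by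
    ext x
    simp only [Set.mem_preimage, Set.mem_iUnion, Set.mem_image]
    constructor
    · intro hx
      obtain ⟨j, w, rfl⟩ := (sigmaOpenCover W).exists_eq x
      refine ⟨j, w, ?_, rfl⟩
      have : c' ((Sigma.ι W j) w) = (c j) w := by
        rw [← Scheme.Hom.comp_apply, Sigma.ι_desc]
      rw [← this]
      exact hx
    · rintro ⟨j, w, hw, rfl⟩
      have : c' ((Sigma.ι W j) w) = (c j) w := by
        rw [← Scheme.Hom.comp_apply, Sigma.ι_desc]
      rw [this]
      exact hw
  change IsOpen (c' ⁻¹' A)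
  rw [e]
  exact isOpen_iUnion fun j => (Sigma.ι W j).isOpenEmbedding.isOpenMap _ (hA j)

/-- Every point of a sheaf comes from a point of an affine scheme. -/
theorem exists_affine_ofPt_eq {F : AlgSp.Sp S} (x : Points F) :
    ∃ (T : Over S) (_ : IsAffine T.left) (g : (AlgSp.yon S).obj T ⟶ F) (t : ↥T.left),
      Points.ofPt g t = x := by
  induction x using Points.ind with
  | h p =>
    exact ⟨p.pt, (inferInstance : IsAffine (Spec _)), p.toHom, IsLocalRing.closedPoint p.K,
      Points.ofPt_toHom p _⟩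

/-- The index type of the family of affine schemes over `Z` whose composite to `Y` lifts to a member
of the family `g`. -/
def FpqcIdx {ι : Type u} {Y : AlgSp.Sp S} (Yi : ι → AlgSp.Sp S) (g : ∀ i, Yi i ⟶ Y)
    {Z : AlgSp.Sp S} (g' : Z ⟶ Y) : Type (u + 1) :=
  {p : Σ (W : Over S), ((AlgSp.yon S).obj W ⟶ Z) //
    IsAffine p.1.left ∧ ∃ (i : ι) (l : (AlgSp.yon S).obj p.1 ⟶ Yi i), l ≫ g i = p.2 ≫ g'}

/-- For an fpqc covering `Y i ⟶ Y` and `Z ⟶ Y`, the affine schemes over `Z` whose composite to `Y`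
lifts to some `Y i` form a jointly quotient family. -/
theorem jointlyQuot_fpqc {ι : Type u} {Y : AlgSp.Sp S} (Yi : ι → AlgSp.Sp S) (g : ∀ i, Yi i ⟶ Y)
    (hcov : AlgSp.IsFpqcCover Yi g) {Z : AlgSp.Sp S} (g' : Z ⟶ Y) :
    JointlyQuot (J := FpqcIdx Yi g g') (fun j => (AlgSp.yon S).obj j.1.1) (fun j => j.1.2) := by
  constructor
  · intro z
    obtain ⟨T, hT, t, t₀, rfl⟩ := exists_affine_ofPt_eq z
    obtain ⟨m, W, c, hW, hc, hsurj, hl⟩ := hcov.2 T hT (t ≫ g')
    obtain ⟨j, w, hw⟩ := hsurj t₀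
    obtain ⟨i, l, hl⟩ := hl j
    refine ⟨⟨⟨W j, (AlgSp.yon S).map (c j) ≫ t⟩, hW j, i, l, by rw [hl, Category.assoc]⟩,
      Points.ofScheme (W j) w, ?_⟩
    change Points.map ((AlgSp.yon S).map (c j) ≫ t) (Points.ofScheme (W j) w) = _
    rw [← Points.ofPt_eq_map_ofScheme, ofPt_yon_map_comp, hw]
  · intro A hA
    rw [isOpen_points_iff_affine]
    intro T hT t
    obtain ⟨m, W, c, hW, hc, hsurj, hl⟩ := hcov.2 T hT (t ≫ g')
    refine isOpen_of_flat_finite_family (fun j => (W j).left) hW (fun j => (c j).left) hc hsurj _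
      fun j => ?_
    obtain ⟨i, l, hl⟩ := hl j
    have := hA ⟨⟨W j, (AlgSp.yon S).map (c j) ≫ t⟩, hW j, i, l, by rw [hl, Category.assoc]⟩
    have hcont := (Points.schemeHomeo (W j)).continuous
    have := this.preimage hcont
    convert this using 1
    ext w
    simp only [Set.mem_preimage]
    change _ ↔ Points.map ((AlgSp.yon S).map (c j) ≫ t) (Points.ofScheme (W j) w) ∈ A
    rw [← Points.ofPt_eq_map_ofScheme, ofPt_yon_map_comp]

/-- **fpqc descent for universal topological properties.** -/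
theorem univSp_of_fpqc_cover {Q : MorphismProperty (AlgSp.Sp S)} (hQ : DescendsJQ Q)
    {ι : Type u} {Y : AlgSp.Sp S} (Yi : ι → AlgSp.Sp S) (g : ∀ i, Yi i ⟶ Y)
    (hcov : AlgSp.IsFpqcCover Yi g) {X : AlgSp.Sp S} (f : X ⟶ Y)
    (Xi : ι → AlgSp.Sp S) (p : ∀ i, Xi i ⟶ Yi i) (q : ∀ i, Xi i ⟶ X)
    (sq : ∀ i, IsPullback (q i) (p i) f (g i)) (H : ∀ i, AlgSp.UnivSp Q (p i)) :
    AlgSp.UnivSp Q f := by
  intro Z Z' hZ g' fst snd sq'
  refine hQ snd _ _ (jointlyQuot_fpqc Yi g hcov g') (fun j => pullback snd j.1.2)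
    (fun j => pullback.fst snd j.1.2) (fun j => pullback.snd snd j.1.2)
    (fun j => IsPullback.of_hasPullback snd j.1.2) fun j => ?_
  obtain ⟨⟨W, w⟩, hW, i, l, hl⟩ := j
  change Q (pullback.snd snd w)
  change l ≫ g i = w ≫ g' at hl
  have big : IsPullback (pullback.fst snd w ≫ fst) (pullback.snd snd w) f (w ≫ g') :=
    (IsPullback.of_hasPullback snd w).paste_horiz sq'
  have wk : (pullback.fst snd w ≫ fst) ≫ f = (pullback.snd snd w ≫ l) ≫ g i := by
    rw [Category.assoc (pullback.snd snd w), hl]; exact big.w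
  have left : IsPullback ((sq i).lift _ _ wk) (pullback.snd snd w) (p i) l := by
    refine IsPullback.of_right ?_ ((sq i).lift_snd _ _ wk) (sq i)
    rw [(sq i).lift_fst, hl]
    exact big
  exact H i (AlgSp.IsAlgSpace.yon_obj W) l _ _ left

end Groth.Agent.Lib.Helper30
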