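import Groth.Agent.Lib.Helper30.AlgSpFpqc
import Groth.Agent.Lib.Helper30.AlgSpDesc
import Groth.Agent.Lib.Helper78.FpqcFamily

/-!
# fpqc descent for morphisms of algebraic spaces, part 2 (helper30)

* `quasiCompact_descendsAlong_fpqc` : quasi-compactness of morphisms of schemes descends along fpqc
  coverings.
* `isPullback_lift_cover` : a base change of `f` along a map lifting to `Y i` is a base change of `p i`.
* `repWith_of_fpqc_cover` : abstract fpqc descent for `RepWith P` of a representable map.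
* `repWith_diagonal_of_fpqc_cover` : fpqc descent for properties of the diagonal.
* `isQuasiCompactMor_of_fpqc_cover` : fpqc descent for quasi-compact morphisms.
-/

set_option autoImplicit false
set_option linter.unusedSectionVars false
universe u
set_option maxHeartbeats 400000

set_option backward.isDefEq.respectTransparency false

open CategoryTheory CategoryTheory.Limits AlgebraicGeometry MorphismProperty AlgSp
open Groth.Agent.Lib.Helper51 Groth.Agent.Lib.Helper52

namespace Groth.Agent.Lib.Helper30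

/-- Quasi-compactness descends along surjective quasi-compact morphisms. -/
theorem quasiCompact_of_isPullback_of_surjective_of_quasiCompact {A X Y Z : Scheme.{u}}
    {fst : A ⟶ X} {snd : A ⟶ Y} {f : X ⟶ Z} {g : Y ⟶ Z} (h : IsPullback fst snd f g)
    (hf : Function.Surjective f) [QuasiCompact f] [QuasiCompact fst] : QuasiCompact g := by
  constructor
  intro U hU hUc
  have h0 : IsCompact (f ⁻¹' U) := QuasiCompact.isCompact_preimage (f := f) _ hU hUc
  have h1 : IsCompact (fst ⁻¹' (f ⁻¹' U)) :=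
    QuasiCompact.isCompact_preimage (f := fst) _ (hU.preimage f.continuous) h0
  have h2 : g ⁻¹' U = snd '' (fst ⁻¹' (f ⁻¹' U)) := by
    ext y
    constructor
    · intro hy
      obtain ⟨x, hx⟩ := hf (g y)
      obtain ⟨a, ha1, ha2⟩ := Scheme.exists_preimage_of_isPullback h x y hx
      refine ⟨a, ?_, ha2⟩
      rw [Set.mem_preimage, ha1, Set.mem_preimage, hx]
      exact hy
    · rintro ⟨a, ha, rfl⟩
      change g (snd a) ∈ U
      have : g (snd a) = f (fst a) := by
        rw [← Scheme.Hom.comp_apply, ← Scheme.Hom.comp_apply, h.w]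
      rw [this]
      exact ha
  rw [h2]
  exact h1.image snd.continuous

instance quasiCompact_descendsAlong_fpqc :
    DescendsAlong @QuasiCompact
      (@Surjective ⊓ @Flat ⊓ @QuasiCompact : MorphismProperty Scheme.{u}) where
  of_isPullback {A X Y Z fst snd f g} h hf hfst := by
    obtain ⟨⟨hs, _⟩, hqc⟩ := hf
    have : QuasiCompact fst := hfst
    have : QuasiCompact f := hqc
    exact quasiCompact_of_isPullback_of_surjective_of_quasiCompact h hs.surj

variable {S : Scheme.{u}}

/-- A base change of `f` along a map `w ≫ g'` which lifts to `l : W ⟶ Yi` is a base change of the base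
change `p : Xi ⟶ Yi` of `f`. -/
theorem isPullback_lift_cover {X Y Xi Yi Z Z' W : AlgSp.Sp S} {f : X ⟶ Y} {g : Yi ⟶ Y}
    {p : Xi ⟶ Yi} {q : Xi ⟶ X} (sq : IsPullback q p f g) {g' : Z ⟶ Y} {fst : Z' ⟶ X}
    {snd : Z' ⟶ Z} (sq' : IsPullback fst snd f g') {w : W ⟶ Z} {l : W ⟶ Yi}
    (hl : l ≫ g = w ≫ g') {P : AlgSp.Sp S} {a : P ⟶ Z'} {b : P ⟶ W}
    (sqP : IsPullback a b snd w) :
    ∃ k : P ⟶ Xi, k ≫ q = a ≫ fst ∧ IsPullback k b p l := by
  have big : IsPullback (a ≫ fst) b f (w ≫ g') := sqP.paste_horiz sq'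
  have wk : (a ≫ fst) ≫ f = (b ≫ l) ≫ g := by
    rw [Category.assoc b, hl]; exact big.w
  refine ⟨sq.lift _ _ wk, sq.lift_fst _ _ wk, ?_⟩
  refine IsPullback.of_right ?_ (sq.lift_snd _ _ wk) sq
  rw [sq.lift_fst, hl]
  exact big

/-- **Abstract fpqc descent for `RepWith P`.** Let `d : A ⟶ B` be representable and `π : B ⟶ Y`, with
`Y` covered fpqc by the `Y i`.  If the base change of `d` to every affine scheme over `B` whose map to
`Y` lifts to some `Y i` has `P`, then `d` is `RepWith P`. -/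
theorem repWith_of_fpqc_cover (P : MorphismProperty Scheme.{u}) [IsZariskiLocalAtTarget P]
    [P.DescendsAlong (@Surjective ⊓ @Flat ⊓ @QuasiCompact : MorphismProperty Scheme.{u})]
    {ι : Type u} {Y : AlgSp.Sp S} (Yi : ι → AlgSp.Sp S) (g : ∀ i, Yi i ⟶ Y)
    (hcov : AlgSp.IsFpqcCover Yi g) {A B : AlgSp.Sp S} (d : A ⟶ B)
    (hd : AlgSp.Representable d) (π : B ⟶ Y)
    (H : ∀ (i : ι) (W : Over S) (w : (AlgSp.yon S).obj W ⟶ B) (l : (AlgSp.yon S).obj W ⟶ Yi i),
      l ≫ g i = w ≫ π → IsAffine W.left →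
      ∀ (V : Over S) (fst : (AlgSp.yon S).obj V ⟶ A) (snd : V ⟶ W),
        IsPullback fst ((AlgSp.yon S).map snd) d w → P snd.left) :
    AlgSp.RepWith P d := by
  refine repWith_of_affine P hd fun T V hT t fst snd sq => ?_
  obtain ⟨m, W, c, hW, hc, hsurj, hl⟩ := hcov.2 T hT (t ≫ π)
  show P snd.left
  have key : ∀ j : Fin m, ∃ (W' : Over S) (w1 : W' ⟶ V) (w2 : W' ⟶ W j),
      IsPullback w1.left w2.left snd.left (c j).left ∧ P w2.left := by
    intro j
    obtain ⟨i, l, hl⟩ := hl j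
    obtain ⟨W', w1, w2, sqW, sqWl⟩ := isPullback_over' snd (c j)
    refine ⟨W', w1, w2, sqWl, ?_⟩
    have big := (sqW.map (AlgSp.yon S)).paste_horiz sq
    have hl' : l ≫ g i = ((AlgSp.yon S).map (c j) ≫ t) ≫ π := by rw [hl, Category.assoc]
    exact H i (W j) ((AlgSp.yon S).map (c j) ≫ t) l hl' (hW j) W'
      ((AlgSp.yon S).map w1 ≫ fst) w2 big
  choose W' w1 w2 sqW hP using key
  have hT' : IsAffine T.left := hT
  exact Groth.Agent.Lib.Helper78.FpqcFamily.descent_finite_family P snd.left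
    (fun j => (W j).left) hW (fun j => (c j).left) hc hsurj
    (fun j => (W' j).left) (fun j => (w1 j).left) (fun j => (w2 j).left) sqW hP

/-- **fpqc descent for properties of the diagonal.** -/
theorem repWith_diagonal_of_fpqc_cover (P : MorphismProperty Scheme.{u})
    [IsZariskiLocalAtTarget P] [P.IsStableUnderBaseChange]
    [P.DescendsAlong (@Surjective ⊓ @Flat ⊓ @QuasiCompact : MorphismProperty Scheme.{u})]
    {ι : Type u} {Y : AlgSp.Sp S} (Yi : ι → AlgSp.Sp S) (g : ∀ i, Yi i ⟶ Y)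
    (hcov : AlgSp.IsFpqcCover Yi g) {X : AlgSp.Sp S} (f : X ⟶ Y)
    (hΔ : AlgSp.Representable (pullback.diagonal f))
    (Xi : ι → AlgSp.Sp S) (p : ∀ i, Xi i ⟶ Yi i) (q : ∀ i, Xi i ⟶ X)
    (sq : ∀ i, IsPullback (q i) (p i) f (g i))
    (H : ∀ i, AlgSp.RepWith P (pullback.diagonal (p i))) :
    AlgSp.RepWith P (pullback.diagonal f) := by
  refine repWith_of_fpqc_cover P Yi g hcov (pullback.diagonal f) hΔ (pullback.fst f f ≫ f) ?_
  intro i W w l hl hW V a v sqV
  have sqP : IsPullback (pullback.fst (p i) l ≫ q i) (pullback.snd (p i) l) f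
      (w ≫ pullback.fst f f ≫ f) := by
    rw [← hl]
    exact (IsPullback.of_hasPullback (p i) l).paste_horiz (sq i)
  have hQ : AlgSp.RepWith P (pullback.diagonal (pullback.snd (p i) l)) :=
    diagonal_of_isPullback (AlgSp.RepWith P) (IsPullback.of_hasPullback (p i) l) (H i)
  exact prop_of_isPullback_diagonal P w sqP hQ a v sqV

/-- **fpqc descent for quasi-compact morphisms.** -/
theorem isQuasiCompactMor_of_fpqc_cover {ι : Type u} {Y : AlgSp.Sp S} (Yi : ι → AlgSp.Sp S)
    (g : ∀ i, Yi i ⟶ Y) (hY : AlgSp.IsAlgSpace Y) (hcov : AlgSp.IsFpqcCover Yi g)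
    {X : AlgSp.Sp S} (f : X ⟶ Y) (hX : AlgSp.IsAlgSpace X)
    (Xi : ι → AlgSp.Sp S) (p : ∀ i, Xi i ⟶ Yi i) (q : ∀ i, Xi i ⟶ X)
    (sq : ∀ i, IsPullback (q i) (p i) f (g i)) (H : ∀ i, AlgSp.IsQuasiCompactMor (p i)) :
    AlgSp.IsQuasiCompactMor f := by
  intro Z Z' hZ hZqc g' fst snd sq'
  have hZ' : AlgSp.IsAlgSpace Z' := isAlgSpace_of_isPullback hY.diag hX hZ sq'
  rw [isQuasiCompactSp_iff_compactSpace_points hZ']
  obtain ⟨T, t, hT, hte, hts⟩ := (isQuasiCompactSp_iff_exists_affine_chart hZ).1 hZqc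
  obtain ⟨m, W, c, hW, hc, hsurj, hl⟩ := hcov.2 T hT (t ≫ g')
  -- the pieces
  have hpiece : ∀ j : Fin m, IsCompact (Set.range
      (Points.map (pullback.fst snd ((AlgSp.yon S).map (c j) ≫ t)))) := by
    intro j
    obtain ⟨i, l, hl⟩ := hl j
    obtain ⟨k, _, sqk⟩ := isPullback_lift_cover (sq i) sq'
      (w := (AlgSp.yon S).map (c j) ≫ t) (l := l) (by rw [hl, Category.assoc])
      (IsPullback.of_hasPullback snd ((AlgSp.yon S).map (c j) ≫ t))
    have hWj : IsAffine (W j).left := hW j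
    have hqc : AlgSp.IsQuasiCompactSp (pullback snd ((AlgSp.yon S).map (c j) ≫ t)) :=
      H i (AlgSp.IsAlgSpace.yon_obj (W j)) (isQuasiCompactSp_yon_obj (W j)) l _ _ sqk
    have := compactSpace_points_of_isQuasiCompactSp hqc
    exact isCompact_range (Points.continuous_map _)
  refine ⟨?_⟩
  have huniv : (Set.univ : Set (Points Z')) = ⋃ j : Fin m, Set.range
      (Points.map (pullback.fst snd ((AlgSp.yon S).map (c j) ≫ t))) := by
    symm
    rw [Set.eq_univ_iff_forall]
    intro x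
    obtain ⟨t₀, ht₀⟩ := surjective_ofPt_of_repWith_surjective t hts (Points.map snd x)
    obtain ⟨j, w, hw⟩ := hsurj t₀
    have hx : Points.map snd x =
        Points.map ((AlgSp.yon S).map (c j) ≫ t) (Points.ofScheme (W j) w) := by
      rw [← Points.ofPt_eq_map_ofScheme, ofPt_yon_map_comp, hw, ht₀]
    obtain ⟨y, hy, _⟩ := exists_point_of_isPullback
      (IsPullback.of_hasPullback snd ((AlgSp.yon S).map (c j) ≫ t)) x _ hx
    exact Set.mem_iUnion.2 ⟨j, y, hy⟩
  rw [huniv]
  exact isCompact_iUnion hpiece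

end Groth.Agent.Lib.Helper30
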