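import Groth.Agent.Lib.Helper30.AlgSpFpqc2
import Mathlib.Algebra.BigOperators.Fin

/-!
# Transitivity of standard fpqc refinements (helper30)
-/

set_option autoImplicit false
set_option linter.unusedSectionVars false
universe u
set_option maxHeartbeats 400000

set_option backward.isDefEq.respectTransparency false

open CategoryTheory CategoryTheory.Limits AlgebraicGeometry MorphismProperty AlgSp
open Groth.Agent.Lib.Helper51 Groth.Agent.Lib.Helper52

namespace Groth.Agent.Lib.Helper30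

variable {S : Scheme.{u}}

/-- The refinement clause of `AlgSp.IsFpqcCover` for one affine scheme `Z` and one map `t : h_Z ⟶ X`. -/
def StdFpqcLift {ι : Type u} {X : AlgSp.Sp S} (Yi : ι → AlgSp.Sp S) (g : ∀ i, Yi i ⟶ X)
    (Z : Over S) (t : (AlgSp.yon S).obj Z ⟶ X) : Prop :=
  ∃ (m : ℕ) (W : Fin m → Over S) (c : ∀ j, W j ⟶ Z),
    (∀ j, IsAffine (W j).left) ∧ (∀ j, Flat (c j).left) ∧
    (∀ z : ↥Z.left, ∃ j, z ∈ Set.range (c j).left) ∧
    ∀ j, ∃ (i : _) (l : (AlgSp.yon S).obj (W j) ⟶ Yi i), l ≫ g i = (AlgSp.yon S).map (c j) ≫ t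

theorem isFpqcCover_iff_stdFpqcLift {ι : Type u} {X : AlgSp.Sp S} (Yi : ι → AlgSp.Sp S)
    (g : ∀ i, Yi i ⟶ X) :
    AlgSp.IsFpqcCover Yi g ↔ (∀ i, AlgSp.LocP @Flat (g i)) ∧
      ∀ (Z : Over S), IsAffine Z.left → ∀ (t : (AlgSp.yon S).obj Z ⟶ X), StdFpqcLift Yi g Z t :=
  Iff.rfl

/-- Transitivity: a standard fpqc covering of `Z` each member of which admits a standard fpqc
covering lifting through the family gives a standard fpqc covering of `Z` lifting through the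
family. -/
theorem stdFpqcLift_trans {ι : Type u} {X : AlgSp.Sp S} (Yi : ι → AlgSp.Sp S) (g : ∀ i, Yi i ⟶ X)
    (Z : Over S) (t : (AlgSp.yon S).obj Z ⟶ X) {m : ℕ} (W : Fin m → Over S) (c : ∀ j, W j ⟶ Z)
    (hc : ∀ j, Flat (c j).left) (hsurj : ∀ z : ↥Z.left, ∃ j, z ∈ Set.range (c j).left)
    (H : ∀ j, StdFpqcLift Yi g (W j) ((AlgSp.yon S).map (c j) ≫ t)) :
    StdFpqcLift Yi g Z t := by
  choose n W' c' hW' hc' hsurj' hl' using H
  let e : (Σ j : Fin m, Fin (n j)) ≃ Fin (∑ j, n j) := finSigmaFinEquiv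
  -- data indexed by the sigma type
  let Wσ : (Σ j : Fin m, Fin (n j)) → Over S := fun r => W' r.1 r.2
  let cσ : ∀ r : (Σ j : Fin m, Fin (n j)), Wσ r ⟶ Z := fun r => c' r.1 r.2 ≫ c r.1
  refine ⟨∑ j, n j, fun r => Wσ (e.symm r), fun r => cσ (e.symm r), fun r => hW' _ _, fun r => ?_,
    fun z => ?_, fun r => ?_⟩
  · show Flat ((c' (e.symm r).1 (e.symm r).2).left ≫ (c (e.symm r).1).left)
    have := hc' (e.symm r).1 (e.symm r).2
    have := hc (e.symm r).1
    infer_instance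
  · obtain ⟨j, w, hw⟩ := hsurj z
    obtain ⟨k, w', hw'⟩ := hsurj' j w
    have key : ∀ r : (Σ j : Fin m, Fin (n j)), z ∈ Set.range (cσ r).left →
        ∃ r' : Fin (∑ j, n j), z ∈ Set.range (cσ (e.symm r')).left := by
      intro r hr
      exact ⟨e r, by rw [Equiv.symm_apply_apply]; exact hr⟩
    refine key ⟨j, k⟩ ⟨w', ?_⟩
    show ((c' j k).left ≫ (c j).left) w' = z
    rw [Scheme.Hom.comp_apply, hw', hw]
  · obtain ⟨i, l, hl⟩ := hl' (e.symm r).1 (e.symm r).2
    refine ⟨i, l, ?_⟩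
    rw [hl]
    show _ = (AlgSp.yon S).map (c' (e.symm r).1 (e.symm r).2 ≫ c (e.symm r).1) ≫ t
    rw [Functor.map_comp, Category.assoc]

end Groth.Agent.Lib.Helper30
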