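import Groth.Agent.Lib.Helper30.AlgSpCoprod6

/-!
# Free group actions give étale equivalence relations (helper30)
-/

set_option autoImplicit false
set_option maxHeartbeats 800000
set_option backward.isDefEq.respectTransparency false
set_option linter.style.haveILetI false
universe u
open CategoryTheory CategoryTheory.Limits AlgebraicGeometry Opposite

namespace Groth.Agent.Lib.Helper30.FreeAct

open Groth.Agent.Lib.Helper30.Coprod

variable {S : Scheme.{u}} {ι : Type u}

/-- The coproduct cofan in `Over S`. -/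
noncomputable def sigmaOverCofan (W : ι → Over S) : Cofan W :=
  Cofan.mk (sigmaOver W) (sigmaOverι W)

theorem sigmaOverι_left (W : ι → Over S) (i : ι) :
    (sigmaOverι W i).left = Sigma.ι (fun i => (W i).left) i := rfl

/-- `sigmaOver` is the coproduct in `Over S`. -/
noncomputable def sigmaOverIsColimit (W : ι → Over S) : IsColimit (sigmaOverCofan W) :=
  Cofan.IsColimit.mk _
    (fun t => Over.homMk (Sigma.desc (fun i => (t.inj i).left)) (by
      apply Sigma.hom_ext
      intro i
      show Sigma.ι (fun i => (W i).left) i ≫ Sigma.desc (fun i => (t.inj i).left) ≫ t.pt.hom =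
        Sigma.ι (fun i => (W i).left) i ≫ Sigma.desc (fun i => (W i).hom)
      rw [Sigma.ι_desc_assoc, Sigma.ι_desc, Over.w]))
    (fun t j => by
      apply Over.OverMorphism.ext
      show Sigma.ι (fun i => (W i).left) j ≫ Sigma.desc (fun i => (t.inj i).left) = _
      rw [Sigma.ι_desc])
    (fun t m hm => by
      apply Over.OverMorphism.ext
      apply Sigma.hom_ext
      intro i
      show Sigma.ι (fun i => (W i).left) i ≫ m.left =
        Sigma.ι (fun i => (W i).left) i ≫ Sigma.desc (fun i => (t.inj i).left)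
      rw [Sigma.ι_desc]
      exact congrArg CommaMorphism.left (hm i))

/-- Transport of étale equivalence relations along an isomorphism of the relation. -/
theorem isEtaleEqvRel_of_iso {R R' U : Over S} (ε : R' ≅ R) (s t : R ⟶ U)
    (h : AlgSp.IsEtaleEqvRel (ε.hom ≫ s) (ε.hom ≫ t)) : AlgSp.IsEtaleEqvRel s t where
  injective T r r' h1 h2 := by
    have := h.injective T (r ≫ ε.inv) (r' ≫ ε.inv) (by simpa using h1) (by simpa using h2)
    simpa using congrArg (· ≫ ε.hom) this
  equivalence T := by
    have he := h.equivalence T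
    have hiff : ∀ a b : T ⟶ U, (∃ r : T ⟶ R, r ≫ t = a ∧ r ≫ s = b) ↔
        ∃ r : T ⟶ R', r ≫ ε.hom ≫ t = a ∧ r ≫ ε.hom ≫ s = b := by
      intro a b
      constructor
      · rintro ⟨r, h1, h2⟩
        exact ⟨r ≫ ε.inv, by simpa using h1, by simpa using h2⟩
      · rintro ⟨r, h1, h2⟩
        exact ⟨r ≫ ε.hom, by simpa using h1, by simpa using h2⟩
    have : (fun a b : T ⟶ U => ∃ r : T ⟶ R, r ≫ t = a ∧ r ≫ s = b) =
        fun a b : T ⟶ U => ∃ r : T ⟶ R', r ≫ ε.hom ≫ t = a ∧ r ≫ ε.hom ≫ s = b := by
      funext a b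
      exact propext (hiff a b)
    rw [this]
    exact he
  etale_left := by
    have h1 : Etale (ε.hom ≫ s).left := h.etale_left
    have h2 : (ε.hom ≫ s).left = ε.hom.left ≫ s.left := rfl
    rw [h2] at h1
    have : IsIso ε.hom.left := inferInstanceAs (IsIso ((Over.forget S).map ε.hom))
    exact (MorphismProperty.cancel_left_of_respectsIso @Etale ε.hom.left s.left).1 h1
  etale_right := by
    have h1 : Etale (ε.hom ≫ t).left := h.etale_right
    have h2 : (ε.hom ≫ t).left = ε.hom.left ≫ t.left := rfl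
    rw [h2] at h1
    have : IsIso ε.hom.left := inferInstanceAs (IsIso ((Over.forget S).map ε.hom))
    exact (MorphismProperty.cancel_left_of_respectsIso @Etale ε.hom.left t.left).1 h1

section Concrete

variable (U : Over S) (G : Type u) [Group G] (ρ : G →* Aut U)

/-- `R = ∐_G U`. -/
noncomputable abbrev RR : Over S := sigmaOver (fun _ : G => U)

/-- The coprojections `U ⟶ R`. -/
noncomputable abbrev inj (g : G) : U ⟶ RR U G := sigmaOverι (fun _ : G => U) g

/-- Maps out of `R`. -/
noncomputable def descR {X : Over S} (φ : G → (U ⟶ X)) : RR U G ⟶ X :=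
  Cofan.IsColimit.desc (sigmaOverIsColimit (fun _ : G => U)) φ

theorem inj_descR {X : Over S} (φ : G → (U ⟶ X)) (g : G) :
    inj U G g ≫ descR U G φ = φ g :=
  Cofan.IsColimit.fac (sigmaOverIsColimit (fun _ : G => U)) φ g

theorem RR_hom_ext {X : Over S} (a b : RR U G ⟶ X)
    (h : ∀ g, inj U G g ≫ a = inj U G g ≫ b) : a = b :=
  Cofan.IsColimit.hom_ext (sigmaOverIsColimit (fun _ : G => U)) _ _ h

/-- Left multiplication on `R`. -/
noncomputable def Lmul (g : G) : RR U G ⟶ RR U G := descR U G (fun h => inj U G (g * h))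

/-- Inversion on `R`. -/
noncomputable def invR : RR U G ⟶ RR U G := descR U G (fun g => (ρ g).hom ≫ inj U G g⁻¹)

variable {U G}

theorem ρ_mul (g h : G) : (ρ (g * h)).hom = (ρ h).hom ≫ (ρ g).hom := by
  rw [map_mul, Aut.Aut_mul_def]
  rfl

theorem ρ_one : (ρ 1).hom = 𝟙 U := by
  rw [map_one]
  rfl

variable (s t : RR U G ⟶ U) (hs : ∀ g, inj U G g ≫ s = 𝟙 U)
  (ht : ∀ g, inj U G g ≫ t = (ρ g).hom)

include hs in
theorem Lmul_s (g : G) : Lmul U G g ≫ s = s := by
  apply RR_hom_ext
  intro h
  rw [Lmul, ← Category.assoc, inj_descR, hs, hs]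

include ht in
theorem Lmul_t (g : G) : Lmul U G g ≫ t = t ≫ (ρ g).hom := by
  apply RR_hom_ext
  intro h
  rw [Lmul, ← Category.assoc, inj_descR, ht, ← Category.assoc, ht, ρ_mul]

include hs ht in
theorem invR_s : invR U G ρ ≫ s = t := by
  apply RR_hom_ext
  intro g
  rw [invR, ← Category.assoc, inj_descR, Category.assoc, hs, Category.comp_id, ht]

include hs ht in
theorem invR_t : invR U G ρ ≫ t = s := by
  apply RR_hom_ext
  intro g
  rw [invR, ← Category.assoc, inj_descR, Category.assoc, ht, hs, ← ρ_mul, inv_mul_cancel, ρ_one]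

/-- The inclusion of an open subscheme, over `S`. -/
noncomputable abbrev opι {T : Over S} (W : T.left.Opens) : Over.mk (W.ι ≫ T.hom) ⟶ T :=
  Over.homMk W.ι rfl

/-- Decomposition of a `T`-point of `R = ∐_G U`. -/
theorem exists_decomp_point {T : Over S} (r : T ⟶ RR U G) :
    ∃ (W : G → T.left.Opens) (x : ∀ g, Over.mk ((W g).ι ≫ T.hom) ⟶ U),
      (⋃ g, (W g : Set ↥T.left)) = Set.univ ∧
      (∀ g, opι (W g) ≫ r = x g ≫ inj U G g) ∧
      (∀ {X : Over S} (a b : T ⟶ X), (∀ g, opι (W g) ≫ a = opι (W g) ≫ b) → a = b) ∧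
      (∀ {X : Over S} (φ : ∀ g, Over.mk ((W g).ι ≫ T.hom) ⟶ X),
        ∃ a : T ⟶ X, ∀ g, opι (W g) ≫ a = φ g) := by
  obtain ⟨hK⟩ := yonCofan_isColimit (fun _ : G => U)
  obtain ⟨W, -, -, hcov, H⟩ :=
    exists_decomposition (yonCofan (fun _ : G => U)) hK ((AlgSp.yon S).map r)
  choose x' sq using H
  obtain ⟨hcT⟩ := isColimit_of_isPullback (yonCofan (fun _ : G => U)) hK
    ((AlgSp.yon S).map r) _ x' _ sq
  refine ⟨W, fun g => (AlgSp.yon S).preimage (x' g), hcov, fun g => ?_, ?_, ?_⟩
  · apply (AlgSp.yon S).map_injective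
    rw [Functor.map_comp, Functor.map_comp, Functor.map_preimage]
    exact (sq g).w.symm
  · intro X a b h
    apply (AlgSp.yon S).map_injective
    apply Cofan.IsColimit.hom_ext hcT
    intro g
    show (AlgSp.yon S).map (opι (W g)) ≫ (AlgSp.yon S).map a =
      (AlgSp.yon S).map (opι (W g)) ≫ (AlgSp.yon S).map b
    rw [← Functor.map_comp, ← Functor.map_comp, h g]
  · intro X φ
    refine ⟨(AlgSp.yon S).preimage
      (Cofan.IsColimit.desc hcT (fun g => (AlgSp.yon S).map (φ g))), fun g => ?_⟩
    apply (AlgSp.yon S).map_injective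
    rw [Functor.map_comp, Functor.map_preimage]
    exact Cofan.IsColimit.fac hcT _ g

include hs ht in
/-- The relation defined by a group action is an equivalence relation on `T`-points. -/
theorem equivalence_of_action (T : Over S) :
    Equivalence (fun a b : T ⟶ U => ∃ r : T ⟶ RR U G, r ≫ t = a ∧ r ≫ s = b) := by
  refine ⟨fun a => ?_, ?_, ?_⟩
  · refine ⟨a ≫ inj U G 1, ?_, ?_⟩
    · rw [Category.assoc, ht, ρ_one, Category.comp_id]
    · rw [Category.assoc, hs, Category.comp_id]
  · rintro a b ⟨r, h1, h2⟩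
    exact ⟨r ≫ invR U G ρ, by rw [Category.assoc, invR_t ρ s t hs ht, h2],
      by rw [Category.assoc, invR_s ρ s t hs ht, h1]⟩
  · rintro a b c ⟨r₁, h1, h2⟩ ⟨r₂, h3, h4⟩
    obtain ⟨W, x, -, hx, hext, hdesc⟩ := exists_decomp_point r₁
    obtain ⟨r₃, hr₃⟩ := hdesc (fun g => opι (W g) ≫ r₂ ≫ Lmul U G g)
    have hxa : ∀ g, opι (W g) ≫ a = x g ≫ (ρ g).hom := by
      intro g
      rw [← h1, ← Category.assoc, hx, Category.assoc, ht]
    have hxb : ∀ g, opι (W g) ≫ b = x g := by
      intro g
      rw [← h2, ← Category.assoc, hx, Category.assoc, hs, Category.comp_id]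
    refine ⟨r₃, hext _ _ (fun g => ?_), hext _ _ (fun g => ?_)⟩
    · rw [← Category.assoc, hr₃, Category.assoc, Category.assoc, Lmul_t ρ t ht, ← Category.assoc r₂,
        h3, ← Category.assoc, hxb, hxa]
    · rw [← Category.assoc, hr₃, Category.assoc, Category.assoc, Lmul_s s hs, h4]

theorem epi_SpecMap_field {K L : Type u} [Field K] [Field L]
    (φ : CommRingCat.of K ⟶ CommRingCat.of L) : Epi (Spec.map φ) := by
  have hfl : Flat (Spec.map φ) := by
    rw [HasRingHomProperty.Spec_iff (P := @Flat)]
    algebraize [φ.hom]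
    show Module.Flat K L
    infer_instance
  have hsurj : Surjective (Spec.map φ) := by
    constructor
    intro y
    have : Nonempty ↥(Spec (CommRingCat.of L)) := inferInstance
    obtain ⟨x⟩ := this
    exact ⟨x, Subsingleton.elim _ _⟩
  exact Flat.epi_of_flat_of_surjective _

variable (hfree : ∀ (g : G) (x : U.left), g ≠ 1 →
  U.left.fromSpecResidueField x ≫ (ρ g).hom.left ≠ U.left.fromSpecResidueField x)

include hfree in
theorem eq_one_of_fix {T : Over S} (b : T ⟶ U) (k : G) (z : ↥T.left)
    (h : T.left.fromSpecResidueField z ≫ b.left ≫ (ρ k).hom.left =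
      T.left.fromSpecResidueField z ≫ b.left) : k = 1 := by
  by_contra hk
  apply hfree k (b.left z) hk
  have : Epi (Spec.map (b.left.residueFieldMap z)) := epi_SpecMap_field _
  rw [← cancel_epi (Spec.map (b.left.residueFieldMap z)),
    Scheme.Hom.SpecMap_residueFieldMap_fromSpecResidueField_assoc,
    Scheme.Hom.SpecMap_residueFieldMap_fromSpecResidueField]
  exact h

include hs ht hfree in
/-- A free action gives a relation that is injective on `T`-points. -/
theorem injective_of_free_action (T : Over S) (r r' : T ⟶ RR U G) (h1 : r ≫ t = r' ≫ t)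
    (h2 : r ≫ s = r' ≫ s) : r = r' := by
  obtain ⟨W, x, hcov, hx, hext, -⟩ := exists_decomp_point r
  obtain ⟨W', x', hcov', hx', -, -⟩ := exists_decomp_point r'
  have a2 : ∀ g, (inj U G g).left ≫ t.left = (ρ g).hom.left :=
    fun g => congrArg CommaMorphism.left (ht g)
  have a3 : ∀ g, (inj U G g).left ≫ s.left = 𝟙 _ :=
    fun g => congrArg CommaMorphism.left (hs g)
  -- the key computation on a residue field point
  have comp : ∀ (r : T ⟶ RR U G) (W : G → T.left.Opens)
      (x : ∀ g, Over.mk ((W g).ι ≫ T.hom) ⟶ U) (_ : ∀ g, opι (W g) ≫ r = x g ≫ inj U G g)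
      (g : G) (z : ↥T.left) (_ : z ∈ W g),
      T.left.fromSpecResidueField z ≫ r.left ≫ t.left =
        T.left.fromSpecResidueField z ≫ (r.left ≫ s.left) ≫ (ρ g).hom.left := by
    intro r W x hx g z hz
    have hr1 : Set.range (T.left.fromSpecResidueField z) ⊆ Set.range (W g).ι := by
      rw [Scheme.range_fromSpecResidueField, Scheme.Opens.range_ι]
      simpa using hz
    have hζ : IsOpenImmersion.lift (W g).ι (T.left.fromSpecResidueField z) hr1 ≫ (W g).ι =
        T.left.fromSpecResidueField z := IsOpenImmersion.lift_fac _ _ _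
    have a1 : (W g).ι ≫ r.left = (x g).left ≫ (inj U G g).left :=
      congrArg CommaMorphism.left (hx g)
    rw [← hζ, Category.assoc, Category.assoc, ← Category.assoc (W g).ι, a1, Category.assoc,
      a2, ← Category.assoc (W g).ι, ← Category.assoc (W g).ι, a1, Category.assoc (x g).left,
      a3, Category.comp_id]
  have claim : ∀ (g h : G) (z : ↥T.left), z ∈ W g → z ∈ W' h → g = h := by
    intro g h z hz hz'
    have e1 := comp r W x hx g z hz
    have e2 := comp r' W' x' hx' h z hz'
    have h1' : r.left ≫ t.left = r'.left ≫ t.left := congrArg CommaMorphism.left h1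
    have h2' : r.left ≫ s.left = r'.left ≫ s.left := congrArg CommaMorphism.left h2
    rw [← h1', ← h2', e1] at e2
    have e4 : T.left.fromSpecResidueField z ≫ (r ≫ s).left ≫ (ρ (h⁻¹ * g)).hom.left =
        T.left.fromSpecResidueField z ≫ (r ≫ s).left := by
      have hm : (ρ (h⁻¹ * g)).hom.left = (ρ g).hom.left ≫ (ρ h⁻¹).hom.left :=
        congrArg CommaMorphism.left (ρ_mul ρ h⁻¹ g)
      have hm2 : (ρ h).hom.left ≫ (ρ h⁻¹).hom.left = 𝟙 _ := by
        have := congrArg CommaMorphism.left (ρ_mul ρ h⁻¹ h)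
        rw [inv_mul_cancel, ρ_one] at this
        exact this.symm
      show T.left.fromSpecResidueField z ≫ (r.left ≫ s.left) ≫ (ρ (h⁻¹ * g)).hom.left =
        T.left.fromSpecResidueField z ≫ (r.left ≫ s.left)
      rw [hm, ← Category.assoc (r.left ≫ s.left), ← Category.assoc, e2, Category.assoc,
        Category.assoc, hm2, Category.comp_id]
    have := eq_one_of_fix ρ hfree (r ≫ s) (h⁻¹ * g) z e4
    exact (inv_mul_eq_one.1 this).symm
  have hle : ∀ g, W g ≤ W' g := by
    intro g z hz
    have hz' : z ∈ ⋃ h, (W' h : Set ↥T.left) := by rw [hcov']; trivial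
    obtain ⟨h, hh⟩ := Set.mem_iUnion.1 hz'
    obtain rfl := claim g h z hz hh
    exact hh
  apply hext
  intro g
  let j : Over.mk ((W g).ι ≫ T.hom) ⟶ Over.mk ((W' g).ι ≫ T.hom) :=
    Over.homMk (T.left.homOfLE (hle g)) (by
      show T.left.homOfLE (hle g) ≫ (W' g).ι ≫ T.hom = (W g).ι ≫ T.hom
      rw [← Category.assoc, Scheme.homOfLE_ι])
  have hj : j ≫ opι (W' g) = opι (W g) := by
    apply Over.OverMorphism.ext
    exact Scheme.homOfLE_ι T.left (hle g)
  have hxg : x g = j ≫ x' g := by
    have e1 : x g = opι (W g) ≫ r ≫ s := by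
      rw [← Category.assoc, hx, Category.assoc, hs, Category.comp_id]
    have e2 : x' g = opι (W' g) ≫ r' ≫ s := by
      rw [← Category.assoc, hx', Category.assoc, hs, Category.comp_id]
    rw [e1, e2, h2, ← hj, Category.assoc]
  rw [hx, hxg, Category.assoc, ← hx', ← Category.assoc, hj]

include hs ht hfree in
/-- **Free actions give étale equivalence relations** (concrete model). -/
theorem isEtaleEqvRel_of_free_action : AlgSp.IsEtaleEqvRel s t where
  injective T r r' h1 h2 := injective_of_free_action ρ s t hs ht hfree T r r' h1 h2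
  equivalence T := equivalence_of_action ρ s t hs ht T
  etale_left := by
    rw [sigmaOver_hom_left (fun _ : G => U) (fun _ => 𝟙 U) s hs]
    exact IsZariskiLocalAtSource.sigmaDesc (P := @Etale) (fun g => inferInstance)
  etale_right := by
    rw [sigmaOver_hom_left (fun _ : G => U) (fun g => (ρ g).hom) t ht]
    refine IsZariskiLocalAtSource.sigmaDesc (P := @Etale) (fun g => ?_)
    have : IsIso (ρ g).hom.left := inferInstanceAs (IsIso ((Over.forget S).map (ρ g).hom))
    infer_instance

end Concrete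

end Groth.Agent.Lib.Helper30.FreeAct
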