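import Groth.Agent.Lib.Helper30.AlgSpEtSplit
import Groth.Agent.Lib.Helper30.AlgSpFiniteProper
import Groth.Agent.Lib.Helper61.GenFinMain
import Groth.Agent.Lib.Helper21.MaximalPoints
import Groth.Agent.Lib.Helper51.AlgSpSepDescent
import Groth.Agent.Lib.Helper78.AlgSpFppfFpqc
import Groth.Agent.S10540

/-!
# Generic finiteness for algebraic spaces at a codimension 0 point (helper30)
-/

set_option autoImplicit false
set_option maxHeartbeats 1600000
set_option backward.isDefEq.respectTransparency false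
set_option linter.unusedSectionVars false
universe u
open CategoryTheory CategoryTheory.Limits AlgebraicGeometry Opposite TopologicalSpace Topology

namespace Groth.Agent.Lib.Helper30.GenFin

open AlgSp Groth.Agent.Lib.Helper51 Groth.Agent.Lib.Helper52
open Groth.Agent.Lib.Helper31.AlgSpFlatAt Groth.Agent.Lib.Helper98.AlgSpPtLocal
open Groth.Agent.Lib.Helper30.Near

section SchemeLevel

variable {X Y : Scheme.{u}}

/-- a point of zero-dimensional local ring is the generic point of an irreducible component. -/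
theorem closure_mem_irreducibleComponents_of_stalk_dim_zero (V : Scheme.{u}) (v : V)
    (h : ringKrullDim (V.presheaf.stalk v) = 0) : closure {v} ∈ irreducibleComponents V := by
  rw [ringKrullDim_stalk_eq_coheight] at h
  have h0 : Order.coheight v = 0 := by exact_mod_cast h
  rw [Order.coheight_eq_zero] at h0
  apply Groth.Agent.Lib.Helper21.closure_singleton_mem_irreducibleComponents_of_maximal
  intro z hz
  exact h0 hz

theorem isOpen_singleton_fiber (f : X ⟶ Y) [LocallyOfFiniteType f] (x : X) (y : Y) (hxy : f x = y) (z : f.fiber y)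
    (hz : f.fiberι y z = x) (hq : f.QuasiFiniteAt x) : IsOpen ({z} : Set (f.fiber y)) := by
  subst hxy
  have : z = f.asFiber x := (f.fiberι _).isEmbedding.injective (by rw [hz, f.fiberι_asFiber])
  rw [this]
  exact (Scheme.Hom.quasiFiniteAt_iff_isOpen_singleton_asFiber).1 hq

/-- a quasi-compact morphism which is quasi-finite at all points of a fibre has finite fibre. -/
theorem finite_preimage_of_quasiFiniteAt (f : X ⟶ Y) [LocallyOfFiniteType f] [QuasiCompact f]
    (y : Y)
    (h : ∀ x, f x = y → f.QuasiFiniteAt x) : (f ⁻¹' {y}).Finite := by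
  haveI : DiscreteTopology (f.fiber y) := by
    rw [discreteTopology_iff_isOpen_singleton]
    intro z
    have hx : f (f.fiberι y z) = y := by
      have : f.fiberι y z ∈ Set.range (f.fiberι y) := Set.mem_range_self z
      rw [f.range_fiberι] at this
      exact this
    exact isOpen_singleton_fiber f _ y hx z rfl (h _ hx)
  haveI : Finite (f.fiber y) := finite_of_compact_of_discrete
  rw [← f.range_fiberι]
  exact Set.finite_range _

/-- `Near` local quasi-finiteness gives quasi-finiteness at the point. -/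
theorem quasiFiniteAt_of_near {U V : Scheme.{u}} (h : U ⟶ V) (u : U)
    (hn : Near (@LocallyQuasiFinite ⊓ @LocallyOfFiniteType) U V h u) : h.QuasiFiniteAt u := by
  obtain ⟨W, hu, h1, h2⟩ := hn
  haveI : LocallyQuasiFinite (W.ι ≫ h) := h1
  have h3 : (W.ι ≫ h).QuasiFiniteAt ⟨u, hu⟩ := (W.ι ≫ h).quasiFiniteAt ⟨u, hu⟩
  have h4 : h.QuasiFiniteAt (W.ι ⟨u, hu⟩) :=
    Scheme.Hom.quasiFiniteAt_comp_iff_of_isOpenImmersion.mp h3
  have e : W.ι ⟨u, hu⟩ = u := rfl
  rw [e] at h4
  exact h4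


/-- finiteness of a restriction passes to smaller opens. -/
theorem isFinite_restrict_of_le (f : X ⟶ Y) {U U' : Y.Opens} (h : U' ≤ U)
    (hf : IsFinite (f ∣_ U)) : IsFinite (f ∣_ U') := by
  have sq' := (isPullback_morphismRestrict f U').flip
  have sq := (isPullback_morphismRestrict f U).flip
  have hle : f ⁻¹ᵁ U' ≤ f ⁻¹ᵁ U := fun x hx => h hx
  have hcomm : X.homOfLE hle ≫ f ∣_ U = f ∣_ U' ≫ Y.homOfLE h := by
    rw [← cancel_mono U.ι, Category.assoc, Category.assoc, morphismRestrict_ι,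
      Scheme.homOfLE_ι, morphismRestrict_ι, ← Category.assoc, Scheme.homOfLE_ι]
  have key : IsPullback (X.homOfLE hle) (f ∣_ U') (f ∣_ U) (Y.homOfLE h) := by
    refine IsPullback.of_right ?_ hcomm sq
    rw [Scheme.homOfLE_ι, Scheme.homOfLE_ι]
    exact sq'
  exact MorphismProperty.of_isPullback (P := @IsFinite) key hf

end SchemeLevel

section SpaceLevel

variable {S : Scheme.{u}}

/-- restriction of an object of `Over S` to an open. -/
abbrev restr (V : Over S) (O : V.left.Opens) : Over S := Over.mk (O.ι ≫ V.hom)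

/-- the inclusion of the restriction. -/
abbrev restrι (V : Over S) (O : V.left.Opens) : restr V O ⟶ V := Over.homMk O.ι rfl

/-- the restriction of a morphism over `S` to an open of the target. -/
noncomputable abbrev restrMap {A V : Over S} (g : A ⟶ V) (O : V.left.Opens) :
    restr A (g.left ⁻¹ᵁ O) ⟶ restr V O :=
  Over.homMk (g.left ∣_ O)
    (Groth.Agent.Lib.Helper30.over_w g _ _ _ (isPullback_morphismRestrict g.left O))

theorem isPullback_restr {A V : Over S} (g : A ⟶ V) (O : V.left.Opens) :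
    IsPullback (restrMap g O) (restrι A (g.left ⁻¹ᵁ O)) (restrι V O) g :=
  Groth.Agent.Lib.Helper30.isPullback_over g _ _ _ (isPullback_morphismRestrict g.left O) _

/-- **Key lemma.**  Let `p : Z ⟶ h_V` be a quasi-compact morphism locally of finite type from an
algebraic space, with an étale surjective chart `a : h_A ⟶ Z` and `R = A ×_Z A`.  If over an open
`V'` of `V` both `A ⟶ V` and `R ⟶ V` are finite, then the base change of `p` to `V'` is finite. -/
theorem isFiniteMor_of_chart_finite {Z : AlgSp.Sp S} (hZ : AlgSp.IsAlgSpace Z) {V : Over S}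
    (p : Z ⟶ (AlgSp.yon S).obj V) (hp_lft : AlgSp.LocP @LocallyOfFiniteType p)
    (hp_qc : AlgSp.IsQuasiCompactMor p)
    {A : Over S} (a : (AlgSp.yon S).obj A ⟶ Z) (hae : AlgSp.RepWith @Etale a)
    (has : AlgSp.RepWith @Surjective a) (gA : A ⟶ V) (comm : a ≫ p = (AlgSp.yon S).map gA)
    {R : Over S} (s t : R ⟶ A) (sqR : IsPullback ((AlgSp.yon S).map s) ((AlgSp.yon S).map t) a a)
    (V'o : V.left.Opens) (hfin₁ : IsFinite (gA.left ∣_ V'o))
    (hfin₂ : IsFinite ((t.left ≫ gA.left) ∣_ V'o))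
    {Z' : AlgSp.Sp S} (m : Z' ⟶ Z) (p' : Z' ⟶ (AlgSp.yon S).obj (restr V V'o))
    (sqZ : IsPullback m p' p ((AlgSp.yon S).map (restrι V V'o))) :
    AlgSp.IsFiniteMor p' := by
  have hyV := AlgSp.IsAlgSpace.yon_obj V
  have hyV' := AlgSp.IsAlgSpace.yon_obj (restr V V'o)
  have hZ' : AlgSp.IsAlgSpace Z' :=
    Groth.Agent.Lib.Helper30.isAlgSpace_of_isPullback hyV.diag hZ hyV' sqZ
  -- the restricted chart
  have sqA := (isPullback_restr gA V'o).map (AlgSp.yon S)
  have hwa' : ((AlgSp.yon S).map (restrι A (gA.left ⁻¹ᵁ V'o)) ≫ a) ≫ p =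
      (AlgSp.yon S).map (restrMap gA V'o) ≫ (AlgSp.yon S).map (restrι V V'o) := by
    rw [Category.assoc, comm]; exact sqA.w.symm
  obtain ⟨a', ha'1, ha'2⟩ : ∃ a' : (AlgSp.yon S).obj (restr A (gA.left ⁻¹ᵁ V'o)) ⟶ Z',
      a' ≫ m = (AlgSp.yon S).map (restrι A (gA.left ⁻¹ᵁ V'o)) ≫ a ∧
      a' ≫ p' = (AlgSp.yon S).map (restrMap gA V'o) :=
    ⟨sqZ.lift _ _ hwa', sqZ.lift_fst _ _ _, sqZ.lift_snd _ _ _⟩
  have sqa' : IsPullback a' ((AlgSp.yon S).map (restrι A (gA.left ⁻¹ᵁ V'o))) m a := by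
    refine IsPullback.of_right ?_ ha'1 sqZ.flip
    rw [ha'2, comm]
    exact sqA
  have ha'e : AlgSp.RepWith @Etale a' := MorphismProperty.of_isPullback sqa'.flip hae
  have ha's : AlgSp.RepWith @Surjective a' := MorphismProperty.of_isPullback sqa'.flip has
  have ha'surj : AlgSp.IsSurjectiveMor a' := by
    intro x
    obtain ⟨u, hu⟩ := surjective_ofPt_of_repWith_surjective a' ha's x
    exact ⟨Points.ofScheme _ u, by rw [← Points.ofPt_eq_map_ofScheme]; exact hu⟩
  -- finiteness of the restricted morphisms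
  haveI hgfin : IsFinite (restrMap gA V'o).left := hfin₁
  haveI htfin : IsFinite (restrMap t (gA.left ⁻¹ᵁ V'o)).left := by
    change IsFinite (t.left ∣_ (gA.left ⁻¹ᵁ V'o))
    haveI : IsFinite (t.left ∣_ (gA.left ⁻¹ᵁ V'o) ≫ gA.left ∣_ V'o) := by
      rw [← morphismRestrict_comp]; exact hfin₂
    haveI : IsFinite (gA.left ∣_ V'o) := hfin₁
    exact IsFinite.of_comp _ (gA.left ∣_ V'o)
  -- the restricted relation
  have sqT := (isPullback_restr t (gA.left ⁻¹ᵁ V'o)).map (AlgSp.yon S)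
  have hwσ : ((AlgSp.yon S).map (restrMap t (gA.left ⁻¹ᵁ V'o)) ≫ a') ≫ m =
      ((AlgSp.yon S).map (restrι R (t.left ⁻¹ᵁ (gA.left ⁻¹ᵁ V'o))) ≫ (AlgSp.yon S).map s) ≫ a := by
    rw [Category.assoc, ha'1, ← Category.assoc, sqT.w, Category.assoc, Category.assoc, sqR.w]
  obtain ⟨σ, hσ1, hσ2⟩ : ∃ σ : (AlgSp.yon S).obj (restr R (t.left ⁻¹ᵁ (gA.left ⁻¹ᵁ V'o))) ⟶
      (AlgSp.yon S).obj (restr A (gA.left ⁻¹ᵁ V'o)),
      σ ≫ a' = (AlgSp.yon S).map (restrMap t (gA.left ⁻¹ᵁ V'o)) ≫ a' ∧
      σ ≫ (AlgSp.yon S).map (restrι A (gA.left ⁻¹ᵁ V'o)) =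
        (AlgSp.yon S).map (restrι R (t.left ⁻¹ᵁ (gA.left ⁻¹ᵁ V'o))) ≫ (AlgSp.yon S).map s :=
    ⟨sqa'.lift _ _ hwσ, sqa'.lift_fst _ _ _, sqa'.lift_snd _ _ _⟩
  have sqR' : IsPullback σ ((AlgSp.yon S).map (restrMap t (gA.left ⁻¹ᵁ V'o))) a' a' := by
    refine IsPullback.of_right ?_ hσ1 sqa'.flip
    rw [hσ2, ha'1]
    exact sqT.flip.paste_horiz sqR
  have ha'uc : AlgSp.IsUnivClosedMor a' :=
    Groth.Agent.Lib.Helper30.isUnivClosedMor_of_etale_cover a' _ a' ha'e ha's σ _ sqR'
      (Groth.Agent.Lib.Helper30.isUnivClosedMor_of_repWith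
        ((AlgSp.repWith_yon_map_iff @UniversallyClosed _).2 inferInstance))
  -- properness of `p'`
  have hsep : AlgSp.IsSeparatedMor p' := by
    apply Groth.Agent.Lib.Helper51.KerAt.isSeparatedMor_of_surjective_univClosed_comp
      (AlgSp.IsAlgSpace.yon_obj _) hZ' hyV' a' p' ha'surj ha'uc
    rw [ha'2, AlgSp.isSeparatedMor_yon_map_iff]
    infer_instance
  have huc : AlgSp.IsUnivClosedMor p' := by
    apply Groth.Agent.Lib.Helper51.KerAt.isUnivClosedMor_of_surjective_comp a' p' ha'surj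
    rw [ha'2]
    exact Groth.Agent.Lib.Helper30.isUnivClosedMor_of_repWith
      ((AlgSp.repWith_yon_map_iff @UniversallyClosed _).2 inferInstance)
  have hlft : AlgSp.LocP @LocallyOfFiniteType p' :=
    Groth.Agent.Lib.Helper78.AlgSpLocP.locP_of_isPullback
      Groth.Agent.Lib.Helper78.AlgSpLocPLoft.etLocalST_loft sqZ
      (Groth.Agent.Lib.Helper78.AlgSpFibre.repAll_of_isAlgSpace hyV) hZ.atlas hyV.atlas hp_lft
  have hqc : AlgSp.IsQuasiCompactMor p' :=
    Groth.Agent.Lib.Helper30.isQuasiCompactMor_snd_of_isPullback sqZ hp_qc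
  have hlqf : AlgSp.LocP (@LocallyQuasiFinite ⊓ @LocallyOfFiniteType) p' := by
    refine Groth.Agent.Lib.Helper78.AlgSpLocP.locP_of_chart
      Groth.Agent.Lib.Helper78.AlgSpLocPLqf.etLocalST_lqf p' a' (𝟙 _) (restrMap gA V'o) ha'e ha's
      (AlgSp.repWith_id _ _) (by rw [Category.comp_id, ha'2]) ?_
    exact ⟨inferInstance, inferInstance⟩
  exact Groth.Agent.Lib.Helper30.ZMT.isFiniteMor_of_isProperMor_of_lqf hZ' hyV' p'
    ⟨hsep, ⟨hlft, hqc⟩, huc⟩ hlqf

/-- the comparison `R ⟶ A ×_V A` is a monomorphism. -/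
theorem mono_lift_of_isPullback {Z : AlgSp.Sp S} {A R : Over S} (a : (AlgSp.yon S).obj A ⟶ Z)
    (s t : R ⟶ A) (sqR : IsPullback ((AlgSp.yon S).map s) ((AlgSp.yon S).map t) a a)
    {W : Scheme.{u}} (g : A.left ⟶ W) (hst : s.left ≫ g = t.left ≫ g) :
    Mono (pullback.lift s.left t.left hst) := by
  refine ⟨fun {T} α β h => ?_⟩
  have h1 : α ≫ s.left = β ≫ s.left := by
    have := congrArg (· ≫ pullback.fst g g) h
    simpa only [Category.assoc, pullback.lift_fst] using this
  have h2 : α ≫ t.left = β ≫ t.left := by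
    have := congrArg (· ≫ pullback.snd g g) h
    simpa only [Category.assoc, pullback.lift_snd] using this
  have hβ : β ≫ R.hom = α ≫ R.hom := by
    rw [← Over.w s, ← Category.assoc, ← Category.assoc, h1]
  let α' : Over.mk (α ≫ R.hom) ⟶ R := Over.homMk α rfl
  let β' : Over.mk (α ≫ R.hom) ⟶ R := Over.homMk β hβ
  have e : (AlgSp.yon S).map α' = (AlgSp.yon S).map β' := by
    apply sqR.hom_ext
    · rw [← Functor.map_comp, ← Functor.map_comp]
      congr 1
      ext
      exact h1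
    · rw [← Functor.map_comp, ← Functor.map_comp]
      congr 1
      ext
      exact h2
  have e' : α' = β' := (AlgSp.yon S).map_injective e
  exact congrArg (fun φ => φ.left) e'

open Groth.Agent.Lib.Helper30.AlgSpEtSplit in
/-- generic finiteness on an affine chart of the target. -/
theorem exists_open_finite_chart {X Y : AlgSp.Space S} (f : X ⟶ Y)
    (hqs : AlgSp.IsQuasiSeparatedMor f.hom) (hft : AlgSp.IsFiniteTypeMor f.hom)
    {V : Over S} (hVaff : IsAffine V.left) (b : (AlgSp.yon S).obj V ⟶ Y.obj)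
    (hbe : AlgSp.RepWith @Etale b) (v : V.left)
    (hv : closure {v} ∈ irreducibleComponents V.left)
    (hqf : ∀ x : AlgSp.Points X.obj, AlgSp.Points.map f.hom x = AlgSp.Points.ofPt b v →
      AlgSp.HasAtMor (Near (@LocallyQuasiFinite ⊓ @LocallyOfFiniteType)) f.hom x) :
    ∃ V'o : V.left.Opens, v ∈ V'o ∧ ∀ (Z' : AlgSp.Sp S) (m : Z' ⟶ pullback f.hom b)
      (p' : Z' ⟶ (AlgSp.yon S).obj (restr V V'o)),
      IsPullback m p' (pullback.snd f.hom b) ((AlgSp.yon S).map (restrι V V'o)) →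
      AlgSp.IsFiniteMor p' := by
  classical
  have hX := X.property
  have hY := Y.property
  have hE := Groth.Agent.Lib.Helper78.AlgSpLocPLqf.etLocalST_lqf.{u}
  haveI := hVaff
  have hyV := AlgSp.IsAlgSpace.yon_obj V
  have sq := IsPullback.of_hasPullback f.hom b
  have hZ : AlgSp.IsAlgSpace (pullback f.hom b) :=
    Groth.Agent.Lib.Helper30.isAlgSpace_of_isPullback hY.diag hX hyV sq
  have hp_lft : AlgSp.LocP @LocallyOfFiniteType (pullback.snd f.hom b) :=
    Groth.Agent.Lib.Helper78.AlgSpLocP.locP_of_isPullback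
      Groth.Agent.Lib.Helper78.AlgSpLocPLoft.etLocalST_loft sq
      (Groth.Agent.Lib.Helper78.AlgSpFibre.repAll_of_isAlgSpace hY) hX.atlas hY.atlas hft.1
  have hp_qc : AlgSp.IsQuasiCompactMor (pullback.snd f.hom b) :=
    Groth.Agent.Lib.Helper30.isQuasiCompactMor_snd_of_isPullback sq hft.2
  have hp_qs : AlgSp.IsQuasiSeparatedMor (pullback.snd f.hom b) :=
    MorphismProperty.of_isPullback
      (P := (AlgSp.RepWith (S := S) @QuasiCompact).diagonal) sq hqs
  have hZqc : AlgSp.IsQuasiCompactSp (pullback f.hom b) :=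
    hft.2 hyV (Groth.Agent.Lib.Helper30.isQuasiCompactSp_yon_obj V) b _ _ sq
  obtain ⟨A, a, hAaff, hae, has⟩ := (isQuasiCompactSp_iff_exists_affine_chart hZ).1 hZqc
  haveI : IsAffine A.left := hAaff
  obtain ⟨gA, hgA⟩ := (AlgSp.yon S).map_surjective (a ≫ pullback.snd f.hom b)
  have hcommA : a ≫ pullback.snd f.hom b = (AlgSp.yon S).map gA ≫ 𝟙 _ := by
    rw [Category.comp_id, hgA]
  haveI : LocallyOfFiniteType gA.left :=
    hp_lft a (𝟙 _) gA hae (AlgSp.repWith_id _ _) hcommA
  -- the fibre of `A ⟶ V` over `v` is finite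
  have hfibA : (gA.left ⁻¹' {v}).Finite := by
    apply finite_preimage_of_quasiFiniteAt
    intro u hu
    apply quasiFiniteAt_of_near
    have hx : Points.map f.hom (Points.map (pullback.fst f.hom b) (Points.ofPt a u)) =
        Points.ofPt b v := by
      rw [← Points.map_comp, sq.w, Points.map_comp, Points.map_ofPt, ← hgA, Points.map_ofPt,
        ofPt_yon_map_comp, hu]
    have h1 : HasAtMor (Near (@LocallyQuasiFinite ⊓ @LocallyOfFiniteType))
        (pullback.snd f.hom b) (Points.ofPt a u) := by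
      obtain ⟨G'⟩ := exists_goodChart f.hom (𝟙 Y.obj) hX hY hY
      exact hasAtMor_of_baseChange (etLocalPt_near hE) G'
        (fun mU k'' mV sq' u'' h => near_of_isPullback sq' u'' h) hyV b
        (pullback.snd f.hom b) (𝟙 _) (pullback.fst f.hom b) b (IsPullback.id_vert b) sq _
        (hqf _ hx)
    exact (hasAtMor_iff_of_chart (etLocalPt_near hE) (pullback.snd f.hom b) a (𝟙 _) gA hae
      (AlgSp.repWith_id _ _) hcommA u).1 h1
  obtain ⟨V₁, -, hvV₁, hfin₁⟩ :=
    (Groth.Agent.Lib.Helper61.GenFin.finite_fiber_iff_exists_isFinite gA.left v hv).1 hfibA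
  -- the relation
  obtain ⟨R, s, t, sqR⟩ : ∃ (R : Over S) (s t : R ⟶ A),
      IsPullback ((AlgSp.yon S).map s) ((AlgSp.yon S).map t) a a :=
    ⟨_, _, _, hae.1.isPullback' a⟩
  haveI htet : Etale t.left := hae.2 a _ _ sqR
  have hqc_a : AlgSp.IsQuasiCompactMor a := by
    apply Groth.Agent.Lib.Helper30.isQuasiCompactMor_of_comp_of_isQuasiSeparatedMor
      (AlgSp.IsAlgSpace.yon_obj A) hZ hyV a (pullback.snd f.hom b) ?_ hp_qs
    rw [← hgA]
    exact Groth.Agent.Lib.Helper30.isQuasiCompactMor_of_repWith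
      ((AlgSp.repWith_yon_map_iff @QuasiCompact _).2 inferInstance)
  haveI htqc : QuasiCompact t.left :=
    Groth.Agent.Lib.Helper30.quasiCompact_of_isQuasiCompactMor hqc_a a _ t sqR
  have hst : s.left ≫ gA.left = t.left ≫ gA.left := by
    have h1 : (AlgSp.yon S).map (s ≫ gA) = (AlgSp.yon S).map (t ≫ gA) := by
      rw [Functor.map_comp, Functor.map_comp, hgA, ← Category.assoc, ← Category.assoc, sqR.w]
    have h2 := (AlgSp.yon S).map_injective h1
    exact congrArg (fun φ => φ.left) h2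
  haveI hjmono := mono_lift_of_isPullback a s t sqR gA.left hst
  haveI hFqs : QuasiSeparated (t.left ≫ gA.left) := by
    have e : t.left ≫ gA.left =
        pullback.lift s.left t.left hst ≫ pullback.snd gA.left gA.left ≫ gA.left := by
      rw [pullback.lift_snd_assoc]
    rw [e]
    infer_instance
  have hfibR : ((t.left ≫ gA.left) ⁻¹' {v}).Finite := by
    have e : (t.left ≫ gA.left) ⁻¹' {v} = t.left ⁻¹' (gA.left ⁻¹' {v}) := by
      ext r
      simp only [Set.mem_preimage, Set.mem_singleton_iff, Scheme.Hom.comp_apply]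
    rw [e]
    exact Set.Finite.preimage' hfibA (fun u _ => t.left.finite_preimage_singleton u)
  obtain ⟨V₂, -, hvV₂, hfin₂⟩ :=
    (Groth.Agent.Lib.Helper61.GenFin.finite_fiber_iff_exists_isFinite (t.left ≫ gA.left) v hv).1 hfibR
  refine ⟨V₁ ⊓ V₂, ⟨hvV₁, hvV₂⟩, fun Z' m p' sqZ => ?_⟩
  exact isFiniteMor_of_chart_finite hZ (pullback.snd f.hom b) hp_lft hp_qc a hae has gA hgA.symm
    s t sqR (V₁ ⊓ V₂) (isFinite_restrict_of_le _ inf_le_left hfin₁)
    (isFinite_restrict_of_le _ inf_le_right hfin₂) m p' sqZ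

end SpaceLevel

end Groth.Agent.Lib.Helper30.GenFin
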