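import Mathlib.AlgebraicGeometry.Gluing
import Mathlib.AlgebraicGeometry.Sites.Fpqc
import Mathlib.CategoryTheory.Sites.LocallyBijective
import Mathlib.CategoryTheory.Limits.Constructions.Over.Connected
import Groth.Prelude.Def_AlgSp
import Groth.Agent.Lib.Helper40.AlgSpBasic

/-!
# Local representability for fppf sheaves over `S` (helper30)

Port of Mathlib's `AlgebraicGeometry.Scheme.LocalRepresentability` to `AlgSp.Sp S`: a sheaf `F`
which is covered by representable open subfunctors `j i : h_{U i} ⟶ F` is representable.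
-/

set_option autoImplicit false
set_option linter.unusedSectionVars false
universe u
set_option maxHeartbeats 400000
set_option backward.isDefEq.respectTransparency false

open CategoryTheory CategoryTheory.Limits AlgebraicGeometry MorphismProperty AlgSp Opposite
open Functor.relativelyRepresentable

namespace Groth.Agent.Lib.Helper30.Glue

variable {S : Scheme.{u}} {F : AlgSp.Sp S} {ι : Type u} {U : ι → Over S}
  {j : ∀ i, (AlgSp.yon S).obj (U i) ⟶ F} (hj : ∀ i, AlgSp.RepWith @IsOpenImmersion (j i))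

include hj in
theorem mono_j (i : ι) : Mono (j i) :=
  Groth.Agent.Lib.Helper40.AlgSpBasic.mono_of_repWith IsOpenImmersion.le_monomorphisms _ (hj i)

theorem isOpenImmersion_fst' (i k : ι) :
    IsOpenImmersion ((hj i).rep.fst' (j k)).left :=
  (hj k).property _ _ _ ((hj i).rep.isPullback' (j k)).flip

theorem fst'_self_eq_snd (i : ι) : (hj i).rep.fst' (j i) = (hj i).rep.snd (j i) := by
  have := mono_j hj i
  apply (AlgSp.yon S).map_injective
  rw [← cancel_mono (j i), ((hj i).rep.isPullback' (j i)).w]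

theorem isIso_fst'_self (i : ι) : IsIso ((hj i).rep.fst' (j i)) := by
  have := mono_j hj i
  have := ((hj i).rep.isPullback' (j i)).isIso_fst_of_mono
  exact isIso_of_fully_faithful (AlgSp.yon S) _

/-- The glue data in `Over S`. -/
noncomputable def glueData₀ : CategoryTheory.GlueData (Over S) where
  J := ι
  U := U
  V := fun (i, k) ↦ (hj i).rep.pullback (j k)
  f i k := (hj i).rep.fst' (j k)
  f_mono i k := by
    have := isOpenImmersion_fst' hj i k
    exact Over.mono_of_mono_left _
  f_id i := isIso_fst'_self hj i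
  t i k := (hj i).rep.symmetry (hj k).rep
  t_id i := by
    apply (hj i).rep.hom_ext' <;> simp [fst'_self_eq_snd hj i]
  t' i k l := lift₃ _ _ _ (pullback₃.p₂ _ _ _) (pullback₃.p₃ _ _ _) (pullback₃.p₁ _ _ _)
    (by simp) (by simp)
  t_fac i k l := (hj k).rep.hom_ext' (by simp) (by simp)
  cocycle i k l := pullback₃.hom_ext (by simp) (by simp) (by simp)


/-- The glue data of schemes. -/
noncomputable def glueData : Scheme.GlueData where
  toGlueData := (glueData₀ hj).mapGlueData (Over.forget S)
  f_open i k := isOpenImmersion_fst' hj i k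

/-- The structure morphism of the glued scheme. -/
noncomputable def gluedHom : (glueData hj).glued ⟶ S :=
  Multicoequalizer.desc (glueData hj).diagram S (fun i => (U i).hom) (by
    rintro ⟨i, k⟩
    show ((hj i).rep.fst' (j k)).left ≫ (U i).hom =
      (((hj i).rep.symmetry (hj k).rep).left ≫ ((hj k).rep.fst' (j i)).left) ≫ (U k).hom
    rw [Category.assoc, CategoryTheory.Over.w, CategoryTheory.Over.w, CategoryTheory.Over.w])

/-- The glued scheme over `S`. -/
noncomputable def glued : Over S := Over.mk (gluedHom hj)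

theorem ι_gluedHom (i : ι) : (glueData hj).ι i ≫ gluedHom hj = (U i).hom :=
  Multicoequalizer.π_desc _ _ _ _ _

/-- The inclusions `U i ⟶ glued` over `S`. -/
noncomputable def toGlued (i : ι) : U i ⟶ glued hj :=
  Over.homMk ((glueData hj).ι i) (ι_gluedHom hj i)

instance (i : ι) : IsOpenImmersion (toGlued hj i).left :=
  inferInstanceAs (IsOpenImmersion ((glueData hj).ι i))

theorem glue_condition (i k : ι) :
    (hj i).rep.symmetry (hj k).rep ≫ (hj k).rep.fst' (j i) ≫ toGlued hj k =
      (hj i).rep.fst' (j k) ≫ toGlued hj i := by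
  apply Over.OverMorphism.ext
  exact (glueData hj).glue_condition i k


/-- The `U i` cover the glued scheme for the fppf topology over `S`. -/
theorem ofArrows_toGlued_mem : Sieve.ofArrows U (toGlued hj) ∈ (AlgSp.J S) (glued hj) := by
  rw [AlgSp.J_eq, GrothendieckTopology.mem_over_iff, Sieve.overEquiv_ofArrows]
  refine Precoverage.generate_mem_toGrothendieck
    (Scheme.zariskiPrecoverage_le_fppfPrecoverage _ ?_)
  rw [Scheme.zariskiPrecoverage, Scheme.ofArrows_mem_precoverage_iff]
  refine ⟨fun x => ?_, fun i => inferInstance⟩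
  obtain ⟨i, y, hy⟩ := (glueData hj).ι_jointly_surjective x
  exact ⟨i, y, hy⟩

/-- Two morphisms to `U i`, `U k` that agree in the glued scheme come from a morphism to the
overlap. -/
theorem exists_lift_overlap {Z : Over S} {i k : ι} (gi : Z ⟶ U i) (gk : Z ⟶ U k)
    (h : gi ≫ toGlued hj i = gk ≫ toGlued hj k) :
    ∃ φ : Z ⟶ (hj i).rep.pullback (j k),
      φ ≫ (hj i).rep.fst' (j k) = gi ∧ φ ≫ (hj i).rep.snd (j k) = gk := by
  have h' : gi.left ≫ (glueData hj).ι i = gk.left ≫ (glueData hj).ι k :=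
    congrArg CommaMorphism.left h
  obtain ⟨φ, h₁, h₂⟩ := PullbackCone.IsLimit.lift' ((glueData hj).vPullbackConeIsLimit i k)
    gi.left gk.left h'
  have h₁' : φ ≫ ((hj i).rep.fst' (j k)).left = gi.left := h₁
  have h₂' : φ ≫ ((hj i).rep.symmetry (hj k).rep).left ≫ ((hj k).rep.fst' (j i)).left = gk.left :=
    h₂
  refine ⟨Over.homMk φ ?_, ?_, ?_⟩
  · rw [← CategoryTheory.Over.w ((hj i).rep.fst' (j k)), ← Category.assoc, h₁',
      CategoryTheory.Over.w]
  · apply Over.OverMorphism.ext
    exact h₁'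
  · apply Over.OverMorphism.ext
    rw [← (hj i).rep.symmetry_fst (hj k).rep]
    exact h₂'

/-- The sections `j i` of `F` over `U i` are compatible. -/
theorem compatible_sections :
    Presieve.Arrows.Compatible F.obj (toGlued hj) (fun i => (AlgSp.J S).uliftYonedaEquiv (j i)) := by
  intro i k Z gi gk h
  obtain ⟨φ, rfl, rfl⟩ := exists_lift_overlap hj gi gk h
  rw [GrothendieckTopology.uliftYonedaEquiv_naturality,
    GrothendieckTopology.uliftYonedaEquiv_naturality, Functor.map_comp, Functor.map_comp,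
    Category.assoc, Category.assoc, ((hj i).rep.isPullback' (j k)).w]

/-- The glued section of `F` over the glued scheme. -/
theorem exists_glued_section :
    ∃ ξ : F.obj.obj (op (glued hj)), ∀ i, F.obj.map (toGlued hj i).op ξ =
      (AlgSp.J S).uliftYonedaEquiv (j i) := by
  have hF : Presieve.IsSheaf (AlgSp.J S) F.obj := (isSheaf_iff_isSheaf_of_type _ _).1 F.property
  have h1 := hF _ (ofArrows_toGlued_mem hj)
  have h2 : (Presieve.ofArrows U (toGlued hj)).IsSheafFor F.obj :=
    (Presieve.isSheafFor_iff_generate _).2 h1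
  obtain ⟨ξ, hξ, -⟩ := (Presieve.isSheafFor_arrows_iff _ _).1 h2 _ (compatible_sections hj)
  exact ⟨ξ, hξ⟩

/-- The comparison map `h_glued ⟶ F`. -/
noncomputable def gluedToSheaf : (AlgSp.yon S).obj (glued hj) ⟶ F :=
  (AlgSp.J S).uliftYonedaEquiv.symm (exists_glued_section hj).choose

theorem toGlued_gluedToSheaf (i : ι) :
    (AlgSp.yon S).map (toGlued hj i) ≫ gluedToSheaf hj = j i := by
  rw [gluedToSheaf, GrothendieckTopology.uliftYonedaEquiv_symm_naturality_left,
    (exists_glued_section hj).choose_spec i, Equiv.symm_apply_apply]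


theorem app_mk {W V : Over S} (φ : (AlgSp.yon S).obj W ⟶ F) (m : V ⟶ W) :
    φ.hom.app (op V) ⟨m⟩ = (AlgSp.J S).uliftYonedaEquiv ((AlgSp.yon S).map m ≫ φ) := by
  rw [GrothendieckTopology.uliftYonedaEquiv_comp,
    GrothendieckTopology.uliftYonedaEquiv_uliftYoneda_map]

theorem comp_toGlued_eq {Z : Over S} {i k : ι} (a : Z ⟶ U i) (b : Z ⟶ U k)
    (h : (AlgSp.yon S).map a ≫ j i = (AlgSp.yon S).map b ≫ j k) :
    a ≫ toGlued hj i = b ≫ toGlued hj k := by
  rw [← (hj i).rep.lift'_fst a b h, Category.assoc]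
  conv_rhs => rw [← (hj i).rep.lift'_snd a b h, Category.assoc]
  congr 1
  rw [← glue_condition hj i k, ← Category.assoc, (hj i).rep.symmetry_fst (hj k).rep]

instance isLocallyInjective_gluedToSheaf : Sheaf.IsLocallyInjective (gluedToSheaf hj) where
  equalizerSieve_mem := by
    rintro ⟨Z⟩ ⟨α⟩ ⟨β⟩ h
    have mem := ofArrows_toGlued_mem hj
    refine GrothendieckTopology.superset_covering _ ?_
      ((AlgSp.J S).intersection_covering ((AlgSp.J S).pullback_stable α mem)
        ((AlgSp.J S).pullback_stable β mem))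
    rintro V (γ : V ⟶ Z) ⟨⟨W₁, a, _, ⟨i⟩, fac₁⟩, ⟨W₂, b, _, ⟨k⟩, fac₂⟩⟩
    show (⟨γ ≫ α⟩ : ULift (V ⟶ glued hj)) = ⟨γ ≫ β⟩
    have h1 : (gluedToSheaf hj).hom.app (op Z) ⟨α⟩ = (gluedToSheaf hj).hom.app (op Z) ⟨β⟩ := h
    rw [app_mk, app_mk] at h1
    have h2 : (AlgSp.yon S).map α ≫ gluedToSheaf hj = (AlgSp.yon S).map β ≫ gluedToSheaf hj :=
      (AlgSp.J S).uliftYonedaEquiv.injective h1
    have h3 : (AlgSp.yon S).map a ≫ j i = (AlgSp.yon S).map b ≫ j k := by
      rw [← toGlued_gluedToSheaf hj i, ← toGlued_gluedToSheaf hj k, ← Category.assoc,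
        ← Category.assoc, ← Functor.map_comp, ← Functor.map_comp, fac₁, fac₂, Functor.map_comp,
        Functor.map_comp, Category.assoc, Category.assoc, h2]
    have h4 := comp_toGlued_eq hj a b h3
    rw [fac₁, fac₂] at h4
    rw [h4]

/-- The family `j` is jointly locally surjective: every section of `F` lifts, locally for the fppf
topology, to some `U i`. -/
def JointlySurj (j : ∀ i, (AlgSp.yon S).obj (U i) ⟶ F) : Prop :=
  ∀ (T : Over S) (ξ : (AlgSp.yon S).obj T ⟶ F), ∃ R : Sieve T, R ∈ (AlgSp.J S) T ∧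
    ∀ ⦃V : Over S⦄ (g : V ⟶ T), R g → ∃ (i : ι) (l : V ⟶ U i),
      (AlgSp.yon S).map l ≫ j i = (AlgSp.yon S).map g ≫ ξ

theorem isLocallySurjective_gluedToSheaf (hs : JointlySurj j) :
    Sheaf.IsLocallySurjective (gluedToSheaf hj) where
  imageSieve_mem := by
    intro T s
    obtain ⟨R, hR, hl⟩ := hs T ((AlgSp.J S).uliftYonedaEquiv.symm s)
    refine GrothendieckTopology.superset_covering _ ?_ hR
    intro V g hg
    obtain ⟨i, l, hil⟩ := hl g hg
    refine ⟨⟨l ≫ toGlued hj i⟩, ?_⟩
    show (gluedToSheaf hj).hom.app (op V) ⟨l ≫ toGlued hj i⟩ = F.obj.map g.op s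
    rw [app_mk, Functor.map_comp, Category.assoc, toGlued_gluedToSheaf, hil,
      ← GrothendieckTopology.uliftYonedaEquiv_naturality, Equiv.apply_symm_apply]

theorem isIso_gluedToSheaf (hs : JointlySurj j) : IsIso (gluedToSheaf hj) := by
  have := isLocallySurjective_gluedToSheaf hj hs
  rw [← Sheaf.isLocallyBijective_iff_isIso (gluedToSheaf hj)]
  constructor <;> infer_instance

include hj in
/-- **Local representability.** A sheaf covered by representable open subfunctors is
representable. -/
theorem exists_iso_of_open_cover (hs : JointlySurj j) :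
    ∃ (W : Over S) (e : (AlgSp.yon S).obj W ≅ F) (w : ∀ i, U i ⟶ W),
      (∀ i, IsOpenImmersion (w i).left) ∧ (∀ i, (AlgSp.yon S).map (w i) ≫ e.hom = j i) ∧
      ∀ x : ↥W.left, ∃ i, x ∈ Set.range (w i).left := by
  have := isIso_gluedToSheaf hj hs
  refine ⟨glued hj, asIso (gluedToSheaf hj), toGlued hj, fun i => inferInstance,
    fun i => toGlued_gluedToSheaf hj i, fun x => ?_⟩
  obtain ⟨i, y, hy⟩ := (glueData hj).ι_jointly_surjective x
  exact ⟨i, y, hy⟩

end Groth.Agent.Lib.Helper30.Glue
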