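import Groth.Agent.Lib.Helper30.AlgSpOpenImm
import Groth.Agent.Lib.Helper78.AlgSpBasic
import Mathlib.AlgebraicGeometry.Morphisms.FormallyUnramified

/-!
# Unramified morphisms of algebraic spaces and the diagonal (helper30)

* `isEtaleMor_of_repWith_etale`
* `exists_diagonal_chart` : the chart diagram of the diagonal attached to a chart diagram of `f`.
* `repWith_isOpenImmersion_diagonal_of_locP_unramified` : unramified ⇒ diagonal is an open immersion.
* `locP_formallyUnramified_of_repWith_isOpenImmersion_diagonal` : the converse (on every chart diagram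
  the top arrow is formally unramified).
-/

set_option autoImplicit false
set_option linter.unusedSectionVars false
universe u
set_option maxHeartbeats 400000

set_option backward.isDefEq.respectTransparency false

open CategoryTheory CategoryTheory.Limits AlgebraicGeometry MorphismProperty AlgSp
open Groth.Agent.Lib.Helper51 Groth.Agent.Lib.Helper52

namespace Groth.Agent.Lib.Helper30

variable {S : Scheme.{u}}

theorem isEtaleMor_of_repWith_etale {X Y : AlgSp.Sp S} {f : X ⟶ Y}
    (hf : AlgSp.RepWith @Etale f) : AlgSp.IsEtaleMor f :=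
  fun _ _ hφ => (AlgSp.RepWith @Etale).comp_mem _ _ hφ hf

theorem repWith_etale_of_repWith_isOpenImmersion {X Y : AlgSp.Sp S} {f : X ⟶ Y}
    (hf : AlgSp.RepWith @IsOpenImmersion f) : AlgSp.RepWith @Etale f := by
  refine MorphismProperty.relative_monotone ?_ _ hf
  intro A B k hk
  have : IsOpenImmersion k.left := hk
  show Etale k.left
  infer_instance

/-- The diagonal of a composite `g = a ≫ f` is an open immersion when those of `a` and `f` are. -/
theorem repWith_isOpenImmersion_diagonal_comp {A X Y : AlgSp.Sp S} (a : A ⟶ X) (f : X ⟶ Y)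
    (g : A ⟶ Y) (hg : g = a ≫ f)
    (ha : AlgSp.RepWith @IsOpenImmersion (pullback.diagonal a))
    (hf : AlgSp.RepWith @IsOpenImmersion (pullback.diagonal f)) :
    AlgSp.RepWith @IsOpenImmersion (pullback.diagonal g) := by
  subst hg
  exact (AlgSp.RepWith (S := S) @IsOpenImmersion).diagonal.comp_mem a f ha hf

/-- The chart of the diagonal attached to a chart diagram `a ≫ f = h_h ≫ b` of `f`: a scheme
`Z = U ×_V U`, the diagonal `k : U ⟶ Z` and an open immersion, monomorphism
`m : h_Z ⟶ h_U ×_Y h_U` with `h_k ≫ m` the diagonal of `h_U ⟶ Y`. -/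
theorem exists_diagonal_chart {Y : AlgSp.Sp S} (hY : AlgSp.IsAlgSpace Y) {U V : Over S}
    (b : (AlgSp.yon S).obj V ⟶ Y) (hb : AlgSp.RepWith @Etale b) (h : U ⟶ V) :
    ∃ (Z : Over S) (k : U ⟶ Z)
      (m : (AlgSp.yon S).obj Z ⟶ pullback ((AlgSp.yon S).map h ≫ b) ((AlgSp.yon S).map h ≫ b)),
      AlgSp.RepWith @IsOpenImmersion m ∧ Mono m ∧
      (AlgSp.yon S).map k ≫ m = pullback.diagonal ((AlgSp.yon S).map h ≫ b) ∧
      (IsOpenImmersion k.left ↔ IsOpenImmersion (pullback.diagonal h.left)) := by
  obtain ⟨Z, p1, p2, sqZ, sqZ'⟩ := isPullback_over' h h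
  have sqY := sqZ.map (AlgSp.yon S)
  let k : U ⟶ Z := sqZ.lift (𝟙 U) (𝟙 U) rfl
  have hk1 : k ≫ p1 = 𝟙 U := sqZ.lift_fst _ _ _
  have hk2 : k ≫ p2 = 𝟙 U := sqZ.lift_snd _ _ _
  have hΔb : AlgSp.RepWith @IsOpenImmersion (pullback.diagonal b) :=
    repWith_isOpenImmersion_diagonal_of_isEtaleMor (AlgSp.IsAlgSpace.yon_obj V) hY b
      (isEtaleMor_of_repWith_etale hb)
  have sqD := pullback_map_diagonal_isPullback ((AlgSp.yon S).map h) ((AlgSp.yon S).map h) b
  have hm1 : AlgSp.RepWith @IsOpenImmersion
      (pullback.map ((AlgSp.yon S).map h) ((AlgSp.yon S).map h) ((AlgSp.yon S).map h ≫ b)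
        ((AlgSp.yon S).map h ≫ b) (𝟙 _) (𝟙 _) b (Category.id_comp _).symm
        (Category.id_comp _).symm) :=
    MorphismProperty.of_isPullback sqD hΔb
  have hm2 : Mono (pullback.map ((AlgSp.yon S).map h) ((AlgSp.yon S).map h)
      ((AlgSp.yon S).map h ≫ b) ((AlgSp.yon S).map h ≫ b) (𝟙 _) (𝟙 _) b
      (Category.id_comp _).symm (Category.id_comp _).symm) := sqD.mono_snd_of_mono
  refine ⟨Z, k, sqY.isoPullback.hom ≫ pullback.map ((AlgSp.yon S).map h) ((AlgSp.yon S).map h)
      ((AlgSp.yon S).map h ≫ b) ((AlgSp.yon S).map h ≫ b) (𝟙 _) (𝟙 _) b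
      (Category.id_comp _).symm (Category.id_comp _).symm, ?_, ?_, ?_, ?_⟩
  · refine (AlgSp.RepWith (S := S) @IsOpenImmersion).comp_mem _ _ ?_ hm1
    exact Groth.Agent.Lib.Helper78.AlgSpBasic.repWith_of_isIso _ _
  · exact mono_comp _ _
  · apply pullback.hom_ext
    · simp only [Category.assoc, pullback.lift_fst, pullback.diagonal_fst, Category.comp_id]
      rw [IsPullback.isoPullback_hom_fst, ← Functor.map_comp, hk1, CategoryTheory.Functor.map_id]
    · simp only [Category.assoc, pullback.lift_snd, pullback.diagonal_snd, Category.comp_id]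
      rw [IsPullback.isoPullback_hom_snd, ← Functor.map_comp, hk2, CategoryTheory.Functor.map_id]
  · have hkl : k.left ≫ sqZ'.isoPullback.hom = pullback.diagonal h.left := by
      apply pullback.hom_ext
      · rw [Category.assoc, IsPullback.isoPullback_hom_fst, pullback.diagonal_fst, ← Over.comp_left,
          hk1, Over.id_left]
      · rw [Category.assoc, IsPullback.isoPullback_hom_snd, pullback.diagonal_snd, ← Over.comp_left,
          hk2, Over.id_left]
    constructor
    · intro hk
      rw [← hkl]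
      infer_instance
    · intro hk
      have : k.left = pullback.diagonal h.left ≫ sqZ'.isoPullback.inv := by
        rw [← hkl, Category.assoc, Iso.hom_inv_id, Category.comp_id]
      rw [this]
      infer_instance

/-- An unramified morphism of algebraic spaces has diagonal an open immersion. -/
theorem repWith_isOpenImmersion_diagonal_of_locP_unramified {X Y : AlgSp.Sp S}
    (hX : AlgSp.IsAlgSpace X) (hY : AlgSp.IsAlgSpace Y) (f : X ⟶ Y)
    (hf : AlgSp.LocP (@LocallyOfFiniteType ⊓ @FormallyUnramified) f) :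
    AlgSp.RepWith @IsOpenImmersion (pullback.diagonal f) := by
  obtain ⟨V, b, hb, hbs⟩ := hY.atlas
  obtain ⟨U₀, a₀, ha₀, ha₀s⟩ := hX.atlas
  obtain ⟨U, j, h, sq, hae, has⟩ :=
    Groth.Agent.Lib.Helper78.AlgSpBasic.exists_chart_diagram f a₀ ha₀ b hb
  have has' := has ha₀s hbs
  have comm : ((AlgSp.yon S).map j ≫ a₀) ≫ f = (AlgSp.yon S).map h ≫ b := by
    rw [Category.assoc]; exact sq.w.symm
  have hh := hf _ b h hae hb comm
  obtain ⟨Z, k, m, hm, hmm, hkm, hiff⟩ := exists_diagonal_chart hY b hb h
  have h1 : LocallyOfFiniteType h.left := hh.1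
  have h2 : FormallyUnramified h.left := hh.2
  have hk : IsOpenImmersion k.left := hiff.2 inferInstance
  have hP : AlgSp.IsAlgSpace (pullback f f) :=
    isAlgSpace_of_isPullback hY.diag hX hX (IsPullback.of_hasPullback f f)
  have hpm : AlgSp.RepWith @Etale (pullback.map ((AlgSp.yon S).map h ≫ b)
      ((AlgSp.yon S).map h ≫ b) f f ((AlgSp.yon S).map j ≫ a₀) ((AlgSp.yon S).map j ≫ a₀) (𝟙 Y)
      ((Category.comp_id _).trans comm.symm) ((Category.comp_id _).trans comm.symm)) :=
    MorphismProperty.pullbackMap hae hae comm.symm comm.symm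
  have hEt : AlgSp.IsEtaleMor (pullback.diagonal f) := by
    refine isEtaleMor_of_chart_square hP (pullback.diagonal f) ((AlgSp.yon S).map j ≫ a₀) hae has'
      (m ≫ pullback.map ((AlgSp.yon S).map h ≫ b)
      ((AlgSp.yon S).map h ≫ b) f f ((AlgSp.yon S).map j ≫ a₀) ((AlgSp.yon S).map j ≫ a₀) (𝟙 Y)
      ((Category.comp_id _).trans comm.symm) ((Category.comp_id _).trans comm.symm)) ?_ k
      (inferInstanceAs (Etale k.left)) ?_
    · exact (AlgSp.RepWith (S := S) @Etale).comp_mem _ _
        (repWith_etale_of_repWith_isOpenImmersion hm) hpm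
    · rw [← Category.assoc, hkm]
      apply pullback.hom_ext <;> simp
  exact repWith_isOpenImmersion_of_isEtaleMor_mono hX hP (pullback.diagonal f) hEt

/-- If the diagonal of a morphism of algebraic spaces is an open immersion then the top arrow of
every chart diagram is formally unramified. -/
theorem formallyUnramified_of_repWith_isOpenImmersion_diagonal {X Y : AlgSp.Sp S}
    (hX : AlgSp.IsAlgSpace X) (hY : AlgSp.IsAlgSpace Y) (f : X ⟶ Y)
    (hΔ : AlgSp.RepWith @IsOpenImmersion (pullback.diagonal f)) {U V : Over S}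
    (a : (AlgSp.yon S).obj U ⟶ X) (b : (AlgSp.yon S).obj V ⟶ Y) (h : U ⟶ V)
    (ha : AlgSp.RepWith @Etale a) (hb : AlgSp.RepWith @Etale b)
    (comm : a ≫ f = (AlgSp.yon S).map h ≫ b) : FormallyUnramified h.left := by
  obtain ⟨Z, k, m, hm, hmm, hkm, hiff⟩ := exists_diagonal_chart hY b hb h
  have hΔa := repWith_isOpenImmersion_diagonal_of_isEtaleMor (AlgSp.IsAlgSpace.yon_obj U) hX a
    (isEtaleMor_of_repWith_etale ha)
  have hΔg := repWith_isOpenImmersion_diagonal_comp a f _ comm.symm hΔa hΔ
  have hk : AlgSp.RepWith @IsOpenImmersion ((AlgSp.yon S).map k) := by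
    refine MorphismProperty.of_postcomp (W := AlgSp.RepWith (S := S) @IsOpenImmersion)
      (W' := MorphismProperty.monomorphisms _) _ m hmm ?_
    rw [hkm]
    exact hΔg
  have h1 : IsOpenImmersion k.left := (AlgSp.repWith_yon_map_iff _ k).1 hk
  have h2 : IsOpenImmersion (pullback.diagonal h.left) := hiff.1 h1
  infer_instance

end Groth.Agent.Lib.Helper30
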