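import Groth.Agent.Lib.Helper30.AlgSpFibreDiscrete
import Groth.Agent.Lib.Helper30.AlgSpZMT7
import Groth.Agent.Lib.Helper30.AlgSpDesc
import Groth.Agent.Lib.Helper78.DiagCover
import Groth.Agent.Lib.Helper51.AlgSpFamDescent

/-!
# Algebraic spaces locally quasi-finite over a field are (separated) schemes (helper30)
-/

set_option autoImplicit false
set_option maxHeartbeats 1600000
set_option backward.isDefEq.respectTransparency false
set_option linter.unusedSectionVars false
universe u
open CategoryTheory CategoryTheory.Limits AlgebraicGeometry Opposite TopologicalSpace Topology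

namespace Groth.Agent.Lib.Helper30.LqfField

open AlgSp Groth.Agent.Lib.Helper51 Groth.Agent.Lib.Helper52
open Groth.Agent.Lib.Helper78.AlgSpBasic Groth.Agent.Lib.Helper78.AlgSpFibre
open Groth.Agent.Lib.Helper78.DiagCover

variable {S : Scheme.{u}}

/-- A monomorphism of schemes, locally quasi-finite over a locally Artinian base, into a locally
Artinian scheme is a closed immersion. -/
theorem isClosedImmersion_of_mono_of_lqf {R V : Scheme.{u}} (c : R ⟶ V) [Mono c]
    [LocallyQuasiFinite c] [IsLocallyArtinian V] : IsClosedImmersion c := by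
  haveI : QuasiCompact c := by
    refine ⟨fun K _ hK => ?_⟩
    have hKf : K.Finite := hK.finite_of_discrete
    exact (hKf.preimage (c.injective.injOn)).isCompact
  haveI : IsFinite c := IsFinite.of_locallyQuasiFinite c
  exact (IsClosedImmersion.iff_isFinite_and_mono c).2 ⟨inferInstance, inferInstance⟩

/-- An algebraic space locally quasi-finite over a field is separated over it. -/
theorem isSeparatedMor_of_lqf_field {X : AlgSp.Sp S} (hX : AlgSp.IsAlgSpace X) (k : Type u)
    [Field k] (str : Spec (CommRingCat.of k) ⟶ S) (p : X ⟶ (AlgSp.yon S).obj (Over.mk str))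
    (hqf : AlgSp.LocP (@LocallyQuasiFinite ⊓ @LocallyOfFiniteType) p) :
    AlgSp.IsSeparatedMor p := by
  obtain ⟨A, a, hae, has⟩ := hX.atlas
  obtain ⟨h₀, hh₀⟩ := (AlgSp.yon S).map_surjective (a ≫ p)
  have hh₀P := hqf a (𝟙 _) h₀ hae (AlgSp.repWith_id _ _) (by rw [Category.comp_id, hh₀])
  haveI : LocallyQuasiFinite h₀.left := hh₀P.1
  haveI : LocallyOfFiniteType h₀.left := hh₀P.2
  obtain ⟨V, pr₁, pr₂, sqV, sqVl⟩ := Groth.Agent.Lib.Helper30.isPullback_over' h₀ h₀
  have hP : IsPullback ((AlgSp.yon S).map pr₁) ((AlgSp.yon S).map pr₂) (a ≫ p) (a ≫ p) := by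
    rw [← hh₀]; exact sqV.map (AlgSp.yon S)
  have hR := hae.rep.isPullback' a
  have hcw : (AlgSp.yon S).map (hae.rep.fst' a) ≫ a ≫ p =
      (AlgSp.yon S).map (hae.rep.snd a) ≫ a ≫ p := by
    rw [← Category.assoc, hR.w, Category.assoc]
  obtain ⟨c₀, hc₀⟩ := (AlgSp.yon S).map_surjective (hP.lift _ _ hcw)
  have hc₁ : (AlgSp.yon S).map c₀ ≫ (AlgSp.yon S).map pr₁ = (AlgSp.yon S).map (hae.rep.fst' a) := by
    rw [hc₀]; exact hP.lift_fst _ _ _
  have hc₂ : (AlgSp.yon S).map c₀ ≫ (AlgSp.yon S).map pr₂ = (AlgSp.yon S).map (hae.rep.snd a) := by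
    rw [hc₀]; exact hP.lift_snd _ _ _
  have sqΔ := isPullback_diagonal_prodMap p a a hP hR ((AlgSp.yon S).map c₀) hc₁ hc₂
  have hyA := AlgSp.IsAlgSpace.yon_obj A
  have hT := AlgSp.IsAlgSpace.yon_obj (Over.mk str)
  have hpe : AlgSp.IsEtaleMor (prodMap p a a hP) :=
    isEtaleMor_prodMap p a a hP hX hT hyA hyA (AlgSp.isEtaleMor_of_repWith a hae)
      (AlgSp.isEtaleMor_of_repWith a hae)
  have hpe' : AlgSp.RepWith @Etale (prodMap p a a hP) := by
    have := hpe (𝟙 _) (AlgSp.repWith_id _ V)
    rwa [Category.id_comp] at this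
  have hasurj : Function.Surjective (Points.map a) := surjective_map_of_repWith_surjective has
  have hps : AlgSp.RepWith @Surjective (prodMap p a a hP) :=
    repWith_surjective_of_surjective_map hpe'.1
      (fun z => mem_range_prodMap p a a hP z (hasurj _) (hasurj _))
  -- the scheme morphism c₀ is a closed immersion
  haveI hmono : Mono c₀.left := by
    haveI : Mono ((AlgSp.yon S).map c₀) := MorphismProperty.of_isPullback
      (P := MorphismProperty.monomorphisms (AlgSp.Sp S)) sqΔ
      (MorphismProperty.monomorphisms.infer_property (pullback.diagonal p))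
    haveI : Mono c₀ := (AlgSp.yon S).mono_of_mono_map this
    infer_instance
  have e1 : c₀.left ≫ pr₁.left = (hae.rep.fst' a).left := by
    have : c₀ ≫ pr₁ = hae.rep.fst' a := (AlgSp.yon S).map_injective (by rw [Functor.map_comp, hc₁])
    rw [← this]; rfl
  haveI : Etale (hae.rep.fst' a).left := hae.property _ _ _ hR.flip
  haveI : LocallyQuasiFinite (hae.rep.fst' a).left :=
    Groth.Agent.Lib.Helper78.AlgSpLocPLqf.lqf_of_etale _
  haveI : LocallyQuasiFinite pr₁.left :=
    MorphismProperty.of_isPullback (P := @LocallyQuasiFinite) sqVl.flip inferInstance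
  haveI : IsLocallyArtinian (Over.mk str).left :=
    inferInstanceAs (IsLocallyArtinian (Spec (CommRingCat.of k)))
  haveI : IsLocallyArtinian V.left := IsLocallyArtinian.of_locallyQuasiFinite (pr₁.left ≫ h₀.left)
  haveI : LocallyQuasiFinite (c₀.left ≫ pr₁.left) := by rw [e1]; infer_instance
  haveI : LocallyQuasiFinite c₀.left := LocallyQuasiFinite.of_comp c₀.left pr₁.left
  haveI : IsClosedImmersion c₀.left := isClosedImmersion_of_mono_of_lqf c₀.left
  have hUC : AlgSp.IsUnivClosedMor ((AlgSp.yon S).map c₀) :=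
    Groth.Agent.Lib.Helper30.isUnivClosedMor_of_repWith
      ((AlgSp.repWith_yon_map_iff _ _).2 (inferInstance : UniversallyClosed c₀.left))
  have hΔ : AlgSp.IsUnivClosedMor (pullback.diagonal p) :=
    Groth.Agent.Lib.Helper30.isUnivClosedMor_of_etale_cover (pullback.diagonal p) V
      (prodMap p a a hP) hpe' hps _ _ sqΔ hUC
  exact Groth.Agent.Lib.Helper51.KerAt.isSeparatedMor_of_isUnivClosedMor_diagonal hX hT p hΔ

/-- An algebraic space locally quasi-finite over a field is a scheme. -/
theorem exists_iso_yon_of_lqf_field {X : AlgSp.Sp S} (hX : AlgSp.IsAlgSpace X) (k : Type u)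
    [Field k] (str : Spec (CommRingCat.of k) ⟶ S) (p : X ⟶ (AlgSp.yon S).obj (Over.mk str))
    (hqf : AlgSp.LocP (@LocallyQuasiFinite ⊓ @LocallyOfFiniteType) p) :
    ∃ W : Over S, Nonempty ((AlgSp.yon S).obj W ≅ X) :=
  Groth.Agent.Lib.Helper30.ZMT.exists_iso_yon_of_sep_lqf hX p
    (isSeparatedMor_of_lqf_field hX k str p hqf) hqf

/-- the ring of functions of an affine open with exactly one point is local. -/
theorem isLocalRing_of_singleton_affineOpen {X : Scheme.{u}} {V : X.Opens} (hV : IsAffineOpen V)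
    (u : X) (hu : u ∈ V) (hsub : ∀ x ∈ V, x = u) : IsLocalRing Γ(X, V) := by
  let e := hV.isoSpec.hom.homeomorph
  haveI : Subsingleton ↥(V.toScheme) :=
    ⟨fun a b => Subtype.ext ((hsub a.1 a.2).trans (hsub b.1 b.2).symm)⟩
  haveI : Subsingleton (PrimeSpectrum Γ(X, V)) := e.symm.injective.subsingleton
  haveI : Nonempty (PrimeSpectrum Γ(X, V)) := ⟨e ⟨u, hu⟩⟩
  haveI : Nontrivial Γ(X, V) := PrimeSpectrum.nonempty_iff_nontrivial.1 inferInstance
  haveI : Subsingleton (MaximalSpectrum Γ(X, V)) :=
    MaximalSpectrum.toPrimeSpectrum_injective.subsingleton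
  haveI : Nonempty (MaximalSpectrum Γ(X, V)) := by
    obtain ⟨m, hm⟩ := Ideal.exists_maximal Γ(X, V)
    exact ⟨⟨m, hm⟩⟩
  exact IsLocalRing.of_singleton_maximalSpectrum

/-- in a discrete scheme every singleton is an affine open. -/
theorem isAffineOpen_singleton_of_discrete {X : Scheme.{u}} [DiscreteTopology X] (u : X) :
    IsAffineOpen (⟨{u}, isOpen_discrete _⟩ : X.Opens) := by
  obtain ⟨W, hW1, hW2, hW3⟩ := exists_isAffineOpen_mem_and_subset
    (x := u) (U := (⟨{u}, isOpen_discrete _⟩ : X.Opens)) rfl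
  have : W = (⟨{u}, isOpen_discrete _⟩ : X.Opens) := by
    apply TopologicalSpace.Opens.ext
    apply Set.Subset.antisymm hW3
    rintro x (rfl : x = u)
    exact hW2
  rw [← this]; exact hW1

end Groth.Agent.Lib.Helper30.LqfField
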