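import Mathlib
import Groth.Agent.Lib.Helper30.DescentAlg

/-!
# Effective descent of algebras along a flat ring map, in abstract pushout form (helper30)

The same statement as `DescentAlg.bijective_comparison`, but with the tensor products replaced by
arbitrary pushout squares of commutative rings (as they come out of flat base change for global
sections of quasi-compact quasi-separated schemes).
-/

set_option autoImplicit false
set_option maxHeartbeats 800000
set_option backward.isDefEq.respectTransparency false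
set_option linter.style.haveILetI false

universe u

open CategoryTheory CategoryTheory.Limits TensorProduct

namespace Groth.Agent.Lib.Helper30.DescentAlg

theorem exists_descent_of_isPushout {A B C C1 C2 : CommRingCat.{u}} (a : A ⟶ B) (b : B ⟶ C)
    (i1 : C ⟶ C1) (b1 : B ⟶ C1) (h1 : IsPushout (a ≫ b) a i1 b1)
    (i2 : C1 ⟶ C2) (b2 : B ⟶ C2) (h2 : IsPushout ((a ≫ b) ≫ i1) a i2 b2)
    (hflat : a.hom.Flat)
    (δ : C ⟶ C1) (R2 : b ≫ δ = b1)
    (ε : C1 ⟶ C) (hε1 : i1 ≫ ε = 𝟙 C) (hε2 : b1 ≫ ε = b) (R3 : δ ≫ ε = 𝟙 C)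
    (δ2 j2 : C1 ⟶ C2) (hδ2a : i1 ≫ δ2 = δ ≫ i2) (hδ2b : b1 ≫ δ2 = b2)
    (hj2a : i1 ≫ j2 = i1 ≫ i2) (hj2b : b1 ≫ j2 = b2)
    (R4 : δ ≫ δ2 = δ ≫ j2) :
    ∃ (D : CommRingCat.{u}) (d : D ⟶ C) (aD : A ⟶ D), aD ≫ d = a ≫ b ∧ d ≫ δ = d ≫ i1 ∧
      IsPushout aD a d b := by
  letI : Algebra A B := a.hom.toAlgebra
  letI : Algebra B C := b.hom.toAlgebra
  letI : Algebra A C := (a ≫ b).hom.toAlgebra
  haveI : IsScalarTower A B C := IsScalarTower.of_algebraMap_eq' rfl
  haveI : Module.Flat A B := hflat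
  -- identify `C1` with the tensor product
  have hT1 : IsPushout (a ≫ b) a
      (CommRingCat.ofHom (S := C ⊗[A] B) Algebra.TensorProduct.includeLeftRingHom)
      (CommRingCat.ofHom (S := C ⊗[A] B) Algebra.TensorProduct.includeRight.toRingHom) :=
    CommRingCat.isPushout_tensorProduct A C B
  let e1 := hT1.isoIsPushout _ _ h1
  have he1l : ∀ c : C, e1.hom.hom (c ⊗ₜ[A] (1 : B)) = i1.hom c := fun c =>
    congrArg (fun t => t.hom c) (hT1.inl_isoIsPushout_hom _ _ h1)
  have he1r : ∀ y : B, e1.hom.hom ((1 : C) ⊗ₜ[A] y) = b1.hom y := fun y =>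
    congrArg (fun t => t.hom y) (hT1.inr_isoIsPushout_hom _ _ h1)
  have he1il : ∀ c : C, e1.inv.hom (i1.hom c) = c ⊗ₜ[A] (1 : B) := fun c =>
    congrArg (fun t => t.hom c) (hT1.inl_isoIsPushout_inv _ _ h1)
  have he1ir : ∀ y : B, e1.inv.hom (b1.hom y) = (1 : C) ⊗ₜ[A] y := fun y =>
    congrArg (fun t => t.hom y) (hT1.inr_isoIsPushout_inv _ _ h1)
  have he1hi : ∀ z : C1, e1.hom.hom (e1.inv.hom z) = z := fun z =>
    congrArg (fun t => t.hom z) e1.inv_hom_id
  have he1ih : ∀ z : C ⊗[A] B, e1.inv.hom (e1.hom.hom z) = z := fun z =>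
    congrArg (fun t => t.hom z) e1.hom_inv_id
  have hR2 : ∀ y : B, δ.hom (b.hom y) = b1.hom y := fun y => congrArg (fun t => t.hom y) R2
  -- the coaction
  let δ₁ : C →ₐ[A] C ⊗[A] B :=
    { toRingHom := (δ ≫ e1.inv).hom
      commutes' := fun x => by
        change e1.inv.hom (δ.hom (b.hom (a.hom x))) = algebraMap A (C ⊗[A] B) x
        rw [hR2, he1ir, Algebra.TensorProduct.algebraMap_apply]
        change (1 : C) ⊗ₜ[A] (algebraMap A B x) = (algebraMap A C x) ⊗ₜ[A] (1 : B)
        rw [Algebra.algebraMap_eq_smul_one, Algebra.algebraMap_eq_smul_one (A := C),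
          TensorProduct.smul_tmul] }
  have hδ₁ : ∀ c : C, δ₁ c = e1.inv.hom (δ.hom c) := fun c => rfl
  have R2' : ∀ y : B, δ₁ (algebraMap B C y) = 1 ⊗ₜ y := fun y => by
    rw [hδ₁]
    change e1.inv.hom (δ.hom (b.hom y)) = _
    rw [hR2, he1ir]
  -- counit
  have heps : ∀ z : C ⊗[A] B, eps A B C z = ε.hom (e1.hom.hom z) := by
    intro z
    have : (eps A B C).toRingHom = (e1.hom ≫ ε).hom := by
      apply Algebra.TensorProduct.ringHom_ext
      · ext c
        change eps A B C (c ⊗ₜ 1) = ε.hom (e1.hom.hom (c ⊗ₜ[A] (1 : B)))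
        rw [he1l, eps_tmul, map_one, mul_one]
        exact (congrArg (fun t => t.hom c) hε1).symm
      · ext y
        change eps A B C (1 ⊗ₜ y) = ε.hom (e1.hom.hom ((1 : C) ⊗ₜ[A] y))
        rw [he1r, eps_tmul, one_mul]
        exact (congrArg (fun t => t.hom y) hε2).symm
    exact DFunLike.congr_fun this z
  have R3' : ∀ c : C, eps A B C (δ₁ c) = c := fun c => by
    rw [heps, hδ₁, he1hi]
    exact congrArg (fun t => t.hom c) R3
  -- identify `C2` with the iterated tensor product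
  have hT2 : IsPushout (CommRingCat.ofHom (algebraMap A (C ⊗[A] B))) a
      (CommRingCat.ofHom (S := (C ⊗[A] B) ⊗[A] B) Algebra.TensorProduct.includeLeftRingHom)
      (CommRingCat.ofHom (S := (C ⊗[A] B) ⊗[A] B) Algebra.TensorProduct.includeRight.toRingHom) :=
    CommRingCat.isPushout_tensorProduct A (C ⊗[A] B) B
  have hAT : CommRingCat.ofHom (algebraMap A (C ⊗[A] B)) = ((a ≫ b) ≫ i1) ≫ e1.inv := by
    ext x
    change algebraMap A (C ⊗[A] B) x = e1.inv.hom (i1.hom (algebraMap A C x))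
    rw [he1il, Algebra.TensorProduct.algebraMap_apply]
  have h2' : IsPushout (CommRingCat.ofHom (algebraMap A (C ⊗[A] B))) a (e1.hom ≫ i2) b2 := by
    refine IsPushout.of_iso h2 (Iso.refl _) e1.symm (Iso.refl _) (Iso.refl _) ?_ ?_ ?_ ?_
    · rw [hAT]; simp
    · simp
    · simp
    · simp
  let e2 := hT2.isoIsPushout _ _ h2'
  have he2l : ∀ z : C ⊗[A] B, e2.hom.hom (z ⊗ₜ[A] (1 : B)) = i2.hom (e1.hom.hom z) := fun z =>
    congrArg (fun t => t.hom z) (hT2.inl_isoIsPushout_hom _ _ h2')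
  have he2r : ∀ y : B, e2.hom.hom ((1 : C ⊗[A] B) ⊗ₜ[A] y) = b2.hom y := fun y =>
    congrArg (fun t => t.hom y) (hT2.inr_isoIsPushout_hom _ _ h2')
  have he2inj : Function.Injective e2.hom.hom := by
    intro z z' hz
    have := congrArg e2.inv.hom hz
    have hh : ∀ z : (C ⊗[A] B) ⊗[A] B, e2.inv.hom (e2.hom.hom z) = z := fun z =>
      congrArg (fun t => t.hom z) e2.hom_inv_id
    rwa [hh, hh] at this
  have hm1 : ∀ z : C ⊗[A] B, e2.hom.hom (Algebra.TensorProduct.map δ₁ (AlgHom.id A B) z) =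
      δ2.hom (e1.hom.hom z) := by
    intro z
    have : (CommRingCat.ofHom (Algebra.TensorProduct.map δ₁ (AlgHom.id A B)).toRingHom ≫
        e2.hom).hom = (e1.hom ≫ δ2).hom := by
      apply Algebra.TensorProduct.ringHom_ext
      · ext c
        change e2.hom.hom (Algebra.TensorProduct.map δ₁ (AlgHom.id A B) (c ⊗ₜ 1)) =
          δ2.hom (e1.hom.hom (c ⊗ₜ[A] (1 : B)))
        rw [Algebra.TensorProduct.map_tmul, map_one, he2l, hδ₁, he1hi, he1l]
        exact (congrArg (fun t => t.hom c) hδ2a).symm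
      · ext y
        change e2.hom.hom (Algebra.TensorProduct.map δ₁ (AlgHom.id A B) (1 ⊗ₜ y)) =
          δ2.hom (e1.hom.hom ((1 : C) ⊗ₜ[A] y))
        rw [Algebra.TensorProduct.map_tmul, map_one, AlgHom.id_apply, he2r, he1r]
        exact (congrArg (fun t => t.hom y) hδ2b).symm
    exact DFunLike.congr_fun this z
  have hm2 : ∀ z : C ⊗[A] B, e2.hom.hom (Algebra.TensorProduct.map
      (Algebra.TensorProduct.includeLeft : C →ₐ[A] C ⊗[A] B) (AlgHom.id A B) z) =
      j2.hom (e1.hom.hom z) := by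
    intro z
    have : (CommRingCat.ofHom (Algebra.TensorProduct.map
        (Algebra.TensorProduct.includeLeft : C →ₐ[A] C ⊗[A] B) (AlgHom.id A B)).toRingHom ≫
        e2.hom).hom = (e1.hom ≫ j2).hom := by
      apply Algebra.TensorProduct.ringHom_ext
      · ext c
        change e2.hom.hom (Algebra.TensorProduct.map
          (Algebra.TensorProduct.includeLeft : C →ₐ[A] C ⊗[A] B) (AlgHom.id A B) (c ⊗ₜ 1)) =
          j2.hom (e1.hom.hom (c ⊗ₜ[A] (1 : B)))
        rw [Algebra.TensorProduct.map_tmul, map_one, he2l,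
          Algebra.TensorProduct.includeLeft_apply, he1l]
        exact (congrArg (fun t => t.hom c) hj2a).symm
      · ext y
        change e2.hom.hom (Algebra.TensorProduct.map
          (Algebra.TensorProduct.includeLeft : C →ₐ[A] C ⊗[A] B) (AlgHom.id A B) (1 ⊗ₜ y)) =
          j2.hom (e1.hom.hom ((1 : C) ⊗ₜ[A] y))
        rw [Algebra.TensorProduct.map_tmul, map_one, AlgHom.id_apply, he2r, he1r]
        exact (congrArg (fun t => t.hom y) hj2b).symm
    exact DFunLike.congr_fun this z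
  have R4' : ∀ c : C, Algebra.TensorProduct.map δ₁ (AlgHom.id A B) (δ₁ c) =
      Algebra.TensorProduct.map
        (Algebra.TensorProduct.includeLeft : C →ₐ[A] C ⊗[A] B) (AlgHom.id A B) (δ₁ c) := by
    intro c
    apply he2inj
    rw [hm1, hm2, hδ₁, he1hi]
    exact congrArg (fun t => t.hom c) R4
  have hbij := bijective_comparison δ₁ R2' R3' R4'
  let D : Subalgebra A C := desc δ₁
  let cmp : D ⊗[A] B ≃+* C := RingEquiv.ofBijective (comparison δ₁).toRingHom hbij
  refine ⟨CommRingCat.of D, CommRingCat.ofHom D.val.toRingHom,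
    CommRingCat.ofHom (algebraMap A D), ?_, ?_, ?_⟩
  · ext x
    rfl
  · ext x
    change δ.hom (x : C) = i1.hom (x : C)
    have hx : δ₁ (x : C) = (x : C) ⊗ₜ 1 := x.2
    rw [hδ₁] at hx
    have := congrArg e1.hom.hom hx
    rwa [he1hi, he1l] at this
  · refine (CommRingCat.isPushout_tensorProduct A D B).of_iso (Iso.refl _) (Iso.refl _)
      (Iso.refl _) cmp.toCommRingCatIso ?_ ?_ ?_ ?_
    · rfl
    · rfl
    · ext x
      change comparison δ₁ (x ⊗ₜ 1) = (x : C)
      simp
    · ext y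
      change comparison δ₁ (1 ⊗ₜ y) = b.hom y
      simp
      rfl

end Groth.Agent.Lib.Helper30.DescentAlg
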