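import Mathlib
import Groth.Prelude.Def_AlgSp4
import Groth.Agent.Lib.Helper30.DescentAlg2
import Groth.Agent.Lib.Helper30.AlgSpImmDesc

/-!
# Effective descent of quasi-affine schemes over a sheaf along an étale cover of affine schemes
(helper30)
-/

set_option autoImplicit false
set_option linter.style.haveILetI false
set_option maxHeartbeats 800000
set_option backward.isDefEq.respectTransparency false

universe u

open CategoryTheory CategoryTheory.Limits AlgebraicGeometry Opposite TopologicalSpace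

namespace Groth.Agent.Lib.Helper30.QAffDesc

open Groth.Agent.Lib.Helper30 Groth.Agent.Lib.Helper8 Groth.Agent.Lib.Helper30.AffDesc

variable {S : Scheme.{u}}

/-- Global sections of a morphism of `S`-schemes. -/
noncomputable abbrev G {X Y : Over S} (f : X ⟶ Y) : Γ(Y.left, ⊤) ⟶ Γ(X.left, ⊤) := f.left.appTop

theorem G_comp {X Y Z : Over S} (f : X ⟶ Y) (g : Y ⟶ Z) : G (f ≫ g) = G g ≫ G f := by
  unfold G
  rw [Over.comp_left, Scheme.Hom.comp_appTop]

theorem G_id (X : Over S) : G (𝟙 X) = 𝟙 _ := by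
  unfold G
  rw [Over.id_left, Scheme.Hom.id_appTop]

theorem appLE_top {X Y : Scheme.{u}} (f : X ⟶ Y) (e : (⊤ : X.Opens) ≤ f ⁻¹ᵁ ⊤) :
    f.appLE ⊤ ⊤ e = f.appTop := Scheme.Hom.appLE_eq_app f

/-- Flat base change for global sections, in `Over S`. -/
theorem isPushout_G {T V X P : Over S} [IsAffine T.left] [IsAffine V.left] [CompactSpace X.left]
    [QuasiSeparatedSpace X.left] (q : V ⟶ T) [Flat q.left] (x : X ⟶ T) (p1 : P ⟶ X) (p2 : P ⟶ V)
    (sqL : IsPullback p1.left p2.left x.left q.left) :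
    IsPushout (G x) (G q) (G p1) (G p2) := by
  have hiso := isIso_pushoutSection_of_isQuasiSeparated_of_flat_right sqL
    (US := ⊤) (UT := ⊤) (UX := ⊤) (UY := ⊤) (by simp) (by simp) (by simp)
    (isAffineOpen_top T.left) (isAffineOpen_top V.left) isCompact_univ isQuasiSeparated_univ
  have := (isIso_pushoutSection_iff sqL (US := ⊤) (UT := ⊤) (UX := ⊤) (UY := ⊤)
    (by simp) (by simp) (by simp)).1 hiso
  rw [appLE_top, appLE_top, appLE_top, appLE_top] at this
  exact this

section Core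

variable {T V W' : Over S} {q : V ⟶ T} {w : W' ⟶ V} {Q : AlgSp.Sp S}
  {π : Q ⟶ (AlgSp.yon S).obj T} {fst : (AlgSp.yon S).obj W' ⟶ Q}
  (sq : IsPullback fst ((AlgSp.yon S).map w) π ((AlgSp.yon S).map q))

include sq in
theorem hom_ext_of_sq {X : Over S} (x y : X ⟶ W')
    (h1 : (AlgSp.yon S).map x ≫ fst = (AlgSp.yon S).map y ≫ fst)
    (h2 : x ≫ w = y ≫ w) : x = y := by
  apply (AlgSp.yon S).map_injective
  apply sq.hom_ext h1
  rw [← Functor.map_comp, ← Functor.map_comp, h2]

include sq in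
/-- The algebraic part of quasi-affine descent: the ring of invariant global sections. -/
theorem exists_descent_ring [IsAffine T.left] [IsAffine V.left] [W'.left.IsQuasiAffine]
    [Flat q.left] :
    ∃ (W1 : Over S) (pr1 : W1 ⟶ W') (pr2 : W1 ⟶ V) (μ : W1 ⟶ W'),
      IsPullback pr1 pr2 (w ≫ q) q ∧
      (AlgSp.yon S).map μ ≫ fst = (AlgSp.yon S).map pr1 ≫ fst ∧ μ ≫ w = pr2 ∧
      ∃ (D : CommRingCat.{u}) (d : D ⟶ Γ(W'.left, ⊤)) (aD : Γ(T.left, ⊤) ⟶ D),
        aD ≫ d = G q ≫ G w ∧ d ≫ G μ = d ≫ G pr1 ∧ IsPushout aD (G q) d (G w) := by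
  obtain ⟨W1, pr1, pr2, sqW1, sqW1L⟩ := isPullback_over' (w ≫ q) q
  obtain ⟨W2, pr1', pr2', sqW2, sqW2L⟩ := isPullback_over' (pr1 ≫ w ≫ q) q
  -- the action
  have hcond : ((AlgSp.yon S).map pr1 ≫ fst) ≫ π =
      (AlgSp.yon S).map pr2 ≫ (AlgSp.yon S).map q := by
    rw [Category.assoc, sq.w, ← Functor.map_comp, ← Functor.map_comp, ← Functor.map_comp,
      ← sqW1.w]
  let μ : W1 ⟶ W' := (AlgSp.yon S).preimage (sq.lift _ _ hcond)
  have mu_fst : (AlgSp.yon S).map μ ≫ fst = (AlgSp.yon S).map pr1 ≫ fst := by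
    rw [Functor.map_preimage, sq.lift_fst]
  have mu_snd : μ ≫ w = pr2 := by
    apply (AlgSp.yon S).map_injective
    rw [Functor.map_comp, Functor.map_preimage, sq.lift_snd]
  have mu_fst' : ∀ {X : Over S} (x : X ⟶ W1), (AlgSp.yon S).map (x ≫ μ) ≫ fst =
      (AlgSp.yon S).map (x ≫ pr1) ≫ fst := by
    intro X x
    rw [Functor.map_comp, Category.assoc, mu_fst, ← Category.assoc, ← Functor.map_comp]
  -- the unit section
  let σ : W' ⟶ W1 := sqW1.lift (𝟙 W') w (by rw [Category.id_comp])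
  have hσ1 : σ ≫ pr1 = 𝟙 W' := sqW1.lift_fst _ _ _
  have hσ2 : σ ≫ pr2 = w := sqW1.lift_snd _ _ _
  have hσμ : σ ≫ μ = 𝟙 W' := by
    apply hom_ext_of_sq sq
    · rw [mu_fst', hσ1]
    · rw [Category.assoc, mu_snd, hσ2, Category.id_comp]
  -- the two maps for coassociativity
  let m2 : W2 ⟶ W1 := sqW1.lift (pr1' ≫ μ) pr2' (by
    rw [Category.assoc, ← Category.assoc μ, mu_snd, ← sqW2.w, sqW1.w])
  have hm1 : m2 ≫ pr1 = pr1' ≫ μ := sqW1.lift_fst _ _ _
  have hm2 : m2 ≫ pr2 = pr2' := sqW1.lift_snd _ _ _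
  let n2 : W2 ⟶ W1 := sqW1.lift (pr1' ≫ pr1) pr2' (by
    rw [Category.assoc, ← sqW2.w])
  have hn1 : n2 ≫ pr1 = pr1' ≫ pr1 := sqW1.lift_fst _ _ _
  have hn2 : n2 ≫ pr2 = pr2' := sqW1.lift_snd _ _ _
  have hcoass : m2 ≫ μ = n2 ≫ μ := by
    apply hom_ext_of_sq sq
    · rw [mu_fst', mu_fst', hm1, hn1, mu_fst']
    · rw [Category.assoc, Category.assoc, mu_snd, hm2, hn2]
  -- flat base change
  haveI : IsAffineHom q.left := inferInstance
  haveI : IsAffineHom pr1.left := MorphismProperty.of_isPullback (P := @IsAffineHom) sqW1L.flip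
    inferInstance
  haveI : W1.left.IsQuasiAffine := Scheme.IsQuasiAffine.of_isAffineHom pr1.left
  have h1 : IsPushout (G q ≫ G w) (G q) (G pr1) (G pr2) := by
    rw [← G_comp]
    exact isPushout_G q (w ≫ q) pr1 pr2 sqW1L
  have h2 : IsPushout ((G q ≫ G w) ≫ G pr1) (G q) (G pr1') (G pr2') := by
    rw [← G_comp, ← G_comp]
    exact isPushout_G q (pr1 ≫ w ≫ q) pr1' pr2' sqW2L
  have hflat : (G q).hom.Flat := by
    have hf : Flat (Spec.map q.left.appTop) :=
      (prop_SpecMap_appTop @Flat q.left).2 inferInstance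
    rw [HasRingHomProperty.Spec_iff (P := @Flat)] at hf
    exact hf
  obtain ⟨D, d, aD, hD1, hD2, hD3⟩ := DescentAlg.exists_descent_of_isPushout (G q) (G w)
    (G pr1) (G pr2) h1 (G pr1') (G pr2') h2 hflat (G μ) (by rw [← G_comp, mu_snd])
    (G σ) (by rw [← G_comp, hσ1, G_id]) (by rw [← G_comp, hσ2]) (by rw [← G_comp, hσμ, G_id])
    (G m2) (G n2) (by rw [← G_comp, ← G_comp, hm1]) (by rw [← G_comp, hm2])
    (by rw [← G_comp, ← G_comp, hn1]) (by rw [← G_comp, hn2])
    (by rw [← G_comp, ← G_comp, hcoass])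
  exact ⟨W1, pr1, pr2, μ, sqW1, mu_fst, mu_snd, D, d, aD, hD1, hD2, hD3⟩

include sq in
/-- **Effective descent of quasi-affine schemes over a sheaf along an étale cover of affines.** -/
theorem exists_qaff_of_isPullback [IsAffine T.left] [IsAffine V.left] [W'.left.IsQuasiAffine]
    [Etale q.left] [Surjective q.left] :
    ∃ (W : Over S) (i : W ⟶ T) (e : (AlgSp.yon S).obj W ≅ Q), W.left.IsQuasiAffine ∧
      e.hom ≫ π = (AlgSp.yon S).map i := by
  obtain ⟨W1, pr1, pr2, μ, sqW1, mu_fst, mu_snd, D, d, aD, hD1, hD2, hD3⟩ :=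
    exists_descent_ring sq
  -- the affine hull of the descended scheme
  let Wa : Over S := Over.mk (Spec.map aD ≫ T.left.isoSpec.inv ≫ T.hom)
  let tD : Wa ⟶ T := Over.homMk (Spec.map aD ≫ T.left.isoSpec.inv) (by simp [Wa])
  let WC : Over S := Over.mk (Spec.map (G w) ≫ V.left.isoSpec.inv ≫ V.hom)
  let vC : WC ⟶ V := Over.homMk (Spec.map (G w) ≫ V.left.isoSpec.inv) (by simp [WC])
  have hdC : Spec.map d ≫ Wa.hom = WC.hom := by
    change Spec.map d ≫ Spec.map aD ≫ T.left.isoSpec.inv ≫ T.hom =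
      Spec.map (G w) ≫ V.left.isoSpec.inv ≫ V.hom
    rw [← Category.assoc, ← Spec.map_comp, hD1, Spec.map_comp, Category.assoc,
      ← Category.assoc (Spec.map (G q)), Scheme.isoSpec_inv_naturality, Category.assoc, Over.w]
  let dC : WC ⟶ Wa := Over.homMk (Spec.map d) hdC
  have sqCL : IsPullback (Spec.map d) (Spec.map (G w) ≫ V.left.isoSpec.inv)
      (Spec.map aD ≫ T.left.isoSpec.inv) q.left := by
    have h0 := isPullback_SpecMap_of_isPushout _ _ _ _ hD3
    refine IsPullback.of_iso h0 (Iso.refl _) (Iso.refl _) V.left.isoSpec.symm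
      T.left.isoSpec.symm ?_ ?_ ?_ ?_
    · simp
    · simp
    · simp
    · simp only [Iso.symm_hom]
      exact Scheme.isoSpec_inv_naturality q.left
  have sqC : IsPullback dC vC tD q :=
    IsPullback.of_map_of_faithful (Over.forget S) sqCL
  -- the canonical maps from `W'`
  have hj : W'.left.toSpecΓ ≫ WC.hom = W'.hom := by
    change W'.left.toSpecΓ ≫ Spec.map (G w) ≫ V.left.isoSpec.inv ≫ V.hom = W'.hom
    rw [← Category.assoc, ← Scheme.toSpecΓ_naturality, Category.assoc,
      Scheme.toSpecΓ_isoSpec_inv_assoc, Over.w]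
  let j : W' ⟶ WC := Over.homMk W'.left.toSpecΓ hj
  have hjv : j ≫ vC = w := by
    apply Over.OverMorphism.ext
    change W'.left.toSpecΓ ≫ Spec.map (G w) ≫ V.left.isoSpec.inv = w.left
    rw [← Category.assoc, ← Scheme.toSpecΓ_naturality, Category.assoc,
      Scheme.toSpecΓ_isoSpec_inv, Category.comp_id]
  let jD : W' ⟶ Wa := j ≫ dC
  have hjD : jD ≫ tD = w ≫ q := by rw [Category.assoc, sqC.w, ← Category.assoc, hjv]
  have hcoeq0 : μ ≫ jD = pr1 ≫ jD := by
    apply Over.OverMorphism.ext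
    change μ.left ≫ W'.left.toSpecΓ ≫ Spec.map d = pr1.left ≫ W'.left.toSpecΓ ≫ Spec.map d
    rw [← Category.assoc, Scheme.toSpecΓ_naturality, Category.assoc, ← Spec.map_comp,
      ← Category.assoc pr1.left, Scheme.toSpecΓ_naturality, Category.assoc, ← Spec.map_comp]
    congr 2
  -- the quotient map
  haveI : Epi ((AlgSp.yon S).map q) :=
    epi_of_repWith_etale_surjective _ ((AlgSp.repWith_yon_map_iff @Etale q).2 inferInstance)
      ((AlgSp.repWith_yon_map_iff @Surjective q).2 inferInstance)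
  haveI hfst : Epi fst := epi_of_isPullback_of_epi (AlgSp.J S) sq
  have hreg : IsRegularEpi fst := IsRegularEpiCategory.regularEpiOfEpi fst
  have kp : IsKernelPair fst ((AlgSp.yon S).map μ) ((AlgSp.yon S).map pr1) := by
    have houter := (sqW1.map (AlgSp.yon S)).flip
    rw [← mu_snd, Functor.map_comp, Functor.map_comp, ← sq.w] at houter
    exact IsPullback.of_right houter mu_fst sq.flip
  have hcoeq : (AlgSp.yon S).map μ ≫ (AlgSp.yon S).map jD =
      (AlgSp.yon S).map pr1 ≫ (AlgSp.yon S).map jD := by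
    rw [← Functor.map_comp, ← Functor.map_comp, hcoeq0]
  let c : Q ⟶ (AlgSp.yon S).obj Wa :=
    (IsKernelPair.toCoequalizer' kp).desc (Cofork.ofπ _ hcoeq)
  have hc1 : fst ≫ c = (AlgSp.yon S).map jD :=
    Cofork.IsColimit.π_desc (IsKernelPair.toCoequalizer' kp)
  have hc2 : c ≫ (AlgSp.yon S).map tD = π := by
    rw [← cancel_epi fst, ← Category.assoc, hc1, sq.w, ← Functor.map_comp, ← Functor.map_comp,
      hjD]
  have sqc : IsPullback fst ((AlgSp.yon S).map j) c ((AlgSp.yon S).map dC) := by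
    refine IsPullback.of_bot ?_ ?_ (sqC.map (AlgSp.yon S))
    · rw [hc2, ← Functor.map_comp, hjv]
      exact sq
    · rw [hc1, ← Functor.map_comp]
  -- descent of the open immersion
  haveI : Etale dC.left := MorphismProperty.of_isPullback (P := @Etale) sqCL.flip inferInstance
  haveI : Surjective dC.left :=
    MorphismProperty.of_isPullback (P := @Surjective) sqCL.flip inferInstance
  have hopen : AlgSp.RepWith @IsOpenImmersion c :=
    repWith_isOpenImmersion_of_etale_cover c WC ((AlgSp.yon S).map dC)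
      ((AlgSp.repWith_yon_map_iff @Etale dC).2 inferInstance)
      ((AlgSp.repWith_yon_map_iff @Surjective dC).2 inferInstance) fst ((AlgSp.yon S).map j) sqc
      ((AlgSp.repWith_yon_map_iff @IsOpenImmersion j).2
        (inferInstanceAs (IsOpenImmersion W'.left.toSpecΓ)))
  obtain ⟨W, w0, e, he, hw0⟩ := exists_iso_yon_of_repWith @IsOpenImmersion hopen
  haveI : IsOpenImmersion w0.left := hw0
  -- `W` is quasi-compact
  let k : W' ⟶ W := (AlgSp.yon S).preimage (fst ≫ e.inv)
  have hk : (AlgSp.yon S).map k = fst ≫ e.inv := Functor.map_preimage _ _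
  have sqk : IsPullback ((AlgSp.yon S).map k) ((AlgSp.yon S).map j) ((AlgSp.yon S).map w0)
      ((AlgSp.yon S).map dC) := by
    refine IsPullback.of_iso sqc (Iso.refl _) e.symm (Iso.refl _) (Iso.refl _) ?_ ?_ ?_ ?_
    · simp [hk]
    · simp
    · simp only [Iso.symm_hom, Iso.refl_hom, Category.comp_id]
      rw [← he, Iso.inv_hom_id_assoc]
    · simp
  have hkw : k ≫ w0 = j ≫ dC := (AlgSp.yon S).map_injective (by
    rw [Functor.map_comp, Functor.map_comp, sqk.w])
  have sqkO : IsPullback k j w0 dC := IsPullback.of_map (AlgSp.yon S) hkw sqk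
  have sqkL : IsPullback k.left j.left w0.left dC.left := sqkO.map (Over.forget S)
  haveI : Surjective k.left :=
    MorphismProperty.of_isPullback (P := @Surjective) sqkL.flip inferInstance
  haveI : CompactSpace W.left := by
    have hs : Function.Surjective k.left := k.left.surjective
    exact ⟨by rw [← Set.range_eq_univ.2 hs]; exact isCompact_range k.left.continuous⟩
  haveI : IsAffine Wa.left := inferInstanceAs (IsAffine (Spec D))
  have hqa : W.left.IsQuasiAffine := Scheme.IsQuasiAffine.of_isImmersion w0.left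
  refine ⟨W, w0 ≫ tD, e, hqa, ?_⟩
  rw [Functor.map_comp, ← he, Category.assoc, hc2]

end Core

end Groth.Agent.Lib.Helper30.QAffDesc
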