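import Mathlib
import Groth.Prelude.Def_AlgSp4
import Groth.Agent.Lib.Helper30.AlgSpQAffDesc
import Groth.Agent.Lib.Helper30.AlgSpFppfDesc

/-!
# Effective descent of quasi-affine schemes over a sheaf along an fppf cover of affine schemes
(helper30)
-/

set_option autoImplicit false
set_option linter.style.haveILetI false
set_option maxHeartbeats 800000
set_option backward.isDefEq.respectTransparency false

universe u

open CategoryTheory CategoryTheory.Limits AlgebraicGeometry Opposite TopologicalSpace

namespace Groth.Agent.Lib.Helper30.QAffDesc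

open Groth.Agent.Lib.Helper30 Groth.Agent.Lib.Helper8 Groth.Agent.Lib.Helper30.AffDesc

variable {S : Scheme.{u}}

section Core

variable {T V W' : Over S} {q : V ⟶ T} {w : W' ⟶ V} {Q : AlgSp.Sp S}
  {π : Q ⟶ (AlgSp.yon S).obj T} {fst : (AlgSp.yon S).obj W' ⟶ Q}
  (sq : IsPullback fst ((AlgSp.yon S).map w) π ((AlgSp.yon S).map q))

include sq in
/-- **Effective descent of quasi-affine schemes over a sheaf along an fppf cover of affines.** -/
theorem exists_qaff_of_isPullback_fppf [IsAffine T.left] [IsAffine V.left] [W'.left.IsQuasiAffine]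
    [Flat q.left] [LocallyOfFinitePresentation q.left] [Surjective q.left] :
    ∃ (W : Over S) (i : W ⟶ T) (e : (AlgSp.yon S).obj W ≅ Q), W.left.IsQuasiAffine ∧
      e.hom ≫ π = (AlgSp.yon S).map i := by
  obtain ⟨W1, pr1, pr2, μ, sqW1, mu_fst, mu_snd, D, d, aD, hD1, hD2, hD3⟩ :=
    exists_descent_ring sq
  -- the affine hull of the descended scheme
  let Wa : Over S := Over.mk (Spec.map aD ≫ T.left.isoSpec.inv ≫ T.hom)
  let tD : Wa ⟶ T := Over.homMk (Spec.map aD ≫ T.left.isoSpec.inv) (by simp [Wa])
  let WC : Over S := Over.mk (Spec.map (G w) ≫ V.left.isoSpec.inv ≫ V.hom)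
  let vC : WC ⟶ V := Over.homMk (Spec.map (G w) ≫ V.left.isoSpec.inv) (by simp [WC])
  have hdC : Spec.map d ≫ Wa.hom = WC.hom := by
    change Spec.map d ≫ Spec.map aD ≫ T.left.isoSpec.inv ≫ T.hom =
      Spec.map (G w) ≫ V.left.isoSpec.inv ≫ V.hom
    rw [← Category.assoc, ← Spec.map_comp, hD1, Spec.map_comp, Category.assoc,
      ← Category.assoc (Spec.map (G q)), Scheme.isoSpec_inv_naturality, Category.assoc, Over.w]
  let dC : WC ⟶ Wa := Over.homMk (Spec.map d) hdC
  have sqCL : IsPullback (Spec.map d) (Spec.map (G w) ≫ V.left.isoSpec.inv)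
      (Spec.map aD ≫ T.left.isoSpec.inv) q.left := by
    have h0 := isPullback_SpecMap_of_isPushout _ _ _ _ hD3
    refine IsPullback.of_iso h0 (Iso.refl _) (Iso.refl _) V.left.isoSpec.symm
      T.left.isoSpec.symm ?_ ?_ ?_ ?_
    · simp
    · simp
    · simp
    · simp only [Iso.symm_hom]
      exact Scheme.isoSpec_inv_naturality q.left
  have sqC : IsPullback dC vC tD q :=
    IsPullback.of_map_of_faithful (Over.forget S) sqCL
  -- the canonical maps from `W'`
  have hj : W'.left.toSpecΓ ≫ WC.hom = W'.hom := by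
    change W'.left.toSpecΓ ≫ Spec.map (G w) ≫ V.left.isoSpec.inv ≫ V.hom = W'.hom
    rw [← Category.assoc, ← Scheme.toSpecΓ_naturality, Category.assoc,
      Scheme.toSpecΓ_isoSpec_inv_assoc, Over.w]
  let j : W' ⟶ WC := Over.homMk W'.left.toSpecΓ hj
  have hjv : j ≫ vC = w := by
    apply Over.OverMorphism.ext
    change W'.left.toSpecΓ ≫ Spec.map (G w) ≫ V.left.isoSpec.inv = w.left
    rw [← Category.assoc, ← Scheme.toSpecΓ_naturality, Category.assoc,
      Scheme.toSpecΓ_isoSpec_inv, Category.comp_id]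
  let jD : W' ⟶ Wa := j ≫ dC
  have hjD : jD ≫ tD = w ≫ q := by rw [Category.assoc, sqC.w, ← Category.assoc, hjv]
  have hcoeq0 : μ ≫ jD = pr1 ≫ jD := by
    apply Over.OverMorphism.ext
    change μ.left ≫ W'.left.toSpecΓ ≫ Spec.map d = pr1.left ≫ W'.left.toSpecΓ ≫ Spec.map d
    rw [← Category.assoc, Scheme.toSpecΓ_naturality, Category.assoc, ← Spec.map_comp,
      ← Category.assoc pr1.left, Scheme.toSpecΓ_naturality, Category.assoc, ← Spec.map_comp]
    congr 2
  -- the quotient map
  haveI : Epi ((AlgSp.yon S).map q) :=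
    epi_of_repWith_fppf _ ((AlgSp.repWith_yon_map_iff @Flat q).2 inferInstance)
      ((AlgSp.repWith_yon_map_iff @LocallyOfFinitePresentation q).2 inferInstance)
      ((AlgSp.repWith_yon_map_iff @Surjective q).2 inferInstance)
  haveI hfst : Epi fst := epi_of_isPullback_of_epi (AlgSp.J S) sq
  have hreg : IsRegularEpi fst := IsRegularEpiCategory.regularEpiOfEpi fst
  have kp : IsKernelPair fst ((AlgSp.yon S).map μ) ((AlgSp.yon S).map pr1) := by
    have houter := (sqW1.map (AlgSp.yon S)).flip
    rw [← mu_snd, Functor.map_comp, Functor.map_comp, ← sq.w] at houter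
    exact IsPullback.of_right houter mu_fst sq.flip
  have hcoeq : (AlgSp.yon S).map μ ≫ (AlgSp.yon S).map jD =
      (AlgSp.yon S).map pr1 ≫ (AlgSp.yon S).map jD := by
    rw [← Functor.map_comp, ← Functor.map_comp, hcoeq0]
  let c : Q ⟶ (AlgSp.yon S).obj Wa :=
    (IsKernelPair.toCoequalizer' kp).desc (Cofork.ofπ _ hcoeq)
  have hc1 : fst ≫ c = (AlgSp.yon S).map jD :=
    Cofork.IsColimit.π_desc (IsKernelPair.toCoequalizer' kp)
  have hc2 : c ≫ (AlgSp.yon S).map tD = π := by
    rw [← cancel_epi fst, ← Category.assoc, hc1, sq.w, ← Functor.map_comp, ← Functor.map_comp,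
      hjD]
  have sqc : IsPullback fst ((AlgSp.yon S).map j) c ((AlgSp.yon S).map dC) := by
    refine IsPullback.of_bot ?_ ?_ (sqC.map (AlgSp.yon S))
    · rw [hc2, ← Functor.map_comp, hjv]
      exact sq
    · rw [hc1, ← Functor.map_comp]
  -- descent of the open immersion
  haveI : Flat dC.left := MorphismProperty.of_isPullback (P := @Flat) sqCL.flip inferInstance
  haveI : LocallyOfFinitePresentation dC.left :=
    MorphismProperty.of_isPullback (P := @LocallyOfFinitePresentation) sqCL.flip inferInstance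
  haveI : Surjective dC.left :=
    MorphismProperty.of_isPullback (P := @Surjective) sqCL.flip inferInstance
  have hopen : AlgSp.RepWith @IsOpenImmersion c :=
    repWith_isOpenImmersion_of_fppf_cover c WC ((AlgSp.yon S).map dC)
      ((AlgSp.repWith_yon_map_iff @Flat dC).2 inferInstance)
      ((AlgSp.repWith_yon_map_iff @LocallyOfFinitePresentation dC).2 inferInstance)
      ((AlgSp.repWith_yon_map_iff @Surjective dC).2 inferInstance) fst ((AlgSp.yon S).map j) sqc
      ((AlgSp.repWith_yon_map_iff @IsOpenImmersion j).2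
        (inferInstanceAs (IsOpenImmersion W'.left.toSpecΓ)))
  obtain ⟨W, w0, e, he, hw0⟩ := exists_iso_yon_of_repWith @IsOpenImmersion hopen
  haveI : IsOpenImmersion w0.left := hw0
  -- `W` is quasi-compact
  let k : W' ⟶ W := (AlgSp.yon S).preimage (fst ≫ e.inv)
  have hk : (AlgSp.yon S).map k = fst ≫ e.inv := Functor.map_preimage _ _
  have sqk : IsPullback ((AlgSp.yon S).map k) ((AlgSp.yon S).map j) ((AlgSp.yon S).map w0)
      ((AlgSp.yon S).map dC) := by
    refine IsPullback.of_iso sqc (Iso.refl _) e.symm (Iso.refl _) (Iso.refl _) ?_ ?_ ?_ ?_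
    · simp [hk]
    · simp
    · simp only [Iso.symm_hom, Iso.refl_hom, Category.comp_id]
      rw [← he, Iso.inv_hom_id_assoc]
    · simp
  have hkw : k ≫ w0 = j ≫ dC := (AlgSp.yon S).map_injective (by
    rw [Functor.map_comp, Functor.map_comp, sqk.w])
  have sqkO : IsPullback k j w0 dC := IsPullback.of_map (AlgSp.yon S) hkw sqk
  have sqkL : IsPullback k.left j.left w0.left dC.left := sqkO.map (Over.forget S)
  haveI : Surjective k.left :=
    MorphismProperty.of_isPullback (P := @Surjective) sqkL.flip inferInstance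
  haveI : CompactSpace W.left := by
    have hs : Function.Surjective k.left := k.left.surjective
    exact ⟨by rw [← Set.range_eq_univ.2 hs]; exact isCompact_range k.left.continuous⟩
  haveI : IsAffine Wa.left := inferInstanceAs (IsAffine (Spec D))
  have hqa : W.left.IsQuasiAffine := Scheme.IsQuasiAffine.of_isImmersion w0.left
  refine ⟨W, w0 ≫ tD, e, hqa, ?_⟩
  rw [Functor.map_comp, ← he, Category.assoc, hc2]

end Core

end Groth.Agent.Lib.Helper30.QAffDesc
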