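import Mathlib
import Groth.Prelude.Def_AlgSp4
import Groth.Agent.Lib.Helper30.AlgSpQAffDesc3
import Groth.Agent.Lib.Helper30.AlgSpInvImm
import Groth.Agent.Lib.Helper30.AlgSpGlue
import Groth.Agent.Lib.Helper51.AlgSpOpenCoverRep

/-!
# Effective descent of separated locally quasi-finite schemes over a sheaf along fppf covers
(helper30)
-/

set_option autoImplicit false
set_option linter.style.haveILetI false
set_option maxHeartbeats 800000
set_option backward.isDefEq.respectTransparency false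

universe u

open CategoryTheory CategoryTheory.Limits AlgebraicGeometry Opposite TopologicalSpace

namespace Groth.Agent.Lib.Helper30.SLQDesc

open Groth.Agent.Lib.Helper30 Groth.Agent.Lib.Helper8 Groth.Agent.Lib.Helper30.AffDesc
  Groth.Agent.Lib.Helper30.QAffDesc Groth.Agent.Lib.Helper30.Glue

variable {S : Scheme.{u}}

section Action

variable {T V W' : Over S} {q : V ⟶ T} {w : W' ⟶ V} {Q : AlgSp.Sp S}
  {π : Q ⟶ (AlgSp.yon S).obj T} {fst : (AlgSp.yon S).obj W' ⟶ Q}
  (sq : IsPullback fst ((AlgSp.yon S).map w) π ((AlgSp.yon S).map q))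

include sq in
/-- The groupoid `W' ×_T V ⇉ W'` attached to a sheaf `Q` over `T` whose base change to `V` is
represented by `W'`. -/
theorem exists_action :
    ∃ (W1 : Over S) (pr1 : W1 ⟶ W') (pr2 : W1 ⟶ V) (μ : W1 ⟶ W'),
      IsPullback pr1 pr2 (w ≫ q) q ∧ IsPullback pr1.left pr2.left (w ≫ q).left q.left ∧
      (AlgSp.yon S).map μ ≫ fst = (AlgSp.yon S).map pr1 ≫ fst ∧ μ ≫ w = pr2 ∧
      IsKernelPair fst ((AlgSp.yon S).map μ) ((AlgSp.yon S).map pr1) ∧
      IsPullback (pr1 ≫ w).left μ.left q.left (w ≫ q).left := by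
  obtain ⟨W1, pr1, pr2, sqW1, sqW1L⟩ := isPullback_over' (w ≫ q) q
  have hcond : ((AlgSp.yon S).map pr1 ≫ fst) ≫ π =
      (AlgSp.yon S).map pr2 ≫ (AlgSp.yon S).map q := by
    rw [Category.assoc, sq.w, ← Functor.map_comp, ← Functor.map_comp, ← Functor.map_comp,
      ← sqW1.w]
  let μ : W1 ⟶ W' := (AlgSp.yon S).preimage (sq.lift _ _ hcond)
  have mu_fst : (AlgSp.yon S).map μ ≫ fst = (AlgSp.yon S).map pr1 ≫ fst := by
    rw [Functor.map_preimage, sq.lift_fst]
  have mu_snd : μ ≫ w = pr2 := by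
    apply (AlgSp.yon S).map_injective
    rw [Functor.map_comp, Functor.map_preimage, sq.lift_snd]
  have kp : IsKernelPair fst ((AlgSp.yon S).map μ) ((AlgSp.yon S).map pr1) := by
    have houter := (sqW1.map (AlgSp.yon S)).flip
    rw [← mu_snd, Functor.map_comp, Functor.map_comp, ← sq.w] at houter
    exact IsPullback.of_right houter mu_fst sq.flip
  refine ⟨W1, pr1, pr2, μ, sqW1, sqW1L, mu_fst, mu_snd, kp, ?_⟩
  have h1 : IsPullback ((AlgSp.yon S).map pr1 ≫ (AlgSp.yon S).map w) ((AlgSp.yon S).map μ)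
      ((AlgSp.yon S).map q) (fst ≫ π) := kp.flip.paste_horiz sq.flip
  rw [sq.w, ← Functor.map_comp, ← Functor.map_comp] at h1
  have hw : (pr1 ≫ w) ≫ q = μ ≫ (w ≫ q) := (AlgSp.yon S).map_injective (by
    rw [Functor.map_comp, Functor.map_comp]; exact h1.w)
  exact (IsPullback.of_map (AlgSp.yon S) hw h1).map (Over.forget S)

end Action

/-- Pullbacks of an invariant open along the two maps of a groupoid. -/
theorem exists_isPullback_of_preimage_eq {R U : Scheme.{u}} (s t : R ⟶ U) (A : U.Opens)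
    (h : s ⁻¹ᵁ A = t ⁻¹ᵁ A) :
    ∃ (R' : Scheme.{u}) (k : R' ⟶ R) (s' t' : R' ⟶ A.toScheme),
      IsPullback k s' s A.ι ∧ IsPullback k t' t A.ι := by
  have key : ∀ (B : R.Opens), B = t ⁻¹ᵁ A →
      ∃ t' : B.toScheme ⟶ A.toScheme, IsPullback B.ι t' t A.ι := by
    rintro B rfl
    exact ⟨t ∣_ A, (isPullback_morphismRestrict t A).flip⟩
  obtain ⟨t', ht'⟩ := key (s ⁻¹ᵁ A) h
  exact ⟨_, (s ⁻¹ᵁ A).ι, s ∣_ A, t', (isPullback_morphismRestrict s A).flip, ht'⟩

/-- An invariant immersion into the objects of a groupoid with quotient `X` descends to a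
subsheaf of `X` (only the kernel pair property of the chart is used). -/
theorem exists_subsheaf_of_invariant {X : AlgSp.Sp S} {R U : Over S}
    (s t : R ⟶ U) (p : (AlgSp.yon S).obj U ⟶ X)
    (hkp : IsPullback ((AlgSp.yon S).map t) ((AlgSp.yon S).map s) p p)
    {Z' R' : Scheme.{u}} (i' : Z' ⟶ U.left) [IsImmersion i'] (k : R' ⟶ R.left) (s' t' : R' ⟶ Z')
    (hs : IsPullback k s' s.left i') (ht : IsPullback k t' t.left i') :
    ∃ (Z : AlgSp.Sp S) (i : Z ⟶ X) (q : (AlgSp.yon S).obj (Over.mk (i' ≫ U.hom)) ⟶ Z),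
      Mono i ∧
      IsPullback q ((AlgSp.yon S).map (Over.homMk i' rfl : Over.mk (i' ≫ U.hom) ⟶ U)) i p := by
  let Z'O : Over S := Over.mk (i' ≫ U.hom)
  let ι : Z'O ⟶ U := Over.homMk i' rfl
  let R'O : Over S := Over.mk (k ≫ R.hom)
  let kO : R'O ⟶ R := Over.homMk k rfl
  have hws := over_w s k i' s' hs.flip
  have hwt := over_w t k i' t' ht.flip
  let s'O : R'O ⟶ Z'O := Over.homMk s' hws
  let t'O : R'O ⟶ Z'O := Over.homMk t' hwt
  have sqs : IsPullback s'O kO ι s := isPullback_over s k i' s' hs.flip hws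
  have sqt : IsPullback t'O kO ι t := isPullback_over t k i' t' ht.flip hwt
  haveI : Mono ((AlgSp.yon S).map ι) :=
    Groth.Agent.Lib.Helper51.mono_of_repWith_isImmersion
      ((AlgSp.repWith_yon_map_iff @IsImmersion ι).2 (inferInstanceAs (IsImmersion i')))
  let φ : (AlgSp.yon S).obj Z'O ⟶ X := (AlgSp.yon S).map ι ≫ p
  have H : IsPullback ((AlgSp.yon S).map t'O ≫ (AlgSp.yon S).map ι) ((AlgSp.yon S).map s'O) p φ := by
    have h1 := (sqs.map (AlgSp.yon S)).paste_vert hkp.flip
    rw [← Functor.map_comp, ← sqt.w, Functor.map_comp] at h1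
    exact h1.flip
  have kpφ : IsKernelPair φ ((AlgSp.yon S).map t'O) ((AlgSp.yon S).map s'O) :=
    isKernelPair_of_mono_comp _ p _ _ H
  let q : (AlgSp.yon S).obj Z'O ⟶ Sheaf.image φ := Sheaf.toImage φ
  let iZ : Sheaf.image φ ⟶ X := Sheaf.imageι φ
  have hq : q ≫ iZ = φ := Sheaf.toImage_ι φ
  have kpq : IsKernelPair q ((AlgSp.yon S).map t'O) ((AlgSp.yon S).map s'O) := by
    have : IsKernelPair (q ≫ iZ) ((AlgSp.yon S).map t'O) ((AlgSp.yon S).map s'O) := by
      rw [hq]; exact kpφ
    exact this.cancel_right_of_mono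
  refine ⟨Sheaf.image φ, iZ, q, inferInstance, ?_⟩
  have hcomm : q ≫ iZ = (AlgSp.yon S).map ι ≫ p := hq
  let lam : (AlgSp.yon S).obj Z'O ⟶ pullback iZ p := pullback.lift q ((AlgSp.yon S).map ι) hcomm
  have hl1 : lam ≫ pullback.fst iZ p = q := pullback.lift_fst _ _ _
  have hl2 : lam ≫ pullback.snd iZ p = (AlgSp.yon S).map ι := pullback.lift_snd _ _ _
  have sq₂ : IsPullback ((AlgSp.yon S).map t'O ≫ lam) ((AlgSp.yon S).map s'O)
      (pullback.fst iZ p) q := by
    refine IsPullback.of_right ?_ ?_ (IsPullback.of_hasPullback iZ p).flip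
    · rw [Category.assoc, hl2, hq]
      exact H
    · rw [Category.assoc, hl1]
      exact kpq.w
  haveI : IsIso lam := isIso_of_isPullback_of_epi q (pullback.fst iZ p) lam hl1 q
    ((AlgSp.yon S).map t'O) ((AlgSp.yon S).map s'O) kpq sq₂
  exact IsPullback.of_iso_pullback ⟨hcomm⟩ (asIso lam) hl1 hl2

/-- Zariski's main theorem: a quasi-compact scheme separated and locally quasi-finite over an
affine scheme is quasi-affine. -/
theorem isQuasiAffine_of_sep_lqf {X Y : Scheme.{u}} (f : X ⟶ Y) [IsAffine Y] [CompactSpace X]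
    [IsSeparated f] [LocallyQuasiFinite f] [LocallyOfFiniteType f] : X.IsQuasiAffine := by
  haveI : QuasiCompact f := inferInstance
  haveI : IsOpenImmersion f.toNormalization := inferInstance
  haveI : IsAffineHom f.fromNormalization := inferInstance
  haveI : IsAffine f.normalization := isAffine_of_isAffineHom f.fromNormalization
  exact Scheme.IsQuasiAffine.of_isImmersion f.toNormalization

section Core

open AlgSp Groth.Agent.Lib.Helper51 Groth.Agent.Lib.Helper52

variable {T V W' : Over S} {q : V ⟶ T} {w : W' ⟶ V} {Q : AlgSp.Sp S}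
  {π : Q ⟶ (AlgSp.yon S).obj T} {fst : (AlgSp.yon S).obj W' ⟶ Q}
  (sq : IsPullback fst ((AlgSp.yon S).map w) π ((AlgSp.yon S).map q))

include sq in
/-- The saturation of a quasi-compact open of `W'` descends to a representable open subsheaf of
`Q`. -/
theorem exists_open_piece [IsAffine T.left] [IsAffine V.left] [Flat q.left]
    [LocallyOfFinitePresentation q.left] [Surjective q.left] [IsSeparated w.left]
    [LocallyQuasiFinite w.left] [LocallyOfFiniteType w.left] (O : W'.left.Opens)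
    (hO : IsCompact (O : Set ↥W'.left)) :
    ∃ (Y : Over S) (j : (AlgSp.yon S).obj Y ⟶ Q), AlgSp.RepWith @IsOpenImmersion j ∧
      ∀ x ∈ O, ∃ v : ↥Y.left, Points.ofPt j v = Points.ofPt fst x := by
  obtain ⟨W1, pr1, pr2, μ, sqW1, sqW1L, mu_fst, mu_snd, kp, sqμ⟩ := exists_action sq
  -- properties of the cover `fst`
  have hfl : AlgSp.RepWith @Flat fst :=
    MorphismProperty.of_isPullback sq.flip ((AlgSp.repWith_yon_map_iff @Flat q).2 inferInstance)
  have hlfp : AlgSp.RepWith @LocallyOfFinitePresentation fst :=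
    MorphismProperty.of_isPullback sq.flip
      ((AlgSp.repWith_yon_map_iff @LocallyOfFinitePresentation q).2 inferInstance)
  have hsurj : AlgSp.RepWith @Surjective fst :=
    MorphismProperty.of_isPullback sq.flip
      ((AlgSp.repWith_yon_map_iff @Surjective q).2 inferInstance)
  haveI : UniversallyOpen μ.left :=
    MorphismProperty.of_isPullback (P := @UniversallyOpen) sqμ inferInstance
  haveI : IsAffineHom pr1.left :=
    MorphismProperty.of_isPullback (P := @IsAffineHom) sqW1L.flip inferInstance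
  -- the saturation
  have hAeq : Points.ofPt fst ⁻¹' (Points.ofPt fst '' (O : Set ↥W'.left)) =
      μ.left '' (pr1.left ⁻¹' (O : Set ↥W'.left)) := preimage_ofPt_image kp.flip _
  have hAopen : IsOpen (Points.ofPt fst ⁻¹' (Points.ofPt fst '' (O : Set ↥W'.left))) := by
    rw [hAeq]
    exact μ.left.isOpenMap _ (O.2.preimage pr1.left.continuous)
  let A : W'.left.Opens := ⟨_, hAopen⟩
  have hAcompact : IsCompact (A : Set ↥W'.left) := by
    change IsCompact (Points.ofPt fst ⁻¹' (Points.ofPt fst '' (O : Set ↥W'.left)))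
    rw [hAeq]
    exact (QuasiCompact.isCompact_preimage (f := pr1.left) _ O.2 hO).image μ.left.continuous
  have hOA : O ≤ A := fun x hx => ⟨x, hx, rfl⟩
  have hinv : pr1.left ⁻¹ᵁ A = μ.left ⁻¹ᵁ A := by
    ext z
    change Points.ofPt fst (pr1.left z) ∈ Points.ofPt fst '' (O : Set ↥W'.left) ↔
      Points.ofPt fst (μ.left z) ∈ Points.ofPt fst '' (O : Set ↥W'.left)
    rw [ofPt_eq_ofPt_of_isPullback kp.flip z]
  obtain ⟨R', k, s', t', hs, ht⟩ := exists_isPullback_of_preimage_eq pr1.left μ.left A hinv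
  obtain ⟨Z, i, qZ, hmono, sqZ⟩ := exists_subsheaf_of_invariant pr1 μ fst kp A.ι k s' t' hs ht
  let AO : Over S := Over.mk (A.ι ≫ W'.hom)
  let ιA : AO ⟶ W' := Over.homMk A.ι rfl
  have hopen : AlgSp.RepWith @IsOpenImmersion i :=
    repWith_isOpenImmersion_of_fppf_cover i W' fst hfl hlfp hsurj qZ ((AlgSp.yon S).map ιA) sqZ
      ((AlgSp.repWith_yon_map_iff @IsOpenImmersion ιA).2 (inferInstanceAs (IsOpenImmersion A.ι)))
  -- the saturation is quasi-affine
  haveI : CompactSpace AO.left := isCompact_iff_compactSpace.mp hAcompact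
  haveI : IsSeparated (ιA ≫ w).left := inferInstanceAs (IsSeparated (A.ι ≫ w.left))
  haveI : LocallyQuasiFinite (ιA ≫ w).left :=
    inferInstanceAs (LocallyQuasiFinite (A.ι ≫ w.left))
  haveI : LocallyOfFiniteType (ιA ≫ w).left :=
    inferInstanceAs (LocallyOfFiniteType (A.ι ≫ w.left))
  haveI : AO.left.IsQuasiAffine := isQuasiAffine_of_sep_lqf (ιA ≫ w).left
  have sqbig : IsPullback qZ ((AlgSp.yon S).map (ιA ≫ w)) (i ≫ π) ((AlgSp.yon S).map q) := by
    rw [Functor.map_comp]
    exact sqZ.paste_vert sq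
  obtain ⟨Y, iY, e, -, -⟩ := exists_qaff_of_isPullback_fppf sqbig
  refine ⟨Y, e.hom ≫ i, (MorphismProperty.cancel_left_of_respectsIso
    (AlgSp.RepWith @IsOpenImmersion) e.hom i).2 hopen, ?_⟩
  intro x hx
  let kA : AO ⟶ Y := (AlgSp.yon S).preimage (qZ ≫ e.inv)
  have hkA : (AlgSp.yon S).map kA ≫ e.hom ≫ i = (AlgSp.yon S).map ιA ≫ fst := by
    rw [Functor.map_preimage, Category.assoc, Iso.inv_hom_id_assoc, sqZ.w]
  refine ⟨kA.left ⟨x, hOA hx⟩, ?_⟩
  rw [← ofPt_yon_map_comp, hkA, ofPt_yon_map_comp]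
  rfl

include sq in
/-- **Effective descent of separated locally quasi-finite schemes over a sheaf along an fppf cover
of affine schemes.** -/
theorem exists_iso_yon_of_sep_lqf_affine [IsAffine T.left] [IsAffine V.left] [Flat q.left]
    [LocallyOfFinitePresentation q.left] [Surjective q.left] [IsSeparated w.left]
    [LocallyQuasiFinite w.left] [LocallyOfFiniteType w.left] :
    ∃ W : Over S, Nonempty ((AlgSp.yon S).obj W ≅ Q) := by
  have hsurj : AlgSp.RepWith @Surjective fst :=
    MorphismProperty.of_isPullback sq.flip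
      ((AlgSp.repWith_yon_map_iff @Surjective q).2 inferInstance)
  choose Y j hj hpt using fun O : W'.left.affineOpens =>
    exists_open_piece sq O.1 O.2.isCompact
  refine exists_iso_yon_of_open_cover_points j hj (fun x => ?_)
  obtain ⟨w', rfl⟩ := surjective_ofPt_of_repWith_surjective fst hsurj x
  obtain ⟨O, hO, hw'O, -⟩ := exists_isAffineOpen_mem_and_subset (x := w')
    (U := (⊤ : W'.left.Opens)) trivial
  obtain ⟨v, hv⟩ := hpt ⟨O, hO⟩ w' hw'O
  exact ⟨⟨O, hO⟩, v, hv⟩

end Core

/-- **Morphisms of sheaves which are fppf locally on the target representable, separated and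
locally quasi-finite are representable.** -/
theorem representable_of_fppf_cover_sep_lqf {F G : AlgSp.Sp S} (f : F ⟶ G)
    (V : Over S) (p : (AlgSp.yon S).obj V ⟶ G) (hp : AlgSp.RepWith @Flat p)
    (hpl : AlgSp.RepWith @LocallyOfFinitePresentation p)
    (hps : AlgSp.RepWith @Surjective p) {P : AlgSp.Sp S} (fst : P ⟶ F)
    (snd : P ⟶ (AlgSp.yon S).obj V) (sq : IsPullback fst snd f p)
    (hsep : AlgSp.RepWith @IsSeparated snd) (hlqf : AlgSp.RepWith @LocallyQuasiFinite snd)
    (hlft : AlgSp.RepWith @LocallyOfFiniteType snd) : AlgSp.Representable f := by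
  refine representable_of_affine f (fun T hT g => ?_)
  haveI : IsAffine T.left := hT
  haveI hq0e : Flat (hp.rep.snd g).left := hp.property_snd g
  haveI hq0l : LocallyOfFinitePresentation (hp.rep.snd g).left :=
    hpl.property g (hp.rep.fst g) (hp.rep.snd g) (hp.rep.isPullback g)
  haveI hq0s : Surjective (hp.rep.snd g).left :=
    hps.property g (hp.rep.fst g) (hp.rep.snd g) (hp.rep.isPullback g)
  obtain ⟨V₀s, r, hV₀, hr, hrl, hrs⟩ := exists_affine_fppf_cover (hp.rep.snd g).left
  let V₀ : Over S := Over.mk (r ≫ (hp.rep.pullback g).hom)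
  let r' : V₀ ⟶ hp.rep.pullback g := Over.homMk r rfl
  haveI : IsAffine V₀.left := hV₀
  let q : V₀ ⟶ T := r' ≫ hp.rep.snd g
  haveI : Flat q.left := by
    change Flat (r ≫ (hp.rep.snd g).left)
    infer_instance
  haveI : LocallyOfFinitePresentation q.left := by
    change LocallyOfFinitePresentation (r ≫ (hp.rep.snd g).left)
    infer_instance
  haveI : Surjective q.left := hrs
  let a : (AlgSp.yon S).obj V₀ ⟶ (AlgSp.yon S).obj V := (AlgSp.yon S).map r' ≫ hp.rep.fst g
  let W' : Over S := hsep.rep.pullback a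
  let i' : W' ⟶ V₀ := hsep.rep.snd a
  let fst'' : (AlgSp.yon S).obj W' ⟶ P := hsep.rep.fst a
  have sq'' : IsPullback fst'' ((AlgSp.yon S).map i') snd a := hsep.rep.isPullback a
  haveI : IsSeparated i'.left := hsep.property_snd a
  haveI : LocallyQuasiFinite i'.left := hlqf.property a fst'' i' sq''
  haveI : LocallyOfFiniteType i'.left := hlft.property a fst'' i' sq''
  have hcomp : a ≫ p = (AlgSp.yon S).map q ≫ g := by
    change ((AlgSp.yon S).map r' ≫ hp.rep.fst g) ≫ p = _
    rw [Category.assoc, (hp.rep.isPullback g).w, ← Category.assoc, ← Functor.map_comp]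
  have sqbig : IsPullback (fst'' ≫ fst) ((AlgSp.yon S).map i') f ((AlgSp.yon S).map q ≫ g) := by
    rw [← hcomp]
    exact sq''.paste_horiz sq
  have w0 : (fst'' ≫ fst) ≫ f = ((AlgSp.yon S).map i' ≫ (AlgSp.yon S).map q) ≫ g := by
    rw [sqbig.w, Category.assoc]
  let l : (AlgSp.yon S).obj W' ⟶ pullback f g :=
    pullback.lift (fst'' ≫ fst) ((AlgSp.yon S).map i' ≫ (AlgSp.yon S).map q) w0
  have hl1 : l ≫ pullback.fst f g = fst'' ≫ fst := pullback.lift_fst _ _ _
  have hl2 : l ≫ pullback.snd f g = (AlgSp.yon S).map i' ≫ (AlgSp.yon S).map q :=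
    pullback.lift_snd _ _ _
  have sqZ : IsPullback l ((AlgSp.yon S).map i') (pullback.snd f g) ((AlgSp.yon S).map q) := by
    refine IsPullback.of_right ?_ hl2 (IsPullback.of_hasPullback f g)
    rw [hl1]
    exact sqbig
  obtain ⟨W, ⟨e⟩⟩ := exists_iso_yon_of_sep_lqf_affine sqZ
  let i : W ⟶ T := (AlgSp.yon S).preimage (e.hom ≫ pullback.snd f g)
  have hi : (AlgSp.yon S).map i = e.hom ≫ pullback.snd f g := Functor.map_preimage _ _
  refine ⟨W, i, e.hom ≫ pullback.fst f g, ?_⟩
  refine IsPullback.of_iso (IsPullback.of_hasPullback f g) e.symm (Iso.refl _) (Iso.refl _)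
    (Iso.refl _) ?_ ?_ ?_ ?_
  · simp
  · simp [hi]
  · simp
  · simp

end Groth.Agent.Lib.Helper30.SLQDesc
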