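import Mathlib
import Groth.Prelude.Def_AlgSp4
import Groth.Agent.Lib.Helper30.AlgSpSLQDesc
import Groth.Agent.Lib.Helper51.AlgSpDiag

/-!
# A sheaf with a representable étale surjective chart is an algebraic space (helper30)
-/

set_option autoImplicit false
set_option linter.style.haveILetI false
set_option maxHeartbeats 800000
set_option backward.isDefEq.respectTransparency false

universe u

open CategoryTheory CategoryTheory.Limits AlgebraicGeometry Opposite TopologicalSpace

namespace Groth.Agent.Lib.Helper30.SLQDesc

open Groth.Agent.Lib.Helper30 Groth.Agent.Lib.Helper51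

variable {S : Scheme.{u}}

theorem repWith_flat_of_etale {F G : AlgSp.Sp S} {a : F ⟶ G} (h : AlgSp.RepWith @Etale a) :
    AlgSp.RepWith @Flat a :=
  MorphismProperty.relative_monotone (fun A B k hk => by
    have : Etale k.left := hk
    change Flat k.left
    infer_instance) _ h

instance : MorphismProperty.IsMultiplicative @LocallyOfFinitePresentation where
  id_mem _ := inferInstance

theorem repWith_lfp_of_etale {F G : AlgSp.Sp S} {a : F ⟶ G} (h : AlgSp.RepWith @Etale a) :
    AlgSp.RepWith @LocallyOfFinitePresentation a :=
  MorphismProperty.relative_monotone (fun A B k hk => by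
    have : Etale k.left := hk
    change LocallyOfFinitePresentation k.left
    infer_instance) _ h

/-- The diagonal of a sheaf with a representable étale surjective chart from a scheme is
representable. -/
theorem representable_diag_of_chart {F : AlgSp.Sp S} {U : Over S}
    (a : (AlgSp.yon S).obj U ⟶ F) (hae : AlgSp.RepWith @Etale a)
    (has : AlgSp.RepWith @Surjective a) : AlgSp.Representable (Limits.diag F) := by
  obtain ⟨R, s, t, sqR⟩ := exists_isPullback_of_representable hae.1 a
  haveI : Etale t.left := hae.property a _ t sqR
  haveI : Etale s.left := hae.property a _ s sqR.flip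
  have sqd := isPullback_diag_chart2 sqR
  -- `(s, t)` is a monomorphism
  haveI : Mono (Limits.diag F) := inferInstance
  haveI : Mono ((AlgSp.yon S).map (prod.lift s t)) :=
    MorphismProperty.of_isPullback (P := MorphismProperty.monomorphisms _) sqd
      (MorphismProperty.monomorphisms.infer_property _)
  haveI : Mono (prod.lift s t) := (AlgSp.yon S).mono_of_mono_map inferInstance
  haveI : Mono (prod.lift s t).left := inferInstance
  -- finiteness properties
  have hcomp : (prod.lift s t).left ≫ (prod.fst : U ⨯ U ⟶ U).left = s.left := by
    rw [← Over.comp_left, prod.lift_fst]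
  haveI : LocallyOfFiniteType (prod.lift s t).left := by
    haveI : LocallyOfFiniteType ((prod.lift s t).left ≫ (prod.fst : U ⨯ U ⟶ U).left) := by
      rw [hcomp]; infer_instance
    exact locallyOfFiniteType_of_comp _ (prod.fst : U ⨯ U ⟶ U).left
  haveI : UniversallyInjective (prod.lift s t).left := inferInstance
  haveI : LocallyQuasiFinite (prod.lift s t).left := inferInstance
  exact representable_of_fppf_cover_sep_lqf (Limits.diag F) (U ⨯ U) (chart2 a a)
    (repWith_chart2 @Flat (repWith_flat_of_etale hae) (repWith_flat_of_etale hae))
    (repWith_chart2 @LocallyOfFinitePresentation (repWith_lfp_of_etale hae)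
      (repWith_lfp_of_etale hae))
    (repWith_chart2 @Surjective has has) _ _ sqd
    ((AlgSp.repWith_yon_map_iff @IsSeparated _).2 inferInstance)
    ((AlgSp.repWith_yon_map_iff @LocallyQuasiFinite _).2 inferInstance)
    ((AlgSp.repWith_yon_map_iff @LocallyOfFiniteType _).2 inferInstance)

/-- **A sheaf with a representable étale surjective chart from a scheme is an algebraic space.** -/
theorem isAlgSpace_of_chart {F : AlgSp.Sp S} {U : Over S}
    (a : (AlgSp.yon S).obj U ⟶ F) (hae : AlgSp.RepWith @Etale a)
    (has : AlgSp.RepWith @Surjective a) : AlgSp.IsAlgSpace F :=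
  ⟨representable_diag_of_chart a hae has, ⟨U, a, hae, has⟩⟩

end Groth.Agent.Lib.Helper30.SLQDesc
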