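import Mathlib
import Groth.Prelude.Def_AlgSp4
import Groth.Agent.Lib.Helper30.AlgSpQAffDesc
import Groth.Agent.Lib.Helper30.AlgSpGlue2

/-!
# Quasi-affine morphisms of sheaves descend along étale covers (helper30)
-/

set_option autoImplicit false
set_option linter.style.haveILetI false
set_option maxHeartbeats 800000
set_option backward.isDefEq.respectTransparency false

universe u

open CategoryTheory CategoryTheory.Limits AlgebraicGeometry Opposite TopologicalSpace

namespace Groth.Agent.Lib.Helper30.QAffDesc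

open Groth.Agent.Lib.Helper30 Groth.Agent.Lib.Helper8 Groth.Agent.Lib.Helper30.AffDesc Groth.Agent.Lib.Helper30.Glue

variable {S : Scheme.{u}}

/-- Descent of a quasi-affine fibre product along an étale cover of affine schemes. -/
theorem descend_qaff {F G : AlgSp.Sp S} (f : F ⟶ G) {T V₀ W' : Over S} [IsAffine T.left]
    [IsAffine V₀.left] [W'.left.IsQuasiAffine] (g : (AlgSp.yon S).obj T ⟶ G) (q : V₀ ⟶ T)
    [Etale q.left] [Surjective q.left] (i' : W' ⟶ V₀)
    (fst' : (AlgSp.yon S).obj W' ⟶ F)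
    (sq : IsPullback fst' ((AlgSp.yon S).map i') f ((AlgSp.yon S).map q ≫ g)) :
    ∃ (W : Over S) (i : W ⟶ T) (fstW : (AlgSp.yon S).obj W ⟶ F),
      IsPullback fstW ((AlgSp.yon S).map i) f g ∧ W.left.IsQuasiAffine := by
  have w0 : fst' ≫ f = ((AlgSp.yon S).map i' ≫ (AlgSp.yon S).map q) ≫ g := by
    rw [sq.w, Category.assoc]
  let l : (AlgSp.yon S).obj W' ⟶ pullback f g :=
    pullback.lift fst' ((AlgSp.yon S).map i' ≫ (AlgSp.yon S).map q) w0
  have hl1 : l ≫ pullback.fst f g = fst' := pullback.lift_fst _ _ _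
  have hl2 : l ≫ pullback.snd f g = (AlgSp.yon S).map i' ≫ (AlgSp.yon S).map q :=
    pullback.lift_snd _ _ _
  have sqZ : IsPullback l ((AlgSp.yon S).map i') (pullback.snd f g) ((AlgSp.yon S).map q) := by
    refine IsPullback.of_right ?_ hl2 (IsPullback.of_hasPullback f g)
    rw [hl1]
    exact sq
  obtain ⟨W, w, e, hW, he⟩ := exists_qaff_of_isPullback sqZ
  have sqW : IsPullback (e.hom ≫ pullback.fst f g) ((AlgSp.yon S).map w) f g := by
    refine IsPullback.of_iso (IsPullback.of_hasPullback f g) e.symm (Iso.refl _) (Iso.refl _)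
      (Iso.refl _) ?_ ?_ ?_ ?_
    · simp
    · simp [← he]
    · simp
    · simp
  exact ⟨W, w, e.hom ≫ pullback.fst f g, sqW, hW⟩

/-- **Quasi-affine morphisms descend along étale covers.** -/
theorem isQuasiAffineMor_of_etale_cover {F G : AlgSp.Sp S} (f : F ⟶ G)
    (V : Over S) (p : (AlgSp.yon S).obj V ⟶ G) (hp : AlgSp.RepWith @Etale p)
    (hps : AlgSp.RepWith @Surjective p) {P : AlgSp.Sp S} (fst : P ⟶ F)
    (snd : P ⟶ (AlgSp.yon S).obj V) (sq : IsPullback fst snd f p)
    (h : AlgSp.IsQuasiAffineMor snd) : AlgSp.IsQuasiAffineMor f := by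
  intro T hT g
  haveI : IsAffine T.left := hT
  have hq0e : Etale (hp.rep.snd g).left := hp.property_snd g
  have hq0s : Surjective (hp.rep.snd g).left :=
    hps.property g (hp.rep.fst g) (hp.rep.snd g) (hp.rep.isPullback g)
  obtain ⟨V₀s, r, hV₀, hr, hrs⟩ := exists_affine_etale_cover (hp.rep.snd g).left
  let V₀ : Over S := Over.mk (r ≫ (hp.rep.pullback g).hom)
  let r' : V₀ ⟶ hp.rep.pullback g := Over.homMk r rfl
  haveI : IsAffine V₀.left := hV₀
  let q : V₀ ⟶ T := r' ≫ hp.rep.snd g
  haveI : Etale q.left := by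
    change Etale (r ≫ (hp.rep.snd g).left)
    infer_instance
  haveI : Surjective q.left := hrs
  obtain ⟨W', i', fst'', sq'', hW'⟩ := h hV₀ ((AlgSp.yon S).map r' ≫ hp.rep.fst g)
  haveI : W'.left.IsQuasiAffine := hW'
  have hcomp : ((AlgSp.yon S).map r' ≫ hp.rep.fst g) ≫ p = (AlgSp.yon S).map q ≫ g := by
    rw [Category.assoc, (hp.rep.isPullback g).w, ← Category.assoc, ← Functor.map_comp]
  have sqbig : IsPullback (fst'' ≫ fst) ((AlgSp.yon S).map i') f ((AlgSp.yon S).map q ≫ g) := by
    rw [← hcomp]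
    exact sq''.paste_horiz sq
  obtain ⟨W, i, fstW, sqW, hW⟩ := descend_qaff f g q i' (fst'' ≫ fst) sqbig
  exact ⟨W, i, fstW, sqW, hW⟩

/-- A morphism of sheaves whose base changes to affine schemes are representable is
representable. -/
theorem representable_of_affine {F G : AlgSp.Sp S} (f : F ⟶ G)
    (H : ∀ ⦃Z : Over S⦄, IsAffine Z.left → ∀ (g : (AlgSp.yon S).obj Z ⟶ G),
      ∃ (W : Over S) (i : W ⟶ Z) (fst : (AlgSp.yon S).obj W ⟶ F),
        IsPullback fst ((AlgSp.yon S).map i) f g) :
    AlgSp.Representable f := by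
  intro T g
  exact exists_isPullback_of_openCover f g T.left.affineCover (fun i =>
    H (Z := coverOver T T.left.affineCover i)
      (inferInstanceAs (IsAffine (T.left.affineCover.X i))) _)

theorem representable_of_isQuasiAffineMor {F G : AlgSp.Sp S} {f : F ⟶ G}
    (h : AlgSp.IsQuasiAffineMor f) : AlgSp.Representable f :=
  representable_of_affine f (fun Z hZ g => by
    obtain ⟨W, i, fst, sq, -⟩ := h hZ g
    exact ⟨W, i, fst, sq⟩)

end Groth.Agent.Lib.Helper30.QAffDesc
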