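import Groth.Agent.Lib.Helper30.AlgSpQuotEff
import Groth.Agent.Lib.Helper51.EtaleQF

/-!
# The quotient of a scheme by an étale equivalence relation is an algebraic space (helper30)

* `representable_of_local_sep_lqf`: representability from fppf-local separated, locally
  quasi-finite representability (Zariski's main theorem + fppf descent).
* `representable_qπ`, `repWith_qπ`, `isPresentation_qπ`, `isAlgSpace_quot`.
-/

set_option autoImplicit false
set_option maxHeartbeats 800000
set_option backward.isDefEq.respectTransparency false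
set_option linter.style.haveILetI false
set_option linter.unusedSectionVars false
universe u

open CategoryTheory CategoryTheory.Limits AlgebraicGeometry MorphismProperty AlgSp Opposite

namespace Groth.Agent.Lib.Helper30.QuotEff

open Groth.Agent.Lib.Helper40.QuotShApi
open Groth.Agent.Lib.Helper30.Glue Groth.Agent.Lib.Helper30.Coprod Groth.Agent.Lib.Helper30.SLQDesc
open Groth.Agent.Lib.Helper30 Groth.Agent.Lib.Helper51

variable {S : Scheme.{u}}

/-- Representability from fppf-local separated locally quasi-finite representability. -/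
theorem representable_of_local_sep_lqf {F G : AlgSp.Sp S} (f : F ⟶ G)
    (H : ∀ ⦃T : Over S⦄, IsAffine T.left → ∀ (g : (AlgSp.yon S).obj T ⟶ G),
      ∃ (V₀ : Over S) (q : V₀ ⟶ T) (W' : Over S) (w : W' ⟶ V₀)
        (fst : (AlgSp.yon S).obj W' ⟶ F),
        IsAffine V₀.left ∧ Flat q.left ∧ LocallyOfFinitePresentation q.left ∧
        Surjective q.left ∧ IsSeparated w.left ∧ LocallyQuasiFinite w.left ∧
        LocallyOfFiniteType w.left ∧
        IsPullback fst ((AlgSp.yon S).map w) f ((AlgSp.yon S).map q ≫ g)) :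
    AlgSp.Representable f := by
  refine representable_of_affine f (fun T hT g => ?_)
  obtain ⟨V₀, q, W', w, fst, hV₀, hq1, hq2, hq3, hw1, hw2, hw3, sqbig⟩ := H hT g
  haveI : IsAffine T.left := hT
  haveI := hV₀; haveI := hq1; haveI := hq2; haveI := hq3; haveI := hw1; haveI := hw2
  haveI := hw3
  have w0 : fst ≫ f = ((AlgSp.yon S).map w ≫ (AlgSp.yon S).map q) ≫ g := by
    rw [sqbig.w, Category.assoc]
  let l : (AlgSp.yon S).obj W' ⟶ pullback f g :=
    pullback.lift fst ((AlgSp.yon S).map w ≫ (AlgSp.yon S).map q) w0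
  have hl1 : l ≫ pullback.fst f g = fst := pullback.lift_fst _ _ _
  have hl2 : l ≫ pullback.snd f g = (AlgSp.yon S).map w ≫ (AlgSp.yon S).map q :=
    pullback.lift_snd _ _ _
  have sqZ : IsPullback l ((AlgSp.yon S).map w) (pullback.snd f g) ((AlgSp.yon S).map q) := by
    refine IsPullback.of_right ?_ hl2 (IsPullback.of_hasPullback f g)
    rw [hl1]
    exact sqbig
  obtain ⟨W, ⟨e⟩⟩ := exists_iso_yon_of_sep_lqf_affine sqZ
  let i : W ⟶ T := (AlgSp.yon S).preimage (e.hom ≫ pullback.snd f g)
  have hi : (AlgSp.yon S).map i = e.hom ≫ pullback.snd f g := Functor.map_preimage _ _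
  refine ⟨W, i, e.hom ≫ pullback.fst f g, ?_⟩
  refine IsPullback.of_iso (IsPullback.of_hasPullback f g) e.symm (Iso.refl _) (Iso.refl _)
    (Iso.refl _) ?_ ?_ ?_ ?_
  · simp
  · simp [hi]
  · simp
  · simp

section Step4
variable {R U : Over S} {s t : R ⟶ U}

theorem isSeparated_comp_of_isEqvRel (h : AlgSp.IsEqvRel s t) {U' R' : Over S} (ι : U' ⟶ U)
    [IsAffine U'.left] (ι' : R' ⟶ U') (k : R' ⟶ R)
    (sqL : IsPullback ι'.left k.left ι.left s.left) : IsSeparated (k ≫ t).left := by
  have hw : ι'.left ≫ U'.hom = (k ≫ t).left ≫ U.hom := by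
    rw [Over.w ι', Over.w (k ≫ t)]
  let m : R'.left ⟶ pullback U'.hom U.hom := pullback.lift ι'.left (k ≫ t).left hw
  have hm1 : m ≫ pullback.fst _ _ = ι'.left := pullback.lift_fst _ _ _
  have hm2 : m ≫ pullback.snd _ _ = (k ≫ t).left := pullback.lift_snd _ _ _
  haveI : Mono m := by
    constructor
    intro Z a b hab
    have h1 : a ≫ ι'.left = b ≫ ι'.left := by
      rw [← hm1, ← Category.assoc, hab, Category.assoc]
    have h2 : a ≫ (k ≫ t).left = b ≫ (k ≫ t).left := by
      rw [← hm2, ← Category.assoc, hab, Category.assoc]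
    apply sqL.hom_ext h1
    have hbR : b ≫ R'.hom = a ≫ R'.hom := by
      rw [← Over.w ι', ← Category.assoc, ← h1, Category.assoc]
    let Z' : Over S := Over.mk (a ≫ R'.hom)
    let a' : Z' ⟶ R' := Over.homMk a rfl
    let b' : Z' ⟶ R' := Over.homMk b hbR
    have key : a' ≫ k = b' ≫ k := by
      apply h.injective Z'
      · apply Over.OverMorphism.ext
        exact h2
      · apply Over.OverMorphism.ext
        change a ≫ k.left ≫ s.left = b ≫ k.left ≫ s.left
        rw [← sqL.w, ← Category.assoc, h1, Category.assoc]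
    exact congrArg CommaMorphism.left key
  rw [← hm2]
  infer_instance

theorem representable_comp_qπ (h : AlgSp.IsEtaleEqvRel s t) {U' : Over S} (ι : U' ⟶ U)
    [IsAffine U'.left] [Etale ι.left] :
    AlgSp.Representable ((AlgSp.yon S).map ι ≫ qπ s t) := by
  obtain ⟨R', ι', k, sqO, sqL⟩ := isPullback_over' ι s
  haveI : Etale s.left := h.etale_left
  haveI : Etale t.left := h.etale_right
  haveI : Etale k.left := MorphismProperty.of_isPullback sqL ‹Etale ι.left›
  haveI : Etale (k ≫ t).left := by
    change Etale (k.left ≫ t.left)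
    infer_instance
  haveI : IsSeparated (k ≫ t).left := isSeparated_comp_of_isEqvRel h.toIsEqvRel ι ι' k sqL
  have sqA : IsPullback ((AlgSp.yon S).map (k ≫ t)) ((AlgSp.yon S).map ι') (qπ s t)
      ((AlgSp.yon S).map ι ≫ qπ s t) := by
    rw [Functor.map_comp]
    exact (sqO.map (AlgSp.yon S)).flip.paste_horiz (isPullback_qπ h.toIsEqvRel)
  refine representable_of_local_sep_lqf _ (fun T hT g => ?_)
  haveI : IsAffine T.left := hT
  obtain ⟨V₀, q, b, hV₀, hq1, hq2, hq3, hb⟩ := exists_affine_lift_of_epi (qπ s t) g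
  obtain ⟨b', rfl⟩ := (AlgSp.yon S).map_surjective b
  obtain ⟨W', pr1, w, sqW, sqWL⟩ := isPullback_over' (k ≫ t) b'
  refine ⟨V₀, q, W', w, (AlgSp.yon S).map (pr1 ≫ ι'), hV₀, hq1, hq2, hq3, ?_, ?_, ?_, ?_⟩
  · exact MorphismProperty.of_isPullback sqWL ‹IsSeparated (k ≫ t).left›
  · exact MorphismProperty.of_isPullback sqWL
      (inferInstance : LocallyQuasiFinite (k ≫ t).left)
  · exact MorphismProperty.of_isPullback sqWL
      (inferInstance : LocallyOfFiniteType (k ≫ t).left)
  · rw [← hb, Functor.map_comp]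
    exact (sqW.map (AlgSp.yon S)).paste_horiz sqA.flip

end Step4

section Step5
variable {R U : Over S} {s t : R ⟶ U}

theorem representable_qπ (h : AlgSp.IsEtaleEqvRel s t) : AlgSp.Representable (qπ s t) := by
  refine representable_of_source_openCover (qπ s t) U.left.affineCover (fun i => ?_)
  haveI : IsAffine (coverOver U U.left.affineCover i).left :=
    show IsAffine (U.left.affineCover.X i) from inferInstance
  haveI : Etale (coverι U U.left.affineCover i).left :=
    show Etale (U.left.affineCover.f i) from inferInstance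
  exact representable_comp_qπ h _

/-- Two pullbacks of the same cospan have isomorphic projections. -/
theorem prop_snd_of_isPullback (Q : MorphismProperty Scheme.{u}) [Q.RespectsIso]
    {F G : AlgSp.Sp S} {f : F ⟶ G} {T V W : Over S} {g : (AlgSp.yon S).obj T ⟶ G}
    {fst : (AlgSp.yon S).obj V ⟶ F} {snd : V ⟶ T}
    (sq : IsPullback fst ((AlgSp.yon S).map snd) f g)
    {fst' : (AlgSp.yon S).obj W ⟶ F} {i : W ⟶ T}
    (sq' : IsPullback fst' ((AlgSp.yon S).map i) f g) (hi : Q i.left) : Q snd.left := by
  let e := sq.isoIsPullback _ _ sq'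
  have he : e.hom ≫ (AlgSp.yon S).map i = (AlgSp.yon S).map snd :=
    IsPullback.isoIsPullback_hom_snd _ _ sq sq'
  let e' : V ≅ W := (AlgSp.yon S).preimageIso e
  have he' : e'.hom ≫ i = snd := (AlgSp.yon S).map_injective (by
    rw [Functor.map_comp, Functor.preimageIso_hom, Functor.map_preimage]
    exact he)
  have h3 : snd.left = ((Over.forget S).mapIso e').hom ≫ i.left := by
    rw [← he']
    rfl
  rw [h3]
  exact (Q.cancel_left_of_respectsIso _ _).2 hi

theorem repWith_qπ (Q : MorphismProperty Scheme.{u}) [Q.IsStableUnderBaseChange]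
    [Q.DescendsAlong (@Surjective ⊓ @Flat ⊓ @QuasiCompact)] [IsZariskiLocalAtTarget Q]
    (h : AlgSp.IsEqvRel s t) (hrep : AlgSp.Representable (qπ s t)) (hs : Q s.left) :
    AlgSp.RepWith Q (qπ s t) := by
  refine repWith_of_affine Q hrep ?_
  intro T V hT g fst snd sq
  haveI : IsAffine T.left := hT
  obtain ⟨V₀, q, b, hV₀, hq1, hq2, hq3, hb⟩ := exists_affine_lift_of_epi (qπ s t) g
  haveI := hV₀
  obtain ⟨b', rfl⟩ := (AlgSp.yon S).map_surjective b
  -- base change of `snd` along `q`
  obtain ⟨P, pr1, pr2, sqP, sqPL⟩ := isPullback_over' snd q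
  have sq1 : IsPullback ((AlgSp.yon S).map pr1 ≫ fst) ((AlgSp.yon S).map pr2) (qπ s t)
      ((AlgSp.yon S).map b' ≫ qπ s t) := by
    rw [hb]
    exact (sqP.map (AlgSp.yon S)).paste_horiz sq
  -- the same pullback through the relation
  obtain ⟨P', pr1', pr2', sqP', sqPL'⟩ := isPullback_over' s b'
  have sq2 : IsPullback ((AlgSp.yon S).map pr1' ≫ (AlgSp.yon S).map t)
      ((AlgSp.yon S).map pr2') (qπ s t) ((AlgSp.yon S).map b' ≫ qπ s t) :=
    (sqP'.map (AlgSp.yon S)).paste_horiz (isPullback_qπ h)
  have h2 : Q pr2'.left := MorphismProperty.of_isPullback sqPL' hs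
  have h1 : Q pr2.left := prop_snd_of_isPullback Q sq1 sq2 h2
  have hqc : QuasiCompact q.left := inferInstance
  exact MorphismProperty.of_isPullback_of_descendsAlong
    (Q := @Surjective ⊓ @Flat ⊓ @QuasiCompact) sqPL.flip ⟨⟨hq3, hq1⟩, hqc⟩ h1

end Step5

section Step7
variable {R U : Over S} {s t : R ⟶ U}

instance surjective_descendsAlong :
    MorphismProperty.DescendsAlong (@Surjective : MorphismProperty Scheme.{u})
      (@Surjective ⊓ @Flat ⊓ @QuasiCompact) where
  of_isPullback {A X Y Z fst snd f g} sq hf hfst := by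
    haveI : Surjective f := hf.1.1
    haveI : Surjective fst := hfst
    haveI : Surjective (snd ≫ g) := by
      rw [← sq.w]
      infer_instance
    exact Surjective.of_comp snd g

theorem surjective_left_of_isEqvRel (h : AlgSp.IsEqvRel s t) : Surjective s.left := by
  obtain ⟨r, -, hr⟩ := (h.equivalence U).refl (𝟙 U)
  have h1 : r.left ≫ s.left = 𝟙 U.left := congrArg CommaMorphism.left hr
  constructor
  intro x
  refine ⟨r.left x, ?_⟩
  rw [← Scheme.Hom.comp_apply, h1]
  rfl

theorem isPresentation_qπ (h : AlgSp.IsEtaleEqvRel s t) :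
    AlgSp.IsPresentation s t (qπ s t) where
  eqvRel := h
  etale := repWith_qπ @Etale h.toIsEqvRel (representable_qπ h) h.etale_left
  surjective := repWith_qπ @Surjective h.toIsEqvRel (representable_qπ h)
    (surjective_left_of_isEqvRel h.toIsEqvRel)
  isPullback := isPullback_qπ h.toIsEqvRel

theorem isAlgSpace_quot (h : AlgSp.IsEtaleEqvRel s t) :
    AlgSp.IsAlgSpace (QuotSh.quot Scheme.fppfPrecoverage s t) :=
  isAlgSpace_of_chart (qπ s t) (isPresentation_qπ h).etale (isPresentation_qπ h).surjective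

end Step7

end Groth.Agent.Lib.Helper30.QuotEff
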