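import Groth.Agent.Lib.Helper30.AlgSpQuotEff2
import Groth.Agent.Lib.Helper8.SheafType

/-!
# Restriction of an fppf equivalence relation: the map of quotient sheaves is an open immersion
(helper30)

* `yon_hom_ext_of_cover`, `mono_of_yon_cancel`, `exists_iso_of_epi_mono` (uniqueness of images in the
  topos of fppf sheaves);
* `repWith_of_epi_cover`, `repWith_isOpenImmersion_of_epi_cover`: descent of (open) immersions along
  an epimorphism from a representable sheaf (no representability of the cover needed);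
* `exists_open_image`; `mono_quot_restrict`, `repWith_isOpenImmersion_quot_restrict`.
-/

set_option autoImplicit false
set_option maxHeartbeats 800000
set_option backward.isDefEq.respectTransparency false
set_option linter.style.haveILetI false
set_option linter.unusedSectionVars false
universe u

open CategoryTheory CategoryTheory.Limits AlgebraicGeometry MorphismProperty AlgSp Opposite

namespace Groth.Agent.Lib.Helper30.QuotEff

open Groth.Agent.Lib.Helper40.QuotShApi
open Groth.Agent.Lib.Helper30.Glue Groth.Agent.Lib.Helper30.Coprod Groth.Agent.Lib.Helper30.SLQDesc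
open Groth.Agent.Lib.Helper30 Groth.Agent.Lib.Helper51 Groth.Agent.Lib.Helper30.AffDesc

variable {S : Scheme.{u}}

/-- Maps from a representable sheaf agreeing on a covering sieve are equal. -/
theorem yon_hom_ext_of_cover {F : AlgSp.Sp S} {T : Over S} (a b : (AlgSp.yon S).obj T ⟶ F)
    (R : Sieve T) (hR : R ∈ AlgSp.J S T)
    (h : ∀ ⦃V : Over S⦄ (k : V ⟶ T), R k → (AlgSp.yon S).map k ≫ a = (AlgSp.yon S).map k ≫ b) :
    a = b := by
  apply (AlgSp.J S).uliftYonedaEquiv.injective
  have hF : Presieve.IsSheaf (AlgSp.J S) F.obj := (isSheaf_iff_isSheaf_of_type _ _).1 F.property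
  apply (hF _ hR).isSeparatedFor.ext
  intro V k hk
  show F.obj.map k.op ((AlgSp.J S).uliftYonedaEquiv a) = F.obj.map k.op ((AlgSp.J S).uliftYonedaEquiv b)
  rw [GrothendieckTopology.uliftYonedaEquiv_naturality,
    GrothendieckTopology.uliftYonedaEquiv_naturality, h k hk]

/-- A morphism of sheaves which is left-cancellable on representable sheaves is a monomorphism. -/
theorem mono_of_yon_cancel {F G : AlgSp.Sp S} (f : F ⟶ G)
    (h : ∀ (T : Over S) (a b : (AlgSp.yon S).obj T ⟶ F), a ≫ f = b ≫ f → a = b) : Mono f := by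
  have : Mono f.hom := by
    apply (config := { allowSynthFailures := true }) NatTrans.mono_of_mono_app
    intro T
    rw [mono_iff_injective]
    intro x y hxy
    have key : ((AlgSp.J S).uliftYonedaEquiv.symm x : (AlgSp.yon S).obj T.unop ⟶ F) =
        (AlgSp.J S).uliftYonedaEquiv.symm y := by
      apply h
      apply (AlgSp.J S).uliftYonedaEquiv.injective
      rw [GrothendieckTopology.uliftYonedaEquiv_comp, GrothendieckTopology.uliftYonedaEquiv_comp,
        Equiv.apply_symm_apply, Equiv.apply_symm_apply]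
      exact hxy
    exact (AlgSp.J S).uliftYonedaEquiv.symm.injective key
  exact Sheaf.Hom.mono_of_presheaf_mono _ _ _

/-- Uniqueness of epi-mono factorizations in the topos of fppf sheaves. -/
theorem exists_iso_of_epi_mono {A P P' B : AlgSp.Sp S} (c : A ⟶ P) [Epi c] (m : P ⟶ B) [Mono m]
    (c' : A ⟶ P') [Epi c'] (m' : P' ⟶ B) [Mono m'] (h : c ≫ m = c' ≫ m') :
    ∃ e : P ≅ P', e.hom ≫ m' = m ∧ c ≫ e.hom = c' := by
  haveI : StrongEpi c := strongEpi_of_epi c
  haveI : StrongEpi c' := strongEpi_of_epi c'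
  have sq1 : CommSq c' c m' m := ⟨h.symm⟩
  have sq2 : CommSq c c' m m' := ⟨h⟩
  refine ⟨⟨sq1.lift, sq2.lift, ?_, ?_⟩, sq1.fac_right, sq1.fac_left⟩
  · rw [← cancel_mono m, Category.assoc, sq2.fac_right, sq1.fac_right, Category.id_comp]
  · rw [← cancel_mono m', Category.assoc, sq1.fac_right, sq2.fac_right, Category.id_comp]

/-- Representability by immersions descends along an epimorphism from a representable sheaf
(affine test objects). -/
theorem representable_of_epi_cover_isImmersion {F G : AlgSp.Sp S} (f : F ⟶ G) (V : Over S)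
    (p : (AlgSp.yon S).obj V ⟶ G) [Epi p] {P : AlgSp.Sp S} (fst : P ⟶ F)
    (snd : P ⟶ (AlgSp.yon S).obj V) (sq : IsPullback fst snd f p)
    (h : AlgSp.RepWith @IsImmersion snd) : AlgSp.Representable f := by
  refine representable_of_affine f (fun T hT g => ?_)
  haveI : IsAffine T.left := hT
  obtain ⟨V₀, q, b, hV₀, hq1, hq2, hq3, hb⟩ := exists_affine_lift_of_epi p g
  haveI := hV₀; haveI := hq1; haveI := hq2; haveI := hq3
  haveI : IsImmersion (h.rep.snd b).left := h.property_snd b
  have sqbig : IsPullback (h.rep.fst b ≫ fst) ((AlgSp.yon S).map (h.rep.snd b)) f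
      ((AlgSp.yon S).map q ≫ g) := by
    rw [← hb]
    exact (h.rep.isPullback b).paste_horiz sq
  have w0 : (h.rep.fst b ≫ fst) ≫ f =
      ((AlgSp.yon S).map (h.rep.snd b) ≫ (AlgSp.yon S).map q) ≫ g := by
    rw [sqbig.w, Category.assoc]
  let l : (AlgSp.yon S).obj (h.rep.pullback b) ⟶ pullback f g := pullback.lift _ _ w0
  have hl1 : l ≫ pullback.fst f g = h.rep.fst b ≫ fst := pullback.lift_fst _ _ _
  have hl2 : l ≫ pullback.snd f g =
      (AlgSp.yon S).map (h.rep.snd b) ≫ (AlgSp.yon S).map q := pullback.lift_snd _ _ _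
  have sqZ : IsPullback l ((AlgSp.yon S).map (h.rep.snd b)) (pullback.snd f g)
      ((AlgSp.yon S).map q) := by
    refine IsPullback.of_right ?_ hl2 (IsPullback.of_hasPullback f g)
    rw [hl1]
    exact sqbig
  obtain ⟨W, w, e, he, hw⟩ := exists_immersion_of_isPullback_fppf q
    (h.rep.snd b) (pullback.snd f g) l sqZ
  refine ⟨W, w, e.hom ≫ pullback.fst f g, ?_⟩
  refine IsPullback.of_iso (IsPullback.of_hasPullback f g) e.symm (Iso.refl _) (Iso.refl _)
    (Iso.refl _) ?_ ?_ ?_ ?_
  · simp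
  · simp [← he]
  · simp
  · simp

/-- `RepWith Q` descends along an epimorphism from a representable sheaf, for `Q` satisfying fpqc
descent. -/
theorem repWith_of_epi_cover (Q : MorphismProperty Scheme.{u})
    [Q.DescendsAlong (@Surjective ⊓ @Flat ⊓ @QuasiCompact)] [IsZariskiLocalAtTarget Q]
    {F G : AlgSp.Sp S} (f : F ⟶ G) (V : Over S)
    (p : (AlgSp.yon S).obj V ⟶ G) [Epi p] {P : AlgSp.Sp S} (fst : P ⟶ F)
    (snd : P ⟶ (AlgSp.yon S).obj V) (sq : IsPullback fst snd f p)
    (hf : AlgSp.Representable f) (hQ : AlgSp.RepWith Q snd) : AlgSp.RepWith Q f := by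
  refine repWith_of_affine Q hf ?_
  intro T V' hT g fstV v sqV
  haveI : IsAffine T.left := hT
  obtain ⟨V₀, q, b, hV₀, hq1, hq2, hq3, hb⟩ := exists_affine_lift_of_epi p g
  haveI := hV₀
  obtain ⟨W, w1, w2, sqW, sqWl⟩ := isPullback_over' v q
  have big : IsPullback ((AlgSp.yon S).map w1 ≫ fstV) ((AlgSp.yon S).map w2) f (b ≫ p) := by
    rw [hb]
    exact (sqW.map (AlgSp.yon S)).paste_horiz sqV
  have hbw : ((AlgSp.yon S).map w1 ≫ fstV) ≫ f = ((AlgSp.yon S).map w2 ≫ b) ≫ p := by
    rw [Category.assoc _ b]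
    exact big.w
  have hl1 : sq.lift _ _ hbw ≫ fst = (AlgSp.yon S).map w1 ≫ fstV := sq.lift_fst _ _ _
  have hl2 : sq.lift _ _ hbw ≫ snd = (AlgSp.yon S).map w2 ≫ b := sq.lift_snd _ _ _
  have left : IsPullback (sq.lift _ _ hbw) ((AlgSp.yon S).map w2) snd b := by
    refine IsPullback.of_right ?_ hl2 sq
    rw [hl1]
    exact big
  have hQw : Q w2.left := hQ.2 _ _ _ left
  have hqc : QuasiCompact q.left := inferInstance
  exact MorphismProperty.of_isPullback_of_descendsAlong
    (Q := (@Surjective ⊓ @Flat ⊓ @QuasiCompact : MorphismProperty Scheme.{u}))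
    sqWl.flip ⟨⟨hq3, hq1⟩, hqc⟩ hQw

/-- Open immersions descend along an epimorphism from a representable sheaf. -/
theorem repWith_isOpenImmersion_of_epi_cover {F G : AlgSp.Sp S} (f : F ⟶ G) (V : Over S)
    (p : (AlgSp.yon S).obj V ⟶ G) [Epi p] {P : AlgSp.Sp S} (fst : P ⟶ F)
    (snd : P ⟶ (AlgSp.yon S).obj V) (sq : IsPullback fst snd f p)
    (h : AlgSp.RepWith @IsOpenImmersion snd) : AlgSp.RepWith @IsOpenImmersion f := by
  have h1 : AlgSp.RepWith @IsImmersion snd :=
    MorphismProperty.relative_monotone (fun A B k hk => by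
      have : IsOpenImmersion k.left := hk
      change IsImmersion k.left
      infer_instance) _ h
  have h2 := representable_of_epi_cover_isImmersion f V p fst snd sq h1
  exact repWith_of_epi_cover @IsOpenImmersion f V p fst snd sq h2 h

/-- The open image of a flat, locally finitely presented morphism, with the induced fppf cover. -/
theorem exists_open_image {R₁ U : Over S} (v : R₁ ⟶ U) [Flat v.left]
    [LocallyOfFinitePresentation v.left] :
    ∃ (W : Over S) (ι : W ⟶ U) (v' : R₁ ⟶ W), IsOpenImmersion ι.left ∧ v' ≫ ι = v ∧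
      Epi ((AlgSp.yon S).map v') := by
  let O : U.left.Opens := ⟨Set.range v.left, v.left.isOpenMap.isOpen_range⟩
  have hrange : Set.range v.left ⊆ Set.range O.ι := by
    rw [Scheme.Opens.range_ι]
    exact subset_rfl
  let v'l : R₁.left ⟶ O.toScheme := IsOpenImmersion.lift O.ι v.left hrange
  have hfac : v'l ≫ O.ι = v.left := IsOpenImmersion.lift_fac _ _ _
  let W : Over S := Over.mk (O.ι ≫ U.hom)
  let ι : W ⟶ U := Over.homMk O.ι rfl
  let v' : R₁ ⟶ W := Over.homMk v'l (by
    change v'l ≫ O.ι ≫ U.hom = R₁.hom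
    rw [← Category.assoc, hfac, Over.w v])
  have hv' : v' ≫ ι = v := by
    apply Over.OverMorphism.ext
    exact hfac
  haveI : IsOpenImmersion ι.left := inferInstanceAs (IsOpenImmersion O.ι)
  haveI hfl : Flat v'.left :=
    MorphismProperty.of_postcomp (W := @Flat) (W' := @IsOpenImmersion) v'l O.ι inferInstance
      (by rw [hfac]; infer_instance)
  haveI hlfp : LocallyOfFinitePresentation v'.left :=
    MorphismProperty.of_postcomp (W := @LocallyOfFinitePresentation) (W' := @IsOpenImmersion)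
      v'l O.ι inferInstance (by rw [hfac]; infer_instance)
  haveI hsurj : Surjective v'.left := by
    constructor
    rintro ⟨y, x, hx⟩
    refine ⟨x, ?_⟩
    apply O.ι.injective
    change (v'l ≫ O.ι) x = _
    rw [hfac]
    exact hx
  refine ⟨W, ι, v', inferInstance, hv', ?_⟩
  exact epi_of_repWith_fppf _ ((AlgSp.repWith_yon_map_iff @Flat v').2 hfl)
    ((AlgSp.repWith_yon_map_iff @LocallyOfFinitePresentation v').2 hlfp)
    ((AlgSp.repWith_yon_map_iff @Surjective v').2 hsurj)

section Restrict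
variable {R U R' U' : Over S} {s t : R ⟶ U} {g : U' ⟶ U} {s' t' : R' ⟶ U'} {r : R' ⟶ R}

theorem qπ_comp_of_quotπ_comp
    (φ : QuotSh.quot Scheme.fppfPrecoverage s' t' ⟶ QuotSh.quot Scheme.fppfPrecoverage s t)
    (hφ : QuotSh.quotπ Scheme.fppfPrecoverage s' t' ≫ φ =
      QuotSh.repMap Scheme.fppfPrecoverage g ≫ QuotSh.quotπ Scheme.fppfPrecoverage s t) :
    qπ s' t' ≫ φ = (AlgSp.yon S).map g ≫ qπ s t := by
  rw [Category.assoc, hφ, ← Category.assoc, ← yon_map_repIso_inv, Category.assoc]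

theorem mono_quot_restrict
    (hsq : IsPullback (prod.lift t' s') r (prod.map g g) (prod.lift t s))
    (hR : AlgSp.IsEqvRel s t)
    (φ : QuotSh.quot Scheme.fppfPrecoverage s' t' ⟶ QuotSh.quot Scheme.fppfPrecoverage s t)
    (hφ' : qπ s' t' ≫ φ = (AlgSp.yon S).map g ≫ qπ s t) : Mono φ := by
  apply mono_of_yon_cancel
  intro T a b hab
  obtain ⟨Ra, hRa, Ha⟩ := exists_cover_lift_of_epi (qπ s' t') a
  obtain ⟨Rb, hRb, Hb⟩ := exists_cover_lift_of_epi (qπ s' t') b
  refine yon_hom_ext_of_cover a b (Ra ⊓ Rb) ((AlgSp.J S).intersection_covering hRa hRb) ?_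
  rintro V k ⟨hka, hkb⟩
  obtain ⟨a₁, ha₁⟩ := Ha k hka
  obtain ⟨b₁, hb₁⟩ := Hb k hkb
  obtain ⟨a', rfl⟩ := (AlgSp.yon S).map_surjective a₁
  obtain ⟨b', rfl⟩ := (AlgSp.yon S).map_surjective b₁
  rw [← ha₁, ← hb₁]
  have ea : (AlgSp.yon S).map (a' ≫ g) ≫ qπ s t = (AlgSp.yon S).map k ≫ a ≫ φ := by
    rw [Functor.map_comp, Category.assoc ((AlgSp.yon S).map a') ((AlgSp.yon S).map g) (qπ s t),
      ← hφ', ← Category.assoc ((AlgSp.yon S).map a') (qπ s' t') φ, ha₁,
      Category.assoc ((AlgSp.yon S).map k) a φ]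
  have eb : (AlgSp.yon S).map (b' ≫ g) ≫ qπ s t = (AlgSp.yon S).map k ≫ b ≫ φ := by
    rw [Functor.map_comp, Category.assoc ((AlgSp.yon S).map b') ((AlgSp.yon S).map g) (qπ s t),
      ← hφ', ← Category.assoc ((AlgSp.yon S).map b') (qπ s' t') φ, hb₁,
      Category.assoc ((AlgSp.yon S).map k) b φ]
  have h1 : (AlgSp.yon S).map (a' ≫ g) ≫ qπ s t = (AlgSp.yon S).map (b' ≫ g) ≫ qπ s t := by
    rw [ea, eb, hab]
  obtain ⟨r₀, hr1, hr2⟩ := exists_rel_of_eqvSieve_mem hR _ _ (eqvSieve_mem_of_qπ_eq s t _ _ h1)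
  have hcomp : prod.lift b' a' ≫ prod.map g g = r₀ ≫ prod.lift t s := by
    apply Limits.prod.hom_ext
    · simp [hr2]
    · simp [hr1]
  obtain ⟨ρ, e2, e3⟩ : ∃ ρ : V ⟶ R', ρ ≫ t' = b' ∧ ρ ≫ s' = a' := by
    have e1 : hsq.lift (prod.lift b' a') r₀ hcomp ≫ prod.lift t' s' = prod.lift b' a' :=
      hsq.lift_fst _ _ _
    refine ⟨hsq.lift (prod.lift b' a') r₀ hcomp, ?_, ?_⟩
    · have := congrArg (· ≫ prod.fst) e1
      simpa using this
    · have := congrArg (· ≫ prod.snd) e1
      simpa using this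
  rw [← e2, ← e3, Functor.map_comp, Functor.map_comp,
    Category.assoc ((AlgSp.yon S).map ρ) ((AlgSp.yon S).map s') (qπ s' t'),
    Category.assoc ((AlgSp.yon S).map ρ) ((AlgSp.yon S).map t') (qπ s' t'),
    yon_map_qπ_condition]

theorem repWith_isOpenImmersion_quot_restrict
    (hsq : IsPullback (prod.lift t' s') r (prod.map g g) (prod.lift t s))
    (hR : AlgSp.IsEqvRel s t)
    [Flat t.left] [LocallyOfFinitePresentation t.left]
    [Flat g.left] [LocallyOfFinitePresentation g.left]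
    (φ : QuotSh.quot Scheme.fppfPrecoverage s' t' ⟶ QuotSh.quot Scheme.fppfPrecoverage s t)
    (hφ : QuotSh.quotπ Scheme.fppfPrecoverage s' t' ≫ φ =
      QuotSh.repMap Scheme.fppfPrecoverage g ≫ QuotSh.quotπ Scheme.fppfPrecoverage s t) :
    AlgSp.RepWith @IsOpenImmersion φ := by
  have hφ' := qπ_comp_of_quotπ_comp φ hφ
  haveI : Mono φ := mono_quot_restrict hsq hR φ hφ'
  obtain ⟨R₁, pr1, pr2, sqR₁, sqR₁L⟩ := isPullback_over' s g
  have sqA : IsPullback ((AlgSp.yon S).map (pr1 ≫ t)) ((AlgSp.yon S).map pr2) (qπ s t)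
      (qπ s' t' ≫ φ) := by
    rw [hφ', Functor.map_comp]
    exact (sqR₁.map (AlgSp.yon S)).paste_horiz (isPullback_qπ hR)
  have wc : ((AlgSp.yon S).map pr2 ≫ qπ s' t') ≫ φ = (AlgSp.yon S).map (pr1 ≫ t) ≫ qπ s t := by
    rw [Category.assoc]
    exact sqA.w.symm
  let c : (AlgSp.yon S).obj R₁ ⟶ pullback φ (qπ s t) := pullback.lift _ _ wc
  have hc1 : c ≫ pullback.fst φ (qπ s t) = (AlgSp.yon S).map pr2 ≫ qπ s' t' :=
    pullback.lift_fst _ _ _
  have hc2 : c ≫ pullback.snd φ (qπ s t) = (AlgSp.yon S).map (pr1 ≫ t) :=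
    pullback.lift_snd _ _ _
  have sqc : IsPullback c ((AlgSp.yon S).map pr2) (pullback.fst φ (qπ s t)) (qπ s' t') := by
    refine IsPullback.of_right ?_ hc1 (IsPullback.of_hasPullback φ (qπ s t)).flip
    rw [hc2]
    exact sqA
  haveI : Epi c := Groth.Agent.Lib.Helper8.epi_of_isPullback_of_epi (AlgSp.J S) sqc
  haveI : Flat pr1.left := MorphismProperty.of_isPullback sqR₁L.flip ‹Flat g.left›
  haveI : LocallyOfFinitePresentation pr1.left :=
    MorphismProperty.of_isPullback sqR₁L.flip ‹LocallyOfFinitePresentation g.left›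
  haveI : Flat (pr1 ≫ t).left := by
    change Flat (pr1.left ≫ t.left)
    infer_instance
  haveI : LocallyOfFinitePresentation (pr1 ≫ t).left := by
    change LocallyOfFinitePresentation (pr1.left ≫ t.left)
    infer_instance
  obtain ⟨W, ι, v', hι, hv', hepi⟩ := exists_open_image (pr1 ≫ t)
  haveI := hι
  haveI := hepi
  haveI : Mono ((AlgSp.yon S).map ι) := mono_yon_map_of_mono_left ι
  obtain ⟨e, he1, -⟩ := exists_iso_of_epi_mono c (pullback.snd φ (qπ s t))
    ((AlgSp.yon S).map v') ((AlgSp.yon S).map ι) (by rw [hc2, ← Functor.map_comp, hv'])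
  have hsnd : AlgSp.RepWith @IsOpenImmersion (pullback.snd φ (qπ s t)) := by
    rw [← he1]
    exact (MorphismProperty.cancel_left_of_respectsIso (AlgSp.RepWith @IsOpenImmersion) e.hom
      ((AlgSp.yon S).map ι)).2 ((AlgSp.repWith_yon_map_iff @IsOpenImmersion ι).2 hι)
  exact repWith_isOpenImmersion_of_epi_cover φ U (qπ s t) (pullback.fst _ _) (pullback.snd _ _)
    (IsPullback.of_hasPullback _ _) hsnd

end Restrict

end Groth.Agent.Lib.Helper30.QuotEff
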