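import Groth.Agent.Lib.Helper30.AlgSpBC
import Groth.Agent.Lib.Helper30.AlgSpFib

/-!
# Change of base for fppf sheaves: sheaves over `S'` living over `h_S` (helper30)

For `g : S ⟶ S'`, a sheaf `G'` over `S'` with `π : G' ⟶ h_S` and `η : F ⟶ j⁻¹ G'` is "the
extension `j_! F`" (`IsShriek π η`) if `η` identifies `F(T)` with the sections of `G'` over
`T/S'` lying over the structure map `T ⟶ S`.  We show that then `G'` is an algebraic space
if `F` is, and the transfer of `RepWith P` for maps from schemes.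
-/

set_option autoImplicit false
set_option maxHeartbeats 400000
set_option backward.isDefEq.respectTransparency false

universe u

open CategoryTheory CategoryTheory.Limits AlgebraicGeometry Opposite

namespace Groth.Agent.Lib.Helper30.BC

open Groth.Agent.Lib.Helper51 Groth.Agent.Lib.Helper8

variable {S S' : Scheme.{u}} (g : S ⟶ S')

/-- The structure map of `T/S'` to `S/S'`. -/
def toS (T : Over S) : (Over.map g).obj T ⟶ Over.mk g := Over.homMk T.hom rfl

@[simp] theorem toS_left (T : Over S) : (toS g T).left = T.hom := rfl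

variable {g}

/-- The `S`-scheme attached to an `S'`-scheme with a map to `S`. -/
def lft {W' : Over S'} (σ : W' ⟶ Over.mk g) : Over S := Over.mk σ.left

@[simp] theorem lft_hom {W' : Over S'} (σ : W' ⟶ Over.mk g) : (lft σ).hom = σ.left := rfl

/-- `lft σ` viewed over `S'` is `W'`. -/
def lftIso {W' : Over S'} (σ : W' ⟶ Over.mk g) : (Over.map g).obj (lft σ) ≅ W' :=
  Over.isoMk (Iso.refl _) (by simpa using (Over.w σ).symm)

@[simp] theorem lftIso_hom_left {W' : Over S'} (σ : W' ⟶ Over.mk g) :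
    (lftIso σ).hom.left = 𝟙 _ := rfl

@[simp] theorem lftIso_inv_left {W' : Over S'} (σ : W' ⟶ Over.mk g) :
    (lftIso σ).inv.left = 𝟙 _ := rfl

theorem lftIso_hom_comp {W' : Over S'} (σ : W' ⟶ Over.mk g) :
    (lftIso σ).hom ≫ σ = toS g (lft σ) := by
  apply Over.OverMorphism.ext
  simp

/-- A morphism `T/S' ⟶ W'` compatible with the maps to `S` lifts to `T ⟶ lft σ`. -/
def lftHom {W' : Over S'} (σ : W' ⟶ Over.mk g) {T : Over S} (e : (Over.map g).obj T ⟶ W')
    (h : e ≫ σ = toS g T) : T ⟶ lft σ :=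
  Over.homMk e.left (by
    have := congrArg (fun t => t.left) h
    simpa using this)

@[simp] theorem lftHom_left {W' : Over S'} (σ : W' ⟶ Over.mk g) {T : Over S}
    (e : (Over.map g).obj T ⟶ W') (h : e ≫ σ = toS g T) : (lftHom σ e h).left = e.left := rfl

theorem map_lftHom {W' : Over S'} (σ : W' ⟶ Over.mk g) {T : Over S}
    (e : (Over.map g).obj T ⟶ W') (h : e ≫ σ = toS g T) :
    (Over.map g).map (lftHom σ e h) ≫ (lftIso σ).hom = e := by
  apply Over.OverMorphism.ext
  simp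

variable (g)

/-- `G'` with `π : G' ⟶ h_S` and `η : F ⟶ j⁻¹ G'` is the extension `j_! F`. -/
structure IsShriek {F : AlgSp.Sp S} {G' : AlgSp.Sp S'}
    (π : G' ⟶ (AlgSp.yon S').obj (Over.mk g)) (η : F ⟶ (Rg g).obj G') : Prop where
  inj : ∀ (T : Over S) (x y : F.obj.obj (op T)),
    η.hom.app (op T) x = η.hom.app (op T) y → x = y
  proj : ∀ (T : Over S) (x : F.obj.obj (op T)),
    π.hom.app (op ((Over.map g).obj T)) (η.hom.app (op T) x) = ⟨toS g T⟩
  surj : ∀ (T : Over S) (y : G'.obj.obj (op ((Over.map g).obj T))),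
    π.hom.app (op ((Over.map g).obj T)) y = ⟨toS g T⟩ → ∃ x, η.hom.app (op T) x = y

variable {g}

section

variable {F : AlgSp.Sp S} {G' : AlgSp.Sp S'} {π : G' ⟶ (AlgSp.yon S').obj (Over.mk g)}
  {η : F ⟶ (Rg g).obj G'}

theorem eta_naturality (η : F ⟶ (Rg g).obj G') {T W : Over S} (w : W ⟶ T) (x : F.obj.obj (op T)) :
    η.hom.app (op W) (F.obj.map w.op x) =
      G'.obj.map ((Over.map g).map w).op (η.hom.app (op T) x) :=
  NatTrans.naturality_apply η.hom w.op x

theorem pi_naturality (π : G' ⟶ (AlgSp.yon S').obj (Over.mk g)) {V' W' : Over S'} (k : V' ⟶ W')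
    (y : G'.obj.obj (op W')) :
    (π.hom.app (op V') (G'.obj.map k.op y)).down = k ≫ (π.hom.app (op W') y).down := by
  have := NatTrans.naturality_apply π.hom k.op y
  rw [this]
  rfl

/-- Every section of `G'` comes from a section of `F` over the lifted scheme. -/
theorem IsShriek.exists_lift (hI : IsShriek g π η) {W' : Over S'} (y : G'.obj.obj (op W')) :
    ∃ x : F.obj.obj (op (lft (π.hom.app (op W') y).down)),
      η.hom.app (op (lft (π.hom.app (op W') y).down)) x =
        G'.obj.map (lftIso (π.hom.app (op W') y).down).hom.op y := by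
  apply hI.surj
  apply ULift.ext
  rw [pi_naturality, lftIso_hom_comp]

theorem yon_map_comp_sec {S : Scheme.{u}} {F : AlgSp.Sp S} {T W : Over S} (w : W ⟶ T)
    (x : F.obj.obj (op T)) : (AlgSp.yon S).map w ≫ sec x = sec (F.obj.map w.op x) :=
  (AlgSp.J S).uliftYonedaEquiv_symm_naturality_left w F x

theorem sec_injective {S : Scheme.{u}} {F : AlgSp.Sp S} {T : Over S} {x y : F.obj.obj (op T)}
    (h : sec x = sec y) : x = y :=
  (AlgSp.J S).uliftYonedaEquiv.symm.injective h

/-- The map `h_{T/S'} ⟶ G'` attached to a section of `F` over `T`. -/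
noncomputable abbrev esec (η : F ⟶ (Rg g).obj G') {T : Over S} (x : F.obj.obj (op T)) :
    (AlgSp.yon S').obj ((Over.map g).obj T) ⟶ G' :=
  sec (S := S') (F := G') (T := (Over.map g).obj T) (η.hom.app (op T) x)

/-- The extension `j_!` preserves fibre products of schemes over `F`. -/
theorem IsShriek.isPullback (hI : IsShriek g π η) {T₁ T₂ V : Over S} {v₁ : V ⟶ T₁} {v₂ : V ⟶ T₂}
    {x₁ : F.obj.obj (op T₁)} {x₂ : F.obj.obj (op T₂)}
    (sq : IsPullback ((AlgSp.yon S).map v₁) ((AlgSp.yon S).map v₂) (sec x₁) (sec x₂)) :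
    IsPullback ((AlgSp.yon S').map ((Over.map g).map v₁))
      ((AlgSp.yon S').map ((Over.map g).map v₂))
      (esec η x₁) (esec η x₂) := by
  have hw : F.obj.map v₁.op x₁ = F.obj.map v₂.op x₂ := by
    apply sec_injective
    rw [← yon_map_comp_sec, ← yon_map_comp_sec]
    exact sq.w
  apply isPullback_sheaf_of_sections
  · rw [yon_map_comp_sec, yon_map_comp_sec, ← eta_naturality, ← eta_naturality, hw]
  · rintro ⟨Q'⟩ ⟨z₁⟩ ⟨z₂⟩ h1 h2
    have h1' : z₁ ≫ (Over.map g).map v₁ = z₂ ≫ (Over.map g).map v₁ := congrArg ULift.down h1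
    have h2' : z₁ ≫ (Over.map g).map v₂ = z₂ ≫ (Over.map g).map v₂ := congrArg ULift.down h2
    have h1l : z₁.left ≫ v₁.left = z₂.left ≫ v₁.left := by
      have := congrArg (fun t => t.left) h1'
      simpa using this
    have h2l : z₁.left ≫ v₂.left = z₂.left ≫ v₂.left := by
      have := congrArg (fun t => t.left) h2'
      simpa using this
    let Q : Over S := Over.mk (z₁.left ≫ V.hom)
    let ζ₁ : Q ⟶ V := Over.homMk z₁.left rfl
    let ζ₂ : Q ⟶ V := Over.homMk z₂.left (by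
      change z₂.left ≫ V.hom = z₁.left ≫ V.hom
      rw [← Over.w v₁, ← Category.assoc, ← Category.assoc, h1l])
    have e1 : (⟨ζ₁ ≫ v₁⟩ : ULift (Q ⟶ T₁)) = ⟨ζ₂ ≫ v₁⟩ := by
      congr 1
      apply Over.OverMorphism.ext
      simpa [ζ₁, ζ₂] using h1l
    have e2 : (⟨ζ₁ ≫ v₂⟩ : ULift (Q ⟶ T₂)) = ⟨ζ₂ ≫ v₂⟩ := by
      congr 1
      apply Over.OverMorphism.ext
      simpa [ζ₁, ζ₂] using h2l
    have h3 := Types.ext_of_isPullback (isPullback_ev _ sq Q)
      (x₁ := (⟨ζ₁⟩ : ULift (Q ⟶ V))) (y₁ := (⟨ζ₂⟩ : ULift (Q ⟶ V))) e1 e2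
    have h4 : z₁.left = z₂.left := congrArg (fun t => t.down.left) h3
    rw [Over.OverMorphism.ext h4]
  · rintro ⟨Q'⟩ ⟨q₁⟩ ⟨q₂⟩ h
    rw [sec_app, sec_app] at h
    have hσ : q₁ ≫ toS g T₁ = q₂ ≫ toS g T₂ := by
      have := congrArg (fun t => (π.hom.app (op Q') t).down) h
      simp only [pi_naturality, hI.proj] at this
      exact this
    let σ : Q' ⟶ Over.mk g := q₁ ≫ toS g T₁
    let e := lftIso σ
    let k₁ : lft σ ⟶ T₁ := Over.homMk q₁.left (by simp [σ])
    let k₂ : lft σ ⟶ T₂ := Over.homMk q₂.left (by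
      have := congrArg (fun t => t.left) hσ
      simpa [σ] using this.symm)
    have hk₁ : (Over.map g).map k₁ = e.hom ≫ q₁ := by
      apply Over.OverMorphism.ext
      simp [k₁, e]
    have hk₂ : (Over.map g).map k₂ = e.hom ≫ q₂ := by
      apply Over.OverMorphism.ext
      simp [k₂, e]
    have hk : F.obj.map k₁.op x₁ = F.obj.map k₂.op x₂ := by
      apply hI.inj
      rw [eta_naturality, eta_naturality, hk₁, hk₂, op_comp, op_comp,
        Functor.map_comp_apply, Functor.map_comp_apply, h]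
    obtain ⟨⟨ζ⟩, hζ1, hζ2⟩ := Types.exists_of_isPullback (isPullback_ev _ sq (lft σ))
      ⟨k₁⟩ ⟨k₂⟩ (by rw [sec_app, sec_app]; exact hk)
    have hζ1' : ζ ≫ v₁ = k₁ := congrArg ULift.down hζ1
    have hζ2' : ζ ≫ v₂ = k₂ := congrArg ULift.down hζ2
    refine ⟨⟨e.inv ≫ (Over.map g).map ζ⟩, ?_, ?_⟩
    · change (⟨(e.inv ≫ (Over.map g).map ζ) ≫ (Over.map g).map v₁⟩ : ULift _) = ⟨q₁⟩
      rw [Category.assoc, ← Functor.map_comp, hζ1', hk₁, Iso.inv_hom_id_assoc]
    · change (⟨(e.inv ≫ (Over.map g).map ζ) ≫ (Over.map g).map v₂⟩ : ULift _) = ⟨q₂⟩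
      rw [Category.assoc, ← Functor.map_comp, hζ2', hk₂, Iso.inv_hom_id_assoc]

theorem sec_equiv {S : Scheme.{u}} {F : AlgSp.Sp S} {T : Over S}
    (a : (AlgSp.yon S).obj T ⟶ F) : sec ((AlgSp.J S).uliftYonedaEquiv a) = a :=
  Equiv.symm_apply_apply _ a

/-- Every map from a scheme to `G'` comes from a section of `F`. -/
theorem IsShriek.exists_factor (hI : IsShriek g π η) {W' : Over S'}
    (a' : (AlgSp.yon S').obj W' ⟶ G') :
    ∃ (W : Over S) (e : (Over.map g).obj W ≅ W') (x : F.obj.obj (op W)),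
      (AlgSp.yon S').map e.hom ≫ a' = esec η x := by
  obtain ⟨x, hx⟩ := hI.exists_lift ((AlgSp.J S').uliftYonedaEquiv a')
  refine ⟨_, lftIso _, x, ?_⟩
  unfold esec
  rw [hx, ← yon_map_comp_sec, sec_equiv]

theorem isPullback_of_iso_comp {C : Type*} [Category C] {A B D B' D' E : C} {t : A ⟶ B}
    {l : A ⟶ D} {r : B' ⟶ E} {b : D' ⟶ E} (eB : B ≅ B') (eD : D ≅ D')
    (h : IsPullback t l (eB.hom ≫ r) (eD.hom ≫ b)) : IsPullback (t ≫ eB.hom) (l ≫ eD.hom) r b :=
  IsPullback.of_iso h (Iso.refl _) eB eD (Iso.refl _) (by simp) (by simp) (by simp) (by simp)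

/-- Transfer of `RepWith P` from `F` to its extension. -/
theorem IsShriek.repWith_sec (hI : IsShriek g π η) (P : MorphismProperty Scheme.{u})
    [P.IsStableUnderBaseChange] {T : Over S} (x : F.obj.obj (op T))
    (h : AlgSp.RepWith P (sec x)) : AlgSp.RepWith P (esec η x) := by
  have : P.RespectsIso := MorphismProperty.IsStableUnderBaseChange.respectsIso
  apply MorphismProperty.relative.of_exists
  intro W' a'
  obtain ⟨W, e, x₂, hx₂⟩ := hI.exists_factor a'
  obtain ⟨V, v, fst, sq⟩ := h.rep (sec x₂)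
  have hP : P v.left := h.property (sec x₂) fst v sq
  obtain ⟨u, rfl⟩ := (AlgSp.yon S).map_surjective fst
  have sq' := hI.isPullback sq
  rw [← hx₂] at sq'
  have sq'' := isPullback_of_iso_comp (Iso.refl _) ((AlgSp.yon S').mapIso e)
    (by simpa using sq')
  refine ⟨(Over.map g).obj V, (AlgSp.yon S').map ((Over.map g).map u),
    (Over.map g).map v ≫ e.hom, ?_, ?_⟩
  · rw [Functor.map_comp]
    simpa using sq''
  · change P (v.left ≫ e.hom.left)
    have : IsIso e.hom.left := (inferInstance : IsIso ((Over.forget S').map e.hom))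
    exact (P.cancel_right_of_respectsIso _ _).2 hP

/-- The extension of an algebraic space is an algebraic space. -/
theorem IsShriek.isAlgSpace (hI : IsShriek g π η) (hF : AlgSp.IsAlgSpace F) :
    AlgSp.IsAlgSpace G' := by
  constructor
  · refine Functor.relativelyRepresentable.diag_of_map_from_obj (fun W' a' => ?_)
    intro Z' b'
    obtain ⟨Wa, ea, xa, ha⟩ := hI.exists_factor a'
    obtain ⟨Wb, eb, xb, hb⟩ := hI.exists_factor b'
    obtain ⟨V, v₂, fst, sq⟩ := hF.representable_from_yon (sec xa) (sec xb)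
    obtain ⟨v₁, rfl⟩ := (AlgSp.yon S).map_surjective fst
    have sq' := hI.isPullback sq
    rw [← ha, ← hb] at sq'
    have sq'' := isPullback_of_iso_comp ((AlgSp.yon S').mapIso ea) ((AlgSp.yon S').mapIso eb) sq'
    refine ⟨(Over.map g).obj V, (Over.map g).map v₂ ≫ eb.hom,
      (AlgSp.yon S').map ((Over.map g).map v₁) ≫ (AlgSp.yon S').map ea.hom, ?_⟩
    rw [Functor.map_comp]
    exact sq''
  · obtain ⟨U, p, het, hsurj⟩ := hF.atlas
    rw [← sec_equiv p] at het hsurj
    exact ⟨(Over.map g).obj U, esec η ((AlgSp.J S).uliftYonedaEquiv p),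
      hI.repWith_sec _ _ het, hI.repWith_sec _ _ hsurj⟩

end

section Delta

variable (g)

theorem map_comp_toS {T W : Over S} (w : W ⟶ T) : (Over.map g).map w ≫ toS g T = toS g W := by
  apply Over.OverMorphism.ext
  simp

/-- The tautological section `* ⟶ j⁻¹ h_S`. -/
noncomputable def delta :
    (AlgSp.yon S).obj (Over.mk (𝟙 S)) ⟶ (Rg g).obj ((AlgSp.yon S').obj (Over.mk g)) :=
  sec (S := S) (F := (Rg g).obj ((AlgSp.yon S').obj (Over.mk g))) (T := Over.mk (𝟙 S))
    ⟨toS g (Over.mk (𝟙 S))⟩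

theorem delta_app {T : Over S} (t : T ⟶ Over.mk (𝟙 S)) :
    (delta g).hom.app (op T) ⟨t⟩ = ⟨toS g T⟩ := by
  unfold delta
  rw [sec_app]
  change (⟨(Over.map g).map t ≫ toS g (Over.mk (𝟙 S))⟩ : ULift _) = _
  rw [map_comp_toS]

/-- The map to the terminal sheaf `h_{S/S}`. -/
noncomputable def toPt (F : AlgSp.Sp S) : F ⟶ (AlgSp.yon S).obj (Over.mk (𝟙 S)) :=
  ObjectProperty.homMk
    { app := fun T => ↾(fun _ => ⟨Over.homMk T.unop.hom (by simp)⟩)
      naturality := by
        rintro ⟨T⟩ ⟨W⟩ ⟨w⟩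
        ext x
        apply ULift.ext
        apply Over.OverMorphism.ext
        change W.hom = w.left ≫ T.hom
        exact (Over.w w).symm }

theorem pt_ext {T : Over S} (a b : T ⟶ Over.mk (𝟙 S)) : a = b :=
  Over.mkIdTerminal.hom_ext a b

variable {g}

theorem IsShriek.isPullback_delta {F : AlgSp.Sp S} {G' : AlgSp.Sp S'}
    {π : G' ⟶ (AlgSp.yon S').obj (Over.mk g)} {η : F ⟶ (Rg g).obj G'} (hI : IsShriek g π η) :
    IsPullback (toPt F) η (delta g) ((Rg g).map π) := by
  apply isPullback_sheaf_of_sections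
  · apply Sheaf.hom_ext
    ext ⟨T⟩ x
    change (delta g).hom.app (op T) ((toPt F).hom.app (op T) x) =
      π.hom.app (op ((Over.map g).obj T)) (η.hom.app (op T) x)
    rw [hI.proj]
    exact delta_app g _
  · rintro ⟨T⟩ x y _ h
    exact hI.inj T x y h
  · rintro ⟨T⟩ ⟨t⟩ y h
    rw [delta_app] at h
    obtain ⟨x, hx⟩ := hI.surj T y h.symm
    exact ⟨x, congrArg ULift.up (pt_ext _ _), hx⟩

/-- If the extension is an algebraic space, so is the original sheaf. -/
theorem IsShriek.isAlgSpace_of {F : AlgSp.Sp S} {G' : AlgSp.Sp S'}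
    {π : G' ⟶ (AlgSp.yon S').obj (Over.mk g)} {η : F ⟶ (Rg g).obj G'} (hI : IsShriek g π η)
    (hG' : AlgSp.IsAlgSpace G') : AlgSp.IsAlgSpace F :=
  isAlgSpace_of_isPullback (isAlgSpace_Rg g (AlgSp.IsAlgSpace.yon_obj _)).diag
    (AlgSp.IsAlgSpace.yon_obj _) (isAlgSpace_Rg g hG') hI.isPullback_delta

end Delta

end Groth.Agent.Lib.Helper30.BC
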