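import Groth.Agent.Lib.Helper30.AlgSpShriekUniv

/-!
# Algebraic spaces over `S` are algebraic spaces over `S'` with a map to `h_S` (helper30)
-/

set_option autoImplicit false
set_option maxHeartbeats 400000
set_option backward.isDefEq.respectTransparency false

universe u

open CategoryTheory CategoryTheory.Limits AlgebraicGeometry Opposite

namespace Groth.Agent.Lib.Helper30.BC

open Groth.Agent.Lib.Helper51 Groth.Agent.Lib.Helper8

variable {S S' : Scheme.{u}} {g : S ⟶ S'}

section

variable {F : AlgSp.Sp S} {G' : AlgSp.Sp S'} {π : G' ⟶ (AlgSp.yon S').obj (Over.mk g)}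
  {η : F ⟶ (Rg g).obj G'}

theorem iso_hom_inv_app {S : Scheme.{u}} {A B : AlgSp.Sp S} (e : A ≅ B) (W : (Over S)ᵒᵖ)
    (z : B.obj.obj W) : e.hom.hom.app W (e.inv.hom.app W z) = z := by
  have := congrArg (fun t => t.hom.app W z) e.inv_hom_id
  exact this

theorem iso_inv_hom_app {S : Scheme.{u}} {A B : AlgSp.Sp S} (e : A ≅ B) (W : (Over S)ᵒᵖ)
    (z : A.obj.obj W) : e.inv.hom.app W (e.hom.hom.app W z) = z := by
  have := congrArg (fun t => t.hom.app W z) e.hom_inv_id
  exact this

theorem IsShriek.of_iso (hI : IsShriek g π η) {G'' : AlgSp.Sp S'} (e : G'' ≅ G') :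
    IsShriek g (e.hom ≫ π) (η ≫ (Rg g).map e.inv) where
  inj T x y h := by
    apply hI.inj
    have := congrArg (e.hom.hom.app (op ((Over.map g).obj T))) h
    change e.hom.hom.app _ (e.inv.hom.app _ (η.hom.app (op T) x)) =
      e.hom.hom.app _ (e.inv.hom.app _ (η.hom.app (op T) y)) at this
    rwa [iso_hom_inv_app, iso_hom_inv_app] at this
  proj T x := by
    have h1 := iso_hom_inv_app e (op ((Over.map g).obj T)) (η.hom.app (op T) x)
    have h2 := hI.proj T x
    change π.hom.app (op ((Over.map g).obj T)) (e.hom.hom.app (op ((Over.map g).obj T))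
      (e.inv.hom.app (op ((Over.map g).obj T)) (η.hom.app (op T) x))) = _
    rw [h1]
    exact h2
  surj T y hy := by
    obtain ⟨x, hx⟩ := hI.surj T (e.hom.hom.app _ y) hy
    refine ⟨x, ?_⟩
    change e.inv.hom.app (op ((Over.map g).obj T)) (η.hom.app (op T) x) = y
    exact (congrArg (e.inv.hom.app (op ((Over.map g).obj T))) hx).trans
      (iso_inv_hom_app e _ y)

theorem IsShriek.comm (hI : IsShriek g π η) : η ≫ (Rg g).map π = toPt F ≫ delta g :=
  hI.isPullback_delta.w.symm

end

variable (g)

/-- The structure map `j_! F ⟶ h_S`. -/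
noncomputable def piL (F : AlgSp.Sp S) : (Lg g).obj F ⟶ (AlgSp.yon S').obj (Over.mk g) :=
  ((adjLR g).homEquiv F _).symm (toPt F ≫ delta g)

theorem homEquiv_piL (F : AlgSp.Sp S) :
    (adjLR g).homEquiv F _ (piL g F) = toPt F ≫ delta g :=
  Equiv.apply_symm_apply _ _

theorem toPt_unique {S : Scheme.{u}} {F : AlgSp.Sp S}
    (a : F ⟶ (AlgSp.yon S).obj (Over.mk (𝟙 S))) : a = toPt F := by
  apply Sheaf.hom_ext
  ext ⟨T⟩ x
  apply ULift.ext
  exact pt_ext _ _

theorem comp_toPt {S : Scheme.{u}} {F₁ F₂ : AlgSp.Sp S} (f : F₁ ⟶ F₂) :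
    f ≫ toPt F₂ = toPt F₁ := toPt_unique _

theorem Lg_map_piL {F₁ F₂ : AlgSp.Sp S} (f : F₁ ⟶ F₂) :
    (Lg g).map f ≫ piL g F₂ = piL g F₁ := by
  apply ((adjLR g).homEquiv _ _).injective
  rw [Adjunction.homEquiv_naturality_left, homEquiv_piL, homEquiv_piL, ← Category.assoc,
    comp_toPt]

/-- `j_! F` with its structure map and the unit is an extension of `F`. -/
theorem isShriek_Lg (F : AlgSp.Sp S) : IsShriek g (piL g F) ((adjLR g).unit.app F) := by
  have hI := isShriek_shriek g F
  have h := hI.of_iso hI.iso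
  have h1 : hI.iso.hom ≫ shriekπ g F = piL g F := by
    apply ((adjLR g).homEquiv _ _).injective
    rw [Adjunction.homEquiv_naturality_right, hI.homEquiv_iso_hom, homEquiv_piL, hI.comm]
  have h2 : shriekη g F ≫ (Rg g).map hI.iso.inv = (adjLR g).unit.app F := by
    have e1 : (adjLR g).unit.app F ≫ (Rg g).map hI.iso.hom = shriekη g F :=
      ((adjLR g).homEquiv_unit _ _ _).symm.trans hI.homEquiv_iso_hom
    calc shriekη g F ≫ (Rg g).map hI.iso.inv
        = ((adjLR g).unit.app F ≫ (Rg g).map hI.iso.hom) ≫ (Rg g).map hI.iso.inv := by rw [e1]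
      _ = (adjLR g).unit.app F := by
        rw [Category.assoc, ← Functor.map_comp, Iso.hom_inv_id, CategoryTheory.Functor.map_id]
        exact Category.comp_id _
  rwa [h1, h2] at h

/-- `j_!` as a functor from algebraic spaces over `S` to algebraic spaces over `S'` over `h_S`. -/
noncomputable def shriekOver :
    AlgSp.Space S ⥤ Over ((AlgSp.ofScheme S').obj (Over.mk g)) where
  obj F := Over.mk
    (Y := (⟨(Lg g).obj F.obj, isAlgSpace_Lg F.property⟩ : AlgSp.Space S'))
    (ObjectProperty.homMk (piL g F.obj))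
  map f := Over.homMk (ObjectProperty.homMk ((Lg g).map f.hom)) (by
    apply ObjectProperty.hom_ext
    exact Lg_map_piL g f.hom)
  map_id F := by
    apply Over.OverMorphism.ext
    apply ObjectProperty.hom_ext
    exact (Lg g).map_id F.obj
  map_comp f f' := by
    apply Over.OverMorphism.ext
    apply ObjectProperty.hom_ext
    exact (Lg g).map_comp f.hom f'.hom

theorem shriekOver_map_left_hom {F₁ F₂ : AlgSp.Space S} (f : F₁ ⟶ F₂) :
    ((shriekOver g).map f).left.hom = (Lg g).map f.hom := rfl

instance : (shriekOver g).Faithful where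
  map_injective {F₁ F₂} f f' h := by
    have h1 : (Lg g).map f.hom = (Lg g).map f'.hom :=
      congrArg (fun t => t.left.hom) h
    have sq₂ := (isShriek_Lg g F₂.obj).isPullback_delta
    apply ObjectProperty.hom_ext
    apply sq₂.hom_ext
    · rw [comp_toPt, comp_toPt]
    · exact ((adjLR g).unit_naturality f.hom).symm.trans
        ((congrArg (fun t => (adjLR g).unit.app F₁.obj ≫ (Rg g).map t) h1).trans
          ((adjLR g).unit_naturality f'.hom))

instance : (shriekOver g).Full where
  map_surjective {F₁ F₂} φ := by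
    have hI₁ := isShriek_Lg g F₁.obj
    have sq₂ := (isShriek_Lg g F₂.obj).isPullback_delta
    have hw : φ.left.hom ≫ piL g F₂.obj = piL g F₁.obj :=
      congrArg (fun t => t.hom) (Over.w φ)
    let ψ : F₁.obj ⟶ (Rg g).obj ((Lg g).obj F₂.obj) :=
      (adjLR g).unit.app F₁.obj ≫ (Rg g).map φ.left.hom
    have hψ : toPt F₁.obj ≫ delta g = ψ ≫ (Rg g).map (piL g F₂.obj) := by
      rw [Category.assoc, ← Functor.map_comp, hw, hI₁.comm]
      rfl
    let f₀ : F₁.obj ⟶ F₂.obj := sq₂.lift (toPt F₁.obj) ψ hψ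
    have hf₀ : f₀ ≫ (adjLR g).unit.app F₂.obj = ψ := sq₂.lift_snd _ _ _
    refine ⟨ObjectProperty.homMk f₀, ?_⟩
    apply Over.OverMorphism.ext
    apply ObjectProperty.hom_ext
    change (Lg g).map f₀ = φ.left.hom
    apply ((adjLR g).homEquiv _ _).injective
    rw [Adjunction.homEquiv_unit, Adjunction.homEquiv_unit]
    exact ((adjLR g).unit_naturality f₀).trans hf₀

instance : (shriekOver g).EssSurj where
  mem_essImage Y := by
    let p : Y.left.obj ⟶ (AlgSp.yon S').obj (Over.mk g) := Y.hom.hom
    let F₀ : AlgSp.Sp S := Limits.pullback (delta g) ((Rg g).map p)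
    have sq : IsPullback (pullback.fst (delta g) ((Rg g).map p))
        (pullback.snd (delta g) ((Rg g).map p)) (delta g) ((Rg g).map p) :=
      IsPullback.of_hasPullback _ _
    have hF₀ : AlgSp.IsAlgSpace F₀ :=
      isAlgSpace_of_isPullback (isAlgSpace_Rg g (AlgSp.IsAlgSpace.yon_obj _)).diag
        (AlgSp.IsAlgSpace.yon_obj _) (isAlgSpace_Rg g Y.left.property) sq
    have hfst : pullback.fst (delta g) ((Rg g).map p) = toPt F₀ := toPt_unique _
    have hI₀ : IsShriek g p (pullback.snd (delta g) ((Rg g).map p)) := by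
      constructor
      · intro T x y h
        exact Types.ext_of_isPullback (isPullback_ev _ sq T) (by rw [hfst]; rfl) h
      · intro T x
        have := congrArg (fun t => t.hom.app (op T) x) sq.w
        change (delta g).hom.app (op T) ((pullback.fst (delta g) ((Rg g).map p)).hom.app (op T) x)
          = p.hom.app (op ((Over.map g).obj T))
            ((pullback.snd (delta g) ((Rg g).map p)).hom.app (op T) x) at this
        rw [← this]
        exact delta_app g _
      · intro T y hy
        obtain ⟨x, _, hx⟩ := Types.exists_of_isPullback (isPullback_ev _ sq T)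
          (⟨Over.homMk T.hom (by simp)⟩ : ULift (T ⟶ Over.mk (𝟙 S))) y
          (by rw [delta_app]; exact hy.symm)
        exact ⟨x, hx⟩
    have hw : hI₀.iso.hom ≫ p = piL g F₀ := by
      apply ((adjLR g).homEquiv _ _).injective
      rw [Adjunction.homEquiv_naturality_right, hI₀.homEquiv_iso_hom, homEquiv_piL, ← sq.w, hfst]
    refine ⟨⟨F₀, hF₀⟩, ⟨Over.isoMk (ObjectProperty.isoMk _ hI₀.iso) ?_⟩⟩
    apply ObjectProperty.hom_ext
    exact hw

instance : (shriekOver g).IsEquivalence where

/-- The comparison of the equivalence with `j_!` on underlying sheaves. -/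
noncomputable def shriekOverIso :
    (shriekOver g).asEquivalence.functor ⋙ Over.forget _ ⋙
      ObjectProperty.ι (AlgSp.IsAlgSpace (S := S')) ≅
    ObjectProperty.ι (AlgSp.IsAlgSpace (S := S)) ⋙ Lg g :=
  NatIso.ofComponents (fun F => Iso.refl _) (by
    intro F₁ F₂ f
    simp only [Iso.refl_hom, Category.comp_id, Category.id_comp]
    rfl)

end Groth.Agent.Lib.Helper30.BC
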