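import Groth.Agent.Lib.Helper30.AlgSpShriek

/-!
# `h_S × F'` is the extension of the restriction of `F'` (helper30)
-/

set_option autoImplicit false
set_option maxHeartbeats 400000
set_option backward.isDefEq.respectTransparency false

universe u

open CategoryTheory CategoryTheory.Limits AlgebraicGeometry Opposite

namespace Groth.Agent.Lib.Helper30.BC

open Groth.Agent.Lib.Helper51 Groth.Agent.Lib.Helper8

section ProdSec

variable {S : Scheme.{u}} {A B : AlgSp.Sp S}

theorem sec_comp {F G : AlgSp.Sp S} {T : Over S} (x : F.obj.obj (op T)) (f : F ⟶ G) :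
    sec x ≫ f = sec (f.hom.app (op T) x) := by
  apply (AlgSp.J S).uliftYonedaEquiv.injective
  rw [GrothendieckTopology.uliftYonedaEquiv_comp]
  simp [sec]

/-- Sections of a product of sheaves are determined by their components. -/
theorem prod_sec_ext {T : Over S} (y z : (A ⨯ B).obj.obj (op T))
    (h1 : (prod.fst : A ⨯ B ⟶ A).hom.app (op T) y = (prod.fst : A ⨯ B ⟶ A).hom.app (op T) z)
    (h2 : (prod.snd : A ⨯ B ⟶ B).hom.app (op T) y = (prod.snd : A ⨯ B ⟶ B).hom.app (op T) z) :
    y = z := by
  apply sec_injective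
  apply Limits.prod.hom_ext
  · rw [sec_comp, sec_comp, h1]
  · rw [sec_comp, sec_comp, h2]

/-- The section of a product with given components. -/
noncomputable def prodSec {T : Over S} (a : A.obj.obj (op T)) (b : B.obj.obj (op T)) :
    (A ⨯ B).obj.obj (op T) :=
  (AlgSp.J S).uliftYonedaEquiv (prod.lift (sec a) (sec b))

theorem fst_prodSec {T : Over S} (a : A.obj.obj (op T)) (b : B.obj.obj (op T)) :
    (prod.fst : A ⨯ B ⟶ A).hom.app (op T) (prodSec a b) = a := by
  unfold prodSec
  rw [← GrothendieckTopology.uliftYonedaEquiv_comp, prod.lift_fst]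
  simp [sec]

theorem snd_prodSec {T : Over S} (a : A.obj.obj (op T)) (b : B.obj.obj (op T)) :
    (prod.snd : A ⨯ B ⟶ B).hom.app (op T) (prodSec a b) = b := by
  unfold prodSec
  rw [← GrothendieckTopology.uliftYonedaEquiv_comp, prod.lift_snd]
  simp [sec]

end ProdSec

variable {S S' : Scheme.{u}} (g : S ⟶ S')

/-- The map `j⁻¹ F' ⟶ j⁻¹ (h_S × F')`, `x ↦ (structure map, x)`. -/
noncomputable def etaProd (F' : AlgSp.Sp S') :
    (Rg g).obj F' ⟶ (Rg g).obj ((AlgSp.yon S').obj (Over.mk g) ⨯ F') :=
  ObjectProperty.homMk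
    { app := fun T => ↾(fun x => prodSec (S := S') (T := (Over.map g).obj T.unop)
        (A := (AlgSp.yon S').obj (Over.mk g)) ⟨toS g T.unop⟩ x)
      naturality := by
        rintro ⟨T⟩ ⟨W⟩ ⟨w⟩
        ext x
        change prodSec (S := S') (T := (Over.map g).obj W)
            (A := (AlgSp.yon S').obj (Over.mk g)) ⟨toS g W⟩
            (F'.obj.map ((Over.map g).map w).op x) =
          ((AlgSp.yon S').obj (Over.mk g) ⨯ F').obj.map ((Over.map g).map w).op
            (prodSec (S := S') (T := (Over.map g).obj T)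
              (A := (AlgSp.yon S').obj (Over.mk g)) ⟨toS g T⟩ x)
        apply prod_sec_ext
        · rw [fst_prodSec, NatTrans.naturality_apply, fst_prodSec]
          change (⟨toS g W⟩ : ULift _) = ⟨(Over.map g).map w ≫ toS g T⟩
          rw [map_comp_toS]
        · rw [snd_prodSec, NatTrans.naturality_apply, snd_prodSec] }

theorem etaProd_app (F' : AlgSp.Sp S') (T : Over S) (x : F'.obj.obj (op ((Over.map g).obj T))) :
    (etaProd g F').hom.app (op T) x = prodSec (S := S') (T := (Over.map g).obj T)
      (A := (AlgSp.yon S').obj (Over.mk g)) ⟨toS g T⟩ x := rfl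

theorem isShriek_prod (F' : AlgSp.Sp S') :
    IsShriek g (prod.fst : (AlgSp.yon S').obj (Over.mk g) ⨯ F' ⟶ _) (etaProd g F') where
  inj T x y h := by
    have := congrArg ((prod.snd : (AlgSp.yon S').obj (Over.mk g) ⨯ F' ⟶ _).hom.app
      (op ((Over.map g).obj T))) h
    rwa [etaProd_app, etaProd_app, snd_prodSec, snd_prodSec] at this
  proj T x := by rw [etaProd_app, fst_prodSec]
  surj T y hy := by
    refine ⟨(prod.snd : (AlgSp.yon S').obj (Over.mk g) ⨯ F' ⟶ _).hom.app _ y, ?_⟩
    rw [etaProd_app]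
    apply prod_sec_ext
    · rw [fst_prodSec, hy]
    · rw [snd_prodSec]
      rfl

end Groth.Agent.Lib.Helper30.BC
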