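import Groth.Agent.Lib.Helper30.AlgSpShriek

/-!
# The explicit extension `j_! F` of a sheaf along `g : S ⟶ S'` (helper30)

`(shriek g F)(W') = Σ (s : W' ⟶ S over S'), F(W' viewed over S through s)`; this is a sheaf over
`S'`, and with the evident `π`, `η` it satisfies `IsShriek`.
-/

set_option autoImplicit false
set_option maxHeartbeats 400000
set_option backward.isDefEq.respectTransparency false

universe u

open CategoryTheory CategoryTheory.Limits AlgebraicGeometry Opposite

namespace Groth.Agent.Lib.Helper30.BC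

variable {S S' : Scheme.{u}} (g : S ⟶ S') (F : AlgSp.Sp S)

/-- Sections of `j_! F` over `W'`. -/
structure Sec (W' : Over S') where
  s : W'.left ⟶ S
  w : s ≫ g = W'.hom
  x : F.obj.obj (op (Over.mk s))

variable {g F}

/-- The identity of the underlying scheme, as a map `Over.mk s ⟶ Over.mk s'` for `s = s'`. -/
def castHom {X : Scheme.{u}} {s s' : X ⟶ S} (h : s = s') : Over.mk s ⟶ Over.mk s' :=
  Over.homMk (𝟙 X) (by simp [h])

@[simp] theorem castHom_left {X : Scheme.{u}} {s s' : X ⟶ S} (h : s = s') :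
    (castHom h).left = 𝟙 X := rfl

theorem Fmap_eq {Z A : Over S} (m₁ m₂ : Z ⟶ A) (h : m₁.left = m₂.left) (x : F.obj.obj (op A)) :
    F.obj.map m₁.op x = F.obj.map m₂.op x := by
  rw [Over.OverMorphism.ext h]

theorem Fmap_comp {Z A B : Over S} (m : Z ⟶ A) (n : A ⟶ B) (x : F.obj.obj (op B)) :
    F.obj.map m.op (F.obj.map n.op x) = F.obj.map (m ≫ n).op x := by
  rw [op_comp, Functor.map_comp_apply]

theorem Fmap_id' {A : Over S} (m : A ⟶ A) (h : m.left = 𝟙 _) (x : F.obj.obj (op A)) :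
    F.obj.map m.op x = x := by
  have : m = 𝟙 A := Over.OverMorphism.ext h
  rw [this, op_id, Functor.map_id_apply]

theorem Sec.ext' {W' : Over S'} {a b : Sec g F W'} (hs : a.s = b.s)
    (hx : a.x = F.obj.map (castHom hs).op b.x) : a = b := by
  obtain ⟨s, w, x⟩ := a
  obtain ⟨s', w', x'⟩ := b
  dsimp at hs
  subst hs
  dsimp at hx
  rw [Fmap_id' _ rfl] at hx
  subst hx
  rfl

theorem Sec.x_eq {W' : Over S'} {a b : Sec g F W'} (h : a = b) :
    a.x = F.obj.map (castHom (congrArg Sec.s h)).op b.x := by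
  subst h
  rw [Fmap_id' _ rfl]

/-- Restriction of sections. -/
def Sec.res {V' W' : Over S'} (φ : V' ⟶ W') (a : Sec g F W') : Sec g F V' where
  s := φ.left ≫ a.s
  w := by rw [Category.assoc, a.w]; exact Over.w φ
  x := F.obj.map (Over.homMk φ.left rfl : Over.mk (φ.left ≫ a.s) ⟶ Over.mk a.s).op a.x

@[simp] theorem Sec.res_s {V' W' : Over S'} (φ : V' ⟶ W') (a : Sec g F W') :
    (a.res φ).s = φ.left ≫ a.s := rfl

theorem Sec.res_x {V' W' : Over S'} (φ : V' ⟶ W') (a : Sec g F W') :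
    (a.res φ).x =
      F.obj.map (Over.homMk φ.left rfl : Over.mk (φ.left ≫ a.s) ⟶ Over.mk a.s).op a.x := rfl

theorem Sec.res_id {W' : Over S'} (a : Sec g F W') : a.res (𝟙 W') = a := by
  refine Sec.ext' (by simp) ?_
  rw [Sec.res_x]
  apply Fmap_eq
  simp

theorem Sec.res_comp {U' V' W' : Over S'} (ψ : U' ⟶ V') (φ : V' ⟶ W') (a : Sec g F W') :
    a.res (ψ ≫ φ) = (a.res φ).res ψ := by
  refine Sec.ext' (by simp) ?_
  rw [Sec.res_x, Sec.res_x, Sec.res_x]
  erw [Fmap_comp, Fmap_comp]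
  apply Fmap_eq
  simp

variable (g F)

/-- The presheaf `j_! F`. -/
def shriekPsh : (Over S')ᵒᵖ ⥤ Type (u + 1) where
  obj W' := Sec g F W'.unop
  map φ := ↾(fun a => a.res φ.unop)
  map_id W' := by
    ext a
    exact Sec.res_id a
  map_comp φ ψ := by
    ext a
    exact Sec.res_comp ψ.unop φ.unop a

theorem shriekPsh_map {V' W' : Over S'} (φ : V' ⟶ W') (a : Sec g F W') :
    (shriekPsh g F).map φ.op a = a.res φ := rfl

variable {g F}

/-- The sieve on `Over.mk s` (over `S`) induced by a sieve on `W'` (over `S'`). -/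
def liftSieve {W' : Over S'} (R' : Sieve W') (s : W'.left ⟶ S) : Sieve (Over.mk s) :=
  (Sieve.overEquiv (Over.mk s)).symm (Sieve.overEquiv W' R')

theorem liftSieve_mem {W' : Over S'} {R' : Sieve W'} (hR' : R' ∈ AlgSp.J S' W')
    (s : W'.left ⟶ S) : liftSieve R' s ∈ AlgSp.J S (Over.mk s) :=
  GrothendieckTopology.overEquiv_symm_mem_over _ (Over.mk s) _
    ((GrothendieckTopology.mem_over_iff _ _).1 hR')

theorem liftSieve_iff {W' : Over S'} (R' : Sieve W') (s : W'.left ⟶ S) {T : Over S}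
    (h : T ⟶ Over.mk s) :
    liftSieve R' s h ↔ R' (Over.homMk h.left rfl : Over.mk (h.left ≫ W'.hom) ⟶ W') := by
  unfold liftSieve
  rw [Sieve.overEquiv_symm_iff, Sieve.overEquiv_iff]

theorem shriekPsh_isSeparatedFor {W' : Over S'} (R' : Sieve W') (hR' : R' ∈ AlgSp.J S' W') :
    Presieve.IsSeparatedFor (shriekPsh g F) R'.arrows := by
  have hS : Presieve.IsSheafFor ((AlgSp.yon S').obj (Over.mk g)).obj R'.arrows :=
    ((isSheaf_iff_isSheaf_of_type _ _).1 ((AlgSp.yon S').obj (Over.mk g)).property) R' hR'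
  have hF := (isSheaf_iff_isSheaf_of_type _ _).1 F.property
  intro x t₁ t₂ h₁ h₂
  have hres : ∀ ⦃V' : Over S'⦄ (f : V' ⟶ W') (_ : R' f), t₁.res f = t₂.res f :=
    fun V' f hf => (h₁ f hf).trans (h₂ f hf).symm
  have hs : t₁.s = t₂.s := by
    have := hS.isSeparatedFor.ext (t₁ := ⟨Over.homMk t₁.s t₁.w⟩) (t₂ := ⟨Over.homMk t₂.s t₂.w⟩)
      (by
        intro V' f hf
        apply ULift.ext
        apply Over.OverMorphism.ext
        exact congrArg Sec.s (hres f hf))
    exact congrArg (fun σ => σ.down.left) this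
  refine Sec.ext' hs ?_
  refine (hF (liftSieve R' t₁.s) (liftSieve_mem hR' t₁.s)).isSeparatedFor.ext ?_
  intro T h hh
  have hf := (liftSieve_iff R' t₁.s h).1 hh
  have e := Sec.x_eq (hres _ hf)
  rw [Sec.res_x, Sec.res_x] at e
  let c : T ⟶ Over.mk (h.left ≫ t₁.s) := Over.homMk (𝟙 _) (by simpa using Over.w h)
  have e' := congrArg (F.obj.map c.op) e
  erw [Fmap_comp, Fmap_comp, Fmap_comp] at e'
  erw [Fmap_comp]
  refine (Fmap_eq _ _ ?_ _).trans (e'.trans (Fmap_eq _ _ ?_ _))
  · simp [c]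
  · simp [c]

theorem shriekPsh_exists_amalgamation {W' : Over S'} (R' : Sieve W') (hR' : R' ∈ AlgSp.J S' W')
    (x : Presieve.FamilyOfElements (shriekPsh g F) R'.arrows) (hx : x.Compatible) :
    ∃ t, x.IsAmalgamation t := by
  have hS : Presieve.IsSheafFor ((AlgSp.yon S').obj (Over.mk g)).obj R'.arrows :=
    ((isSheaf_iff_isSheaf_of_type _ _).1 ((AlgSp.yon S').obj (Over.mk g)).property) R' hR'
  have hF := (isSheaf_iff_isSheaf_of_type _ _).1 F.property
  -- step 1: glue the maps to `S`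
  let xs : Presieve.FamilyOfElements ((AlgSp.yon S').obj (Over.mk g)).obj R'.arrows :=
    fun V' f hf => ⟨Over.homMk (x f hf).s (x f hf).w⟩
  have hxs : xs.Compatible := by
    intro Y₁ Y₂ Z g₁ g₂ f₁ f₂ h₁ h₂ hcomm
    have := congrArg Sec.s (hx g₁ g₂ h₁ h₂ hcomm)
    apply ULift.ext
    apply Over.OverMorphism.ext
    exact this
  let σ := hS.amalgamate xs hxs
  have hσ : ∀ ⦃V' : Over S'⦄ (f : V' ⟶ W') (hf : R' f), f.left ≫ σ.down.left = (x f hf).s := by
    intro V' f hf
    have := hS.valid_glue hxs f hf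
    exact congrArg (fun τ => τ.down.left) this
  let s : W'.left ⟶ S := σ.down.left
  have hsw : s ≫ g = W'.hom := by simpa using Over.w σ.down
  -- step 2: the family for `F`
  have hys : ∀ ⦃T : Over S⦄ (h : T ⟶ Over.mk s) (hh : liftSieve R' s h),
      𝟙 T.left ≫ (x _ ((liftSieve_iff R' s h).1 hh)).s = T.hom := by
    intro T h hh
    rw [Category.id_comp, ← hσ]
    exact Over.w h
  let y : Presieve.FamilyOfElements F.obj (liftSieve R' s).arrows := fun T h hh =>
    F.obj.map (Over.homMk (𝟙 _) (hys h hh) :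
      T ⟶ Over.mk (x _ ((liftSieve_iff R' s h).1 hh)).s).op (x _ ((liftSieve_iff R' s h).1 hh)).x
  have hy : y.Compatible := by
    intro T₁ T₂ Z k₁ k₂ h₁ h₂ hh₁ hh₂ hcomm
    have hcl : k₁.left ≫ h₁.left = k₂.left ≫ h₂.left := by
      have := congrArg (fun t => t.left) hcomm
      simpa using this
    let Z' : Over S' := Over.mk (k₁.left ≫ h₁.left ≫ W'.hom)
    let g₁ : Z' ⟶ Over.mk (h₁.left ≫ W'.hom) := Over.homMk k₁.left rfl
    let g₂ : Z' ⟶ Over.mk (h₂.left ≫ W'.hom) := Over.homMk k₂.left (by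
      change k₂.left ≫ h₂.left ≫ W'.hom = k₁.left ≫ h₁.left ≫ W'.hom
      rw [← Category.assoc, ← hcl, Category.assoc])
    have hc : g₁ ≫ (Over.homMk h₁.left rfl : Over.mk (h₁.left ≫ W'.hom) ⟶ W') =
        g₂ ≫ (Over.homMk h₂.left rfl : Over.mk (h₂.left ≫ W'.hom) ⟶ W') := by
      apply Over.OverMorphism.ext
      simpa [g₁, g₂] using hcl
    have e := Sec.x_eq (hx g₁ g₂ ((liftSieve_iff R' s h₁).1 hh₁)
      ((liftSieve_iff R' s h₂).1 hh₂) hc)
    let c : Z ⟶ Over.mk (k₁.left ≫ (x _ ((liftSieve_iff R' s h₁).1 hh₁)).s) :=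
      Over.homMk (𝟙 _) (by
        have := hys h₁ hh₁
        rw [Category.id_comp] at this
        change 𝟙 _ ≫ k₁.left ≫ _ = Z.hom
        rw [Category.id_comp, this]
        exact Over.w k₁)
    have e' := congrArg (F.obj.map c.op) e
    erw [Sec.res_x, Sec.res_x, Fmap_comp, Fmap_comp, Fmap_comp] at e'
    change F.obj.map k₁.op (F.obj.map _ _) = F.obj.map k₂.op (F.obj.map _ _)
    erw [Fmap_comp, Fmap_comp]
    refine (Fmap_eq _ _ ?_ _).trans (e'.trans (Fmap_eq _ _ ?_ _))
    · simp [c, g₁]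
    · simp [c, g₂]
      try exact Category.id_comp _
  let y₀ := (hF (liftSieve R' s) (liftSieve_mem hR' s)).amalgamate y hy
  refine ⟨⟨s, hsw, y₀⟩, ?_⟩
  intro V' f hf
  change Sec.res f ⟨s, hsw, y₀⟩ = x f hf
  refine Sec.ext' (hσ f hf) ?_
  rw [Sec.res_x]
  let h : Over.mk (f.left ≫ s) ⟶ Over.mk s := Over.homMk f.left rfl
  let ι : Over.mk (f.left ≫ W'.hom) ⟶ V' := Over.homMk (𝟙 _) (by simpa using Over.w f)
  have hι : (Over.homMk h.left rfl : Over.mk (h.left ≫ W'.hom) ⟶ W') = ι ≫ f := by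
    apply Over.OverMorphism.ext
    simp [h, ι]
  have hh : liftSieve R' s h := by
    rw [liftSieve_iff, hι]
    exact R'.downward_closed hf ι
  have hglue := (hF (liftSieve R' s) (liftSieve_mem hR' s)).valid_glue hy h hh
  have e := Sec.x_eq (hx (𝟙 _) ι ((liftSieve_iff R' s h).1 hh) hf (by rw [Category.id_comp, hι]))
  let c : Over.mk (f.left ≫ s) ⟶
      Over.mk (Sec.res (𝟙 (Over.mk (h.left ≫ W'.hom))) (x _ ((liftSieve_iff R' s h).1 hh))).s :=
    Over.homMk (𝟙 _) (by
      have := hys h hh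
      rw [Category.id_comp] at this
      change 𝟙 _ ≫ 𝟙 _ ≫ _ = f.left ≫ s
      rw [Category.id_comp, Category.id_comp, this]
      rfl)
  have e' := congrArg (F.obj.map c.op) e
  erw [Sec.res_x, Sec.res_x, Fmap_comp, Fmap_comp, Fmap_comp] at e'
  refine hglue.trans ?_
  refine (Fmap_eq _ _ ?_ _).trans (e'.trans (Fmap_eq _ _ ?_ _))
  · simp [c]
  · simp [c, ι]

variable (g F)

theorem shriekPsh_isSheaf : Presheaf.IsSheaf (AlgSp.J S') (shriekPsh g F) := by
  rw [isSheaf_iff_isSheaf_of_type]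
  intro W' R' hR'
  exact (shriekPsh_isSeparatedFor R' hR').isSheafFor
    (fun x hx => shriekPsh_exists_amalgamation R' hR' x hx)

/-- The sheaf `j_! F`. -/
def shriek : AlgSp.Sp S' := ⟨shriekPsh g F, shriekPsh_isSheaf g F⟩

/-- The projection `j_! F ⟶ h_S`. -/
def shriekπ : shriek g F ⟶ (AlgSp.yon S').obj (Over.mk g) :=
  ObjectProperty.homMk
    { app := fun W' => ↾(fun (a : Sec g F W'.unop) => (⟨Over.homMk a.s a.w⟩ : ULift _))
      naturality := by
        rintro ⟨W'⟩ ⟨V'⟩ ⟨φ⟩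
        ext a
        apply ULift.ext
        apply Over.OverMorphism.ext
        rfl }

/-- The section of `j_! F` over `T/S'` attached to a section of `F` over `T`. -/
def etaSec {T : Over S} (x : F.obj.obj (op T)) : Sec g F ((Over.map g).obj T) :=
  ⟨T.hom, rfl, x⟩

/-- The unit `F ⟶ j⁻¹ j_! F`. -/
noncomputable def shriekη : F ⟶ (Rg g).obj (shriek g F) :=
  ObjectProperty.homMk
    { app := fun T => ↾(fun (x : F.obj.obj T) => etaSec g F (T := T.unop) x)
      naturality := by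
        rintro ⟨T⟩ ⟨W⟩ ⟨w⟩
        ext x
        change etaSec g F (F.obj.map w.op x) = (etaSec g F x).res ((Over.map g).map w)
        refine Sec.ext' (Over.w w).symm ?_
        rw [Sec.res_x]
        erw [Fmap_comp]
        apply Fmap_eq
        simp }

theorem shriekη_app {T : Over S} (x : F.obj.obj (op T)) :
    (shriekη g F).hom.app (op T) x = etaSec g F x := rfl

theorem shriekπ_app {W' : Over S'} (a : Sec g F W') :
    (shriekπ g F).hom.app (op W') a = ⟨Over.homMk a.s a.w⟩ := rfl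

theorem isShriek_shriek : IsShriek g (shriekπ g F) (shriekη g F) where
  inj T x y h := by
    have := Sec.x_eq (F := F) (a := etaSec g F x) (b := etaSec g F y) h
    exact this.trans (Fmap_id' _ rfl _)
  proj T x := rfl
  surj T y hy := by
    have hs : T.hom = y.s := by
      have := congrArg (fun τ => τ.down.left) hy
      exact this.symm
    refine ⟨F.obj.map (castHom hs).op y.x, ?_⟩
    exact Sec.ext' (a := etaSec g F (F.obj.map (castHom hs).op y.x)) (b := y) hs rfl

end Groth.Agent.Lib.Helper30.BC
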