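import Groth.Agent.Lib.Helper30.AlgSpShriekSheaf
import Groth.Agent.Lib.Helper30.AlgSpShriekProd

/-!
# The extension `j_! F` is the value of the left adjoint of restriction (helper30)

Universal property of `IsShriek`, the comparison with Mathlib's `sheafPullback` along
`Over.map g`, and the transfer of `RepWith P` in both directions.
-/

set_option autoImplicit false
set_option maxHeartbeats 400000
set_option backward.isDefEq.respectTransparency false

universe u

open CategoryTheory CategoryTheory.Limits AlgebraicGeometry Opposite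

namespace Groth.Agent.Lib.Helper30.BC

open Groth.Agent.Lib.Helper51 Groth.Agent.Lib.Helper8

variable {S S' : Scheme.{u}} {g : S ⟶ S'}

section Univ

variable {F : AlgSp.Sp S} {G' : AlgSp.Sp S'} {π : G' ⟶ (AlgSp.yon S').obj (Over.mk g)}
  {η : F ⟶ (Rg g).obj G'} (hI : IsShriek g π η) (H' : AlgSp.Sp S') (ψ : F ⟶ (Rg g).obj H')

/-- The value of the induced map `G' ⟶ H'` on a section. -/
noncomputable def IsShriek.descApp (W' : Over S') (y : G'.obj.obj (op W')) : H'.obj.obj (op W') :=
  H'.obj.map (lftIso (π.hom.app (op W') y).down).inv.op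
    (ψ.hom.app (op (lft (π.hom.app (op W') y).down)) (hI.exists_lift y).choose)

theorem Gmap_comp {S : Scheme.{u}} {G : AlgSp.Sp S} {Z A B : Over S} (m : Z ⟶ A) (n : A ⟶ B)
    (x : G.obj.obj (op B)) : G.obj.map m.op (G.obj.map n.op x) = G.obj.map (m ≫ n).op x := by
  rw [op_comp, Functor.map_comp_apply]

theorem Gmap_id {S : Scheme.{u}} {G : AlgSp.Sp S} {A : Over S} (x : G.obj.obj (op A)) :
    G.obj.map (𝟙 A).op x = x := by
  rw [op_id, Functor.map_id_apply]

include hI in
theorem IsShriek.spec_aux (W' : Over S') (y : G'.obj.obj (op W')) (σ : W' ⟶ Over.mk g)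
    (hσy : (π.hom.app (op W') y).down = σ) (x₀ : F.obj.obj (op (lft σ)))
    (hx₀ : η.hom.app (op (lft σ)) x₀ = G'.obj.map (lftIso σ).hom.op y) {T : Over S}
    (e : (Over.map g).obj T ⟶ W') (x : F.obj.obj (op T))
    (hx : η.hom.app (op T) x = G'.obj.map e.op y) :
    H'.obj.map e.op (H'.obj.map (lftIso σ).inv.op (ψ.hom.app (op (lft σ)) x₀)) =
      ψ.hom.app (op T) x := by
  have hσ : e ≫ σ = toS g T := by
    have := congrArg (fun t => (π.hom.app (op ((Over.map g).obj T)) t).down) hx
    simp only [hI.proj, pi_naturality] at this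
    rw [← hσy]
    exact this.symm
  let k : T ⟶ lft σ := lftHom σ e hσ
  have hk : (Over.map g).map k ≫ (lftIso σ).hom = e := map_lftHom σ e hσ
  have hk' : e ≫ (lftIso σ).inv = (Over.map g).map k := by
    rw [← hk, Category.assoc, Iso.hom_inv_id, Category.comp_id]
  have hxk : x = F.obj.map k.op x₀ := by
    apply hI.inj
    rw [eta_naturality, hx₀, Gmap_comp, hk, hx]
  rw [Gmap_comp, hk', hxk, eta_naturality]

theorem IsShriek.descApp_spec (W' : Over S') (y : G'.obj.obj (op W')) {T : Over S}
    (e : (Over.map g).obj T ⟶ W') (x : F.obj.obj (op T))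
    (hx : η.hom.app (op T) x = G'.obj.map e.op y) :
    H'.obj.map e.op (hI.descApp H' ψ W' y) = ψ.hom.app (op T) x :=
  hI.spec_aux H' ψ W' y _ rfl _ (hI.exists_lift y).choose_spec e x hx

/-- The map `G' ⟶ H'` induced by `ψ : F ⟶ j⁻¹ H'`. -/
noncomputable def IsShriek.desc : G' ⟶ H' :=
  ObjectProperty.homMk
    { app := fun W' => ↾(hI.descApp H' ψ W'.unop)
      naturality := by
        rintro ⟨W'⟩ ⟨V'⟩ ⟨k⟩
        ext y
        change hI.descApp H' ψ V' (G'.obj.map k.op y) = H'.obj.map k.op (hI.descApp H' ψ W' y)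
        have hx₀' := (hI.exists_lift (G'.obj.map k.op y)).choose_spec
        have h1 := hI.descApp_spec H' ψ W' y
          ((lftIso (π.hom.app (op V') (G'.obj.map k.op y)).down).hom ≫ k)
          (hI.exists_lift (G'.obj.map k.op y)).choose (by rw [hx₀', Gmap_comp])
        have h2 := congrArg
          (H'.obj.map (lftIso (π.hom.app (op V') (G'.obj.map k.op y)).down).inv.op) h1
        rw [Gmap_comp, Iso.inv_hom_id_assoc] at h2
        rw [h2]
        rfl }

theorem IsShriek.desc_app (W' : Over S') (y : G'.obj.obj (op W')) :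
    (hI.desc H' ψ).hom.app (op W') y = hI.descApp H' ψ W' y := rfl

theorem IsShriek.eta_desc : η ≫ (Rg g).map (hI.desc H' ψ) = ψ := by
  apply Sheaf.hom_ext
  ext ⟨T⟩ x
  change (hI.desc H' ψ).hom.app (op ((Over.map g).obj T)) (η.hom.app (op T) x) = ψ.hom.app (op T) x
  rw [IsShriek.desc_app]
  have := hI.descApp_spec H' ψ ((Over.map g).obj T) (η.hom.app (op T) x) (𝟙 _) x
    (by rw [Gmap_id])
  rwa [Gmap_id] at this

variable {H'}

include hI in
theorem IsShriek.hom_ext (φ₁ φ₂ : G' ⟶ H')
    (h : η ≫ (Rg g).map φ₁ = η ≫ (Rg g).map φ₂) : φ₁ = φ₂ := by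
  apply Sheaf.hom_ext
  ext ⟨W'⟩ y
  obtain ⟨x₀, hx₀⟩ := hI.exists_lift y
  generalize (π.hom.app (op W') y).down = σ at x₀ hx₀
  have hy : y = G'.obj.map (lftIso σ).inv.op (η.hom.app (op (lft σ)) x₀) := by
    rw [hx₀, Gmap_comp, Iso.inv_hom_id, Gmap_id]
  have h' := congrArg (fun t => t.hom.app (op (lft σ)) x₀) h
  change φ₁.hom.app (op ((Over.map g).obj (lft σ))) (η.hom.app (op (lft σ)) x₀) =
    φ₂.hom.app (op ((Over.map g).obj (lft σ))) (η.hom.app (op (lft σ)) x₀) at h'
  change φ₁.hom.app (op W') y = φ₂.hom.app (op W') y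
  rw [hy]
  have n1 := NatTrans.naturality_apply φ₁.hom (lftIso σ).inv.op
    (η.hom.app (op (lft σ)) x₀ : G'.obj.obj (op ((Over.map g).obj (lft σ))))
  have n2 := NatTrans.naturality_apply φ₂.hom (lftIso σ).inv.op
    (η.hom.app (op (lft σ)) x₀ : G'.obj.obj (op ((Over.map g).obj (lft σ))))
  exact n1.trans ((congrArg (H'.obj.map (lftIso σ).inv.op) h').trans n2.symm)

end Univ

section Compare

variable (g)

/-- The left adjoint `j_!` of restriction. -/
noncomputable abbrev Lg : AlgSp.Sp S ⥤ AlgSp.Sp S' :=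
  (Over.map g).sheafPullback (Type (u + 1)) (AlgSp.J S) (AlgSp.J S')

/-- The adjunction `j_! ⊣ j⁻¹`. -/
noncomputable def adjLR : Lg g ⊣ Rg g :=
  Functor.sheafAdjunctionContinuous (Over.map g) (Type (u + 1)) (AlgSp.J S) (AlgSp.J S')

variable {g}

variable {F : AlgSp.Sp S} {G' : AlgSp.Sp S'} {π : G' ⟶ (AlgSp.yon S').obj (Over.mk g)}
  {η : F ⟶ (Rg g).obj G'}

/-- Any extension in the sense of `IsShriek` is the value of the left adjoint. -/
noncomputable def IsShriek.iso (hI : IsShriek g π η) : (Lg g).obj F ≅ G' where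
  hom := ((adjLR g).homEquiv F G').symm η
  inv := hI.desc _ ((adjLR g).unit.app F)
  hom_inv_id := by
    apply ((adjLR g).homEquiv _ _).injective
    rw [Adjunction.homEquiv_naturality_right, Equiv.apply_symm_apply, hI.eta_desc,
      Adjunction.homEquiv_unit, CategoryTheory.Functor.map_id]
    exact (Category.comp_id _).symm
  inv_hom_id := by
    apply hI.hom_ext
    rw [Functor.map_comp, ← Category.assoc, hI.eta_desc, CategoryTheory.Functor.map_id,
      Category.comp_id, ← Adjunction.homEquiv_unit, Equiv.apply_symm_apply]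

theorem IsShriek.homEquiv_iso_hom (hI : IsShriek g π η) :
    (adjLR g).homEquiv F G' hI.iso.hom = η :=
  Equiv.apply_symm_apply _ _

variable (g)

/-- The unit for a representable sheaf. -/
noncomputable def etaYon (T : Over S) :
    (AlgSp.yon S).obj T ⟶ (Rg g).obj ((AlgSp.yon S').obj ((Over.map g).obj T)) :=
  sec (S := S) (F := (Rg g).obj ((AlgSp.yon S').obj ((Over.map g).obj T))) (T := T) ⟨𝟙 _⟩

theorem etaYon_app (T : Over S) {W : Over S} (w : W ⟶ T) :
    (etaYon g T).hom.app (op W) ⟨w⟩ = ⟨(Over.map g).map w⟩ := by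
  unfold etaYon
  rw [sec_app]
  change (⟨(Over.map g).map w ≫ 𝟙 _⟩ : ULift _) = _
  rw [Category.comp_id]

theorem isShriek_yon (T : Over S) :
    IsShriek g ((AlgSp.yon S').map (toS g T)) (etaYon g T) where
  inj W := by
    rintro ⟨x⟩ ⟨y⟩ h
    rw [etaYon_app, etaYon_app] at h
    have : x.left = y.left := congrArg (fun t => t.down.left) h
    exact congrArg ULift.up (Over.OverMorphism.ext this)
  proj W := by
    rintro ⟨x⟩
    rw [etaYon_app]
    change (⟨(Over.map g).map x ≫ toS g T⟩ : ULift _) = _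
    rw [map_comp_toS]
  surj W := by
    rintro ⟨z⟩ hz
    have hz' : z ≫ toS g T = toS g W := congrArg ULift.down hz
    refine ⟨⟨Over.homMk z.left (by
      have := congrArg (fun t => t.left) hz'
      simpa using this)⟩, ?_⟩
    rw [etaYon_app]
    congr 1

variable {g}

/-- Compatibility of the comparison isomorphisms with maps from schemes. -/
theorem IsShriek.map_iso (hI : IsShriek g π η) {T : Over S} (x : F.obj.obj (op T)) :
    (Lg g).map (sec x) ≫ hI.iso.hom = (isShriek_yon g T).iso.hom ≫ esec η x := by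
  apply ((adjLR g).homEquiv _ _).injective
  rw [Adjunction.homEquiv_naturality_left, Adjunction.homEquiv_naturality_right,
    hI.homEquiv_iso_hom, (isShriek_yon g T).homEquiv_iso_hom, sec_comp]
  unfold etaYon
  rw [sec_comp]
  congr 1
  change _ = (esec η x).hom.app (op ((Over.map g).obj T)) ⟨𝟙 _⟩
  unfold esec
  rw [sec_app, Gmap_id]

/-- Transfer of `RepWith P` from the extension back to `F`. -/
theorem IsShriek.repWith_of_esec (hI : IsShriek g π η) (P : MorphismProperty Scheme.{u})
    [P.IsStableUnderBaseChange] {T : Over S} (x : F.obj.obj (op T))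
    (h : AlgSp.RepWith P (esec η x)) : AlgSp.RepWith P (sec x) := by
  have : P.RespectsIso := MorphismProperty.IsStableUnderBaseChange.respectsIso
  apply MorphismProperty.relative.of_exists
  intro W a
  obtain ⟨x₂, rfl⟩ : ∃ x₂, a = sec x₂ := ⟨_, (sec_equiv a).symm⟩
  obtain ⟨V', snd', fst', sq'⟩ := h.rep (esec η x₂)
  have hP : P snd'.left := h.property (esec η x₂) fst' snd' sq'
  obtain ⟨u', rfl⟩ := (AlgSp.yon S').map_surjective fst'
  have hw : G'.obj.map u'.op (η.hom.app (op T) x) = G'.obj.map snd'.op (η.hom.app (op W) x₂) := by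
    apply sec_injective
    have := sq'.w
    unfold esec at this
    rwa [yon_map_comp_sec, yon_map_comp_sec] at this
  have hσ : u' ≫ toS g T = snd' ≫ toS g W := by
    have := congrArg (fun t => (π.hom.app (op V') t).down) hw
    simp only [pi_naturality, hI.proj] at this
    exact this
  let σ : V' ⟶ Over.mk g := u' ≫ toS g T
  let e := lftIso σ
  let u : lft σ ⟶ T := Over.homMk u'.left (by simp [σ])
  let v : lft σ ⟶ W := Over.homMk snd'.left (by
    have := congrArg (fun t => t.left) hσ
    simpa [σ] using this.symm)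
  have hu : (Over.map g).map u = e.hom ≫ u' := by
    apply Over.OverMorphism.ext
    simp [u, e]
  have hv : (Over.map g).map v = e.hom ≫ snd' := by
    apply Over.OverMorphism.ext
    simp [v, e]
  have hcomm : F.obj.map u.op x = F.obj.map v.op x₂ := by
    apply hI.inj
    rw [eta_naturality, eta_naturality, hu, hv, ← Gmap_comp, ← Gmap_comp, hw]
  refine ⟨lft σ, (AlgSp.yon S).map u, v, ?_, ?_⟩
  · apply isPullback_sheaf_of_sections
    · rw [yon_map_comp_sec, yon_map_comp_sec, hcomm]
    · rintro ⟨Q⟩ ⟨k₁⟩ ⟨k₂⟩ h1 h2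
      have h1' : k₁ ≫ u = k₂ ≫ u := congrArg ULift.down h1
      have h2' : k₁ ≫ v = k₂ ≫ v := congrArg ULift.down h2
      have e1 : (⟨((Over.map g).map k₁ ≫ e.hom) ≫ u'⟩ : ULift ((Over.map g).obj Q ⟶ _)) =
          ⟨((Over.map g).map k₂ ≫ e.hom) ≫ u'⟩ := by
        rw [Category.assoc, Category.assoc, ← hu, ← Functor.map_comp, ← Functor.map_comp, h1']
      have e2 : (⟨((Over.map g).map k₁ ≫ e.hom) ≫ snd'⟩ : ULift ((Over.map g).obj Q ⟶ _)) =
          ⟨((Over.map g).map k₂ ≫ e.hom) ≫ snd'⟩ := by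
        rw [Category.assoc, Category.assoc, ← hv, ← Functor.map_comp, ← Functor.map_comp, h2']
      have h3 := Types.ext_of_isPullback (isPullback_ev _ sq' ((Over.map g).obj Q))
        (x₁ := (⟨(Over.map g).map k₁ ≫ e.hom⟩ : ULift ((Over.map g).obj Q ⟶ V')))
        (y₁ := (⟨(Over.map g).map k₂ ≫ e.hom⟩ : ULift ((Over.map g).obj Q ⟶ V'))) e1 e2
      have h4 : k₁.left ≫ 𝟙 _ = k₂.left ≫ 𝟙 _ := congrArg (fun t => t.down.left) h3
      rw [Category.comp_id, Category.comp_id] at h4
      rw [Over.OverMorphism.ext h4]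
    · rintro ⟨Q⟩ ⟨t⟩ ⟨w⟩ hh
      rw [sec_app, sec_app] at hh
      have hh' : G'.obj.map ((Over.map g).map t).op (η.hom.app (op T) x) =
          G'.obj.map ((Over.map g).map w).op (η.hom.app (op W) x₂) := by
        rw [← eta_naturality, ← eta_naturality, hh]
      obtain ⟨⟨z'⟩, hz1, hz2⟩ := Types.exists_of_isPullback
        (isPullback_ev _ sq' ((Over.map g).obj Q))
        (⟨(Over.map g).map t⟩ : ULift ((Over.map g).obj Q ⟶ (Over.map g).obj T))
        (⟨(Over.map g).map w⟩ : ULift ((Over.map g).obj Q ⟶ (Over.map g).obj W))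
        (by
          unfold esec
          rw [sec_app, sec_app]
          exact hh')
      have hz1' : z' ≫ u' = (Over.map g).map t := congrArg ULift.down hz1
      have hz2' : z' ≫ snd' = (Over.map g).map w := congrArg ULift.down hz2
      have hz1l : z'.left ≫ u'.left = t.left := by
        have := congrArg (fun t => t.left) hz1'
        simpa using this
      have hz2l : z'.left ≫ snd'.left = w.left := by
        have := congrArg (fun t => t.left) hz2'
        simpa using this
      let k : Q ⟶ lft σ := Over.homMk z'.left (by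
        change z'.left ≫ (u' ≫ toS g T).left = Q.hom
        simp only [Over.comp_left, toS_left]
        rw [← Category.assoc, hz1l]
        exact Over.w t)
      refine ⟨⟨k⟩, ?_, ?_⟩
      · change (⟨k ≫ u⟩ : ULift (Q ⟶ T)) = ⟨t⟩
        congr 1
        apply Over.OverMorphism.ext
        simpa [k, u] using hz1l
      · change (⟨k ≫ v⟩ : ULift (Q ⟶ W)) = ⟨w⟩
        congr 1
        apply Over.OverMorphism.ext
        simpa [k, v] using hz2l
  · exact hP

theorem IsShriek.repWith_iff (hI : IsShriek g π η) (P : MorphismProperty Scheme.{u})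
    [P.IsStableUnderBaseChange] {T : Over S} (x : F.obj.obj (op T)) :
    AlgSp.RepWith P (esec η x) ↔ AlgSp.RepWith P (sec x) :=
  ⟨hI.repWith_of_esec P x, hI.repWith_sec P x⟩

/-- `j_!` of a map from a scheme has `P` iff the map does. -/
theorem repWith_Lg_map_iff (P : MorphismProperty Scheme.{u}) [P.IsStableUnderBaseChange]
    {T : Over S} (f : (AlgSp.yon S).obj T ⟶ F) :
    AlgSp.RepWith P ((Lg g).map f) ↔ AlgSp.RepWith P f := by
  have hI := isShriek_shriek g F
  obtain ⟨x, rfl⟩ : ∃ x, f = sec x := ⟨_, (sec_equiv f).symm⟩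
  have e1 : AlgSp.RepWith P ((Lg g).map (sec x)) ↔
      AlgSp.RepWith P ((Lg g).map (sec x) ≫ hI.iso.hom) :=
    (MorphismProperty.cancel_right_of_respectsIso (AlgSp.RepWith P) _ _).symm
  have e2 : AlgSp.RepWith P ((isShriek_yon g T).iso.hom ≫ esec (shriekη g F) x) ↔
      AlgSp.RepWith P (esec (shriekη g F) x) :=
    MorphismProperty.cancel_left_of_respectsIso (AlgSp.RepWith P) _ _
  rw [e1, hI.map_iso, e2]
  exact hI.repWith_iff P x

/-- `j_!` of an algebraic space is an algebraic space. -/
theorem isAlgSpace_Lg (hF : AlgSp.IsAlgSpace F) : AlgSp.IsAlgSpace ((Lg g).obj F) :=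
  ((isShriek_shriek g F).isAlgSpace hF).of_iso (isShriek_shriek g F).iso.symm

end Compare

end Groth.Agent.Lib.Helper30.BC
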