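import Groth.Agent.Lib.Helper30.AlgSpDiagChart
import Groth.Agent.Lib.Helper78.AlgSpThickMor
import Groth.Agent.Lib.Helper78.AlgSpLocPLoft
import Mathlib.AlgebraicGeometry.ZariskisMainTheorem

/-!
# Thickenings and closed immersions (helper30)

* `isClosedImmersion_of_thick_comp` (schemes): a monomorphism locally of finite type `g` such that
  `t ≫ g` is a closed immersion for a surjective closed immersion `t` is a closed immersion.
* `repWith_isClosedImmersion_of_thick_comp` : the same for sheaves.
* `locP_loft_diagonal` : the diagonal of any morphism of algebraic spaces is locally of finite type.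
* `isThickMor_pullback_map` : the map `X ×_Y X ⟶ X' ×_{Y'} X'` attached to a morphism of thickenings
  is a thickening.
-/

set_option autoImplicit false
set_option linter.unusedSectionVars false
universe u
set_option maxHeartbeats 400000

set_option backward.isDefEq.respectTransparency false

open CategoryTheory CategoryTheory.Limits AlgebraicGeometry MorphismProperty AlgSp
open Groth.Agent.Lib.Helper51 Groth.Agent.Lib.Helper52

namespace Groth.Agent.Lib.Helper30

/-- A monomorphism of schemes, locally of finite type, whose restriction along a surjective closed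
immersion is a closed immersion, is a closed immersion. -/
theorem isClosedImmersion_of_thick_comp {E₀ E T : Scheme.{u}} (t : E₀ ⟶ E) (g : E ⟶ T)
    [IsClosedImmersion t] [Surjective t] [IsClosedImmersion (t ≫ g)] [LocallyOfFiniteType g]
    [Mono g] : IsClosedImmersion g := by
  rw [IsClosedImmersion.iff_isProper_and_mono]
  refine ⟨?_, inferInstance⟩
  have huc : UniversallyClosed g := by
    refine ⟨fun X' Y' i₁ i₂ f' sq' => ?_⟩
    have sq1 := IsPullback.of_hasPullback t i₁
    have big : IsPullback (pullback.fst t i₁) (pullback.snd t i₁ ≫ f') (t ≫ g) i₂ :=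
      sq1.paste_vert sq'.flip
    have hci : IsClosedImmersion (pullback.snd t i₁ ≫ f') :=
      MorphismProperty.of_isPullback big inferInstance
    have hsurj' : Surjective (pullback.snd t i₁) := inferInstance
    have hsurj : Function.Surjective (pullback.snd t i₁) := hsurj'.surj
    intro C hC
    have : f' '' C = (pullback.snd t i₁ ≫ f') '' ((pullback.snd t i₁) ⁻¹' C) := by
      ext y
      constructor
      · rintro ⟨x, hx, rfl⟩
        obtain ⟨x₀, rfl⟩ := hsurj x
        exact ⟨x₀, hx, by simp⟩
      · rintro ⟨x₀, hx₀, rfl⟩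
        exact ⟨pullback.snd t i₁ x₀, hx₀, by simp⟩
    rw [this]
    exact (pullback.snd t i₁ ≫ f').isClosedEmbedding.isClosedMap _
      (hC.preimage (pullback.snd t i₁).continuous)
  exact { }

variable {S : Scheme.{u}}

/-- If `t` is a thickening, `t ≫ g` a closed immersion and `g` a monomorphism representable and
locally of finite type, then `g` is a closed immersion. -/
theorem repWith_isClosedImmersion_of_thick_comp {A B C : AlgSp.Sp S} (t : A ⟶ B) (g : B ⟶ C)
    (ht : AlgSp.IsThickMor t) (htg : AlgSp.RepWith @IsClosedImmersion (t ≫ g))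
    (hg : AlgSp.RepWith @LocallyOfFiniteType g) [Mono g] : AlgSp.RepWith @IsClosedImmersion g := by
  refine ⟨hg.1, fun U V c fst snd sq => ?_⟩
  have sq₀ := ht.1.isPullback fst
  have hth : AlgSp.thick (ht.1.snd fst).left := ht.2 fst _ _ sq₀
  have h1 : IsClosedImmersion (ht.1.snd fst).left := hth.1
  have h2 : Surjective (ht.1.snd fst).left := hth.2
  have big : IsPullback (ht.1.fst fst) ((AlgSp.yon S).map (ht.1.snd fst ≫ snd)) (t ≫ g) c := by
    rw [Functor.map_comp]
    exact sq₀.paste_vert sq
  have h3 : IsClosedImmersion ((ht.1.snd fst).left ≫ snd.left) := by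
    have h := htg.2 c _ _ big
    exact h
  have h4 : LocallyOfFiniteType snd.left := hg.2 c fst snd sq
  have h5 : Mono snd.left := by
    have : Mono ((AlgSp.yon S).map snd) := sq.mono_snd_of_mono
    have : Mono snd := (AlgSp.yon S).mono_of_mono_map this
    exact inferInstanceAs (Mono ((Over.forget S).map snd))
  exact isClosedImmersion_of_thick_comp (ht.1.snd fst).left snd.left

/-- The diagonal of any morphism of algebraic spaces is locally of finite type. -/
theorem locP_loft_diagonal {X Y : AlgSp.Sp S} (hX : AlgSp.IsAlgSpace X) (hY : AlgSp.IsAlgSpace Y)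
    (f : X ⟶ Y) : AlgSp.LocP @LocallyOfFiniteType (pullback.diagonal f) :=
  locP_diagonal_of_locP (P := ⊤) Groth.Agent.Lib.Helper78.AlgSpLocPLoft.etLocalST_loft
    (fun h _ => inferInstanceAs (LocallyOfFiniteType (pullback.diagonal h))) hX hY f
    (fun _ _ _ _ _ _ _ _ => trivial)

theorem repWith_loft_diagonal {X Y : AlgSp.Sp S} (hX : AlgSp.IsAlgSpace X)
    (hY : AlgSp.IsAlgSpace Y) (f : X ⟶ Y) :
    AlgSp.RepWith @LocallyOfFiniteType (pullback.diagonal f) := by
  have hP : AlgSp.IsAlgSpace (pullback f f) :=
    isAlgSpace_of_isPullback hY.diag hX hX (IsPullback.of_hasPullback f f)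
  exact repWith_of_locP @LocallyOfFiniteType (representable_diagonal hX.diag f) hP.atlas
    (locP_loft_diagonal hX hY f)

instance thick_isStableUnderComposition : (AlgSp.thick.{u}).IsStableUnderComposition where
  comp_mem f g hf hg := by
    have h1 : IsClosedImmersion f := hf.1
    have h2 : Surjective f := hf.2
    have h3 : IsClosedImmersion g := hg.1
    have h4 : Surjective g := hg.2
    exact ⟨inferInstanceAs (IsClosedImmersion (f ≫ g)), inferInstanceAs (Surjective (f ≫ g))⟩

instance isThickMor_isStableUnderComposition :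
    (AlgSp.IsThickMor (S := S)).IsStableUnderComposition :=
  inferInstanceAs ((AlgSp.RepWith (S := S) AlgSp.thick).IsStableUnderComposition)

open Groth.Agent.Lib.Helper78.AlgSpThick Groth.Agent.Lib.Helper78.AlgSpThickMor in
/-- For a morphism `(f, f')` of thickenings, `X ×_Y X ⟶ X' ×_{Y'} X'` is a thickening. -/
theorem isThickMor_pullback_map {X X' Y Y' : AlgSp.Sp S} (i : X ⟶ X') (j : Y ⟶ Y')
    (f : X ⟶ Y) (f' : X' ⟶ Y') (hi : AlgSp.IsThickMor i) (hj : AlgSp.IsThickMor j)
    (w : i ≫ f' = f ≫ j) :
    AlgSp.IsThickMor (pullback.map f f f' f' i i j w.symm w.symm) := by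
  have : Mono j := mono_of_isThickMor hj
  have sqD := pullback_map_diagonal_isPullback f f j
  have hiso : IsIso (pullback.map f f (f ≫ j) (f ≫ j) (𝟙 _) (𝟙 _) j (Category.id_comp _).symm
      (Category.id_comp _).symm) := sqD.isIso_snd_of_isIso
  have h2 : AlgSp.IsThickMor (pullback.map (f ≫ j) (f ≫ j) f' f' i i (𝟙 _)
      ((Category.comp_id _).trans w.symm) ((Category.comp_id _).trans w.symm)) :=
    MorphismProperty.pullbackMap (P := AlgSp.IsThickMor (S := S)) hi hi w.symm w.symm
  have heq : pullback.map f f f' f' i i j w.symm w.symm =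
      pullback.map f f (f ≫ j) (f ≫ j) (𝟙 _) (𝟙 _) j (Category.id_comp _).symm
        (Category.id_comp _).symm ≫
      pullback.map (f ≫ j) (f ≫ j) f' f' i i (𝟙 _)
        ((Category.comp_id _).trans w.symm) ((Category.comp_id _).trans w.symm) := by
    apply pullback.hom_ext <;> simp
  rw [heq]
  exact (MorphismProperty.cancel_left_of_respectsIso (AlgSp.IsThickMor (S := S)) _ _).2 h2

open Groth.Agent.Lib.Helper78.AlgSpThick Groth.Agent.Lib.Helper78.AlgSpThickMor in
/-- Separatedness is insensitive to thickenings. -/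
theorem isSeparatedMor_iff_of_thick {X X' Y Y' : AlgSp.Sp S} (hX : AlgSp.IsAlgSpace X)
    (hX' : AlgSp.IsAlgSpace X') (hY : AlgSp.IsAlgSpace Y) (hY' : AlgSp.IsAlgSpace Y')
    (i : X ⟶ X') (j : Y ⟶ Y') (f : X ⟶ Y) (f' : X' ⟶ Y') (hi : AlgSp.IsThickMor i)
    (hj : AlgSp.IsThickMor j) (w : i ≫ f' = f ≫ j) :
    AlgSp.IsSeparatedMor f ↔ AlgSp.IsSeparatedMor f' := by
  have hθ := isThickMor_pullback_map i j f f' hi hj w
  have comm : pullback.diagonal f ≫ pullback.map f f f' f' i i j w.symm w.symm =
      i ≫ pullback.diagonal f' := by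
    apply pullback.hom_ext <;> simp
  have hθci : AlgSp.RepWith @IsClosedImmersion (pullback.map f f f' f' i i j w.symm w.symm) :=
    MorphismProperty.relative_monotone (fun _ _ _ h => h.1) _ hθ
  have hici : AlgSp.RepWith @IsClosedImmersion i :=
    MorphismProperty.relative_monotone (fun _ _ _ h => h.1) _ hi
  constructor
  · intro (h : AlgSp.RepWith @IsClosedImmersion (pullback.diagonal f))
    show AlgSp.RepWith @IsClosedImmersion (pullback.diagonal f')
    have h1 : AlgSp.RepWith @IsClosedImmersion (i ≫ pullback.diagonal f') := by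
      rw [← comm]
      exact (AlgSp.RepWith (S := S) @IsClosedImmersion).comp_mem _ _ h hθci
    exact repWith_isClosedImmersion_of_thick_comp i (pullback.diagonal f') hi h1
      (repWith_loft_diagonal hX' hY' f')
  · intro (h : AlgSp.RepWith @IsClosedImmersion (pullback.diagonal f'))
    show AlgSp.RepWith @IsClosedImmersion (pullback.diagonal f)
    have hm : Mono (pullback.map f f f' f' i i j w.symm w.symm) := mono_of_isThickMor hθ
    refine MorphismProperty.of_postcomp (W := AlgSp.RepWith (S := S) @IsClosedImmersion)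
      (W' := MorphismProperty.monomorphisms _) _ (pullback.map f f f' f' i i j w.symm w.symm) hm ?_
    rw [comm]
    exact (AlgSp.RepWith (S := S) @IsClosedImmersion).comp_mem _ _ hici h

open Groth.Agent.Lib.Helper78.AlgSpThick Groth.Agent.Lib.Helper78.AlgSpThickMor in
/-- Quasi-separatedness is insensitive to thickenings. -/
theorem isQuasiSeparatedMor_iff_of_thick {X X' Y Y' : AlgSp.Sp S} (hX : AlgSp.IsAlgSpace X)
    (hX' : AlgSp.IsAlgSpace X') (hY : AlgSp.IsAlgSpace Y) (hY' : AlgSp.IsAlgSpace Y')
    (i : X ⟶ X') (j : Y ⟶ Y') (f : X ⟶ Y) (f' : X' ⟶ Y') (hi : AlgSp.IsThickMor i)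
    (hj : AlgSp.IsThickMor j) (w : i ≫ f' = f ≫ j) :
    AlgSp.IsQuasiSeparatedMor f ↔ AlgSp.IsQuasiSeparatedMor f' := by
  have hθ := isThickMor_pullback_map i j f f' hi hj w
  have comm : pullback.diagonal f ≫ pullback.map f f f' f' i i j w.symm w.symm =
      i ≫ pullback.diagonal f' := by
    apply pullback.hom_ext <;> simp
  have hP : AlgSp.IsAlgSpace (pullback f f) :=
    isAlgSpace_of_isPullback hY.diag hX hX (IsPullback.of_hasPullback f f)
  have hP' : AlgSp.IsAlgSpace (pullback f' f') :=
    isAlgSpace_of_isPullback hY'.diag hX' hX' (IsPullback.of_hasPullback f' f')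
  have key := isQuasiCompactMor_iff_of_thick hX hX' hP hP' i
    (pullback.map f f f' f' i i j w.symm w.symm) (pullback.diagonal f) (pullback.diagonal f') hi hθ
    comm.symm
  constructor
  · intro (h : AlgSp.RepWith @QuasiCompact (pullback.diagonal f))
    have h1 := key.1 (isQuasiCompactMor_of_repWith h)
    exact ⟨representable_diagonal hX'.diag f', fun U V g fst snd sq =>
      quasiCompact_of_isQuasiCompactMor h1 g fst snd sq⟩
  · intro (h : AlgSp.RepWith @QuasiCompact (pullback.diagonal f'))
    have h1 := key.2 (isQuasiCompactMor_of_repWith h)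
    exact ⟨representable_diagonal hX.diag f, fun U V g fst snd sq =>
      quasiCompact_of_isQuasiCompactMor h1 g fst snd sq⟩

end Groth.Agent.Lib.Helper30
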