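import Groth.Agent.Lib.Helper30.AlgSpMor
import Groth.Agent.Lib.Helper30.AlgSpProper
import Groth.Prelude.Def_Flat

/-!
# Universal homeomorphisms of algebraic spaces (helper30)

* `isHomeomorph_map_yon_map_iff`
* `injective_map_of_representable` : a representable morphism whose represented base changes are
  injective is injective on points.
* `isHomeomorph_map_of_representable` : same for homeomorphisms.
* `isUnivHomeoMor_of_repWith`, `repWith_isUnivHomeo_of_isUnivHomeoMor`.
-/

set_option autoImplicit false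
set_option linter.unusedSectionVars false
universe u
set_option maxHeartbeats 400000

set_option backward.isDefEq.respectTransparency false

open CategoryTheory CategoryTheory.Limits AlgebraicGeometry MorphismProperty AlgSp
open Groth.Agent.Lib.Helper51 Groth.Agent.Lib.Helper52

namespace Groth.Agent.Lib.Helper30

variable {S : Scheme.{u}}

/-- The map on points of `h_φ` is a homeomorphism iff `φ` is. -/
theorem isHomeomorph_map_yon_map_iff {T T' : Over S} (φ : T ⟶ T') :
    IsHomeomorph (Points.map ((AlgSp.yon S).map φ)) ↔ IsHomeomorph φ.left := by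
  rw [Points.map_yon_map_eq]
  constructor
  · intro h
    have h2 := ((Points.schemeHomeo T').symm.isHomeomorph.comp h).comp
      (Points.schemeHomeo T).isHomeomorph
    convert h2 using 1
    funext t
    simp
  · intro h
    exact ((Points.schemeHomeo T').isHomeomorph.comp h).comp
      (Points.schemeHomeo T).symm.isHomeomorph

/-- A representable morphism all of whose represented base changes are injective on underlying
spaces is injective on points. -/
theorem injective_map_of_representable {Z' Z : AlgSp.Sp S} (snd : Z' ⟶ Z)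
    (hsnd : AlgSp.Representable snd)
    (H : ∀ (T : Over S) (h : (AlgSp.yon S).obj T ⟶ Z), Function.Injective (hsnd.snd h).left) :
    Function.Injective (Points.map snd) := by
  intro z₁ z₂ hz
  obtain ⟨T₁, g₁, t₁, rfl⟩ := exists_ofPt_eq z₁
  obtain ⟨T₂, g₂, t₂, rfl⟩ := exists_ofPt_eq z₂
  rw [Points.map_ofPt, Points.map_ofPt, Points.ofPt_eq_map_ofScheme (g₁ ≫ snd),
    Points.ofPt_eq_map_ofScheme (g₂ ≫ snd)] at hz
  have sqW := IsPullback.of_hasPullback (g₁ ≫ snd) (g₂ ≫ snd)
  obtain ⟨w, hw1, hw2⟩ := exists_point_of_isPullback sqW _ _ hz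
  obtain ⟨T, c, τ, rfl⟩ := exists_ofPt_eq w
  -- the two lifts
  have e1 : Points.ofPt g₁ t₁ = Points.ofPt (c ≫ pullback.fst _ _ ≫ g₁) τ := by
    rw [Points.ofPt_eq_map_ofScheme g₁, ← hw1, Points.map_ofPt, Points.map_ofPt, Category.assoc]
  have e2 : Points.ofPt g₂ t₂ = Points.ofPt (c ≫ pullback.snd _ _ ≫ g₂) τ := by
    rw [Points.ofPt_eq_map_ofScheme g₂, ← hw2, Points.map_ofPt, Points.map_ofPt, Category.assoc]
  rw [e1, e2]
  have hcomm : (c ≫ pullback.fst _ _ ≫ g₁) ≫ snd = (c ≫ pullback.snd _ _ ≫ g₂) ≫ snd := by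
    simp only [Category.assoc]
    rw [sqW.w]
  -- sections of the represented base change
  have hpb := hsnd.isPullback ((c ≫ pullback.fst _ _ ≫ g₁) ≫ snd)
  obtain ⟨s₁, hs1, hs1'⟩ : ∃ s : T ⟶ hsnd.pullback ((c ≫ pullback.fst _ _ ≫ g₁) ≫ snd),
      (AlgSp.yon S).map s ≫ hsnd.fst _ = c ≫ pullback.fst _ _ ≫ g₁ ∧ s ≫ hsnd.snd _ = 𝟙 T := by
    refine ⟨(AlgSp.yon S).preimage (hpb.lift (c ≫ pullback.fst _ _ ≫ g₁) (𝟙 _) (by simp)), ?_, ?_⟩
    · rw [Functor.map_preimage, hpb.lift_fst]
    · apply (AlgSp.yon S).map_injective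
      rw [Functor.map_comp, Functor.map_preimage, hpb.lift_snd, CategoryTheory.Functor.map_id]
  obtain ⟨s₂, hs2, hs2'⟩ : ∃ s : T ⟶ hsnd.pullback ((c ≫ pullback.fst _ _ ≫ g₁) ≫ snd),
      (AlgSp.yon S).map s ≫ hsnd.fst _ = c ≫ pullback.snd _ _ ≫ g₂ ∧ s ≫ hsnd.snd _ = 𝟙 T := by
    refine ⟨(AlgSp.yon S).preimage (hpb.lift (c ≫ pullback.snd _ _ ≫ g₂) (𝟙 _)
      (by rw [Category.id_comp, hcomm])), ?_, ?_⟩
    · rw [Functor.map_preimage, hpb.lift_fst]
    · apply (AlgSp.yon S).map_injective
      rw [Functor.map_comp, Functor.map_preimage, hpb.lift_snd, CategoryTheory.Functor.map_id]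
  have hpt : s₁.left τ = s₂.left τ := by
    apply H T _
    have h1 : (hsnd.snd ((c ≫ pullback.fst _ _ ≫ g₁) ≫ snd)).left (s₁.left τ) = τ := by
      rw [← Scheme.Hom.comp_apply, ← Over.comp_left, hs1']; rfl
    have h2 : (hsnd.snd ((c ≫ pullback.fst _ _ ≫ g₁) ≫ snd)).left (s₂.left τ) = τ := by
      rw [← Scheme.Hom.comp_apply, ← Over.comp_left, hs2']; rfl
    rw [h1, h2]
  rw [← hs1, ← hs2, ofPt_yon_map_comp, ofPt_yon_map_comp, hpt]

/-- A representable morphism all of whose represented base changes are homeomorphisms is a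
homeomorphism on points. -/
theorem isHomeomorph_map_of_representable {Z' Z : AlgSp.Sp S} (snd : Z' ⟶ Z)
    (hsnd : AlgSp.Representable snd)
    (H : ∀ (T : Over S) (h : (AlgSp.yon S).obj T ⟶ Z), IsHomeomorph (hsnd.snd h).left) :
    IsHomeomorph (Points.map snd) := by
  refine ⟨Points.continuous_map snd, ?_, injective_map_of_representable snd hsnd
    fun T h => (H T h).bijective.1, ?_⟩
  · refine isOpenMap_map_of_charts snd fun T h => ?_
    exact ⟨hsnd.pullback h, hsnd.fst h, hsnd.snd h, hsnd.w h, (H T h).isOpenMap,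
      fun w t hwt => exists_pt_of_isPullback_yon (hsnd.isPullback h) w t hwt⟩
  · intro z
    obtain ⟨T, h, t, rfl⟩ := exists_ofPt_eq z
    obtain ⟨v, rfl⟩ := (H T h).bijective.2 t
    refine ⟨Points.ofPt (hsnd.fst h) v, ?_⟩
    rw [Points.map_ofPt, hsnd.w h, ofPt_yon_map_comp]

/-- A morphism representable by universal homeomorphisms is a universal homeomorphism on points. -/
theorem isUnivHomeoMor_of_repWith {F G : AlgSp.Sp S} {f : F ⟶ G}
    (hU : AlgSp.RepWith FlatMor.IsUnivHomeo f) : AlgSp.IsUnivHomeoMor f := by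
  intro Z Z' _ g fst snd sq
  have hsnd : AlgSp.Representable snd := MorphismProperty.of_isPullback sq hU.1
  refine isHomeomorph_map_of_representable snd hsnd fun T h => ?_
  have h1 := hU.2 (h ≫ g) _ _ ((hsnd.isPullback h).paste_horiz sq)
  exact h1 (𝟙 _) (𝟙 _) _ (IsPullback.id_vert _)

/-- If all base changes of `f` to algebraic spaces are homeomorphisms on points, every represented
base change of `f` is a universal homeomorphism of schemes. -/
theorem isUnivHomeo_of_isUnivHomeoMor {F G : AlgSp.Sp S} {f : F ⟶ G}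
    (hO : AlgSp.IsUnivHomeoMor f) {U V : Over S} (g : (AlgSp.yon S).obj U ⟶ G)
    (fst : (AlgSp.yon S).obj V ⟶ F) (snd : V ⟶ U)
    (sq : IsPullback fst ((AlgSp.yon S).map snd) f g) : FlatMor.IsUnivHomeo snd.left := by
  intro X' Y' i₁ i₂ f' sq'
  have hw := over_w snd i₁ i₂ f' sq'
  have sqo := (isPullback_over snd i₁ i₂ f' sq' hw).map (AlgSp.yon S)
  have big := sqo.flip.paste_horiz sq
  have hq := hO (AlgSp.IsAlgSpace.yon_obj (Over.mk (i₂ ≫ U.hom))) _ _ _ big
  exact (isHomeomorph_map_yon_map_iff _).1 hq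

end Groth.Agent.Lib.Helper30
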