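import Groth.Agent.Lib.Helper30.AlgSpFib
import Groth.Agent.Lib.Helper51.AlgSpPoints
import Groth.Agent.Lib.Helper52.Points
import Groth.Prelude.Def_AlgSpMor5

/-!
# Valuative criteria for morphisms of sheaves (helper30)

* `existVC_of_isPullback` : the existence part of the valuative criterion is stable under base change.
* `isClosed_image_of_stableUnderSpecialization` : scheme lemma.
* `exists_specializes_of_existVC` : lifting specializations.
-/

set_option autoImplicit false
set_option linter.unusedSectionVars false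
universe u
set_option maxHeartbeats 400000
set_option backward.isDefEq.respectTransparency false

open CategoryTheory CategoryTheory.Limits AlgebraicGeometry MorphismProperty AlgSp Opposite IsLocalRing

namespace Groth.Agent.Lib.Helper30

variable {S : Scheme.{u}}

/-- The valuative square for `f` induced by a valuative square for a base change of `f`. -/
noncomputable def ValSq.ofIsPullback {F G F' G' : AlgSp.Sp S} {f : F ⟶ G} {g : G' ⟶ G} {p1 : F' ⟶ F}
    {p2 : F' ⟶ G'} (sqP : IsPullback p1 p2 f g) (sq : AlgSp.ValSq p2) : AlgSp.ValSq f where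
  A := sq.A
  K := sq.K
  str := sq.str
  top := sq.top ≫ p1
  bot := sq.bot ≫ g
  comm := by rw [Category.assoc, sqP.w, ← Category.assoc, sq.comm, Category.assoc]

/-- The existence part of the valuative criterion is stable under base change. -/
theorem existVC_of_isPullback {F G F' G' : AlgSp.Sp S} {f : F ⟶ G} {g : G' ⟶ G} {p1 : F' ⟶ F}
    {p2 : F' ⟶ G'} (sqP : IsPullback p1 p2 f g) (he : AlgSp.ExistVC f) : AlgSp.ExistVC p2 := by
  intro sq
  obtain ⟨e', l', hl1, hl2⟩ := he (ValSq.ofIsPullback sqP sq)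
  let e : sq.DomExt :=
    { A' := e'.A'
      K' := e'.K'
      φ := e'.φ
      ψ := e'.ψ
      comm := e'.comm
      isLocalHom := e'.isLocalHom }
  refine ⟨e, ?_⟩
  let m : e.ptA' ⟶ sq.ptA := Over.homMk (Spec.map (CommRingCat.ofHom e.φ)) rfl
  have hl2' : l' ≫ f = ((AlgSp.yon S).map m ≫ sq.bot) ≫ g := by
    rw [Category.assoc]
    exact hl2
  refine ⟨sqP.lift l' ((AlgSp.yon S).map m ≫ sq.bot) hl2', ?_, sqP.lift_snd _ _ _⟩
  apply sqP.hom_ext
  · rw [Category.assoc, sqP.lift_fst, Category.assoc]
    exact hl1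
  · rw [Category.assoc, sqP.lift_snd, Category.assoc, sq.comm, ← Category.assoc, ← Category.assoc,
      ← Functor.map_comp, ← Functor.map_comp]
    congr 2
    ext
    show Spec.map (CommRingCat.ofHom (algebraMap e.A' e.K')) ≫ Spec.map (CommRingCat.ofHom e.φ) =
      Spec.map (CommRingCat.ofHom e.ψ) ≫ Spec.map (CommRingCat.ofHom (algebraMap sq.A sq.K))
    rw [← Spec.map_comp, ← Spec.map_comp, ← CommRingCat.ofHom_comp, ← CommRingCat.ofHom_comp,
      e.comm]

theorem isClosed_image_of_stableUnderSpecialization {W T : Scheme.{u}} (q : W ⟶ T)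
    [CompactSpace W] [IsAffine T] (C : Set W) (hC : IsClosed C)
    (H : StableUnderSpecialization (q '' C)) : IsClosed (q '' C) := by
  obtain ⟨R, g, hg⟩ := compactSpace_iff_exists.mp (inferInstance : CompactSpace W)
  obtain ⟨φ, hφ⟩ := Spec.homEquiv.symm.surjective (g ≫ q ≫ T.isoSpec.hom)
  have hZ : IsClosed (g ⁻¹' C) := hC.preimage g.continuous
  have himg : (g ≫ q ≫ T.isoSpec.hom) '' (g ⁻¹' C) = T.isoSpec.hom '' (q '' C) := by
    simp_rw [Scheme.Hom.comp_base, TopCat.coe_comp, Set.image_comp, Set.image_preimage_eq _ hg]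
  have hsp : SpecializingMap T.isoSpec.hom :=
    (T.isoSpec.hom.homeomorph).isClosedMap.specializingMap
  have H' : StableUnderSpecialization ((g ≫ q ≫ T.isoSpec.hom) '' (g ⁻¹' C)) := by
    rw [himg]
    exact H.image hsp
  rw [← hφ] at H' himg
  have hcl := PrimeSpectrum.isClosed_image_of_stableUnderSpecialization φ.hom (g ⁻¹' C) hZ H'
  have hcl' : IsClosed (T.isoSpec.hom '' (q '' C)) := by
    rw [← himg]
    exact hcl
  have : q '' C = T.isoSpec.hom ⁻¹' (T.isoSpec.hom '' (q '' C)) :=
    (Set.preimage_image_eq _ (T.isoSpec.hom.homeomorph).injective).symm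
  rw [this]
  exact hcl'.preimage T.isoSpec.hom.continuous

theorem exists_specializes_of_existVC {P : AlgSp.Sp S} {T W : Over S}
    (p2 : P ⟶ (AlgSp.yon S).obj T) (he : AlgSp.ExistVC p2)
    (c : (AlgSp.yon S).obj W ⟶ P) (q₀ : W ⟶ T) (hq : (AlgSp.yon S).map q₀ = c ≫ p2)
    (w : ↥W.left) (t' : ↥T.left) (h : q₀.left w ⤳ t') :
    ∃ x' : Points P, Points.ofPt c w ⤳ x' ∧ Points.map p2 x' = Points.ofScheme T t' := by
  let φ₀ : T.left.presheaf.stalk t' ⟶ W.left.residueField w :=
    T.left.presheaf.stalkSpecializes h ≫ q₀.left.stalkMap w ≫ W.left.residue w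
  obtain ⟨A, hA, hA_local⟩ := exists_factor_valuationRing φ₀.hom
  let toA : T.left.presheaf.stalk t' ⟶ .of A :=
    CommRingCat.ofHom (φ₀.hom.codRestrict _ hA)
  have weq : W.left.fromSpecResidueField w ≫ q₀.left =
      Spec.map (CommRingCat.ofHom (algebraMap A (W.left.residueField w))) ≫
        Spec.map toA ≫ T.left.fromSpecStalk t' := by
    rw [Scheme.fromSpecResidueField, Category.assoc, ← Scheme.SpecMap_stalkMap_fromSpecStalk,
      ← Scheme.SpecMap_stalkSpecializes_fromSpecStalk h]
    simp_rw [← Spec.map_comp_assoc]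
    rfl
  let str : Spec (.of A) ⟶ S := (Spec.map toA ≫ T.left.fromSpecStalk t') ≫ T.hom
  have htop : W.left.fromSpecResidueField w ≫ W.hom =
      Spec.map (CommRingCat.ofHom (algebraMap A (W.left.residueField w))) ≫ str := by
    rw [← CategoryTheory.Over.w q₀, ← Category.assoc, weq]
    simp only [str, Category.assoc]
  let topm : Over.mk (Spec.map (CommRingCat.ofHom (algebraMap A (W.left.residueField w))) ≫ str) ⟶ W :=
    Over.homMk (W.left.fromSpecResidueField w) htop
  let botm : Over.mk str ⟶ T := Over.homMk (Spec.map toA ≫ T.left.fromSpecStalk t') rfl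
  let sq : AlgSp.ValSq p2 :=
    { A := A
      K := W.left.residueField w
      str := str
      top := (AlgSp.yon S).map topm ≫ c
      bot := (AlgSp.yon S).map botm
      comm := by
        rw [Category.assoc, ← hq, ← Functor.map_comp, ← Functor.map_comp]
        congr 1
        ext
        exact weq }
  obtain ⟨e, l, hl1, hl2⟩ := he sq
  refine ⟨Points.ofPt l (closedPoint e.A'), ?_, ?_⟩
  · have h1 := Groth.Agent.Lib.Helper52.ofPt_yon_map_comp
      (Over.homMk (Spec.map (CommRingCat.ofHom (algebraMap e.A' e.K'))) rfl : e.ptK' ⟶ e.ptA') l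
      (closedPoint e.K')
    rw [hl1, Groth.Agent.Lib.Helper52.ofPt_yon_map_comp] at h1
    have h2 := Groth.Agent.Lib.Helper52.ofPt_yon_map_comp topm c
    have hgen : Points.ofPt l ((Over.homMk (Spec.map (CommRingCat.ofHom (algebraMap e.A' e.K'))) rfl :
        e.ptK' ⟶ e.ptA').left (closedPoint e.K')) = Points.ofPt c w := by
      refine h1.symm.trans ?_
      show Points.ofPt ((AlgSp.yon S).map topm ≫ c) _ = _
      rw [h2]
      congr 1
      exact Scheme.fromSpecResidueField_apply _ _
    rw [← hgen]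
    exact Specializes.map (specializes_closedPoint (R := e.A') _) (Points.continuous_ofPt l)
  · rw [Points.map_ofPt, hl2, Groth.Agent.Lib.Helper52.ofPt_yon_map_comp]
    show Points.ofPt ((AlgSp.yon S).map botm) _ = _
    have h3 := Groth.Agent.Lib.Helper52.ofPt_yon_map_comp botm (𝟙 _)
    rw [Category.comp_id] at h3
    rw [h3]
    show Points.ofScheme T _ = Points.ofScheme T t'
    congr 1
    have : IsLocalHom (CommRingCat.ofHom e.φ).hom := e.isLocalHom
    have e1 : Spec.map (CommRingCat.ofHom e.φ) (closedPoint e.A') = closedPoint A :=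
      Spec_closedPoint
    have e2 : Spec.map toA (closedPoint A) = closedPoint (T.left.presheaf.stalk t') :=
      comap_closedPoint (S := A) (φ₀.hom.codRestrict A.toSubring hA)
    show (Spec.map toA ≫ T.left.fromSpecStalk t') (Spec.map (CommRingCat.ofHom e.φ) (closedPoint e.A')) = t'
    rw [e1, Scheme.Hom.comp_apply, e2, Scheme.fromSpecStalk_closedPoint]


/-- A morphism to an affine scheme satisfying the existence part of the valuative criterion, whose
source receives a points-surjective map from a quasi-compact scheme, is closed on points. -/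
theorem isClosedMap_map_of_existVC {P : AlgSp.Sp S} {T W : Over S} [CompactSpace ↥W.left]
    [IsAffine T.left] (p2 : P ⟶ (AlgSp.yon S).obj T) (he : AlgSp.ExistVC p2)
    (c : (AlgSp.yon S).obj W ⟶ P) (hc : Function.Surjective (Points.ofPt c)) :
    IsClosedMap (Points.map p2) := by
  obtain ⟨q₀, hq⟩ := (AlgSp.yon S).map_surjective (c ≫ p2)
  have hpt : ∀ w : ↥W.left, Points.map p2 (Points.ofPt c w) = Points.ofScheme T (q₀.left w) := by
    intro w
    rw [Points.map_ofPt, ← hq]
    have h3 := Groth.Agent.Lib.Helper52.ofPt_yon_map_comp q₀ (𝟙 _) w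
    rw [Category.comp_id] at h3
    exact h3
  intro C hC
  have key : Points.map p2 '' C = Points.ofScheme T '' (q₀.left '' (Points.ofPt c ⁻¹' C)) := by
    ext y
    constructor
    · rintro ⟨x, hx, rfl⟩
      obtain ⟨w, rfl⟩ := hc x
      exact ⟨q₀.left w, ⟨w, hx, rfl⟩, (hpt w).symm⟩
    · rintro ⟨_, ⟨w, hw, rfl⟩, rfl⟩
      exact ⟨Points.ofPt c w, hw, hpt w⟩
  rw [key]
  refine (Points.schemeHomeo T).isClosedMap _
    (isClosed_image_of_stableUnderSpecialization q₀.left _
      (hC.preimage (Points.continuous_ofPt c)) ?_)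
  rintro d t' hdt ⟨w, hw, rfl⟩
  obtain ⟨x', hx'1, hx'2⟩ := exists_specializes_of_existVC p2 he c q₀ hq w t' hdt
  have hx'C : x' ∈ C := hx'1.mem_closed hC hw
  obtain ⟨w', rfl⟩ := hc x'
  refine ⟨w', hx'C, ?_⟩
  rw [hpt w'] at hx'2
  exact (Points.schemeEquiv T).injective hx'2

/-- A quasi-compact morphism of algebraic spaces satisfying the existence part of the valuative
criterion is universally closed. -/
theorem isUnivClosedMor_of_existVC {X Y : AlgSp.Sp S} (hX : AlgSp.IsAlgSpace X)
    (hY : AlgSp.IsAlgSpace Y) (f : X ⟶ Y) (hq : AlgSp.IsQuasiCompactMor f)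
    (he : AlgSp.ExistVC f) : AlgSp.IsUnivClosedMor f := by
  intro Z Z' hZ g fst snd sqZ
  show IsClosedMap (Points.map snd)
  refine isClosedMap_map_of_affine snd (fun T hT h => ?_)
  have : IsAffine T.left := hT
  have sqP := (IsPullback.of_hasPullback snd h).paste_horiz sqZ
  have heP : AlgSp.ExistVC (pullback.snd snd h) := existVC_of_isPullback sqP he
  have hPalg : AlgSp.IsAlgSpace (pullback snd h) :=
    isAlgSpace_of_isPullback hY.diag hX (AlgSp.IsAlgSpace.yon_obj T) sqP
  have hPqc : AlgSp.IsQuasiCompactSp (pullback snd h) :=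
    hq (AlgSp.IsAlgSpace.yon_obj T) (isQuasiCompactSp_yon_obj T) (h ≫ g) _ _ sqP
  obtain ⟨W, c, hW, hce, hcs⟩ :=
    (Groth.Agent.Lib.Helper51.isQuasiCompactSp_iff_exists_affine_chart hPalg).1 hPqc
  have : IsAffine W.left := hW
  exact isClosedMap_map_of_existVC (pullback.snd snd h) heP c
    (Groth.Agent.Lib.Helper51.surjective_ofPt_of_repWith_surjective c hcs)

end Groth.Agent.Lib.Helper30
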