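import Groth.Agent.Lib.Helper30.AlgSpValuative
import Groth.Agent.Lib.Helper30.AlgSpThickSep
import Mathlib.AlgebraicGeometry.ZariskisMainTheorem

/-!
# Valuative criterion for separatedness (helper30)

* `existVC_of_existVCStrict` : a lift without extension is a lift with the trivial extension.
* `existVCStrict_diagonal_of_uniqVC` : uniqueness for `f` gives existence for the diagonal.
* `isSeparatedMor_of_uniqVC` : quasi-separated + uniqueness part ⟹ separated.
-/

set_option autoImplicit false
set_option linter.unusedSectionVars false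
universe u
set_option maxHeartbeats 400000
set_option backward.isDefEq.respectTransparency false

open CategoryTheory CategoryTheory.Limits AlgebraicGeometry MorphismProperty AlgSp Opposite IsLocalRing

namespace Groth.Agent.Lib.Helper30

variable {S : Scheme.{u}}

/-- The trivial dominating extension of a valuative square. -/
noncomputable def ValSq.trivExt {F G : AlgSp.Sp S} {f : F ⟶ G} (sq : AlgSp.ValSq f) : sq.DomExt where
  A' := sq.A
  K' := sq.K
  φ := RingHom.id _
  ψ := RingHom.id _
  comm := by rw [RingHom.comp_id, RingHom.id_comp]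
  isLocalHom := isLocalHom_id _

/-- A lift of a valuative square is a lift after the trivial extension. -/
theorem hasLiftExt_of_hasLift {F G : AlgSp.Sp S} {f : F ⟶ G} (sq : AlgSp.ValSq f)
    (h : sq.HasLift) : sq.HasLiftExt := by
  obtain ⟨l₀, h1, h2⟩ := h
  refine ⟨ValSq.trivExt sq, ?_⟩
  let e := ValSq.trivExt sq
  let m : e.ptA' ⟶ sq.ptA := Over.homMk (Spec.map (CommRingCat.ofHom e.φ)) rfl
  refine ⟨(AlgSp.yon S).map m ≫ l₀, ?_, ?_⟩
  · rw [← h1, ← Category.assoc, ← Category.assoc, ← Functor.map_comp, ← Functor.map_comp]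
    congr 2
    ext
    show Spec.map (CommRingCat.ofHom (algebraMap e.A' e.K')) ≫ Spec.map (CommRingCat.ofHom e.φ) =
      Spec.map (CommRingCat.ofHom e.ψ) ≫ Spec.map (CommRingCat.ofHom (algebraMap sq.A sq.K))
    rw [← Spec.map_comp, ← Spec.map_comp, ← CommRingCat.ofHom_comp, ← CommRingCat.ofHom_comp,
      e.comm]
  · rw [Category.assoc, h2]

theorem existVC_of_existVCStrict {F G : AlgSp.Sp S} {f : F ⟶ G} (h : AlgSp.ExistVCStrict f) :
    AlgSp.ExistVC f := fun sq => hasLiftExt_of_hasLift sq (h sq)

/-- The uniqueness part of the valuative criterion for `f` gives the (strict) existence part for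
the diagonal of `f`. -/
theorem existVCStrict_diagonal_of_uniqVC {F G : AlgSp.Sp S} {f : F ⟶ G} (hu : AlgSp.UniqVC f) :
    AlgSp.ExistVCStrict (pullback.diagonal f) := by
  intro sq
  have hc1 : sq.top = (AlgSp.yon S).map sq.j ≫ sq.bot ≫ pullback.fst f f := by
    have := congrArg (fun t => t ≫ pullback.fst f f) sq.comm
    simpa using this
  have hc2 : sq.top = (AlgSp.yon S).map sq.j ≫ sq.bot ≫ pullback.snd f f := by
    have := congrArg (fun t => t ≫ pullback.snd f f) sq.comm
    simpa using this
  let sq_f : AlgSp.ValSq f :=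
    { A := sq.A, K := sq.K, str := sq.str, top := sq.top
      bot := (sq.bot ≫ pullback.fst f f) ≫ f
      comm := by
        conv_lhs => rw [hc1]
        simp only [Category.assoc] }
  have hab : sq.bot ≫ pullback.fst f f = sq.bot ≫ pullback.snd f f :=
    hu sq_f _ _ hc1.symm rfl hc2.symm (by
      show (sq.bot ≫ pullback.snd f f) ≫ f = (sq.bot ≫ pullback.fst f f) ≫ f
      rw [Category.assoc, Category.assoc, pullback.condition])
  refine ⟨sq.bot ≫ pullback.fst f f, hc1.symm, ?_⟩
  apply pullback.hom_ext
  · simp
  · simp [hab]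

/-- A quasi-separated morphism of algebraic spaces satisfying the uniqueness part of the valuative
criterion is separated. -/
theorem isSeparatedMor_of_uniqVC {X Y : AlgSp.Sp S} (hX : AlgSp.IsAlgSpace X)
    (hY : AlgSp.IsAlgSpace Y) (f : X ⟶ Y) (hqs : AlgSp.IsQuasiSeparatedMor f)
    (hu : AlgSp.UniqVC f) : AlgSp.IsSeparatedMor f := by
  have hH : AlgSp.IsAlgSpace (pullback f f) :=
    isAlgSpace_of_isPullback hY.diag hX hX (IsPullback.of_hasPullback f f)
  have hqc : AlgSp.IsQuasiCompactMor (pullback.diagonal f) := isQuasiCompactMor_of_repWith hqs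
  have hUC : AlgSp.IsUnivClosedMor (pullback.diagonal f) :=
    isUnivClosedMor_of_existVC hX hH _ hqc
      (existVC_of_existVCStrict (existVCStrict_diagonal_of_uniqVC hu))
  have hlft := repWith_loft_diagonal hX hY f
  refine ⟨hqs.1, ?_⟩
  intro T V g fst snd sq
  show IsClosedImmersion snd.left
  have h1 : UniversallyClosed snd.left := universallyClosed_of_isUnivClosedMor hUC g fst snd sq
  have h2 : LocallyOfFiniteType snd.left := hlft.2 g fst snd sq
  have h3 : Mono snd.left := by
    have : Mono ((AlgSp.yon S).map snd) := by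
      have : Mono (pullback.diagonal f) := inferInstance
      exact MorphismProperty.of_isPullback (P := MorphismProperty.monomorphisms _) sq this
    have : Mono snd := (AlgSp.yon S).mono_of_mono_map this
    exact inferInstanceAs (Mono ((Over.forget S).map snd))
  have h4 : QuasiCompact snd.left := hqs.2 g fst snd sq
  have h5 : IsProper snd.left := { }
  exact (IsClosedImmersion.iff_isProper_and_mono _).2 ⟨h5, h3⟩

end Groth.Agent.Lib.Helper30
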