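import Groth.Agent.Lib.Helper30.AlgSpCoprod
import Groth.Agent.Lib.Helper78.AlgSpMisc
import Groth.Agent.Lib.Helper78.AlgSpLocPFlat
import Groth.Agent.Lib.Helper78.AlgSpFibre
import Groth.Agent.Lib.Helper51.AlgSpPoints2
import Mathlib.AlgebraicGeometry.Morphisms.FlatMono

/-!
# Flat surjective closed immersions of algebraic spaces are isomorphisms; intersections of opens
(helper30)
-/

set_option autoImplicit false
set_option linter.unusedSectionVars false
universe u
set_option maxHeartbeats 800000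

set_option backward.isDefEq.respectTransparency false

open CategoryTheory CategoryTheory.Limits AlgebraicGeometry MorphismProperty AlgSp
open Groth.Agent.Lib.Helper51 Groth.Agent.Lib.Helper52

namespace Groth.Agent.Lib.Helper30.WhereIso

variable {S : Scheme.{u}}

/-- A flat, surjective closed immersion of algebraic spaces is an isomorphism. -/
theorem isIso_of_closedImmersion_flat_surjective {X Y : AlgSp.Sp S} (hX : IsAlgSpace X)
    (hY : IsAlgSpace Y) (f : X ⟶ Y) (h1 : AlgSp.RepWith @IsClosedImmersion f)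
    (h2 : AlgSp.LocP @Flat f) (h3 : AlgSp.IsSurjectiveMor f) : IsIso f := by
  have hmono : Mono f := mono_of_repWith (fun g (_ : IsClosedImmersion g) => inferInstance) h1
  have hflat : AlgSp.RepWith @Flat f :=
    Groth.Agent.Lib.Helper78.AlgSpMisc.repWith_of_locP
      Groth.Agent.Lib.Helper78.AlgSpLocPFlat.etLocalST_flat f h1.1 hX.atlas hY h2
  apply Groth.Agent.Lib.Helper30.Coprod.isIso_of_mono_of_locally_lifts f
  intro V σ
  refine ⟨⊤, (AlgSp.J S).top_mem V, fun V' k _ => ?_⟩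
  have sq := h1.1.isPullback σ
  have c1 : IsClosedImmersion (h1.1.snd σ).left := h1.2 σ _ _ sq
  have c2 : Flat (h1.1.snd σ).left := hflat.2 σ _ _ sq
  have c3 : Surjective (h1.1.snd σ).left := ⟨fun v => by
    have : Points.ofPt σ v ∈ Set.range (Points.map f) := h3 _
    exact (ofPt_mem_range_map_iff sq v).1 this⟩
  have c4 : IsIso (h1.1.snd σ).left := Flat.isIso_of_surjective_of_mono _
  have c5 : IsIso (h1.1.snd σ) := by
    have : IsIso ((Over.forget S).map (h1.1.snd σ)) := c4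
    exact isIso_of_reflects_iso _ (Over.forget S)
  refine ⟨(AlgSp.yon S).map (k ≫ inv (h1.1.snd σ)) ≫ h1.1.fst σ, ?_⟩
  rw [Category.assoc, sq.w, ← Category.assoc, ← Functor.map_comp, Category.assoc,
    IsIso.inv_hom_id, Category.comp_id]

/-- An isomorphism is surjective on points. -/
theorem isSurjectiveMor_of_isIso {X Y : AlgSp.Sp S} (f : X ⟶ Y) [IsIso f] :
    AlgSp.IsSurjectiveMor f := by
  intro y
  refine ⟨Points.map (inv f) y, ?_⟩
  rw [← Points.map_comp, IsIso.inv_hom_id, Points.map_id]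

/-- An isomorphism of algebraic spaces is flat. -/
theorem locP_flat_of_isIso {X Y : AlgSp.Sp S} (hY : IsAlgSpace Y) (f : X ⟶ Y) [IsIso f] :
    AlgSp.LocP @Flat f :=
  Groth.Agent.Lib.Helper78.AlgSpMisc.locP_of_repWith
    Groth.Agent.Lib.Helper78.AlgSpLocPFlat.etLocalST_flat f hY.atlas
    (Groth.Agent.Lib.Helper78.AlgSpBasic.repWith_of_isIso _ f)

/-- Intersection of two open subspaces given by their universal properties. -/
theorem exists_open_inter {Z W1 W2 : AlgSp.Space S} (w1 : W1 ⟶ Z) (w2 : W2 ⟶ Z)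
    (hw1 : AlgSp.RepWith @IsOpenImmersion w1.hom) (hw2 : AlgSp.RepWith @IsOpenImmersion w2.hom) :
    ∃ (W : AlgSp.Space S) (w : W ⟶ Z), AlgSp.RepWith @IsOpenImmersion w.hom ∧
      ∀ (Z' : AlgSp.Space S) (g : Z' ⟶ Z),
        (∃ k : Z' ⟶ W, k ≫ w = g) ↔ ((∃ k : Z' ⟶ W1, k ≫ w1 = g) ∧ (∃ k : Z' ⟶ W2, k ≫ w2 = g)) := by
  have sq := IsPullback.of_hasPullback w1.hom w2.hom
  let W : AlgSp.Space S := ⟨pullback w1.hom w2.hom,
    Groth.Agent.Lib.Helper78.AlgSpFibre.isAlgSpace_of_isPullback sq Z.property.diag W1.property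
      W2.property⟩
  let a : W ⟶ W1 := ObjectProperty.homMk (pullback.fst w1.hom w2.hom)
  let b : W ⟶ W2 := ObjectProperty.homMk (pullback.snd w1.hom w2.hom)
  have hab : a ≫ w1 = b ≫ w2 := ObjectProperty.hom_ext _ sq.w
  have ha : AlgSp.RepWith @IsOpenImmersion a.hom := MorphismProperty.of_isPullback sq.flip hw2
  refine ⟨W, a ≫ w1, (AlgSp.RepWith (S := S) @IsOpenImmersion).comp_mem _ _ ha hw1, ?_⟩
  intro Z' g
  constructor
  · rintro ⟨k, rfl⟩
    refine ⟨⟨k ≫ a, by rw [Category.assoc]⟩, ⟨k ≫ b, by rw [Category.assoc, ← hab]⟩⟩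
  · rintro ⟨⟨k1, rfl⟩, ⟨k2, h2⟩⟩
    have e : k1.hom ≫ w1.hom = k2.hom ≫ w2.hom := (congrArg (fun t => t.hom) h2).symm
    refine ⟨ObjectProperty.homMk (pullback.lift k1.hom k2.hom e), ?_⟩
    apply ObjectProperty.hom_ext
    show pullback.lift k1.hom k2.hom e ≫ pullback.fst w1.hom w2.hom ≫ w1.hom = k1.hom ≫ w1.hom
    rw [← Category.assoc, pullback.lift_fst]

end Groth.Agent.Lib.Helper30.WhereIso
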