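import Groth.Agent.Lib.Helper98.AlgSpUnram
import Groth.Agent.Lib.Helper31.AlgSpWhere
import Groth.Agent.Lib.Helper30.AlgSpUnram
import Groth.Agent.Lib.Helper51.AlgSpQuotField7

/-!
# The locus where a morphism is unramified and universally injective (helper30)

* `isPullback_kernelPair_baseChange`, `isPullback_diagonal_baseChange`: base change of the kernel pair
  and of the diagonal (any category).
* `locP_unram_openSpι_comp`: the restriction of `f` to an open on which it is unramified is unramified.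
* `isOpen_image_diagonal_of_unrNear`: the image under the diagonal of an open where `f` is
  unramified is open in `X ×_Y X`.
-/

set_option autoImplicit false
set_option linter.unusedSectionVars false
universe u v
set_option maxHeartbeats 800000

set_option backward.isDefEq.respectTransparency false

open CategoryTheory CategoryTheory.Limits AlgebraicGeometry MorphismProperty AlgSp
open Groth.Agent.Lib.Helper51 Groth.Agent.Lib.Helper52

namespace Groth.Agent.Lib.Helper30.WhereUnr

section Cat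

variable {C : Type u} [Category.{v} C]

/-- Base change of the kernel pair: `XX' = XX ×_{pr, X} X'`. -/
theorem isPullback_kernelPair_baseChange {X Y X' Y' XX XX' : C} {f : X ⟶ Y} {f' : X' ⟶ Y'}
    {gX : X' ⟶ X} {gY : Y' ⟶ Y} (sqX : IsPullback gX f' f gY)
    {pr0 pr1 : XX ⟶ X} (hXX : IsPullback pr0 pr1 f f)
    {pr0' pr1' : XX' ⟶ X'} (hXX' : IsPullback pr0' pr1' f' f')
    (gXX : XX' ⟶ XX) (h0 : gXX ≫ pr0 = pr0' ≫ gX) (h1 : gXX ≫ pr1 = pr1' ≫ gX) :
    IsPullback gXX pr0' pr0 gX := by
  -- vertical pasting: `XX' = X' ×_Y X`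
  have v : IsPullback pr0' (pr1' ≫ gX) (f' ≫ gY) f := hXX'.paste_vert sqX.flip
  have e : f' ≫ gY = gX ≫ f := sqX.w.symm
  rw [e] at v
  have outer : IsPullback (gXX ≫ pr1) pr0' f (gX ≫ f) := by
    rw [h1]; exact v.flip
  exact IsPullback.of_right outer h0 hXX.flip

/-- Base change of the diagonal. -/
theorem isPullback_diagonal_baseChange {X Y X' Y' XX XX' : C} {f : X ⟶ Y} {f' : X' ⟶ Y'}
    {gX : X' ⟶ X} {gY : Y' ⟶ Y} (sqX : IsPullback gX f' f gY)
    {pr0 pr1 : XX ⟶ X} (hXX : IsPullback pr0 pr1 f f)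
    {pr0' pr1' : XX' ⟶ X'} (hXX' : IsPullback pr0' pr1' f' f')
    (gXX : XX' ⟶ XX) (h0 : gXX ≫ pr0 = pr0' ≫ gX) (h1 : gXX ≫ pr1 = pr1' ≫ gX)
    (d : X ⟶ XX) (d0 : d ≫ pr0 = 𝟙 X) (d' : X' ⟶ XX') (d0' : d' ≫ pr0' = 𝟙 X')
    (hd : d' ≫ gXX = gX ≫ d) :
    IsPullback d' gX gXX d := by
  have L0 := isPullback_kernelPair_baseChange sqX hXX hXX' gXX h0 h1
  have outer : IsPullback (d' ≫ pr0') gX gX (d ≫ pr0) := by
    rw [d0, d0']
    exact IsPullback.of_horiz_isIso ⟨by simp⟩
  exact IsPullback.of_right outer hd L0.flip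

end Cat

variable {S : Scheme.{u}}

open Groth.Agent.Lib.Helper31.AlgSpFlatAt Groth.Agent.Lib.Helper98.AlgSpPtLocal
  Groth.Agent.Lib.Helper98.AlgSpUnram

/-- The restriction of `f` to an open subspace on which `f` is unramified is unramified. -/
theorem locP_unram_openSpι_comp {X Y : AlgSp.Sp S} (hX : IsAlgSpace X) (hY : IsAlgSpace Y)
    (f : X ⟶ Y) (O : Set (Points X)) (hO : IsOpen O) (hOu : ∀ x ∈ O, HasAtMor UnrNear f x) :
    LocP (@LocallyOfFiniteType ⊓ @FormallyUnramified : MorphismProperty Scheme.{u})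
      (openSpι X O ≫ f) := by
  have hι : AlgSp.RepWith @IsOpenImmersion (openSpι X O) := repWith_isOpenImmersion_openSpι O hO
  have : Mono (openSpι X O) :=
    mono_of_repWith (fun g (_ : IsOpenImmersion g) => inferInstance) hι
  rw [locP_unram_iff (isAlgSpace_openSp O hO hX) hY]
  intro xu
  have hx : Points.map (openSpι X O) xu ∈ O := by
    have : Points.map (openSpι X O) xu ∈ Set.range (Points.map (openSpι X O)) := ⟨_, rfl⟩
    rwa [range_map_openSpι] at this
  obtain ⟨U, V, a, b, h, u, ha, hb, comm, hu, hq⟩ := hOu _ hx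
  have sq := hι.1.isPullback a
  have he : IsOpenImmersion (hι.1.snd a).left := hι.2 a _ _ sq
  have ha' : AlgSp.RepWith @Etale (hι.1.fst a) :=
    MorphismProperty.of_isPullback sq.flip ha
  have hmem : Points.ofPt a u ∈ Set.range (Points.map (openSpι X O)) := ⟨xu, hu.symm⟩
  obtain ⟨u', hu'⟩ := (ofPt_mem_range_map_iff sq u).1 hmem
  refine ⟨hι.1.pullback a, V, hι.1.fst a, b, hι.1.snd a ≫ h, u', ha', hb, ?_, ?_, ?_⟩
  · rw [← Category.assoc, sq.w, Category.assoc, comm, Functor.map_comp, Category.assoc]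
  · apply injective_map_of_mono (openSpι X O)
    rw [Points.map_ofPt, sq.w, ofPt_yon_map_comp, hu', hu]
  · have := etLocalPt_unrNear.precomp (hι.1.snd a).left h.left u' (by rw [hu']; exact hq)
    exact this

/-- The image under the diagonal of an open set on which `f` is unramified is open in `X ×_Y X`. -/
theorem isOpen_image_diagonal_of_unrNear {X Y XX : AlgSp.Sp S} (hX : IsAlgSpace X)
    (hY : IsAlgSpace Y) (f : X ⟶ Y) {pr0 pr1 : XX ⟶ X} (hXX : IsPullback pr0 pr1 f f)
    (d : X ⟶ XX) (d0 : d ≫ pr0 = 𝟙 X) (d1 : d ≫ pr1 = 𝟙 X)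
    (O : Set (Points X)) (hO : IsOpen O) (hOu : ∀ x ∈ O, HasAtMor UnrNear f x) :
    IsOpen (Points.map d '' O) := by
  have hι : AlgSp.RepWith @IsOpenImmersion (openSpι X O) := repWith_isOpenImmersion_openSpι O hO
  set ι := openSpι X O with hιdef
  set fu := ι ≫ f with hfu
  have hun : LocP (@LocallyOfFiniteType ⊓ @FormallyUnramified : MorphismProperty Scheme.{u}) fu :=
    locP_unram_openSpι_comp hX hY f O hO hOu
  have hΔ : AlgSp.RepWith @IsOpenImmersion (pullback.diagonal fu) :=
    repWith_isOpenImmersion_diagonal_of_locP_unramified (isAlgSpace_openSp O hO hX) hY fu hun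
  -- `P = Xu ×_Y X`
  have sqP : IsPullback (pullback.fst fu f) (pullback.snd fu f) fu f := IsPullback.of_hasPullback fu f
  have sqQ : IsPullback (pullback.fst fu fu) (pullback.snd fu fu) fu fu :=
    IsPullback.of_hasPullback fu fu
  have w2 : (pullback.fst fu f ≫ ι) ≫ f = pullback.snd fu f ≫ f := by
    rw [Category.assoc]; exact sqP.w
  let m2 : pullback fu f ⟶ XX := hXX.lift (pullback.fst fu f ≫ ι) (pullback.snd fu f) w2
  have m2_0 : m2 ≫ pr0 = pullback.fst fu f ≫ ι := hXX.lift_fst _ _ _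
  have m2_1 : m2 ≫ pr1 = pullback.snd fu f := hXX.lift_snd _ _ _
  have sq2 : IsPullback m2 (pullback.fst fu f) pr0 ι := by
    have outer : IsPullback (m2 ≫ pr1) (pullback.fst fu f) f (ι ≫ f) := by
      rw [m2_1]; exact sqP.flip
    exact IsPullback.of_right outer m2_0 hXX.flip
  have hm2 : AlgSp.RepWith @IsOpenImmersion m2 := MorphismProperty.of_isPullback sq2.flip hι
  have w1 : pullback.fst fu fu ≫ fu = (pullback.snd fu fu ≫ ι) ≫ f := by
    rw [Category.assoc]; exact sqQ.w
  let m1 : pullback fu fu ⟶ pullback fu f := pullback.lift (pullback.fst fu fu) (pullback.snd fu fu ≫ ι) w1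
  have m1_0 : m1 ≫ pullback.fst fu f = pullback.fst fu fu := pullback.lift_fst _ _ _
  have m1_1 : m1 ≫ pullback.snd fu f = pullback.snd fu fu ≫ ι := pullback.lift_snd _ _ _
  have sq1 : IsPullback (pullback.snd fu fu) m1 ι (pullback.snd fu f) := by
    have outer : IsPullback (pullback.snd fu fu) (m1 ≫ pullback.fst fu f) (ι ≫ f) fu := by
      rw [m1_0]; exact sqQ.flip
    exact IsPullback.of_bot outer m1_1.symm sqP.flip
  have hm1 : AlgSp.RepWith @IsOpenImmersion m1 := MorphismProperty.of_isPullback sq1 hι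
  have hj : AlgSp.RepWith @IsOpenImmersion (pullback.diagonal fu ≫ m1 ≫ m2) :=
    (AlgSp.RepWith (S := S) @IsOpenImmersion).comp_mem _ _ hΔ
      ((AlgSp.RepWith (S := S) @IsOpenImmersion).comp_mem _ _ hm1 hm2)
  have hjeq : pullback.diagonal fu ≫ m1 ≫ m2 = ι ≫ d := by
    apply hXX.hom_ext
    · rw [Category.assoc, Category.assoc, m2_0, ← Category.assoc m1, m1_0, ← Category.assoc,
        pullback.diagonal_fst, Category.id_comp, Category.assoc, d0, Category.comp_id]
    · rw [Category.assoc, Category.assoc, m2_1, m1_1, ← Category.assoc,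
        pullback.diagonal_snd, Category.id_comp, Category.assoc, d1, Category.comp_id]
  rw [hjeq] at hj
  have hr := isOpen_range_map_of_isOpenImmersion _ hj
  have : Set.range (Points.map (ι ≫ d)) = Points.map d '' O := by
    have hrO : Set.range (Points.map ι) = O := range_map_openSpι O
    ext y
    constructor
    · rintro ⟨z, rfl⟩
      refine ⟨Points.map ι z, ?_, (Points.map_comp _ _ _).symm⟩
      have : Points.map ι z ∈ Set.range (Points.map ι) := ⟨z, rfl⟩
      exact hrO.subset this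
    · rintro ⟨x, hx, rfl⟩
      have hx' : x ∈ Set.range (Points.map ι) := hrO.symm.subset hx
      obtain ⟨z, rfl⟩ := hx'
      exact ⟨z, Points.map_comp _ _ _⟩
  rwa [this] at hr

end Groth.Agent.Lib.Helper30.WhereUnr
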