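import Groth.Agent.Lib.Helper30.ZMTFib
import Groth.Agent.Lib.Helper30.AlgSpSLQDesc
import Groth.Agent.Lib.Helper30.AlgSpFib
import Groth.Agent.Lib.Helper51.AlgSpLargestOpenScheme
import Groth.Agent.Lib.Helper51.AlgSpSchImProper
import Groth.Agent.Lib.Helper78.AlgSpLocP3
import Groth.Agent.Lib.Helper78.AlgSpLocPLqf

/-!
# Stacks 0417: open subschemes of a separated locally quasi-finite space over an affine (helper30)
-/

set_option autoImplicit false
set_option maxHeartbeats 800000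
set_option backward.isDefEq.respectTransparency false
set_option linter.unusedSectionVars false
universe u
open CategoryTheory CategoryTheory.Limits AlgebraicGeometry Opposite

namespace Groth.Agent.Lib.Helper30.ZMT

open AlgSp Groth.Agent.Lib.Helper51 Groth.Agent.Lib.Helper52

variable {S : Scheme.{u}}

/-- An algebraic space all of whose points lie in the schematic locus is a scheme. -/
theorem exists_iso_yon_of_schematicLocus {X : AlgSp.Sp S} (hX : AlgSp.IsAlgSpace X)
    (h : ∀ x : Points X, x ∈ schematicLocus X) :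
    ∃ W : Over S, Nonempty ((AlgSp.yon S).obj W ≅ X) := by
  obtain ⟨U, φ, hφe, hφs⟩ := hX.atlas
  have hsurj := surjective_ofPt_of_repWith_surjective φ hφs
  have h' : ∀ u : ↥U.left, ∃ (V : Over S) (j : (AlgSp.yon S).obj V ⟶ X),
      AlgSp.RepWith @IsOpenImmersion j ∧ ∃ v : ↥V.left, Points.ofPt j v = Points.ofPt φ u := by
    intro u
    obtain ⟨V, j, hj, v, hv⟩ := h (Points.ofPt φ u)
    exact ⟨V, j, hj, v, hv⟩
  choose V j hj v hv using h'
  apply exists_iso_yon_of_open_cover_points j hj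
  intro x
  obtain ⟨u, hu⟩ := hsurj x
  exact ⟨u, v u, (hv u).trans hu⟩

/-- The image of an open subscheme lies in the schematic locus. -/
theorem range_map_subset_schematicLocus {P : AlgSp.Sp S} {V : Over S}
    (j : (AlgSp.yon S).obj V ⟶ P) (hj : AlgSp.RepWith @IsOpenImmersion j) :
    Set.range (Points.map j) ⊆ schematicLocus P := by
  rw [range_map_eq_range_ofPt]
  intro y hy
  exact ⟨V, j, hj, hy⟩

/-- The schematic locus pulls back along open immersions. -/
theorem mem_schematicLocus_of_openImm {U P : AlgSp.Sp S} (b : U ⟶ P)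
    (hb : AlgSp.RepWith @IsOpenImmersion b) (y : Points U)
    (hy : Points.map b y ∈ schematicLocus P) : y ∈ schematicLocus U := by
  obtain ⟨V, j, hj, v, hv⟩ := hy
  have sq := hb.rep.isPullback j
  have hfst : AlgSp.RepWith @IsOpenImmersion (hb.rep.fst j) :=
    MorphismProperty.of_isPullback sq.flip hj
  obtain ⟨w, hw1, -⟩ := exists_point_of_isPullback sq y (Points.ofScheme V v) (by
    rw [← hv]; rfl)
  refine ⟨_, hb.rep.fst j, hfst, ?_⟩
  rw [← range_map_eq_range_ofPt]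
  exact ⟨w, hw1⟩

/-- Points with the same image are represented by morphisms from a common field. -/
theorem exists_fieldHoms_of_map_eq {F G H : AlgSp.Sp S} (f : F ⟶ H) (g : G ⟶ H) (x : Points F)
    (z : Points G) (h : Points.map f x = Points.map g z) :
    ∃ (Ω : Type u) (_ : Field Ω) (w : Spec (CommRingCat.of Ω) ⟶ S)
      (η : (AlgSp.yon S).obj (Over.mk w) ⟶ F) (ν : (AlgSp.yon S).obj (Over.mk w) ⟶ G),
      η ≫ f = ν ≫ g ∧ Points.mk (fieldPtOfHom w η) = x ∧ Points.mk (fieldPtOfHom w ν) = z := by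
  induction x using Points.ind with
  | h a =>
  induction z using Points.ind with
  | h b =>
  rw [Points.map_mk, Points.map_mk] at h
  obtain ⟨Ω, _, w, α, β, hαβ⟩ := (rel_iff_toHom _ _).1 (Points.mk_eq_mk_iff.1 h)
  rw [FieldPt.toHom_map, FieldPt.toHom_map] at hαβ
  refine ⟨Ω, inferInstance, w, (AlgSp.yon S).map α ≫ a.toHom, (AlgSp.yon S).map β ≫ b.toHom, ?_,
    ?_, ?_⟩
  · exact (Category.assoc _ _ _).trans (hαβ.trans (Category.assoc _ _ _).symm)
  · refine Points.sound ((rel_iff_toHom _ _).2 ⟨Ω, inferInstance, w, 𝟙 _, α, ?_⟩)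
    rw [fieldPtOfHom_toHom]
    exact (congrArg (· ≫ _) ((AlgSp.yon S).map_id _)).trans (Category.id_comp _)
  · refine Points.sound ((rel_iff_toHom _ _).2 ⟨Ω, inferInstance, w, 𝟙 _, β, ?_⟩)
    rw [fieldPtOfHom_toHom]
    exact (congrArg (· ≫ _) ((AlgSp.yon S).map_id _)).trans (Category.id_comp _)

theorem map_mk_fieldPtOfHom {F G : AlgSp.Sp S} (f : F ⟶ G) {Ω : Type u} [Field Ω]
    (w : Spec (CommRingCat.of Ω) ⟶ S) (η : (AlgSp.yon S).obj (Over.mk w) ⟶ F) :
    Points.map f (Points.mk (fieldPtOfHom w η)) = Points.mk (fieldPtOfHom w (η ≫ f)) := by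
  rw [Points.map_mk]
  refine Points.sound ((rel_iff_toHom _ _).2 ⟨Ω, inferInstance, w, 𝟙 _, 𝟙 _, ?_⟩)
  rw [FieldPt.toHom_map, fieldPtOfHom_toHom, fieldPtOfHom_toHom]

/-- `LocP` is stable under precomposition with representable étale morphisms. -/
theorem locP_comp_of_etale {Q : MorphismProperty Scheme.{u}} {F' F G : AlgSp.Sp S} (ι : F' ⟶ F)
    (hι : AlgSp.RepWith @Etale ι) (f : F ⟶ G) (hf : AlgSp.LocP Q f) : AlgSp.LocP Q (ι ≫ f) := by
  intro U V a b h ha hb comm
  refine hf (a ≫ ι) b h ((AlgSp.RepWith @Etale).comp_mem _ _ ha hι) hb ?_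
  rw [Category.assoc]; exact comm

/-- The off-diagonal, over `S`. -/
theorem exists_offDiagonal_over {T T' : Over S} [IsAffine T.left] [IsAffine T'.left] (e : T' ⟶ T)
    [Etale e.left] :
    ∃ (T21 : Over S) (pr0 pr1 : T21 ⟶ T'), IsAffine T21.left ∧ Etale pr0.left ∧
      pr0 ≫ e = pr1 ≫ e ∧
      (∀ (Ω : Type u) [Field Ω] (w : Spec (CommRingCat.of Ω) ⟶ S) (t1 t2 : Over.mk w ⟶ T'),
        t1 ≫ e = t2 ≫ e → t1 ≠ t2 → ∃ t12 : Over.mk w ⟶ T21, t12 ≫ pr0 = t1 ∧ t12 ≫ pr1 = t2) ∧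
      ∀ n, FibLE e.left (n + 1) → FibLE pr0.left n := by
  obtain ⟨Y21, p0, p1, hAff, hp0, hp01, hlift, hfib⟩ := exists_offDiagonal e.left
  have hw1 : p1 ≫ T'.hom = p0 ≫ T'.hom := by
    rw [← Over.w e, ← Category.assoc, ← Category.assoc, hp01]
  refine ⟨Over.mk (p0 ≫ T'.hom), Over.homMk p0 rfl, Over.homMk p1 hw1, hAff, hp0, ?_, ?_, hfib⟩
  · exact Over.OverMorphism.ext hp01
  · intro Ω _ w t1 t2 h12 hne
    have h12' : t1.left ≫ e.left = t2.left ≫ e.left := congrArg CommaMorphism.left h12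
    have hne' : t1.left ≠ t2.left := fun h => hne (Over.OverMorphism.ext h)
    obtain ⟨t12, h0, h1⟩ := hlift Ω t1.left t2.left h12' hne'
    refine ⟨Over.homMk t12 ?_, Over.OverMorphism.ext h0, Over.OverMorphism.ext h1⟩
    show t12 ≫ p0 ≫ T'.hom = w
    rw [← Category.assoc, h0]
    exact Over.w t1

/-- The inductive statement of Stacks 0417. -/
def StepC (S : Scheme.{u}) (n : ℕ) : Prop :=
  ∀ (T T' : Over S) (_ : IsAffine T.left) (_ : IsAffine T'.left) (e : T' ⟶ T) (_ : Etale e.left)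
    (_ : FibLE e.left n) (X P : AlgSp.Sp S) (_ : AlgSp.IsAlgSpace X)
    (f : X ⟶ (AlgSp.yon S).obj T) (_ : AlgSp.IsSeparatedMor f)
    (_ : AlgSp.LocP (@LocallyQuasiFinite ⊓ @LocallyOfFiniteType) f)
    (p1 : P ⟶ (AlgSp.yon S).obj T') (p2 : P ⟶ X)
    (_ : IsPullback p2 p1 f ((AlgSp.yon S).map e))
    (V' : Over S) (j : (AlgSp.yon S).obj V' ⟶ P) (_ : AlgSp.RepWith @IsOpenImmersion j),
    Set.range (Points.map (j ≫ p2)) ⊆ schematicLocus X

theorem stepC_zero : StepC S 0 := by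
  intro T T' _ _ e _ hn X P hX f hsep hqf p1 p2 sq V' j hj
  have hemp := isEmpty_of_fibLE_zero e.left hn
  rintro _ ⟨v, rfl⟩
  exfalso
  obtain ⟨v', hv'⟩ := (AlgSp.yon S).map_surjective (j ≫ p1)
  exact hemp.false (v'.left (Points.toScheme V' v))

end Groth.Agent.Lib.Helper30.ZMT
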