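import Groth.Agent.Lib.Helper30.AlgSpZMT

/-!
# Stacks 0417: the inductive step (helper30)
-/

set_option autoImplicit false
set_option maxHeartbeats 1600000
set_option backward.isDefEq.respectTransparency false
set_option linter.unusedSectionVars false
universe u
open CategoryTheory CategoryTheory.Limits AlgebraicGeometry Opposite

namespace Groth.Agent.Lib.Helper30.ZMT

open AlgSp Groth.Agent.Lib.Helper51 Groth.Agent.Lib.Helper52
open Groth.Agent.Lib.Helper78.AlgSpBasic Groth.Agent.Lib.Helper78.AlgSpFibre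
open Groth.Agent.Lib.Helper51.KerAt Groth.Agent.Lib.Helper30.SLQDesc

variable {S : Scheme.{u}}

theorem repWith_etale_of_isOpenImmersion' {X Y : AlgSp.Sp S} (f : X ⟶ Y)
    (hf : AlgSp.RepWith @IsOpenImmersion f) : AlgSp.RepWith @Etale f := by
  refine MorphismProperty.relative_monotone ?_ _ hf
  intro A B k hk
  have : IsOpenImmersion k.left := hk
  show Etale k.left
  infer_instance

theorem stepC_succ (n : ℕ) (IH : StepC S n) : StepC S (n + 1) := by
  intro T T' hT hT' e he hn X P hX f hsep hqf p1 p2 sq V' j hj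
  have hyT : AlgSp.IsAlgSpace ((AlgSp.yon S).obj T) := AlgSp.IsAlgSpace.yon_obj T
  have hyT' : AlgSp.IsAlgSpace ((AlgSp.yon S).obj T') := AlgSp.IsAlgSpace.yon_obj T'
  have hP : AlgSp.IsAlgSpace P :=
    Groth.Agent.Lib.Helper30.isAlgSpace_of_isPullback hyT.diag hX hyT' sq
  have hp1sep : AlgSp.IsSeparatedMor p1 :=
    MorphismProperty.of_isPullback
      (P := (AlgSp.RepWith (S := S) @IsClosedImmersion).diagonal) sq hsep
  have hp1qf : AlgSp.LocP (@LocallyQuasiFinite ⊓ @LocallyOfFiniteType) p1 :=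
    Groth.Agent.Lib.Helper78.AlgSpLocP.locP_of_isPullback
      Groth.Agent.Lib.Helper78.AlgSpLocPLqf.etLocalST_lqf sq (repAll_of_isAlgSpace hyT) hX.atlas
      hyT.atlas hqf
  obtain ⟨T21, pr0, pr1, hT21, hpr0, hpr, hlift, hfib⟩ := exists_offDiagonal_over e
  have hn' := hfib n hn
  -- the base change `P1`
  let P1 := pullback p1 ((AlgSp.yon S).map pr0)
  let k0 : P1 ⟶ P := pullback.fst _ _
  let q1 : P1 ⟶ (AlgSp.yon S).obj T21 := pullback.snd _ _
  have sq1 : IsPullback k0 q1 p1 ((AlgSp.yon S).map pr0) := IsPullback.of_hasPullback _ _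
  have hk1w : (k0 ≫ p2) ≫ f = (q1 ≫ (AlgSp.yon S).map pr1) ≫ (AlgSp.yon S).map e := by
    rw [Category.assoc, sq.w, ← Category.assoc, sq1.w, Category.assoc, Category.assoc,
      ← Functor.map_comp, ← Functor.map_comp, hpr]
  let k1 : P1 ⟶ P := sq.lift _ _ hk1w
  have hk1p2 : k1 ≫ p2 = k0 ≫ p2 := sq.lift_fst _ _ _
  have hk1p1 : k1 ≫ p1 = q1 ≫ (AlgSp.yon S).map pr1 := sq.lift_snd _ _ _
  have sq1' : IsPullback k1 q1 p1 ((AlgSp.yon S).map pr1) := by
    refine IsPullback.of_right ?_ hk1p1 sq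
    rw [hk1p2, ← Functor.map_comp, ← hpr, Functor.map_comp]
    exact sq1.paste_horiz sq
  -- the open subscheme `V1` of `P1`
  obtain ⟨v', hv'⟩ := (AlgSp.yon S).map_surjective (j ≫ p1)
  obtain ⟨V1, w1, w2, sqV1, -⟩ := isPullback_over' v' pr1
  have sqV1' := sqV1.map (AlgSp.yon S)
  have hj1w : ((AlgSp.yon S).map w1 ≫ j) ≫ p1 =
      (AlgSp.yon S).map w2 ≫ (AlgSp.yon S).map pr1 := by
    rw [Category.assoc, ← hv']; exact sqV1'.w
  let j1 : (AlgSp.yon S).obj V1 ⟶ P1 := sq1'.lift _ _ hj1w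
  have hj1k1 : j1 ≫ k1 = (AlgSp.yon S).map w1 ≫ j := sq1'.lift_fst _ _ _
  have hj1q1 : j1 ≫ q1 = (AlgSp.yon S).map w2 := sq1'.lift_snd _ _ _
  have sqj1 : IsPullback j1 ((AlgSp.yon S).map w1) k1 j := by
    refine IsPullback.of_right ?_ hj1k1 sq1'.flip
    rw [hj1q1, ← hv']
    exact sqV1'.flip
  have hj1 : AlgSp.RepWith @IsOpenImmersion j1 := MorphismProperty.of_isPullback sqj1.flip hj
  have hIH := IH T' T21 hT' hT21 pr0 hpr0 hn' P P1 hP p1 hp1sep hp1qf q1 k0 sq1 V1 j1 hj1
  -- the key claim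
  have key : ∀ y : Points P, Points.map p2 y ∈ Set.range (Points.map (j ≫ p2)) →
      y ∈ schematicLocus P := by
    rintro y ⟨v, hv⟩
    obtain ⟨Ω, _, w, η, ν, hην, rfl, rfl⟩ :=
      exists_fieldHoms_of_map_eq p2 (j ≫ p2) y v hv.symm
    obtain ⟨t1, ht1⟩ := (AlgSp.yon S).map_surjective (η ≫ p1)
    obtain ⟨t2, ht2⟩ := (AlgSp.yon S).map_surjective (ν ≫ j ≫ p1)
    have h12 : t1 ≫ e = t2 ≫ e := by
      apply (AlgSp.yon S).map_injective
      rw [Functor.map_comp, Functor.map_comp, ht1, ht2, Category.assoc, ← sq.w,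
        ← Category.assoc, hην]
      simp only [Category.assoc, sq.w]
    by_cases heq : t1 = t2
    · have hηj : η = ν ≫ j := by
        apply sq.hom_ext
        · rw [hην, Category.assoc]
        · rw [← ht1, heq, ht2, Category.assoc]
      apply range_map_subset_schematicLocus j hj
      refine ⟨Points.mk (fieldPtOfHom w ν), ?_⟩
      rw [map_mk_fieldPtOfHom, hηj]
    · obtain ⟨t12, h120, h121⟩ := hlift Ω w t1 t2 h12 heq
      have hζw : η ≫ p1 = (AlgSp.yon S).map t12 ≫ (AlgSp.yon S).map pr0 := by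
        rw [← Functor.map_comp, h120, ht1]
      let ζ := sq1.lift η ((AlgSp.yon S).map t12) hζw
      have hζ0 : ζ ≫ k0 = η := sq1.lift_fst _ _ _
      have hζq : ζ ≫ q1 = (AlgSp.yon S).map t12 := sq1.lift_snd _ _ _
      have hζ1 : ζ ≫ k1 = ν ≫ j := by
        apply sq.hom_ext
        · rw [Category.assoc, hk1p2, ← Category.assoc, hζ0, hην, Category.assoc]
        · rw [Category.assoc, hk1p1, ← Category.assoc, hζq, ← Functor.map_comp, h121, ht2,
            Category.assoc]
      let μ := sqj1.lift ζ ν hζ1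
      have hμ : μ ≫ j1 = ζ := sqj1.lift_fst _ _ _
      apply hIH
      refine ⟨Points.mk (fieldPtOfHom w μ), ?_⟩
      rw [map_mk_fieldPtOfHom, ← Category.assoc, hμ, hζ0]
  -- the open subspace `U` of `X`
  have hjp2 : AlgSp.RepWith @Etale (j ≫ p2) := by
    have h1 : AlgSp.RepWith @Etale j := repWith_etale_of_isOpenImmersion' j hj
    have h2 : AlgSp.RepWith @Etale p2 :=
      MorphismProperty.of_isPullback sq.flip
        ((AlgSp.repWith_yon_map_iff @Etale e).2 he)
    exact (AlgSp.RepWith @Etale).comp_mem _ _ h1 h2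
  obtain ⟨O, hO⟩ : ∃ O : Set (Points X), O = Set.range (Points.map (j ≫ p2)) := ⟨_, rfl⟩
  have hOopen : IsOpen O := by
    rw [hO, range_map_eq_range_ofPt]
    exact (isOpenMap_ofPt_of_etale _ hjp2).isOpen_range
  have hιU : AlgSp.RepWith @IsOpenImmersion (openSpι X O) :=
    repWith_isOpenImmersion_openSpι O hOopen
  have hU : AlgSp.IsAlgSpace (openSp X O) := isAlgSpace_openSp O hOopen hX
  have hrangeU : Set.range (Points.map (openSpι X O)) = O := range_map_openSpι O
  let a : pullback (openSpι X O) p2 ⟶ openSp X O := pullback.fst _ _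
  let b : pullback (openSpι X O) p2 ⟶ P := pullback.snd _ _
  have sqU : IsPullback a b (openSpι X O) p2 := IsPullback.of_hasPullback _ _
  have hb : AlgSp.RepWith @IsOpenImmersion b := MorphismProperty.of_isPullback sqU hιU
  have hU' : AlgSp.IsAlgSpace (pullback (openSpι X O) p2) :=
    Groth.Agent.Lib.Helper30.isAlgSpace_of_isPullback hX.diag hU hP sqU
  have hU'SL : ∀ y : Points (pullback (openSpι X O) p2),
      y ∈ schematicLocus (pullback (openSpι X O) p2) := by
    intro y
    apply mem_schematicLocus_of_openImm b hb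
    apply key
    rw [← Points.map_comp, ← sqU.w, Points.map_comp, ← hO]
    have : Points.map (openSpι X O) (Points.map a y) ∈ Set.range (Points.map (openSpι X O)) :=
      ⟨_, rfl⟩
    rw [hrangeU] at this
    exact this
  obtain ⟨W', ⟨eW'⟩⟩ := exists_iso_yon_of_schematicLocus hU' hU'SL
  obtain ⟨w', hw'⟩ := (AlgSp.yon S).map_surjective (eW'.hom ≫ b ≫ p1)
  have hbmono : Mono b := mono_of_repWith (fun g (_ : IsOpenImmersion g) => inferInstance) hb
  have hbet : AlgSp.RepWith @Etale (eW'.hom ≫ b) :=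
    (AlgSp.RepWith @Etale).comp_mem _ _ (repWith_of_isIso _ eW'.hom)
      (repWith_etale_of_isOpenImmersion' b hb)
  have hw'qf : (@LocallyQuasiFinite ⊓ @LocallyOfFiniteType : MorphismProperty Scheme.{u})
      w'.left := by
    apply AlgSp.locP_yon_map
    rw [hw', ← Category.assoc]
    exact locP_comp_of_etale _ hbet p1 hp1qf
  have hw'sep : IsSeparated w'.left := by
    rw [← AlgSp.isSeparatedMor_yon_map_iff, hw', ← Category.assoc]
    exact isSeparatedMor_comp _ _ (isSeparatedMor_of_mono _) hp1sep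
  have hsnd : b ≫ p1 = eW'.inv ≫ (AlgSp.yon S).map w' := by
    rw [hw', Iso.inv_hom_id_assoc]
  have hrepw : ∀ (Q : MorphismProperty Scheme.{u}) [Q.IsStableUnderBaseChange],
      Q w'.left → AlgSp.RepWith Q (b ≫ p1) := by
    intro Q _ hQ
    have : Q.RespectsIso := MorphismProperty.IsStableUnderBaseChange.respectsIso
    rw [hsnd]
    exact MorphismProperty.RespectsIso.precomp _ _ _ ((AlgSp.repWith_yon_map_iff Q w').2 hQ)
  -- the open image `T0` of `e`
  have heo : IsOpenMap e.left := e.left.isOpenMap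
  let T0o : T.left.Opens := ⟨Set.range e.left, heo.isOpen_range⟩
  let T0 : Over S := Over.mk (T0o.ι ≫ T.hom)
  let ι0 : T0 ⟶ T := Over.homMk T0o.ι rfl
  have hsub0 : Set.range e.left ⊆ Set.range T0o.ι := by
    rw [Scheme.Opens.range_ι]; exact subset_rfl
  let e0s : T'.left ⟶ T0o := IsOpenImmersion.lift T0o.ι e.left hsub0
  have he0s : e0s ≫ T0o.ι = e.left := IsOpenImmersion.lift_fac _ _ _
  let e0 : T' ⟶ T0 := Over.homMk e0s (by
    show e0s ≫ T0o.ι ≫ T.hom = T'.hom
    rw [← Category.assoc, he0s]; exact Over.w e)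
  have he0 : e0 ≫ ι0 = e := Over.OverMorphism.ext he0s
  have he0et : Etale e0.left := by
    have h1 : Etale (e0s ≫ T0o.ι) := by rw [he0s]; exact he
    exact MorphismProperty.of_postcomp (W := @Etale) (W' := @IsOpenImmersion) e0s T0o.ι
      inferInstance h1
  have he0surj : Surjective e0.left := by
    refine ⟨fun z => ?_⟩
    have hz : T0o.ι z ∈ Set.range e.left := by
      have : T0o.ι z ∈ Set.range T0o.ι := ⟨z, rfl⟩
      rw [Scheme.Opens.range_ι] at this
      exact this
    obtain ⟨t', ht'⟩ := hz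
    refine ⟨t', ?_⟩
    apply T0o.ι.isOpenEmbedding.injective
    rw [← ht', ← he0s, Scheme.Hom.comp_apply]
    rfl
  have hι0 : AlgSp.RepWith @IsOpenImmersion ((AlgSp.yon S).map ι0) :=
    (AlgSp.repWith_yon_map_iff _ _).2 (inferInstanceAs (IsOpenImmersion T0o.ι))
  have hι0mono : Mono ((AlgSp.yon S).map ι0) :=
    mono_of_repWith (fun g (_ : IsOpenImmersion g) => inferInstance) hι0
  obtain ⟨fU, hfU⟩ := exists_factor_of_range_subset ((AlgSp.yon S).map ι0) hι0
      (openSpι X O ≫ f) (by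
    rintro _ ⟨u, rfl⟩
    rw [Points.map_comp]
    obtain ⟨v, hv⟩ : Points.map (openSpι X O) u ∈ Set.range (Points.map (j ≫ p2)) := by
      rw [← hO]
      have : Points.map (openSpι X O) u ∈ Set.range (Points.map (openSpι X O)) := ⟨_, rfl⟩
      rw [hrangeU] at this
      exact this
    rw [← hv, ← Points.map_comp, Category.assoc, sq.w, ← he0, Functor.map_comp,
      ← Category.assoc, ← Category.assoc, Points.map_comp]
    exact ⟨_, rfl⟩)
  have sqbig : IsPullback a (b ≫ p1) (openSpι X O ≫ f) ((AlgSp.yon S).map e) :=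
    sqU.paste_vert sq
  have sq0 : IsPullback a (b ≫ p1) fU ((AlgSp.yon S).map e0) := by
    rw [← isPullback_comp_mono_iff _ _ _ _ ((AlgSp.yon S).map ι0), hfU, ← Functor.map_comp, he0]
    exact sqbig
  have hrep : AlgSp.Representable fU :=
    representable_of_fppf_cover_sep_lqf fU T' ((AlgSp.yon S).map e0)
      ((AlgSp.repWith_yon_map_iff @Flat e0).2 inferInstance)
      ((AlgSp.repWith_yon_map_iff @LocallyOfFinitePresentation e0).2 inferInstance)
      ((AlgSp.repWith_yon_map_iff @Surjective e0).2 he0surj) a (b ≫ p1) sq0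
      (hrepw @IsSeparated hw'sep) (hrepw @LocallyQuasiFinite hw'qf.1)
      (hrepw @LocallyOfFiniteType hw'qf.2)
  have sqW := hrep.isPullback (𝟙 ((AlgSp.yon S).obj T0))
  have hiso : IsIso (hrep.fst (𝟙 ((AlgSp.yon S).obj T0))) := sqW.isIso_fst_of_isIso
  intro x hx
  have hx' : x ∈ Set.range (Points.map (openSpι X O)) := by rw [hrangeU, hO]; exact hx
  obtain ⟨u, rfl⟩ := hx'
  refine ⟨hrep.pullback (𝟙 _), hrep.fst (𝟙 _) ≫ openSpι X O,
    (AlgSp.RepWith @IsOpenImmersion).comp_mem _ _ (repWith_of_isIso _ _) hιU, ?_⟩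
  rw [← range_map_eq_range_ofPt]
  refine ⟨Points.map (inv (hrep.fst (𝟙 ((AlgSp.yon S).obj T0)))) u, ?_⟩
  rw [← Points.map_comp, ← Category.assoc, IsIso.inv_hom_id, Category.id_comp]

end Groth.Agent.Lib.Helper30.ZMT
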