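import Mathlib

/-!
# A uniform bound on the number of field-valued points in the fibres of an étale algebra (helper30)
-/

set_option autoImplicit false
set_option maxHeartbeats 800000
universe u

namespace Groth.Agent.Lib.Helper30.ZMT

open Polynomial in
theorem exists_bound_algHom_of_etale (A B : Type u) [CommRing A] [CommRing B] [Algebra A B]
    [Algebra.Etale A B] :
    ∃ n : ℕ, ∀ (K : Type u) [Field K] [Algebra A K] (s : Finset (B →ₐ[A] K)), s.card ≤ n := by
  classical
  have h1 : ∀ Q : PrimeSpectrum B, ∃ f : B, f ∉ Q.asIdeal ∧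
      Algebra.IsStandardEtale A (Localization.Away f) := by
    intro Q
    have h2 : Algebra.FormallyEtale B (Localization.AtPrime Q.asIdeal) :=
      Algebra.FormallyEtale.of_isLocalization Q.asIdeal.primeCompl
    have h3 : Algebra.IsEtaleAt A Q.asIdeal := Algebra.FormallyEtale.comp A B _
    exact Algebra.IsEtaleAt.exists_isStandardEtale Q.asIdeal
  choose f hfQ hfE using h1
  have hspan : Ideal.span (Set.range f) = ⊤ := by
    by_contra hne
    obtain ⟨m, hm, hle⟩ := Ideal.exists_le_maximal _ hne
    exact hfQ ⟨m, hm.isPrime⟩ (hle (Ideal.subset_span ⟨_, rfl⟩))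
  obtain ⟨F, hFsub, hF⟩ := (Ideal.span_eq_top_iff_finite _).1 hspan
  have hE : ∀ b ∈ F, Algebra.IsStandardEtale A (Localization.Away b) := by
    intro b hb
    obtain ⟨Q, rfl⟩ := hFsub hb
    exact hfE Q
  let Pb : ∀ b : B, b ∈ F → StandardEtalePresentation A (Localization.Away b) :=
    fun b hb => (hE b hb).nonempty_standardEtalePresentation.some
  let d : B → ℕ := fun b => if hb : b ∈ F then (Pb b hb).f.natDegree else 0
  refine ⟨∑ b ∈ F, d b, ?_⟩
  intro K _ _ s
  have hcover : s ⊆ F.biUnion (fun b => s.filter (fun ψ => ψ b ≠ 0)) := by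
    intro ψ hψ
    by_contra hcon
    have hall : ∀ b ∈ F, ψ b = 0 := by
      intro b hb
      by_contra hne
      exact hcon (Finset.mem_biUnion.2 ⟨b, hb, Finset.mem_filter.2 ⟨hψ, hne⟩⟩)
    have hle : Ideal.span (F : Set B) ≤ RingHom.ker ψ.toRingHom := by
      rw [Ideal.span_le]
      intro b hb
      exact hall b hb
    rw [hF] at hle
    have h1 : (1 : B) ∈ RingHom.ker ψ.toRingHom := hle trivial
    rw [RingHom.mem_ker] at h1
    simp at h1
  refine (Finset.card_le_card hcover).trans (Finset.card_biUnion_le.trans ?_)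
  apply Finset.sum_le_sum
  intro b hb
  have hd : d b = (Pb b hb).f.natDegree := dif_pos hb
  rw [hd]
  obtain ⟨P, hP⟩ : ∃ P, P = Pb b hb := ⟨_, rfl⟩
  rw [← hP]
  let r : (B →ₐ[A] K) → K := fun ψ =>
    if h : IsUnit (ψ b) then
      (IsLocalization.Away.liftAlgHom (S := Localization.Away b) b h) P.x else 0
  let roots := ((P.f.map (algebraMap A K)).roots).toFinset
  have hmaps : ∀ ψ ∈ s.filter (fun ψ => ψ b ≠ 0), r ψ ∈ roots := by
    intro ψ hψ
    have hne : ψ b ≠ 0 := (Finset.mem_filter.1 hψ).2
    have hu : IsUnit (ψ b) := hne.isUnit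
    simp only [r, dif_pos hu, roots, Multiset.mem_toFinset]
    rw [Polynomial.mem_roots (Polynomial.Monic.ne_zero (P.monic_f.map _)), Polynomial.IsRoot,
      Polynomial.eval_map, ← Polynomial.aeval_def, Polynomial.aeval_algHom_apply, P.hasMap.1,
      map_zero]
  have hinj : Set.InjOn r (s.filter (fun ψ => ψ b ≠ 0) : Set (B →ₐ[A] K)) := by
    intro ψ1 h1 ψ2 h2 h12
    have hu1 : IsUnit (ψ1 b) := ((Finset.mem_filter.1 (Finset.mem_coe.1 h1)).2).isUnit
    have hu2 : IsUnit (ψ2 b) := ((Finset.mem_filter.1 (Finset.mem_coe.1 h2)).2).isUnit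
    simp only [r, dif_pos hu1, dif_pos hu2] at h12
    have hlift := P.hom_ext h12
    ext y
    have e1 := IsLocalization.Away.lift_eq (S := Localization.Away b) b
      (g := (ψ1 : B →+* K)) hu1 y
    have e2 := IsLocalization.Away.lift_eq (S := Localization.Away b) b
      (g := (ψ2 : B →+* K)) hu2 y
    have e3 := congrArg (fun φ : Localization.Away b →ₐ[A] K => φ (algebraMap B _ y)) hlift
    simp only [IsLocalization.Away.liftAlgHom_apply] at e3
    exact e1.symm.trans (e3.trans e2)
  calc _ ≤ roots.card := Finset.card_le_card_of_injOn r hmaps hinj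
    _ ≤ Multiset.card (P.f.map (algebraMap A K)).roots := Multiset.toFinset_card_le _
    _ ≤ (P.f.map (algebraMap A K)).natDegree := Polynomial.card_roots' _
    _ ≤ P.f.natDegree := Polynomial.natDegree_map_le

end Groth.Agent.Lib.Helper30.ZMT
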