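import Groth.Agent.Lib.Helper30.ZMTFib
import Groth.Agent.Lib.Helper30.EtaleFibreBound

/-!
# Étale morphisms of affine schemes have bounded field-valued fibres (helper30)
-/

set_option autoImplicit false
set_option maxHeartbeats 800000
set_option backward.isDefEq.respectTransparency false
universe u
open CategoryTheory CategoryTheory.Limits AlgebraicGeometry Opposite

namespace Groth.Agent.Lib.Helper30.ZMT

theorem exists_fibLE_of_etale {Y Z : Scheme.{u}} [IsAffine Y] [IsAffine Z] (g : Y ⟶ Z)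
    [Etale g] : ∃ n, FibLE g n := by
  have hφ : RingHom.Etale g.appTop.hom :=
    (HasRingHomProperty.iff_of_isAffine (P := @Etale)).1 inferInstance
  letI : Algebra Γ(Z, ⊤) Γ(Y, ⊤) := g.appTop.hom.toAlgebra
  have : Algebra.Etale Γ(Z, ⊤) Γ(Y, ⊤) := hφ
  obtain ⟨n, hn⟩ := exists_bound_algHom_of_etale Γ(Z, ⊤) Γ(Y, ⊤)
  refine ⟨n, ?_⟩
  intro K _ t s hs
  classical
  let γ : (Spec (.of K) ⟶ Y) → (Γ(Y, ⊤) ⟶ CommRingCat.of K) :=
    fun τ => τ.appTop ≫ (Scheme.ΓSpecIso (.of K)).hom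
  letI : Algebra Γ(Z, ⊤) K := (t.appTop ≫ (Scheme.ΓSpecIso (.of K)).hom).hom.toAlgebra
  let δ : {τ // τ ∈ s} → (Γ(Y, ⊤) →ₐ[Γ(Z, ⊤)] K) := fun τ =>
    { (γ τ.1).hom with
      commutes' := by
        intro r
        have h1 : t = τ.1 ≫ g := (hs τ.1 τ.2).symm
        show (γ τ.1).hom (g.appTop.hom r) = (t.appTop ≫ (Scheme.ΓSpecIso (.of K)).hom).hom r
        rw [h1, Scheme.Hom.comp_appTop]
        rfl }
  have hinj : Function.Injective δ := by
    rintro ⟨τ1, h1⟩ ⟨τ2, h2⟩ h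
    have h' : (γ τ1).hom = (γ τ2).hom := by
      ext r
      exact congrArg (fun ψ : Γ(Y, ⊤) →ₐ[Γ(Z, ⊤)] K => ψ r) h
    have h'' : γ τ1 = γ τ2 := CommRingCat.hom_ext h'
    have h3 : τ1.appTop = τ2.appTop := (cancel_mono _).1 h''
    exact Subtype.ext (ext_of_isAffine h3)
  have := hn K (s.attach.image δ)
  rw [Finset.card_image_of_injective _ hinj, Finset.card_attach] at this
  exact this

end Groth.Agent.Lib.Helper30.ZMT
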