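import Groth.Agent.Lib.Helper30.AlgSpZMT2
import Groth.Agent.Lib.Helper30.ZMTBound
import Groth.Agent.Lib.Helper51.AlgSpPoints2

/-!
# Stacks 0417 (helper30)
-/

set_option autoImplicit false
set_option maxHeartbeats 800000
set_option backward.isDefEq.respectTransparency false
set_option linter.unusedSectionVars false
universe u
open CategoryTheory CategoryTheory.Limits AlgebraicGeometry Opposite

namespace Groth.Agent.Lib.Helper30.ZMT

open AlgSp Groth.Agent.Lib.Helper51 Groth.Agent.Lib.Helper52
open Groth.Agent.Lib.Helper78.AlgSpBasic Groth.Agent.Lib.Helper78.AlgSpFibre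

variable {S : Scheme.{u}}

theorem stepC_all (n : ℕ) : StepC S n := by
  induction n with
  | zero => exact stepC_zero
  | succ n ih => exact stepC_succ n ih

/-- Stacks 0417, in terms of the schematic locus. -/
theorem range_subset_schematicLocus_of_etale {T T' : Over S} [hT : IsAffine T.left]
    [hT' : IsAffine T'.left] (e : T' ⟶ T) [he : Etale e.left] {X P : AlgSp.Sp S}
    (hX : AlgSp.IsAlgSpace X) (f : X ⟶ (AlgSp.yon S).obj T) (hsep : AlgSp.IsSeparatedMor f)
    (hqf : AlgSp.LocP (@LocallyQuasiFinite ⊓ @LocallyOfFiniteType) f)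
    (p1 : P ⟶ (AlgSp.yon S).obj T') (p2 : P ⟶ X)
    (sq : IsPullback p2 p1 f ((AlgSp.yon S).map e))
    {V' : Over S} (j : (AlgSp.yon S).obj V' ⟶ P) (hj : AlgSp.RepWith @IsOpenImmersion j) :
    Set.range (Points.map (j ≫ p2)) ⊆ schematicLocus X := by
  obtain ⟨n, hn⟩ := exists_fibLE_of_etale e.left
  exact stepC_all n T T' hT hT' e he hn X P hX f hsep hqf p1 p2 sq V' j hj

/-- An open set of points inside the schematic locus is the set of points of an open subscheme. -/
theorem exists_open_subscheme_of_subset_schematicLocus {X : AlgSp.Sp S}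
    (hX : AlgSp.IsAlgSpace X) (O : Set (Points X)) (hO : IsOpen O)
    (hsub : O ⊆ schematicLocus X) :
    ∃ (W : Over S) (i : (AlgSp.yon S).obj W ⟶ X), AlgSp.RepWith @IsOpenImmersion i ∧
      Set.range (Points.map i) = O := by
  have hι : AlgSp.RepWith @IsOpenImmersion (openSpι X O) :=
    repWith_isOpenImmersion_openSpι O hO
  have hU : AlgSp.IsAlgSpace (openSp X O) := isAlgSpace_openSp O hO hX
  have hrange : Set.range (Points.map (openSpι X O)) = O := range_map_openSpι O
  have hSL : ∀ y : Points (openSp X O), y ∈ schematicLocus (openSp X O) := by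
    intro y
    apply mem_schematicLocus_of_openImm _ hι
    apply hsub
    have : Points.map (openSpι X O) y ∈ Set.range (Points.map (openSpι X O)) := ⟨_, rfl⟩
    rw [hrange] at this
    exact this
  obtain ⟨W, ⟨eW⟩⟩ := exists_iso_yon_of_schematicLocus hU hSL
  refine ⟨W, eW.hom ≫ openSpι X O,
    (AlgSp.RepWith @IsOpenImmersion).comp_mem _ _ (repWith_of_isIso _ eW.hom) hι, ?_⟩
  ext x
  constructor
  · rintro ⟨y, rfl⟩
    rw [Points.map_comp]
    have : Points.map (openSpι X O) (Points.map eW.hom y) ∈
        Set.range (Points.map (openSpι X O)) := ⟨_, rfl⟩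
    rw [hrange] at this
    exact this
  · intro hx
    rw [← hrange] at hx
    obtain ⟨u, rfl⟩ := hx
    refine ⟨Points.map eW.inv u, ?_⟩
    rw [← Points.map_comp, Iso.inv_hom_id_assoc]

/-- If `h_g ≫ i = k` with `i` a monomorphism and the points of `k` cover those of `i`, then
`g` is surjective. -/
theorem surjective_of_range_eq {X : AlgSp.Sp S} {W W₀ : Over S} (i : (AlgSp.yon S).obj W ⟶ X)
    [Mono i] (h : W₀ ⟶ W) (hr : Set.range (Points.map i) ⊆
      Set.range (Points.map ((AlgSp.yon S).map h ≫ i))) : Function.Surjective h.left := by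
  intro w
  obtain ⟨v, hv⟩ := hr ⟨Points.ofScheme W w, rfl⟩
  rw [Points.map_comp] at hv
  have hv' := injective_map_of_mono i hv
  obtain ⟨w₀, rfl⟩ := (Points.schemeEquiv W₀).surjective v
  refine ⟨w₀, ?_⟩
  apply ofScheme_injective W
  rw [← hv']
  exact (map_yon_map_ofScheme h w₀).symm

end Groth.Agent.Lib.Helper30.ZMT
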