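import Groth.Agent.Lib.Helper30.AlgSpZMT3
import Groth.Agent.Lib.Helper30.AlgSpOpenImm
import Groth.Agent.Lib.Helper30.AlgSpLoc
import Groth.Agent.Lib.Helper51.AlgSpEtaleMor

/-!
# An algebraic space étale and separated over a scheme is a scheme (helper30)
-/

set_option autoImplicit false
set_option maxHeartbeats 1600000
set_option backward.isDefEq.respectTransparency false
set_option linter.unusedSectionVars false
universe u
open CategoryTheory CategoryTheory.Limits AlgebraicGeometry Opposite TopologicalSpace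

namespace Groth.Agent.Lib.Helper30.ZMT

open AlgSp Groth.Agent.Lib.Helper51 Groth.Agent.Lib.Helper52
open Groth.Agent.Lib.Helper78.AlgSpBasic Groth.Agent.Lib.Helper78.AlgSpFibre
open Groth.Agent.Lib.Helper51.KerAt

variable {S : Scheme.{u}}

/-- Every point of a scheme over `S` lies in an affine open, viewed over `S`. -/
theorem exists_affine_open_over (V : Over S) (v : ↥V.left) :
    ∃ (V₀ : Over S) (ι₀ : V₀ ⟶ V) (v₀ : ↥V₀.left), IsAffine V₀.left ∧ IsOpenImmersion ι₀.left ∧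
      ι₀.left v₀ = v := by
  obtain ⟨W : V.left.Opens, hW, hv, -⟩ := (Opens.isBasis_iff_nbhd.mp V.left.isBasis_affineOpens)
    (show v ∈ (⊤ : V.left.Opens) from trivial)
  have hW' : IsAffine W.toScheme := hW
  refine ⟨Over.mk (W.ι ≫ V.hom), Over.homMk W.ι rfl, ⟨v, hv⟩, hW', ?_, rfl⟩
  exact inferInstanceAs (IsOpenImmersion W.ι)

/-- **Étale case of Stacks 03XX, affine base.** An algebraic space étale and separated over an
affine scheme is a scheme. -/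
theorem exists_iso_yon_of_sep_etale_affine {T : Over S} [IsAffine T.left] {X : AlgSp.Sp S}
    (hX : AlgSp.IsAlgSpace X) (f : X ⟶ (AlgSp.yon S).obj T) (hsep : AlgSp.IsSeparatedMor f)
    (het : AlgSp.IsEtaleMor f) : ∃ W : Over S, Nonempty ((AlgSp.yon S).obj W ≅ X) := by
  have hqf : AlgSp.LocP (@LocallyQuasiFinite ⊓ @LocallyOfFiniteType) f :=
    Groth.Agent.Lib.Helper30.locP_of_isEtaleMor _ (fun k hk => by
      have : Etale k := hk
      exact ⟨Groth.Agent.Lib.Helper78.AlgSpLocPLqf.lqf_of_etale k, inferInstance⟩) het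
  apply exists_iso_yon_of_schematicLocus hX
  intro x
  obtain ⟨U₁, a₁, ha₁e, ha₁s⟩ := hX.atlas
  obtain ⟨u₁, rfl⟩ := surjective_ofPt_of_repWith_surjective a₁ ha₁s x
  obtain ⟨U₀, ι₀, u₀, hU₀, hι₀, rfl⟩ := exists_affine_open_over U₁ u₁
  have ha : AlgSp.RepWith @Etale ((AlgSp.yon S).map ι₀ ≫ a₁) :=
    repWith_etale_yon_map_comp ι₀ inferInstance a₁ ha₁e
  obtain ⟨a, haeq⟩ : ∃ a, a = (AlgSp.yon S).map ι₀ ≫ a₁ := ⟨_, rfl⟩
  rw [← haeq] at ha
  obtain ⟨h, hh⟩ := (AlgSp.yon S).map_surjective (a ≫ f)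
  have hhet : Etale h.left := by
    rw [← AlgSp.repWith_yon_map_iff @Etale h, hh]
    exact het a ha
  have sq : IsPullback (pullback.fst f ((AlgSp.yon S).map h)) (pullback.snd f ((AlgSp.yon S).map h))
      f ((AlgSp.yon S).map h) := IsPullback.of_hasPullback _ _
  have hyU₀ : AlgSp.IsAlgSpace ((AlgSp.yon S).obj U₀) := AlgSp.IsAlgSpace.yon_obj U₀
  have hyT : AlgSp.IsAlgSpace ((AlgSp.yon S).obj T) := AlgSp.IsAlgSpace.yon_obj T
  have hP : AlgSp.IsAlgSpace (pullback f ((AlgSp.yon S).map h)) :=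
    Groth.Agent.Lib.Helper30.isAlgSpace_of_isPullback hyT.diag hX hyU₀ sq
  have hp1 : AlgSp.IsEtaleMor (pullback.snd f ((AlgSp.yon S).map h)) :=
    isEtaleMor_of_isPullback hX hyT hyU₀ sq.flip het
  have hσw : a ≫ f = 𝟙 _ ≫ (AlgSp.yon S).map h := by rw [Category.id_comp, hh]
  obtain ⟨σ, hσ⟩ : ∃ σ, σ = sq.lift a (𝟙 _) hσw := ⟨_, rfl⟩
  have hσ2 : σ ≫ pullback.fst f ((AlgSp.yon S).map h) = a := by rw [hσ]; exact sq.lift_fst _ _ _
  have hσ1 : σ ≫ pullback.snd f ((AlgSp.yon S).map h) = 𝟙 _ := by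
    rw [hσ]; exact sq.lift_snd _ _ _
  have hσet : AlgSp.IsEtaleMor σ := by
    refine Groth.Agent.Lib.Helper30.isEtaleMor_of_comp hP σ _ ?_ hp1
    rw [hσ1]
    exact Groth.Agent.Lib.Helper30.isEtaleMor_id _
  have hσmono : Mono σ := by
    have : Mono (σ ≫ pullback.snd f ((AlgSp.yon S).map h)) := by rw [hσ1]; infer_instance
    exact mono_of_mono σ (pullback.snd f ((AlgSp.yon S).map h))
  have hσo : AlgSp.RepWith @IsOpenImmersion σ :=
    Groth.Agent.Lib.Helper30.repWith_isOpenImmersion_of_isEtaleMor_mono hyU₀ hP σ hσet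
  have hsub := range_subset_schematicLocus_of_etale h hX f hsep hqf _ _ sq σ hσo
  apply hsub
  rw [hσ2, haeq]
  refine ⟨Points.ofScheme U₀ u₀, ?_⟩
  rw [← Points.ofPt_eq_map_ofScheme, ofPt_yon_map_comp]

/-- An algebraic space with an étale map to a scheme and a second map to a scheme, the two being
jointly monic, is a scheme. -/
theorem exists_iso_yon_of_etale_jointly_mono {V V' : Over S} {R : AlgSp.Sp S}
    (hR : AlgSp.IsAlgSpace R) (g : R ⟶ (AlgSp.yon S).obj V) (g' : R ⟶ (AlgSp.yon S).obj V')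
    (hg : AlgSp.IsEtaleMor g)
    (hmono : ∀ ⦃Z : AlgSp.Sp S⦄ (a b : Z ⟶ R), a ≫ g = b ≫ g → a ≫ g' = b ≫ g' → a = b) :
    ∃ W : Over S, Nonempty ((AlgSp.yon S).obj W ≅ R) := by
  apply exists_iso_yon_of_schematicLocus hR
  intro r
  obtain ⟨V₀, ι₀, v₀, hV₀, hι₀, hv₀⟩ :=
    exists_affine_open_over V (Points.toScheme V (Points.map g r))
  obtain ⟨V'₀, ι'₀, v'₀, hV'₀, hι'₀, hv'₀⟩ :=
    exists_affine_open_over V' (Points.toScheme V' (Points.map g' r))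
  have hyV : AlgSp.IsAlgSpace ((AlgSp.yon S).obj V) := AlgSp.IsAlgSpace.yon_obj V
  have hyV' : AlgSp.IsAlgSpace ((AlgSp.yon S).obj V') := AlgSp.IsAlgSpace.yon_obj V'
  have hyV₀ : AlgSp.IsAlgSpace ((AlgSp.yon S).obj V₀) := AlgSp.IsAlgSpace.yon_obj V₀
  have hyV'₀ : AlgSp.IsAlgSpace ((AlgSp.yon S).obj V'₀) := AlgSp.IsAlgSpace.yon_obj V'₀
  -- first restriction
  obtain ⟨R₀, b₀, g₀, sq₀⟩ : ∃ (R₀ : AlgSp.Sp S) (b₀ : R₀ ⟶ R)
      (g₀ : R₀ ⟶ (AlgSp.yon S).obj V₀), IsPullback b₀ g₀ g ((AlgSp.yon S).map ι₀) :=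
    ⟨_, _, _, IsPullback.of_hasPullback g ((AlgSp.yon S).map ι₀)⟩
  have hb₀ : AlgSp.RepWith @IsOpenImmersion b₀ :=
    MorphismProperty.of_isPullback sq₀.flip ((AlgSp.repWith_yon_map_iff _ ι₀).2 hι₀)
  have hR₀ : AlgSp.IsAlgSpace R₀ :=
    Groth.Agent.Lib.Helper30.isAlgSpace_of_isPullback hyV.diag hR hyV₀ sq₀
  have hg₀ : AlgSp.IsEtaleMor g₀ := isEtaleMor_of_isPullback hR hyV hyV₀ sq₀.flip hg
  obtain ⟨r₀, hr₀, -⟩ := exists_point_of_isPullback sq₀ r (Points.ofScheme V₀ v₀) (by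
    rw [map_yon_map_ofScheme, hv₀, Points.ofScheme_toScheme])
  -- second restriction
  obtain ⟨R₀₀, b₀₀, g'₀₀, sq₀₀⟩ : ∃ (R₀₀ : AlgSp.Sp S) (b₀₀ : R₀₀ ⟶ R₀)
      (g'₀₀ : R₀₀ ⟶ (AlgSp.yon S).obj V'₀),
      IsPullback b₀₀ g'₀₀ (b₀ ≫ g') ((AlgSp.yon S).map ι'₀) :=
    ⟨_, _, _, IsPullback.of_hasPullback (b₀ ≫ g') ((AlgSp.yon S).map ι'₀)⟩
  have hb₀₀ : AlgSp.RepWith @IsOpenImmersion b₀₀ :=
    MorphismProperty.of_isPullback sq₀₀.flip ((AlgSp.repWith_yon_map_iff _ ι'₀).2 hι'₀)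
  have hR₀₀ : AlgSp.IsAlgSpace R₀₀ :=
    Groth.Agent.Lib.Helper30.isAlgSpace_of_isPullback hyV'.diag hR₀ hyV'₀ sq₀₀
  obtain ⟨r₀₀, hr₀₀, -⟩ := exists_point_of_isPullback sq₀₀ r₀ (Points.ofScheme V'₀ v'₀) (by
    rw [Points.map_comp, hr₀, map_yon_map_ofScheme, hv'₀, Points.ofScheme_toScheme])
  have hG : AlgSp.IsEtaleMor (b₀₀ ≫ g₀) := fun U φ hφ => by
    rw [← Category.assoc]
    exact hg₀ (φ ≫ b₀₀) ((AlgSp.RepWith @Etale).comp_mem _ _ hφ
      (repWith_etale_of_isOpenImmersion' b₀₀ hb₀₀))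
  have hb₀m : Mono b₀ := mono_of_repWith (fun g (_ : IsOpenImmersion g) => inferInstance) hb₀
  have hb₀₀m : Mono b₀₀ := mono_of_repWith (fun g (_ : IsOpenImmersion g) => inferInstance) hb₀₀
  have hGsep : AlgSp.IsSeparatedMor (b₀₀ ≫ g₀) := by
    obtain ⟨m, hm⟩ : ∃ m, m = prod.lift (b₀₀ ≫ g₀) g'₀₀ ≫
        inv (prodComparison (AlgSp.yon S) V₀ V'₀) := ⟨_, rfl⟩
    have hm1 : m ≫ (AlgSp.yon S).map (prod.fst : V₀ ⨯ V'₀ ⟶ V₀) = b₀₀ ≫ g₀ := by
      rw [hm, Category.assoc, ← prodComparison_fst, IsIso.inv_hom_id_assoc, prod.lift_fst]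
    have hm2 : m ≫ (AlgSp.yon S).map (prod.snd : V₀ ⨯ V'₀ ⟶ V'₀) = g'₀₀ := by
      rw [hm, Category.assoc, ← prodComparison_snd, IsIso.inv_hom_id_assoc, prod.lift_snd]
    have hmmono : Mono m := by
      refine ⟨fun {Z} a b hab => ?_⟩
      have e1 : a ≫ b₀₀ ≫ g₀ = b ≫ b₀₀ ≫ g₀ := by
        rw [← hm1, ← Category.assoc, hab, Category.assoc]
      have e2 : a ≫ g'₀₀ = b ≫ g'₀₀ := by
        rw [← hm2, ← Category.assoc, hab, Category.assoc]
      rw [← cancel_mono b₀₀, ← cancel_mono b₀]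
      apply hmono
      · rw [Category.assoc, Category.assoc, sq₀.w, Category.assoc, Category.assoc, sq₀.w,
          ← Category.assoc b₀₀, ← Category.assoc a, e1]
        simp only [Category.assoc]
      · rw [Category.assoc, Category.assoc, sq₀₀.w, Category.assoc, Category.assoc, sq₀₀.w,
          ← Category.assoc a, e2, Category.assoc]
    have hsepfst : IsSeparated (prod.fst : V₀ ⨯ V'₀ ⟶ V₀).left := by
      rw [← Over.prodLeftIsoPullback_hom_fst]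
      infer_instance
    rw [← hm1]
    exact isSeparatedMor_comp _ _ (isSeparatedMor_of_mono m)
      ((AlgSp.isSeparatedMor_yon_map_iff _).2 hsepfst)
  obtain ⟨W, ⟨eW⟩⟩ := exists_iso_yon_of_sep_etale_affine hR₀₀ (b₀₀ ≫ g₀) hGsep hG
  have hc : AlgSp.RepWith @IsOpenImmersion (eW.hom ≫ b₀₀ ≫ b₀) :=
    (AlgSp.RepWith @IsOpenImmersion).comp_mem _ _ (repWith_of_isIso _ eW.hom)
      ((AlgSp.RepWith @IsOpenImmersion).comp_mem _ _ hb₀₀ hb₀)
  apply range_map_subset_schematicLocus _ hc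
  refine ⟨Points.map eW.inv r₀₀, ?_⟩
  rw [← Points.map_comp, Iso.inv_hom_id_assoc, Points.map_comp, hr₀₀, hr₀]

end Groth.Agent.Lib.Helper30.ZMT
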