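import Mathlib

/-!
# Local structure of unramified morphisms of affine schemes (helper30)
-/

set_option autoImplicit false
set_option maxHeartbeats 800000
set_option backward.isDefEq.respectTransparency false
universe u
open CategoryTheory CategoryTheory.Limits AlgebraicGeometry Opposite

namespace Groth.Agent.Lib.Helper30.ZMT

/-- Unramified morphisms are locally quasi-finite. -/
theorem lqf_of_unramified {A B : Scheme.{u}} (e : A ⟶ B) [LocallyOfFiniteType e]
    [FormallyUnramified e] : LocallyQuasiFinite e := by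
  rw [HasRingHomProperty.iff_appLE (P := @LocallyQuasiFinite)]
  intro U V hUV
  have h1 : RingHom.FormallyUnramified (e.appLE U V hUV).hom :=
    HasRingHomProperty.appLE (P := @FormallyUnramified) e inferInstance U V hUV
  have h2 : RingHom.FiniteType (e.appLE U V hUV).hom :=
    HasRingHomProperty.appLE (P := @LocallyOfFiniteType) e inferInstance U V hUV
  algebraize [(e.appLE U V hUV).hom]
  have : Algebra.QuasiFinite Γ(B, U) Γ(A, V) := inferInstance
  exact RingHom.quasiFinite_algebraMap.2 this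

/-- Étale-local structure of an unramified morphism of affine schemes near a point: an open
neighbourhood is a closed subscheme of an affine scheme étale over the target. -/
theorem exists_closedImmersion_etale_of_unramified {U Z : Scheme.{u}} [IsAffine U] [IsAffine Z]
    (h : U ⟶ Z) [LocallyOfFiniteType h] [FormallyUnramified h] (u : ↥U) :
    ∃ (U₁ Z' : Scheme.{u}) (ι : U₁ ⟶ U) (c : U₁ ⟶ Z') (e : Z' ⟶ Z), IsAffine U₁ ∧ IsAffine Z' ∧
      IsOpenImmersion ι ∧ IsClosedImmersion c ∧ Etale e ∧ c ≫ e = ι ≫ h ∧ u ∈ Set.range ι := by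
  have h1 : RingHom.FormallyUnramified h.appTop.hom :=
    (HasRingHomProperty.iff_of_isAffine (P := @FormallyUnramified)).1 inferInstance
  have h2 : RingHom.FiniteType h.appTop.hom :=
    (HasRingHomProperty.iff_of_isAffine (P := @LocallyOfFiniteType)).1 inferInstance
  algebraize [h.appTop.hom]
  obtain ⟨Q, hQ⟩ : ∃ Q : PrimeSpectrum Γ(U, ⊤), Q = U.isoSpec.hom u := ⟨_, rfl⟩
  have h3 : Algebra.FormallyUnramified Γ(U, ⊤) (Localization.AtPrime Q.asIdeal) :=
    Algebra.FormallyUnramified.of_isLocalization Q.asIdeal.primeCompl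
  have h4 : Algebra.IsUnramifiedAt Γ(Z, ⊤) Q.asIdeal :=
    Algebra.FormallyUnramified.comp Γ(Z, ⊤) Γ(U, ⊤) _
  obtain ⟨g, hgQ, P, ψ, hψ⟩ :=
    Algebra.IsUnramifiedAt.exists_hasStandardEtaleSurjectionOn (R := Γ(Z, ⊤)) Q.asIdeal
  let ι₀ : Spec (.of (Localization.Away g)) ⟶ Spec Γ(U, ⊤) :=
    Spec.map (CommRingCat.ofHom (algebraMap Γ(U, ⊤) (Localization.Away g)))
  let e₀ : Spec (.of P.Ring) ⟶ Spec Γ(Z, ⊤) :=
    Spec.map (CommRingCat.ofHom (algebraMap Γ(Z, ⊤) P.Ring))
  let c : Spec (.of (Localization.Away g)) ⟶ Spec (.of P.Ring) :=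
    Spec.map (CommRingCat.ofHom ψ.toRingHom)
  have hι₀ : IsOpenImmersion ι₀ := inferInstance
  have he₀ : Etale e₀ := by
    apply HasRingHomProperty.Spec_iff.mpr
    exact RingHom.etale_algebraMap.mpr inferInstance
  have hc : IsClosedImmersion c := IsClosedImmersion.spec_of_surjective _ hψ
  refine ⟨Spec (.of (Localization.Away g)), Spec (.of P.Ring), ι₀ ≫ U.isoSpec.inv, c,
    e₀ ≫ Z.isoSpec.inv, inferInstance, inferInstance, inferInstance, hc, inferInstance, ?_, ?_⟩
  · rw [Category.assoc, ← Scheme.isoSpec_inv_naturality h, ← Category.assoc, ← Category.assoc]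
    congr 1
    rw [← Spec.map_comp, ← Spec.map_comp]
    congr 1
    ext x
    show ψ (algebraMap Γ(Z, ⊤) P.Ring x) = algebraMap Γ(U, ⊤) (Localization.Away g)
      (h.appTop.hom x)
    rw [ψ.commutes]
    exact IsScalarTower.algebraMap_apply Γ(Z, ⊤) Γ(U, ⊤) (Localization.Away g) x
  · have hmem : Q ∈ Set.range ι₀ := by
      have : Set.range ι₀ = Set.range (PrimeSpectrum.comap
          (algebraMap Γ(U, ⊤) (Localization.Away g))) := rfl
      rw [this, PrimeSpectrum.localization_away_comap_range (Localization.Away g) g]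
      exact hgQ
    obtain ⟨y, hy⟩ := hmem
    refine ⟨y, ?_⟩
    rw [Scheme.Hom.comp_apply, hy, hQ, ← Scheme.Hom.comp_apply, Iso.hom_inv_id]
    rfl

end Groth.Agent.Lib.Helper30.ZMT
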