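import Groth.Agent.Lib.Helper30.AlgSpZMT4
import Groth.Agent.Lib.Helper30.ZMTUnram
import Groth.Agent.Lib.Helper30.AlgSpUnram
import Groth.Agent.Lib.Helper78.AlgSpLocPLoft

/-!
# A monomorphism locally of finite type from an algebraic space to a scheme is representable
(helper30)
-/

set_option autoImplicit false
set_option maxHeartbeats 1600000
set_option backward.isDefEq.respectTransparency false
set_option linter.unusedSectionVars false
universe u
open CategoryTheory CategoryTheory.Limits AlgebraicGeometry Opposite TopologicalSpace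

namespace Groth.Agent.Lib.Helper30.ZMT

open AlgSp Groth.Agent.Lib.Helper51 Groth.Agent.Lib.Helper52
open Groth.Agent.Lib.Helper78.AlgSpBasic Groth.Agent.Lib.Helper78.AlgSpFibre
open Groth.Agent.Lib.Helper51.KerAt

variable {S : Scheme.{u}}

/-- Chart diagrams of a monomorphism locally of finite type are unramified. -/
theorem unramified_chart_of_mono {W Y : AlgSp.Sp S} (hW : AlgSp.IsAlgSpace W)
    (hY : AlgSp.IsAlgSpace Y) (f : W ⟶ Y) [Mono f] {U V : Over S}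
    (a : (AlgSp.yon S).obj U ⟶ W) (b : (AlgSp.yon S).obj V ⟶ Y) (h : U ⟶ V)
    (ha : AlgSp.RepWith @Etale a) (hb : AlgSp.RepWith @Etale b)
    (comm : a ≫ f = (AlgSp.yon S).map h ≫ b) : FormallyUnramified h.left := by
  have hΔ : AlgSp.RepWith @IsOpenImmersion (pullback.diagonal f) := repWith_of_isIso _ _
  exact Groth.Agent.Lib.Helper30.formallyUnramified_of_repWith_isOpenImmersion_diagonal hW hY f hΔ
    a b h ha hb comm

/-- **Monomorphisms locally of finite type to an affine scheme.** -/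
theorem exists_iso_yon_of_mono_lft_affine {Z : Over S} [IsAffine Z.left] {W : AlgSp.Sp S}
    (hW : AlgSp.IsAlgSpace W) (f : W ⟶ (AlgSp.yon S).obj Z) [Mono f]
    (hlft : AlgSp.LocP @LocallyOfFiniteType f) :
    ∃ W' : Over S, Nonempty ((AlgSp.yon S).obj W' ≅ W) := by
  have hyZ : AlgSp.IsAlgSpace ((AlgSp.yon S).obj Z) := AlgSp.IsAlgSpace.yon_obj Z
  have hsep : AlgSp.IsSeparatedMor f := isSeparatedMor_of_mono f
  have hqf : AlgSp.LocP (@LocallyQuasiFinite ⊓ @LocallyOfFiniteType) f := by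
    intro U V a b h ha hb comm
    have h1 : LocallyOfFiniteType h.left := hlft a b h ha hb comm
    have h2 : FormallyUnramified h.left := unramified_chart_of_mono hW hyZ f a b h ha hb comm
    exact ⟨lqf_of_unramified h.left, h1⟩
  apply exists_iso_yon_of_schematicLocus hW
  intro x
  obtain ⟨U₁, a₁, ha₁e, ha₁s⟩ := hW.atlas
  obtain ⟨u₁, rfl⟩ := surjective_ofPt_of_repWith_surjective a₁ ha₁s x
  obtain ⟨U₀, ι₀, u₀, hU₀, hι₀, rfl⟩ := exists_affine_open_over U₁ u₁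
  have ha : AlgSp.RepWith @Etale ((AlgSp.yon S).map ι₀ ≫ a₁) :=
    repWith_etale_yon_map_comp ι₀ inferInstance a₁ ha₁e
  obtain ⟨a, haeq⟩ : ∃ a, a = (AlgSp.yon S).map ι₀ ≫ a₁ := ⟨_, rfl⟩
  rw [← haeq] at ha
  obtain ⟨h, hh⟩ := (AlgSp.yon S).map_surjective (a ≫ f)
  have hcomm : a ≫ f = (AlgSp.yon S).map h ≫ 𝟙 _ := by rw [Category.comp_id, hh]
  have hid : AlgSp.RepWith @Etale (𝟙 ((AlgSp.yon S).obj Z)) := AlgSp.repWith_id _ Z
  have hh1 : LocallyOfFiniteType h.left := hlft a (𝟙 _) h ha hid hcomm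
  have hh2 : FormallyUnramified h.left :=
    unramified_chart_of_mono hW hyZ f a (𝟙 _) h ha hid hcomm
  obtain ⟨U₂, Z', ι, c, e, hU₂, hZ', hι, hc, he, hce, u₂, hu₂⟩ :=
    exists_closedImmersion_etale_of_unramified h.left u₀
  -- promote to `Over S`
  let Z'o : Over S := Over.mk (e ≫ Z.hom)
  let eo : Z'o ⟶ Z := Over.homMk e rfl
  let U₂o : Over S := Over.mk (ι ≫ U₀.hom)
  let ιo : U₂o ⟶ U₀ := Over.homMk ι rfl
  let co : U₂o ⟶ Z'o := Over.homMk c (by
    show c ≫ e ≫ Z.hom = ι ≫ U₀.hom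
    rw [← Category.assoc, hce, Category.assoc, Over.w h])
  have hcoeo : co ≫ eo = ιo ≫ h := Over.OverMorphism.ext hce
  have hZ'a : IsAffine Z'o.left := hZ'
  have heo : Etale eo.left := he
  have sq : IsPullback (pullback.fst f ((AlgSp.yon S).map eo))
      (pullback.snd f ((AlgSp.yon S).map eo)) f ((AlgSp.yon S).map eo) :=
    IsPullback.of_hasPullback _ _
  have hyU₂ : AlgSp.IsAlgSpace ((AlgSp.yon S).obj U₂o) := AlgSp.IsAlgSpace.yon_obj U₂o
  have hyZ' : AlgSp.IsAlgSpace ((AlgSp.yon S).obj Z'o) := AlgSp.IsAlgSpace.yon_obj Z'o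
  have hP : AlgSp.IsAlgSpace (pullback f ((AlgSp.yon S).map eo)) :=
    Groth.Agent.Lib.Helper30.isAlgSpace_of_isPullback hyZ.diag hW hyZ' sq
  have hσw : ((AlgSp.yon S).map ιo ≫ a) ≫ f = (AlgSp.yon S).map co ≫ (AlgSp.yon S).map eo := by
    rw [Category.assoc, ← hh, ← Functor.map_comp, ← Functor.map_comp, hcoeo]
  obtain ⟨σ, hσ⟩ : ∃ σ, σ = sq.lift _ _ hσw := ⟨_, rfl⟩
  have hσ2 : σ ≫ pullback.fst f ((AlgSp.yon S).map eo) = (AlgSp.yon S).map ιo ≫ a := by
    rw [hσ]; exact sq.lift_fst _ _ _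
  have hσ1 : σ ≫ pullback.snd f ((AlgSp.yon S).map eo) = (AlgSp.yon S).map co := by
    rw [hσ]; exact sq.lift_snd _ _ _
  have hιa : AlgSp.RepWith @Etale ((AlgSp.yon S).map ιo ≫ a) :=
    repWith_etale_yon_map_comp ιo (inferInstanceAs (Etale ι)) a ha
  have hp2 : AlgSp.RepWith @Etale (pullback.fst f ((AlgSp.yon S).map eo)) :=
    MorphismProperty.of_isPullback sq.flip ((AlgSp.repWith_yon_map_iff @Etale eo).2 heo)
  have hσet : AlgSp.IsEtaleMor σ := by
    refine Groth.Agent.Lib.Helper30.isEtaleMor_of_comp hP σ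
      (pullback.fst f ((AlgSp.yon S).map eo)) ?_
      (Groth.Agent.Lib.Helper30.isEtaleMor_of_repWith_etale hp2)
    rw [hσ2]
    exact Groth.Agent.Lib.Helper30.isEtaleMor_of_repWith_etale hιa
  have hcomono : Mono ((AlgSp.yon S).map co) :=
    mono_of_repWith (P := @IsClosedImmersion) (fun g (_ : IsClosedImmersion g) => inferInstance)
      ((AlgSp.repWith_yon_map_iff @IsClosedImmersion co).2 hc)
  have hσmono : Mono σ := by
    have : Mono (σ ≫ pullback.snd f ((AlgSp.yon S).map eo)) := by rw [hσ1]; exact hcomono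
    exact mono_of_mono σ (pullback.snd f ((AlgSp.yon S).map eo))
  have hσo : AlgSp.RepWith @IsOpenImmersion σ :=
    Groth.Agent.Lib.Helper30.repWith_isOpenImmersion_of_isEtaleMor_mono hyU₂ hP σ hσet
  have hsub := range_subset_schematicLocus_of_etale eo hW f hsep hqf _ _ sq σ hσo
  apply hsub
  rw [hσ2, haeq]
  refine ⟨Points.ofScheme U₂o u₂, ?_⟩
  rw [← Points.ofPt_eq_map_ofScheme, ofPt_yon_map_comp, ofPt_yon_map_comp]
  show Points.ofPt a₁ (ι₀.left (ι u₂)) = _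
  rw [hu₂]

/-- **Monomorphisms locally of finite type to a scheme.** -/
theorem exists_iso_yon_of_mono_lft {Z : Over S} {W : AlgSp.Sp S}
    (hW : AlgSp.IsAlgSpace W) (f : W ⟶ (AlgSp.yon S).obj Z) [Mono f]
    (hlft : AlgSp.LocP @LocallyOfFiniteType f) :
    ∃ W' : Over S, Nonempty ((AlgSp.yon S).obj W' ≅ W) := by
  have hyZ : AlgSp.IsAlgSpace ((AlgSp.yon S).obj Z) := AlgSp.IsAlgSpace.yon_obj Z
  apply exists_iso_yon_of_schematicLocus hW
  intro w
  obtain ⟨Z₀, ι₀, z₀, hZ₀, hι₀, hz₀⟩ :=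
    exists_affine_open_over Z (Points.toScheme Z (Points.map f w))
  have hyZ₀ : AlgSp.IsAlgSpace ((AlgSp.yon S).obj Z₀) := AlgSp.IsAlgSpace.yon_obj Z₀
  obtain ⟨W₀, b₀, g₀, sq₀⟩ : ∃ (W₀ : AlgSp.Sp S) (b₀ : W₀ ⟶ W)
      (g₀ : W₀ ⟶ (AlgSp.yon S).obj Z₀), IsPullback b₀ g₀ f ((AlgSp.yon S).map ι₀) :=
    ⟨_, _, _, IsPullback.of_hasPullback f ((AlgSp.yon S).map ι₀)⟩
  have hb₀ : AlgSp.RepWith @IsOpenImmersion b₀ :=
    MorphismProperty.of_isPullback sq₀.flip ((AlgSp.repWith_yon_map_iff _ ι₀).2 hι₀)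
  have hW₀ : AlgSp.IsAlgSpace W₀ :=
    Groth.Agent.Lib.Helper30.isAlgSpace_of_isPullback hyZ.diag hW hyZ₀ sq₀
  have hg₀m : Mono g₀ := sq₀.mono_snd_of_mono
  have hg₀l : AlgSp.LocP @LocallyOfFiniteType g₀ :=
    Groth.Agent.Lib.Helper78.AlgSpLocP.locP_of_isPullback
      Groth.Agent.Lib.Helper78.AlgSpLocPLoft.etLocalST_loft sq₀ (repAll_of_isAlgSpace hyZ)
      hW.atlas hyZ.atlas hlft
  obtain ⟨w₀, hw₀, -⟩ := exists_point_of_isPullback sq₀ w (Points.ofScheme Z₀ z₀) (by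
    rw [map_yon_map_ofScheme, hz₀, Points.ofScheme_toScheme])
  obtain ⟨W', ⟨eW⟩⟩ := exists_iso_yon_of_mono_lft_affine hW₀ g₀ hg₀l
  have hc : AlgSp.RepWith @IsOpenImmersion (eW.hom ≫ b₀) :=
    (AlgSp.RepWith @IsOpenImmersion).comp_mem _ _ (repWith_of_isIso _ eW.hom) hb₀
  apply range_map_subset_schematicLocus _ hc
  refine ⟨Points.map eW.inv w₀, ?_⟩
  rw [← Points.map_comp, Iso.inv_hom_id_assoc, hw₀]

/-- **A monomorphism locally of finite type of algebraic spaces is representable.** -/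
theorem representable_of_mono_lft {X Y : AlgSp.Sp S} (hX : AlgSp.IsAlgSpace X)
    (hY : AlgSp.IsAlgSpace Y) (f : X ⟶ Y) [Mono f] (hlft : AlgSp.LocP @LocallyOfFiniteType f) :
    AlgSp.Representable f := by
  intro T t
  have hyT : AlgSp.IsAlgSpace ((AlgSp.yon S).obj T) := AlgSp.IsAlgSpace.yon_obj T
  have sqT := IsPullback.of_hasPullback f t
  have hXT : AlgSp.IsAlgSpace (pullback f t) :=
    Groth.Agent.Lib.Helper30.isAlgSpace_of_isPullback hY.diag hX hyT sqT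
  have hmT : Mono (pullback.snd f t) := sqT.mono_snd_of_mono
  have hlT : AlgSp.LocP @LocallyOfFiniteType (pullback.snd f t) :=
    Groth.Agent.Lib.Helper78.AlgSpLocP.locP_of_isPullback
      Groth.Agent.Lib.Helper78.AlgSpLocPLoft.etLocalST_loft sqT (repAll_of_isAlgSpace hY)
      hX.atlas hY.atlas hlft
  obtain ⟨V, ⟨eV⟩⟩ := exists_iso_yon_of_mono_lft hXT (pullback.snd f t) hlT
  obtain ⟨snd, hsnd⟩ := (AlgSp.yon S).map_surjective (eV.hom ≫ pullback.snd f t)
  refine ⟨V, snd, eV.hom ≫ pullback.fst f t, ?_⟩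
  rw [hsnd]
  exact IsPullback.of_iso sqT eV.symm (Iso.refl _) (Iso.refl _) (Iso.refl _) (by simp) (by simp)
    (by simp) (by simp)

end Groth.Agent.Lib.Helper30.ZMT
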