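import Groth.Agent.Lib.Helper30.EtaleResidueSep2

/-!
# Étale localisation of quasi-finite morphisms of affine schemes (helper30)
-/

set_option autoImplicit false
universe u
set_option maxHeartbeats 1600000

open CategoryTheory AlgebraicGeometry

namespace Groth.Agent.Lib.Helper30.EtaleRes

set_option backward.isDefEq.respectTransparency false in
/-- **Étale localisation of quasi-finite morphisms** (Stacks 02LK, one point): after an étale base
change `T' ⟶ T` there is an étale `V ⟶ U`, finite over `T'`, with a point `v` over `u` such that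
field valued points of `V` at `v` are determined by their image in `T'`. -/
theorem exists_etale_finite_unique_scheme {U T : Scheme.{u}} [IsAffine U] [IsAffine T] (h : U ⟶ T)
    [LocallyOfFiniteType h] [LocallyQuasiFinite h] (u : U) :
    ∃ (T' V : Scheme.{u}) (e : T' ⟶ T) (ιV : V ⟶ U) (πV : V ⟶ T') (v : V),
      IsAffine T' ∧ IsAffine V ∧ Etale e ∧ Etale ιV ∧ IsFinite πV ∧ ιV ≫ h = πV ≫ e ∧ ιV v = u ∧
      ∀ (Ω : Type u) [Field Ω] (α β : Spec (CommRingCat.of Ω) ⟶ V),
        α ≫ πV = β ≫ πV → (∀ z, α z = v) → α = β := by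
  have hft : h.appTop.hom.FiniteType :=
    (HasRingHomProperty.iff_of_isAffine (P := @LocallyOfFiniteType)).1 inferInstance
  have hqf : h.appTop.hom.QuasiFinite :=
    (HasRingHomProperty.iff_of_isAffine (P := @LocallyQuasiFinite)).1 inferInstance
  algebraize [h.appTop.hom]
  have hft' : Algebra.FiniteType Γ(T, ⊤) Γ(U, ⊤) := hft
  have hqf' : Algebra.QuasiFinite Γ(T, ⊤) Γ(U, ⊤) := RingHom.quasiFinite_algebraMap.mp hqf
  let q : Ideal Γ(U, ⊤) := (U.isoSpec.hom u).asIdeal
  have hq : q.IsPrime := (U.isoSpec.hom u).isPrime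
  let p : Ideal Γ(T, ⊤) := q.under Γ(T, ⊤)
  have hp : p.IsPrime := Ideal.IsPrime.under _ q
  have hlo : q.LiesOver p := ⟨rfl⟩
  obtain ⟨R₂, B, _, _, ρ, π, ι, Q, hQ, hρ, hπ, hι, hcomm, hQq, huniq⟩ :=
    exists_etale_finite_unique (R := Γ(T, ⊤)) (A := Γ(U, ⊤)) p q
  have hρ' : Etale (Spec.map (CommRingCat.ofHom ρ)) :=
    (HasRingHomProperty.Spec_iff (P := @Etale)).2 hρ
  have hι' : Etale (Spec.map (CommRingCat.ofHom ι)) :=
    (HasRingHomProperty.Spec_iff (P := @Etale)).2 hι
  have hπ' : IsFinite (Spec.map (CommRingCat.ofHom π)) := (IsFinite.SpecMap_iff _).2 hπ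
  refine ⟨Spec (.of R₂), Spec (.of B), Spec.map (CommRingCat.ofHom ρ) ≫ T.isoSpec.inv,
    Spec.map (CommRingCat.ofHom ι) ≫ U.isoSpec.inv, Spec.map (CommRingCat.ofHom π), ⟨Q, hQ⟩,
    inferInstance, inferInstance, inferInstance, inferInstance, hπ', ?_, ?_, ?_⟩
  · rw [Category.assoc, ← Scheme.isoSpec_inv_naturality, ← Category.assoc, ← Category.assoc,
      ← Spec.map_comp, ← Spec.map_comp]
    congr 2
    ext x
    exact (congrArg (fun f => f x) hcomm).symm
  · rw [Scheme.Hom.comp_apply]
    have : (Spec.map (CommRingCat.ofHom ι)) ⟨Q, hQ⟩ = U.isoSpec.hom u := by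
      apply PrimeSpectrum.ext
      exact hQq
    rw [this]
    have e1 : (U.isoSpec.hom ≫ U.isoSpec.inv) u = u := by
      rw [Iso.hom_inv_id]; rfl
    exact e1
  · intro Ω _ α β hαβ hα
    obtain ⟨α', rfl⟩ := Spec.map_surjective α
    obtain ⟨β', rfl⟩ := Spec.map_surjective β
    rw [← Spec.map_comp, ← Spec.map_comp] at hαβ
    have h1 := Spec.map_injective hαβ
    have h2 : α'.hom.comp π = β'.hom.comp π := by
      ext x
      exact congrArg (fun f => f.hom x) h1
    have h3 : RingHom.ker α'.hom = Q := by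
      have := hα ⟨⊥, Ideal.isPrime_bot⟩
      have := congrArg PrimeSpectrum.asIdeal this
      change _ = Q at this
      rw [← this]
      ext x
      simp [RingHom.mem_ker, Spec.map_apply, Ideal.mem_comap]
    have := huniq Ω α'.hom β'.hom h3 h2
    congr 1
    ext x
    exact congrArg (fun f => f x) this

end Groth.Agent.Lib.Helper30.EtaleRes
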