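import Groth.Agent.Lib.Helper30.AlgSpZMT4
import Groth.Agent.Lib.Helper30.EtaleLocQF
import Groth.Agent.Lib.Helper30.AlgSpProper
import Groth.Agent.Lib.Helper30.AlgSpMor
import Groth.Agent.Lib.Helper30.AlgSpUnram

/-!
# An algebraic space separated and locally quasi-finite over a scheme is a scheme (helper30)

Stacks 03XX, via étale localisation of quasi-finite morphisms and the descent step
`range_subset_schematicLocus_of_etale`.
-/

set_option autoImplicit false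
set_option maxHeartbeats 3200000
set_option backward.isDefEq.respectTransparency false
set_option linter.unusedSectionVars false
universe u
open CategoryTheory CategoryTheory.Limits AlgebraicGeometry Opposite TopologicalSpace

namespace Groth.Agent.Lib.Helper30.ZMT

open AlgSp Groth.Agent.Lib.Helper51 Groth.Agent.Lib.Helper52
open Groth.Agent.Lib.Helper78.AlgSpBasic Groth.Agent.Lib.Helper78.AlgSpFibre
open Groth.Agent.Lib.Helper51.KerAt

variable {S : Scheme.{u}}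

/-- **Local structure.** Every point of an algebraic space separated and locally quasi-finite over an
affine scheme lies in the schematic locus. -/
theorem mem_schematicLocus_of_sep_lqf_affine {T : Over S} [IsAffine T.left] {X : AlgSp.Sp S}
    (hX : AlgSp.IsAlgSpace X) (f : X ⟶ (AlgSp.yon S).obj T) (hsep : AlgSp.IsSeparatedMor f)
    (hqf : AlgSp.LocP (@LocallyQuasiFinite ⊓ @LocallyOfFiniteType) f) (x : Points X) :
    x ∈ schematicLocus X := by
  obtain ⟨U₁, a₁, ha₁e, ha₁s⟩ := hX.atlas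
  obtain ⟨u₁, rfl⟩ := surjective_ofPt_of_repWith_surjective a₁ ha₁s x
  obtain ⟨U₀, ι₀, u₀, hU₀, hι₀, rfl⟩ := exists_affine_open_over U₁ u₁
  have ha : AlgSp.RepWith @Etale ((AlgSp.yon S).map ι₀ ≫ a₁) :=
    repWith_etale_yon_map_comp ι₀ inferInstance a₁ ha₁e
  obtain ⟨a, haeq⟩ : ∃ a, a = (AlgSp.yon S).map ι₀ ≫ a₁ := ⟨_, rfl⟩
  rw [← haeq] at ha
  obtain ⟨h, hh⟩ := (AlgSp.yon S).map_surjective (a ≫ f)
  have hhP := hqf a (𝟙 _) h ha (AlgSp.repWith_id _ _) (by rw [Category.comp_id, hh])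
  haveI : LocallyQuasiFinite h.left := hhP.1
  haveI : LocallyOfFiniteType h.left := hhP.2
  -- étale localisation
  obtain ⟨T'₀, V₀, e₀, ιV₀, πV₀, v, hT'aff, hVaff, he₀, hιV₀, hπV₀, hcomm₀, hv, huniq⟩ :=
    Groth.Agent.Lib.Helper30.EtaleRes.exists_etale_finite_unique_scheme h.left u₀
  let T' : Over S := Over.mk (e₀ ≫ T.hom)
  let e : T' ⟶ T := Over.homMk e₀ rfl
  let V : Over S := Over.mk (ιV₀ ≫ U₀.hom)
  let ιV : V ⟶ U₀ := Over.homMk ιV₀ rfl
  have hπw : πV₀ ≫ T'.hom = V.hom := by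
    show πV₀ ≫ e₀ ≫ T.hom = ιV₀ ≫ U₀.hom
    rw [← Category.assoc, ← hcomm₀, Category.assoc, Over.w h]
  let πV : V ⟶ T' := Over.homMk πV₀ hπw
  have hcomm : ιV ≫ h = πV ≫ e := Over.OverMorphism.ext hcomm₀
  haveI : IsAffine T'.left := hT'aff
  haveI : Etale e.left := he₀
  have hyT : AlgSp.IsAlgSpace ((AlgSp.yon S).obj T) := AlgSp.IsAlgSpace.yon_obj T
  have hyT' : AlgSp.IsAlgSpace ((AlgSp.yon S).obj T') := AlgSp.IsAlgSpace.yon_obj T'
  have hyV : AlgSp.IsAlgSpace ((AlgSp.yon S).obj V) := AlgSp.IsAlgSpace.yon_obj V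
  -- the base change
  have sq : IsPullback (pullback.fst f ((AlgSp.yon S).map e)) (pullback.snd f ((AlgSp.yon S).map e))
      f ((AlgSp.yon S).map e) := IsPullback.of_hasPullback _ _
  obtain ⟨p2, hp2⟩ : ∃ p2, p2 = pullback.fst f ((AlgSp.yon S).map e) := ⟨_, rfl⟩
  obtain ⟨p1, hp1⟩ : ∃ p1, p1 = pullback.snd f ((AlgSp.yon S).map e) := ⟨_, rfl⟩
  rw [← hp2, ← hp1] at sq
  have hP : AlgSp.IsAlgSpace (pullback f ((AlgSp.yon S).map e)) :=
    Groth.Agent.Lib.Helper30.isAlgSpace_of_isPullback hyT.diag hX hyT' sq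
  have hp2et : AlgSp.IsEtaleMor p2 :=
    isEtaleMor_of_isPullback hyT' hyT hX sq
      (Groth.Agent.Lib.Helper30.isEtaleMor_of_repWith_etale
        ((AlgSp.repWith_yon_map_iff @Etale e).2 he₀))
  have hp1sep : AlgSp.IsSeparatedMor p1 :=
    MorphismProperty.of_isPullback (P := (AlgSp.RepWith (S := S) @IsClosedImmersion).diagonal)
      sq hsep
  -- the chart `σ₀`
  have hσw : ((AlgSp.yon S).map ιV ≫ a) ≫ f = (AlgSp.yon S).map πV ≫ (AlgSp.yon S).map e := by
    rw [Category.assoc, ← hh, ← Functor.map_comp, ← Functor.map_comp, hcomm]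
  obtain ⟨σ₀, hσ₀⟩ : ∃ σ₀, σ₀ = sq.lift _ _ hσw := ⟨_, rfl⟩
  have hσ2 : σ₀ ≫ p2 = (AlgSp.yon S).map ιV ≫ a := by rw [hσ₀]; exact sq.lift_fst _ _ _
  have hσ1 : σ₀ ≫ p1 = (AlgSp.yon S).map πV := by rw [hσ₀]; exact sq.lift_snd _ _ _
  have hιVa : AlgSp.RepWith @Etale ((AlgSp.yon S).map ιV ≫ a) :=
    repWith_etale_yon_map_comp ιV hιV₀ a ha
  have hσet : AlgSp.IsEtaleMor σ₀ := by
    refine Groth.Agent.Lib.Helper30.isEtaleMor_of_comp hP σ₀ p2 ?_ hp2et
    rw [hσ2]
    exact Groth.Agent.Lib.Helper30.isEtaleMor_of_repWith_etale hιVa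
  -- `σ₀` is universally closed
  have hπuc : AlgSp.IsUnivClosedMor ((AlgSp.yon S).map πV) := by
    apply Groth.Agent.Lib.Helper30.isUnivClosedMor_of_repWith
    rw [AlgSp.repWith_yon_map_iff]
    show UniversallyClosed πV₀
    infer_instance
  have hσuc : AlgSp.IsUnivClosedMor σ₀ :=
    Groth.Agent.Lib.Helper30.isUnivClosedMor_of_comp_of_isSeparatedMor hyV hP hyT' σ₀ p1 hp1sep
      (by rw [hσ1]; exact hπuc)
  have hsndcl : IsClosedMap (Points.map (pullback.snd σ₀ σ₀)) :=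
    hσuc hyV σ₀ (pullback.fst σ₀ σ₀) (pullback.snd σ₀ σ₀) (IsPullback.of_hasPullback σ₀ σ₀)
  have hΔ : AlgSp.RepWith @IsOpenImmersion (pullback.diagonal σ₀) :=
    Groth.Agent.Lib.Helper30.repWith_isOpenImmersion_diagonal_of_isEtaleMor hyV hP σ₀ hσet
  have hΔopen : IsOpen (Set.range (Points.map (pullback.diagonal σ₀))) :=
    isOpen_range_map_of_isOpenImmersion _ hΔ
  -- the bad closed set
  obtain ⟨Z, hZdef⟩ : ∃ Z : Set (Points ((AlgSp.yon S).obj V)),
      Z = Points.map (pullback.snd σ₀ σ₀) '' (Set.range (Points.map (pullback.diagonal σ₀)))ᶜ :=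
    ⟨_, rfl⟩
  have hZcl : IsClosed Z := by rw [hZdef]; exact hsndcl _ hΔopen.isClosed_compl
  -- `v ∉ Z`
  have hvZ : Points.ofScheme V v ∉ Z := by
    rw [hZdef]
    rintro ⟨ρ, hρ, hρv⟩
    apply hρ
    obtain ⟨Ω, _, w, η, ν, hην, hη, hν⟩ := exists_fieldHoms_of_map_eq (pullback.snd σ₀ σ₀)
      (𝟙 ((AlgSp.yon S).obj V)) ρ (Points.ofScheme V v) (by rw [hρv, Points.map_id])
    rw [Category.comp_id] at hην
    obtain ⟨α₀, hα₀⟩ := (AlgSp.yon S).map_surjective (η ≫ pullback.fst σ₀ σ₀)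
    obtain ⟨β₀, hβ₀⟩ := (AlgSp.yon S).map_surjective ν
    have hβv : ∀ z, β₀.left z = v := by
      intro z
      have h1 : Points.toScheme V (Points.mk (fieldPtOfHom w ν)) = v := by
        rw [hν, Points.toScheme_ofScheme]
      rw [Points.toScheme_mk] at h1
      have hz : z = IsLocalRing.closedPoint Ω :=
        @Subsingleton.elim (PrimeSpectrum Ω) inferInstance z _
      rw [hz, ← h1, ← hβ₀]
      rfl
    have hπeq : β₀.left ≫ πV₀ = α₀.left ≫ πV₀ := by
      have h1 : (AlgSp.yon S).map (β₀ ≫ πV) = (AlgSp.yon S).map (α₀ ≫ πV) := by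
        rw [Functor.map_comp, Functor.map_comp, hα₀, hβ₀, ← hσ1, ← hην, Category.assoc,
          Category.assoc, ← Category.assoc (pullback.snd σ₀ σ₀), ← pullback.condition,
          Category.assoc]
      exact congrArg CommaMorphism.left ((AlgSp.yon S).map_injective h1)
    have hαβ : β₀ = α₀ := Over.OverMorphism.ext (huniq Ω β₀.left α₀.left hπeq hβv)
    have hηΔ : η = (η ≫ pullback.fst σ₀ σ₀) ≫ pullback.diagonal σ₀ := by
      apply pullback.hom_ext
      · rw [Category.assoc, pullback.diagonal_fst, Category.comp_id]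
      · rw [Category.assoc, pullback.diagonal_snd, Category.comp_id, ← hα₀, ← hαβ, hβ₀, hην]
    refine ⟨Points.mk (fieldPtOfHom w (η ≫ pullback.fst σ₀ σ₀)), ?_⟩
    rw [map_mk_fieldPtOfHom, ← hηΔ, hη]
  -- the open neighbourhood `V₂` of `v`
  have hOopen : IsOpen {y : ↥V.left | Points.ofScheme V y ∉ Z} :=
    hZcl.isOpen_compl.preimage (Points.continuous_ofPt (𝟙 _))
  let O : V.left.Opens := ⟨_, hOopen⟩
  let V₂ : Over S := Over.mk (O.ι ≫ V.hom)
  let ι₂ : V₂ ⟶ V := Over.homMk O.ι rfl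
  have hι₂o : IsOpenImmersion ι₂.left := inferInstanceAs (IsOpenImmersion O.ι)
  have hyV₂ : AlgSp.IsAlgSpace ((AlgSp.yon S).obj V₂) := AlgSp.IsAlgSpace.yon_obj V₂
  have hι₂Z : ∀ y₂ : Points ((AlgSp.yon S).obj V₂), Points.map ((AlgSp.yon S).map ι₂) y₂ ∉ Z := by
    intro y₂
    obtain ⟨o, rfl⟩ := (Points.schemeEquiv V₂).surjective y₂
    show Points.map ((AlgSp.yon S).map ι₂) (Points.ofScheme V₂ o) ∉ Z
    rw [map_yon_map_ofScheme]
    exact o.2
  obtain ⟨σ₂, hσ₂⟩ : ∃ σ₂, σ₂ = (AlgSp.yon S).map ι₂ ≫ σ₀ := ⟨_, rfl⟩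
  have hι₂rep : AlgSp.RepWith @IsOpenImmersion ((AlgSp.yon S).map ι₂) :=
    (AlgSp.repWith_yon_map_iff _ ι₂).2 hι₂o
  have hι₂mono : Mono ((AlgSp.yon S).map ι₂) :=
    mono_of_repWith (fun g (_ : IsOpenImmersion g) => inferInstance) hι₂rep
  have hσ₂et : AlgSp.IsEtaleMor σ₂ := fun U φ hφ => by
    rw [hσ₂, ← Category.assoc]
    exact hσet (φ ≫ (AlgSp.yon S).map ι₂) ((AlgSp.RepWith @Etale).comp_mem _ _ hφ
      (repWith_etale_of_isOpenImmersion' _ hι₂rep))
  have hΔ₂ : AlgSp.RepWith @IsOpenImmersion (pullback.diagonal σ₂) :=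
    Groth.Agent.Lib.Helper30.repWith_isOpenImmersion_diagonal_of_isEtaleMor hyV₂ hP σ₂ hσ₂et
  -- comparison of the two kernel pairs
  have hnw1 : (pullback.fst σ₂ σ₂ ≫ (AlgSp.yon S).map ι₂) ≫ σ₀ =
      (pullback.snd σ₂ σ₂ ≫ (AlgSp.yon S).map ι₂) ≫ σ₀ := by
    rw [Category.assoc, Category.assoc, ← hσ₂, pullback.condition]
  obtain ⟨n, hn⟩ : ∃ n, n = pullback.lift _ _ hnw1 := ⟨_, rfl⟩
  have hn1 : n ≫ pullback.fst σ₀ σ₀ = pullback.fst σ₂ σ₂ ≫ (AlgSp.yon S).map ι₂ := by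
    rw [hn]; exact pullback.lift_fst _ _ _
  have hn2 : n ≫ pullback.snd σ₀ σ₀ = pullback.snd σ₂ σ₂ ≫ (AlgSp.yon S).map ι₂ := by
    rw [hn]; exact pullback.lift_snd _ _ _
  have hnmono : Mono n := by
    refine ⟨fun {W} c d hcd => ?_⟩
    apply pullback.hom_ext
    · rw [← cancel_mono ((AlgSp.yon S).map ι₂), Category.assoc, Category.assoc, ← hn1,
        ← Category.assoc, hcd, Category.assoc]
    · rw [← cancel_mono ((AlgSp.yon S).map ι₂), Category.assoc, Category.assoc, ← hn2,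
        ← Category.assoc, hcd, Category.assoc]
  have hnΔ : pullback.diagonal σ₂ ≫ n = (AlgSp.yon S).map ι₂ ≫ pullback.diagonal σ₀ := by
    apply pullback.hom_ext
    · rw [Category.assoc, hn1, ← Category.assoc, pullback.diagonal_fst, Category.id_comp,
        Category.assoc, pullback.diagonal_fst, Category.comp_id]
    · rw [Category.assoc, hn2, ← Category.assoc, pullback.diagonal_snd, Category.id_comp,
        Category.assoc, pullback.diagonal_snd, Category.comp_id]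
  have hΔ₂surj : Function.Surjective (Points.map (pullback.diagonal σ₂)) := by
    intro ξ
    have hmem : Points.map n ξ ∈ Set.range (Points.map (pullback.diagonal σ₀)) := by
      by_contra hcon
      apply hι₂Z (Points.map (pullback.snd σ₂ σ₂) ξ)
      rw [hZdef]
      refine ⟨Points.map n ξ, hcon, ?_⟩
      rw [← Points.map_comp, hn2, Points.map_comp]
    obtain ⟨w, hw⟩ := hmem
    have hw' : w = Points.map ((AlgSp.yon S).map ι₂) (Points.map (pullback.snd σ₂ σ₂) ξ) := by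
      calc w = Points.map (pullback.snd σ₀ σ₀) (Points.map (pullback.diagonal σ₀) w) := by
            rw [← Points.map_comp, pullback.diagonal_snd, Points.map_id]
        _ = Points.map (pullback.snd σ₀ σ₀) (Points.map n ξ) := by rw [hw]
        _ = Points.map (n ≫ pullback.snd σ₀ σ₀) ξ := (Points.map_comp _ _ _).symm
        _ = _ := by rw [hn2, Points.map_comp]
    refine ⟨Points.map (pullback.snd σ₂ σ₂) ξ, ?_⟩
    apply injective_map_of_mono n
    rw [← Points.map_comp, hnΔ, Points.map_comp, ← hw', hw]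
  have hσ₂mono : Mono σ₂ :=
    Groth.Agent.Lib.Helper30.mono_of_diagonal_etale_surjective σ₂
      (repWith_etale_of_isOpenImmersion' _ hΔ₂)
      (repWith_surjective_of_surjective_map hΔ₂.1 hΔ₂surj)
  have hσ₂o : AlgSp.RepWith @IsOpenImmersion σ₂ :=
    Groth.Agent.Lib.Helper30.repWith_isOpenImmersion_of_isEtaleMor_mono hyV₂ hP σ₂ hσ₂et
  have hsub := range_subset_schematicLocus_of_etale e hX f hsep hqf p1 p2 sq σ₂ hσ₂o
  apply hsub
  refine ⟨Points.ofScheme V₂ ⟨v, hvZ⟩, ?_⟩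
  rw [hσ₂, Category.assoc, hσ2, ← Category.assoc, ← Functor.map_comp, haeq, ← Category.assoc,
    ← Functor.map_comp, ← Points.ofPt_eq_map_ofScheme, ofPt_yon_map_comp]
  congr 1
  show ι₀.left (ιV₀ (O.ι ⟨v, hvZ⟩)) = ι₀.left u₀
  rw [← hv]
  rfl

end Groth.Agent.Lib.Helper30.ZMT
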