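import Groth.Agent.Lib.Helper30.AlgSpGlue2
import Groth.Agent.Lib.Helper51.AlgSpPull
import Groth.Agent.Lib.Helper52.Points

/-!
# `RepWith Q` is Zariski local on the base (helper30)

* `exists_isPullback_of_cover` : representability of a pullback is local for a jointly surjective
  family of open immersions into the test scheme.
* `repWith_of_zarCover` : for `Q` Zariski local at the target and stable under base change,
  `RepWith Q f` can be checked on a Zariski covering of the target of `f`.
-/

set_option autoImplicit false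
set_option linter.unusedSectionVars false
universe u
set_option maxHeartbeats 400000
set_option backward.isDefEq.respectTransparency false

open CategoryTheory CategoryTheory.Limits AlgebraicGeometry MorphismProperty AlgSp Opposite

namespace Groth.Agent.Lib.Helper30.Glue

variable {S : Scheme.{u}}

/-- The open cover of `T.left` given by a jointly surjective family of open immersions. -/
noncomputable def coverOfFamily {T : Over S} {ι : Type u} (U : ι → Over S) (o : ∀ i, U i ⟶ T)
    (ho : ∀ i, IsOpenImmersion (o i).left) (hs : ∀ t : ↥T.left, ∃ i, t ∈ Set.range (o i).left) :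
    Scheme.OpenCover.{u} T.left :=
  Scheme.Cover.mkOfCovers ι (fun i => (U i).left) (fun i => (o i).left)
    (fun t => by obtain ⟨i, y, hy⟩ := hs t; exact ⟨i, y, hy⟩) (fun i => ho i)

/-- Representability of a pullback is local for a jointly surjective family of open immersions. -/
theorem exists_isPullback_of_cover {F G : AlgSp.Sp S} (f : F ⟶ G) {T : Over S}
    (g : (AlgSp.yon S).obj T ⟶ G) {ι : Type u} (U : ι → Over S) (o : ∀ i, U i ⟶ T)
    (ho : ∀ i, IsOpenImmersion (o i).left) (hs : ∀ t : ↥T.left, ∃ i, t ∈ Set.range (o i).left)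
    (H : ∀ i, ∃ (W : Over S) (w : W ⟶ U i) (fst : (AlgSp.yon S).obj W ⟶ F),
      IsPullback fst ((AlgSp.yon S).map w) f ((AlgSp.yon S).map (o i) ≫ g)) :
    ∃ (W : Over S) (snd : W ⟶ T) (fst : (AlgSp.yon S).obj W ⟶ F),
      IsPullback fst ((AlgSp.yon S).map snd) f g := by
  refine exists_isPullback_of_openCover f g (coverOfFamily U o ho hs) (fun i => ?_)
  obtain ⟨W, w, fst, sq⟩ := H i
  let e : coverOver T (coverOfFamily U o ho hs) i ≅ U i :=
    Over.isoMk (Iso.refl _) (by
      show 𝟙 _ ≫ (U i).hom = (o i).left ≫ T.hom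
      rw [Category.id_comp, CategoryTheory.Over.w])
  have he : e.hom ≫ o i = coverι T (coverOfFamily U o ho hs) i := by
    ext
    show 𝟙 _ ≫ (o i).left = (o i).left
    rw [Category.id_comp]
  refine ⟨W, w ≫ e.inv, fst, ?_⟩
  have h1 : IsPullback (𝟙 ((AlgSp.yon S).obj W)) ((AlgSp.yon S).map (w ≫ e.inv))
      ((AlgSp.yon S).map w) ((AlgSp.yon S).map e.hom) := by
    refine IsPullback.of_horiz_isIso ⟨?_⟩
    rw [Category.id_comp, ← Functor.map_comp, Category.assoc, Iso.inv_hom_id, Category.comp_id]
  have h2 := h1.paste_horiz sq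
  rw [Category.id_comp, ← Category.assoc, ← Functor.map_comp, he] at h2
  exact h2

/-- For `Q` Zariski local at the target and stable under base change, `RepWith Q f` can be
checked on a Zariski covering of the target. -/
theorem repWith_of_zarCover (Q : MorphismProperty Scheme.{u}) [Q.IsStableUnderBaseChange]
    [IsZariskiLocalAtTarget Q] {F G : AlgSp.Sp S} (f : F ⟶ G) {ι : Type u}
    (Gi : ι → AlgSp.Sp S) (j : ∀ i, Gi i ⟶ G) (hj : AlgSp.IsZarCover Gi j)
    (Fi : ι → AlgSp.Sp S) (p : ∀ i, Fi i ⟶ F) (q : ∀ i, Fi i ⟶ Gi i)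
    (sq : ∀ i, IsPullback (p i) (q i) f (j i)) (h : ∀ i, AlgSp.RepWith Q (q i)) :
    AlgSp.RepWith Q f := by
  -- the local data over a test scheme
  have key : ∀ (T : Over S) (g : (AlgSp.yon S).obj T ⟶ G),
      ∃ (U : ι → Over S) (o : ∀ i, U i ⟶ T), (∀ i, IsOpenImmersion (o i).left) ∧
        (∀ t : ↥T.left, ∃ i, t ∈ Set.range (o i).left) ∧
        ∀ i, ∃ (W : Over S) (w : W ⟶ U i) (fst : (AlgSp.yon S).obj W ⟶ F),
          IsPullback fst ((AlgSp.yon S).map w) f ((AlgSp.yon S).map (o i) ≫ g) ∧ Q w.left := by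
    intro T g
    have hU : ∀ i, ∃ (U : Over S) (o : U ⟶ T) (a : (AlgSp.yon S).obj U ⟶ Gi i),
        IsPullback a ((AlgSp.yon S).map o) (j i) g ∧ IsOpenImmersion o.left := fun i => by
      obtain ⟨U, o, a, sqa⟩ := (hj.1 i).1 g
      exact ⟨U, o, a, sqa, (hj.1 i).2 g a o sqa⟩
    choose U o a sqa ho using hU
    refine ⟨U, o, ho, fun t => ?_, fun i => ?_⟩
    · obtain ⟨i, hi⟩ := hj.2 (Points.ofPt g t)
      exact ⟨i, (Groth.Agent.Lib.Helper52.ofPt_mem_range_map_iff (sqa i) t).1 hi⟩
    · obtain ⟨W, w, b, sqb⟩ := (h i).1 (a i)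
      refine ⟨W, w, b ≫ p i, ?_, (h i).2 (a i) b w sqb⟩
      have h2 := sqb.paste_horiz (sq i)
      rw [(sqa i).w] at h2
      exact h2
  constructor
  · intro T g
    obtain ⟨U, o, ho, hs, H⟩ := key T g
    obtain ⟨W, snd, fst, sqW⟩ := exists_isPullback_of_cover f g U o ho hs (fun i => by
      obtain ⟨W, w, fst, sqw, -⟩ := H i
      exact ⟨W, w, fst, sqw⟩)
    exact ⟨W, snd, fst, sqW⟩
  · intro T W g fst snd sqW
    obtain ⟨U, o, ho, hs, H⟩ := key T g
    refine (IsZariskiLocalAtTarget.iff_of_openCover (P := Q) (coverOfFamily U o ho hs)).2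
      (fun i => ?_)
    obtain ⟨W', w, fst', sqw, hQ⟩ := H i
    obtain ⟨l, -, sql⟩ := Groth.Agent.Lib.Helper51.exists_isPullback_left_of_isPullback sqW sqw
    -- `sql : IsPullback l.left w.left snd.left (o i).left`
    have e := sql.isoPullback
    have hw : w.left = sql.isoPullback.hom ≫ pullback.snd snd.left (o i).left := by
      rw [IsPullback.isoPullback_hom_snd]
    show Q (pullback.snd snd.left (o i).left)
    rw [← Q.cancel_left_of_respectsIso sql.isoPullback.hom, ← hw]
    exact hQ

end Groth.Agent.Lib.Helper30.Glue
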