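import Mathlib

/-!
# Étale neighbourhoods realising the separable closure in a residue field extension (helper30)

For a quasi-finite `R`-algebra `A` and a prime `q` of `A`, there is an étale `R`-algebra `R₁` and an
`R`-algebra map `φ : R₁ → κ(q)` such that ring homomorphisms from `κ(q)` to fields are determined
by their restriction to `R₁` (i.e. `κ(q)` is purely inseparable over the field generated by `R₁`).
-/

set_option autoImplicit false
universe u
set_option maxHeartbeats 800000

open Polynomial TensorProduct

namespace Groth.Agent.Lib.Helper30.EtaleRes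

set_option backward.isDefEq.respectTransparency false in
/-- fractions in a residue field. -/
theorem exists_away_lifts {R : Type u} [CommRing R] (p : Ideal R) [p.IsPrime]
    (μ : p.ResidueField[X]) :
    ∃ (s : R) (hs : IsUnit (algebraMap R p.ResidueField s)),
      μ ∈ Polynomial.lifts (IsLocalization.Away.lift (S := Localization.Away s) s hs) := by
  classical
  obtain ⟨b, hb⟩ := IsLocalization.exist_integer_multiples_of_finset (R := R ⧸ p)
    (M := nonZeroDivisors (R ⧸ p)) (S := p.ResidueField) (μ.support.image μ.coeff)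
  obtain ⟨s, hsb⟩ := Ideal.Quotient.mk_surjective (b : R ⧸ p)
  have hb0 : algebraMap (R ⧸ p) p.ResidueField (b : R ⧸ p) ≠ 0 := by
    intro h
    have := (IsFractionRing.injective (R ⧸ p) p.ResidueField) (h.trans (map_zero _).symm)
    exact nonZeroDivisors.coe_ne_zero b this
  have hs' : algebraMap R p.ResidueField s = algebraMap (R ⧸ p) p.ResidueField (b : R ⧸ p) := by
    rw [← hsb]; rfl
  have hs : IsUnit (algebraMap R p.ResidueField s) := by
    rw [hs']; exact IsUnit.mk0 _ hb0
  refine ⟨s, hs, ?_⟩
  rw [Polynomial.lifts_iff_coeff_lifts]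
  intro n
  by_cases hn : μ.coeff n = 0
  · rw [hn]; exact ⟨0, map_zero _⟩
  have hmem : μ.coeff n ∈ μ.support.image μ.coeff :=
    Finset.mem_image.2 ⟨n, Polynomial.mem_support_iff.2 hn, rfl⟩
  obtain ⟨a', ha'⟩ := hb _ hmem
  obtain ⟨a, rfl⟩ := Ideal.Quotient.mk_surjective a'
  refine ⟨IsLocalization.mk' (Localization.Away s) a ⟨s, Submonoid.mem_powers s⟩, ?_⟩
  rw [IsLocalization.Away.lift, IsLocalization.lift_mk'_spec]
  have e1 : algebraMap (R ⧸ p) p.ResidueField (Ideal.Quotient.mk p a) = algebraMap R p.ResidueField a := rfl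
  rw [e1, Algebra.smul_def] at ha'
  simp only [RingHom.coe_coe]
  rw [ha', hs']


set_option backward.isDefEq.respectTransparency false in
/-- **Residue field enlargement.** -/
theorem exists_etale_algHom_residueField {R A : Type u} [CommRing R] [CommRing A] [Algebra R A]
    [Algebra.QuasiFinite R A] (p : Ideal R) [p.IsPrime] (q : Ideal A) [q.IsPrime] [q.LiesOver p] :
    ∃ (R₁ : Type u) (_ : CommRing R₁) (_ : Algebra R R₁) (_ : Algebra.Etale R R₁)
      (φ : R₁ →ₐ[R] q.ResidueField),
      ∀ (Ω : Type u) [Field Ω] (a b : q.ResidueField →+* Ω),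
        a.comp φ.toRingHom = b.comp φ.toRingHom → a = b := by
  letI := Localization.AtPrime.algebraOfLiesOver p q
  have hfin : Module.Finite p.ResidueField q.ResidueField := inferInstance
  have htow : IsScalarTower R p.ResidueField q.ResidueField := inferInstance
  -- the separable closure and a primitive element
  obtain ⟨θ, hθ⟩ := Field.exists_primitive_element p.ResidueField
    (separableClosure p.ResidueField q.ResidueField)
  have hsep : (minpoly p.ResidueField θ).Separable :=
    Algebra.IsSeparable.isSeparable p.ResidueField θ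
  have hint : IsIntegral p.ResidueField θ := Algebra.IsIntegral.isIntegral θ
  obtain ⟨s, hs, hlift⟩ := exists_away_lifts p (minpoly p.ResidueField θ)
  obtain ⟨g, hg1, -, hg3⟩ := Polynomial.lifts_and_degree_eq_and_monic hlift (minpoly.monic hint)
  -- the standard etale algebra over `R_s`
  let P : StandardEtalePair (Localization.Away s) :=
    ⟨g, hg3, derivative g, ⟨1, 0, 1, by simp⟩⟩
  let ι : Localization.Away s →+* p.ResidueField := IsLocalization.Away.lift s hs
  letI algE : Algebra (Localization.Away s) q.ResidueField :=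
    ((algebraMap p.ResidueField q.ResidueField).comp ι).toAlgebra
  have htowE : IsScalarTower R (Localization.Away s) q.ResidueField :=
    IsScalarTower.of_algebraMap_eq (fun r => by
      show algebraMap R q.ResidueField r = algebraMap p.ResidueField q.ResidueField
        (ι (algebraMap R (Localization.Away s) r))
      rw [IsLocalization.Away.lift_eq, ← IsScalarTower.algebraMap_apply])
  let θE : q.ResidueField := (θ : q.ResidueField)
  have hmap : P.HasMap θE := by
    have e1 : ∀ f : (Localization.Away s)[X], aeval θE f =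
        aeval θE (f.map ι) := fun f => by
      rw [aeval_def, aeval_def, eval₂_map]; rfl
    constructor
    · show aeval θE g = 0
      rw [e1, hg1]
      have : aeval θE (minpoly p.ResidueField θ) = ((aeval θ (minpoly p.ResidueField θ) :
          separableClosure p.ResidueField q.ResidueField) : q.ResidueField) :=
        IntermediateField.aeval_coe _ θ _
      rw [this, minpoly.aeval, ZeroMemClass.coe_zero]
    · show IsUnit (aeval θE (derivative g))
      rw [e1, ← derivative_map, hg1]
      apply IsUnit.mk0
      have h0 : aeval θ (derivative (minpoly p.ResidueField θ)) ≠ 0 :=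
        hsep.aeval_derivative_ne_zero (minpoly.aeval _ _)
      intro h
      apply h0
      have : aeval θE (derivative (minpoly p.ResidueField θ)) =
          ((aeval θ (derivative (minpoly p.ResidueField θ)) :
          separableClosure p.ResidueField q.ResidueField) : q.ResidueField) :=
        IntermediateField.aeval_coe _ θ _
      rw [this] at h
      exact_mod_cast h
  letI algR : Algebra R P.Ring :=
    ((algebraMap (Localization.Away s) P.Ring).comp (algebraMap R (Localization.Away s))).toAlgebra
  have htowP : IsScalarTower R (Localization.Away s) P.Ring :=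
    IsScalarTower.of_algebraMap_eq (fun _ => rfl)
  have het0 : Algebra.Etale R (Localization.Away s) := Algebra.Etale.of_isLocalizationAway s
  have het : Algebra.Etale R P.Ring := Algebra.Etale.comp R (Localization.Away s) P.Ring
  let φ : P.Ring →ₐ[R] q.ResidueField := (P.lift θE hmap).restrictScalars R
  refine ⟨P.Ring, inferInstance, algR, het, φ, ?_⟩
  intro Ω _ a b hab
  have hθab : a θE = b θE := by
    have := congrArg (fun f => f P.X) hab
    simpa [φ] using this
  -- agreement on `κ(p)`
  have hF : a.comp (algebraMap p.ResidueField q.ResidueField) =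
      b.comp (algebraMap p.ResidueField q.ResidueField) := by
    apply Ideal.ResidueField.ringHom_ext
    ext r
    have := congrArg (fun f => f (algebraMap R P.Ring r)) hab
    simp only [RingHom.comp_apply] at this ⊢
    rw [← IsScalarTower.algebraMap_apply R p.ResidueField q.ResidueField]
    simpa [φ] using this
  letI algΩ : Algebra p.ResidueField Ω := (a.comp (algebraMap p.ResidueField q.ResidueField)).toAlgebra
  let a' : q.ResidueField →ₐ[p.ResidueField] Ω := { a with commutes' := fun _ => rfl }
  let b' : q.ResidueField →ₐ[p.ResidueField] Ω :=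
    { b with commutes' := fun r => (congrArg (fun f => f r) hF).symm }
  let K := separableClosure p.ResidueField q.ResidueField
  have hK : a'.comp K.val = b'.comp K.val := by
    apply AlgHom.ext_of_adjoin_eq_top (s := {θ})
    · have h1 := IntermediateField.adjoin_simple_toSubalgebra_of_isAlgebraic hint.isAlgebraic
      rw [hθ] at h1
      rw [← h1]; rfl
    · intro x hx
      rw [Set.mem_singleton_iff] at hx
      subst hx
      exact hθab
  apply IsPurelyInseparable.injective_comp_algebraMap K q.ResidueField Ω
  ext x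
  exact congrArg (fun f => f x) hK


/-- Every element of `κ(q)` is a fraction of images of elements of `A`. -/
theorem exists_num_den {A : Type u} [CommRing A] (q : Ideal A) [q.IsPrime] (z : q.ResidueField) :
    ∃ a b : A, b ∉ q ∧ z * algebraMap A q.ResidueField b = algebraMap A q.ResidueField a := by
  obtain ⟨y, rfl⟩ := IsLocalRing.residue_surjective z
  obtain ⟨⟨a, b⟩, rfl⟩ := IsLocalization.mk'_surjective q.primeCompl y
  refine ⟨a, b, b.2, ?_⟩
  have e1 : ∀ x : A, algebraMap A q.ResidueField x =
      IsLocalRing.residue _ (algebraMap A (Localization.AtPrime q) x) := fun _ => rfl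
  rw [e1, e1, ← map_mul, IsLocalization.mk'_spec]

/-- Two ring homomorphisms out of `R₁ ⊗ A` into a field with the same kernel as the canonical map to
`κ(q)` which agree on `R₁` are equal, when `κ(q)` is "purely inseparable over `R₁`". -/
theorem tensor_hom_unique {R A R₁ : Type u} [CommRing R] [CommRing A] [Algebra R A] [CommRing R₁]
    [Algebra R R₁] (q : Ideal A) [q.IsPrime] (φ : R₁ →ₐ[R] q.ResidueField)
    (hPI : ∀ (Ω : Type u) [Field Ω] (a b : q.ResidueField →+* Ω),
      a.comp φ.toRingHom = b.comp φ.toRingHom → a = b)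
    (Ω : Type u) [Field Ω] (α β : R₁ ⊗[R] A →+* Ω)
    (hα : RingHom.ker α = RingHom.ker (Algebra.TensorProduct.productMap φ
      (IsScalarTower.toAlgHom R A q.ResidueField)))
    (hβ : RingHom.ker β = RingHom.ker (Algebra.TensorProduct.productMap φ
      (IsScalarTower.toAlgHom R A q.ResidueField)))
    (hαβ : ∀ r : R₁, α (r ⊗ₜ 1) = β (r ⊗ₜ 1)) : α = β := by
  set Φ := Algebra.TensorProduct.productMap φ (IsScalarTower.toAlgHom R A q.ResidueField) with hΦ
  have hΦt : ∀ (r : R₁) (a : A), Φ (r ⊗ₜ a) = φ r * algebraMap A q.ResidueField a := fun r a => by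
    rw [hΦ, Algebra.TensorProduct.productMap_apply_tmul]; rfl
  -- generic construction for a hom with the right kernel
  have key : ∀ (γ : R₁ ⊗[R] A →+* Ω), RingHom.ker γ = RingHom.ker Φ →
      ∃ γ' : q.ResidueField →+* Ω, (∀ a : A, γ' (algebraMap A _ a) = γ (1 ⊗ₜ a)) ∧
        ∀ r : R₁, γ' (φ r) = γ (r ⊗ₜ 1) := by
    intro γ hγ
    have hmem : ∀ a : A, γ (1 ⊗ₜ a) = 0 ↔ a ∈ q := fun a => by
      rw [← RingHom.mem_ker, hγ, RingHom.mem_ker, hΦt, map_one, one_mul,
        Ideal.algebraMap_residueField_eq_zero]
    let γ₀ : A →+* Ω := γ.comp (Algebra.TensorProduct.includeRight : A →ₐ[R] R₁ ⊗[R] A).toRingHom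
    have hγ₀ : ∀ a, γ₀ a = γ (1 ⊗ₜ a) := fun _ => rfl
    have h1 : q ≤ RingHom.ker γ₀ := fun a ha => by
      rw [RingHom.mem_ker, hγ₀]; exact (hmem a).2 ha
    have h2 : q.primeCompl ≤ (IsUnit.submonoid Ω).comap γ₀ := fun a ha => by
      show IsUnit (γ₀ a)
      rw [hγ₀]
      exact IsUnit.mk0 _ (fun h => ha ((hmem a).1 h))
    refine ⟨Ideal.ResidueField.lift q γ₀ h1 h2, fun a => ?_, fun r => ?_⟩
    · rw [Ideal.ResidueField.lift_algebraMap]; rfl
    · obtain ⟨a, b, hb, hab⟩ := exists_num_den q (φ r)
      have hker : (r ⊗ₜ b - 1 ⊗ₜ a : R₁ ⊗[R] A) ∈ RingHom.ker γ := by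
        rw [hγ, RingHom.mem_ker, map_sub, hΦt, hΦt, map_one, one_mul, hab, sub_self]
      rw [RingHom.mem_ker, map_sub, sub_eq_zero] at hker
      have hb0 : γ (1 ⊗ₜ b) ≠ 0 := fun h => hb ((hmem b).1 h)
      have e1 : (r ⊗ₜ b : R₁ ⊗[R] A) = (r ⊗ₜ 1) * (1 ⊗ₜ b) := by
        rw [Algebra.TensorProduct.tmul_mul_tmul, mul_one, one_mul]
      rw [e1, map_mul] at hker
      have e2 : Ideal.ResidueField.lift q γ₀ h1 h2 (φ r) * γ (1 ⊗ₜ b) = γ (1 ⊗ₜ a) := by
        rw [← hγ₀ b, ← Ideal.ResidueField.lift_algebraMap q γ₀ h1 h2 b, ← map_mul, hab,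
          Ideal.ResidueField.lift_algebraMap]
        rfl
      exact mul_right_cancel₀ hb0 (e2.trans hker.symm)
  obtain ⟨α', hα1, hα2⟩ := key α hα
  obtain ⟨β', hβ1, hβ2⟩ := key β hβ
  have heq : α' = β' := by
    apply hPI
    ext r
    simp only [RingHom.comp_apply, AlgHom.toRingHom_eq_coe, RingHom.coe_coe]
    rw [hα2, hβ2, hαβ]
  apply RingHom.ext
  intro x
  induction x using TensorProduct.induction_on with
  | zero => simp
  | tmul r a =>
    have e1 : (r ⊗ₜ a : R₁ ⊗[R] A) = (r ⊗ₜ 1) * (1 ⊗ₜ a) := by
      rw [Algebra.TensorProduct.tmul_mul_tmul, mul_one, one_mul]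
    rw [e1, map_mul, map_mul, hαβ, ← hα1, ← hβ1, heq]
  | add x y hx hy => rw [map_add, map_add, hx, hy]

end Groth.Agent.Lib.Helper30.EtaleRes
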