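import Groth.Agent.Lib.Helper30.EtaleResidueSep

/-!
# Étale localisation of quasi-finite algebras with purely inseparable residue extension (helper30)
-/

set_option autoImplicit false
universe u
set_option maxHeartbeats 1600000

open Polynomial TensorProduct

namespace Groth.Agent.Lib.Helper30.EtaleRes

attribute [local instance] Algebra.TensorProduct.rightAlgebra in
theorem etale_includeRight {R A R₁ : Type u} [CommRing R] [CommRing A] [Algebra R A] [CommRing R₁]
    [Algebra R R₁] [Algebra.Etale R R₁] :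
    (Algebra.TensorProduct.includeRight : A →ₐ[R] R₁ ⊗[R] A).toRingHom.Etale := by
  have := RingHom.Etale.isStableUnderBaseChange R R₁ A (R₁ ⊗[R] A)
    (RingHom.etale_algebraMap.mpr inferInstance)
  exact this

set_option backward.isDefEq.respectTransparency false in
/-- **Étale localisation** (Stacks 02LK with purely inseparable residue field extension, in the form
of uniqueness of field-valued points). -/
theorem exists_etale_finite_unique {R A : Type u} [CommRing R] [CommRing A] [Algebra R A]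
    [Algebra.FiniteType R A] [Algebra.QuasiFinite R A] (p : Ideal R) [p.IsPrime] (q : Ideal A)
    [q.IsPrime] [q.LiesOver p] :
    ∃ (R₂ B : Type u) (_ : CommRing R₂) (_ : CommRing B) (ρ : R →+* R₂) (π : R₂ →+* B)
      (ι : A →+* B) (Q : Ideal B) (_ : Q.IsPrime),
      ρ.Etale ∧ π.Finite ∧ ι.Etale ∧ π.comp ρ = ι.comp (algebraMap R A) ∧ Q.comap ι = q ∧
      ∀ (Ω : Type u) [Field Ω] (α β : B →+* Ω), RingHom.ker α = Q → α.comp π = β.comp π →
        α = β := by
  obtain ⟨R₁, _, _, _, φ, hPI⟩ := exists_etale_algHom_residueField p q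
  set Φ := Algebra.TensorProduct.productMap φ (IsScalarTower.toAlgHom R A q.ResidueField) with hΦ
  have hΦt : ∀ (r : R₁) (a : A), Φ (r ⊗ₜ a) = φ r * algebraMap A q.ResidueField a := fun r a => by
    rw [hΦ, Algebra.TensorProduct.productMap_apply_tmul]; rfl
  let Q₁ : Ideal (R₁ ⊗[R] A) := RingHom.ker Φ
  have hQ₁ : Q₁.IsPrime := RingHom.ker_isPrime _
  let P₁ : Ideal R₁ := Q₁.under R₁
  have hP₁ : P₁.IsPrime := Ideal.IsPrime.under R₁ Q₁
  have hlo : Q₁.LiesOver P₁ := ⟨rfl⟩
  have hQ₁q : Q₁.comap (Algebra.TensorProduct.includeRight : A →ₐ[R] R₁ ⊗[R] A).toRingHom = q := by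
    ext a
    simp only [Ideal.mem_comap, AlgHom.toRingHom_eq_coe, RingHom.coe_coe,
      Algebra.TensorProduct.includeRight_apply]
    show Φ (1 ⊗ₜ a) = 0 ↔ _
    rw [hΦt, map_one, one_mul, Ideal.algebraMap_residueField_eq_zero]
  have hqf : Algebra.QuasiFiniteAt R₁ Q₁ := inferInstance
  obtain ⟨R₂, _, _, _, P₂, _, _, e, he, P', _, hP'lo, hP'Q₁, heP', -, hfin, huniq⟩ :=
    Algebra.exists_etale_isIdempotentElem_forall_liesOver_eq P₁ Q₁
  let B := Localization.Away e
  let S₂ := R₂ ⊗[R₁] (R₁ ⊗[R] A)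
  have hdisj : Disjoint (Submonoid.powers e : Set S₂) (P' : Set S₂) := by
    rw [Set.disjoint_left]
    rintro x ⟨n, rfl⟩ hx
    exact heP' (Ideal.IsPrime.mem_of_pow_mem inferInstance n hx)
  let Q : Ideal B := P'.map (algebraMap S₂ B)
  have hQ : Q.IsPrime := IsLocalization.isPrime_of_isPrime_disjoint (Submonoid.powers e) B P'
    inferInstance hdisj
  have hQc : Q.comap (algebraMap S₂ B) = P' :=
    IsLocalization.comap_map_of_isPrime_disjoint (Submonoid.powers e) B inferInstance hdisj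
  let incS₁ : (R₁ ⊗[R] A) →+* S₂ :=
    (Algebra.TensorProduct.includeRight : (R₁ ⊗[R] A) →ₐ[R₁] S₂).toRingHom
  let incA : A →+* R₁ ⊗[R] A := (Algebra.TensorProduct.includeRight : A →ₐ[R] R₁ ⊗[R] A).toRingHom
  let ρ : R →+* R₂ := (algebraMap R₁ R₂).comp (algebraMap R R₁)
  let π : R₂ →+* B := algebraMap R₂ B
  let ι : A →+* B := (algebraMap S₂ B).comp (incS₁.comp incA)
  have hρ : ρ.Etale := RingHom.Etale.stableUnderComposition _ _
    (RingHom.etale_algebraMap.mpr inferInstance) (RingHom.etale_algebraMap.mpr inferInstance)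
  have hπ : π.Finite := RingHom.finite_algebraMap.mpr hfin
  have hι : ι.Etale := by
    refine RingHom.Etale.stableUnderComposition _ _
      (RingHom.Etale.stableUnderComposition _ _ etale_includeRight etale_includeRight) ?_
    have : Algebra.Etale S₂ B := Algebra.Etale.of_isLocalizationAway e
    exact RingHom.etale_algebraMap.mpr this
  refine ⟨R₂, B, inferInstance, inferInstance, ρ, π, ι, Q, hQ, hρ, hπ, hι, ?_, ?_, ?_⟩
  · ext r
    have hcomm : ((algebraMap R₁ R₂ (algebraMap R R₁ r)) ⊗ₜ[R₁] (1 : R₁ ⊗[R] A) : S₂) =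
        (1 : R₂) ⊗ₜ[R₁] ((1 : R₁) ⊗ₜ[R] (algebraMap R A r)) := by
      have e1 : ((1 : R₁) ⊗ₜ[R] (algebraMap R A r) : R₁ ⊗[R] A) =
          (algebraMap R R₁ r) • (1 : R₁ ⊗[R] A) := by
        rw [Algebra.TensorProduct.one_def, TensorProduct.smul_tmul', smul_eq_mul, mul_one,
          Algebra.algebraMap_eq_smul_one (A := A), Algebra.algebraMap_eq_smul_one (A := R₁),
          TensorProduct.smul_tmul]
      rw [e1, ← TensorProduct.smul_tmul, Algebra.smul_def, mul_one]
    show algebraMap R₂ B (algebraMap R₁ R₂ (algebraMap R R₁ r)) =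
      algebraMap S₂ B ((1 : R₂) ⊗ₜ[R₁] ((1 : R₁) ⊗ₜ[R] (algebraMap R A r)))
    rw [IsScalarTower.algebraMap_apply R₂ S₂ B, Algebra.TensorProduct.algebraMap_apply,
      Algebra.algebraMap_self, RingHom.id_apply, hcomm]
  · show (Q.comap (algebraMap S₂ B)).comap (incS₁.comp incA) = q
      -- comap of comap
    rw [hQc, ← Ideal.comap_comap]
    show (P'.comap incS₁).comap incA = q
    rw [show P'.comap incS₁ = Q₁ from hP'Q₁]
    exact hQ₁q
  · intro Ω _ α β hα hαβ
    -- kernels
    have hkα : (RingHom.ker α).comap (algebraMap S₂ B) = P' := by rw [hα, hQc]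
    have hβprime : (RingHom.ker β).IsPrime := RingHom.ker_isPrime _
    have hkβ : (RingHom.ker β).comap (algebraMap S₂ B) = P' := by
      haveI : ((RingHom.ker β).comap (algebraMap S₂ B)).IsPrime := Ideal.IsPrime.comap _
      apply huniq _ inferInstance
      · constructor
        have e1 : P₂ = P'.under R₂ := hP'lo.over
        rw [e1, ← hkα]
        ext r
        simp only [Ideal.under, Ideal.mem_comap, RingHom.mem_ker]
        have h1 : α (algebraMap S₂ B (algebraMap R₂ S₂ r)) = (α.comp π) r := by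
          simp only [RingHom.comp_apply, π]; rw [← IsScalarTower.algebraMap_apply]
        have h2 : β (algebraMap S₂ B (algebraMap R₂ S₂ r)) = (β.comp π) r := by
          simp only [RingHom.comp_apply, π]; rw [← IsScalarTower.algebraMap_apply]
        rw [h1, h2, hαβ]
      · intro h
        rw [Ideal.mem_comap, RingHom.mem_ker] at h
        have hu : IsUnit (algebraMap S₂ B e) := IsLocalization.Away.algebraMap_isUnit e
        exact (hu.map β).ne_zero h
    -- restrict to `S₂`
    let α₂ : S₂ →+* Ω := α.comp (algebraMap S₂ B)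
    let β₂ : S₂ →+* Ω := β.comp (algebraMap S₂ B)
    have hα₂ : RingHom.ker α₂ = P' := by rw [← hkα]; rfl
    have hβ₂ : RingHom.ker β₂ = P' := by rw [← hkβ]; rfl
    have hR₂ : ∀ r : R₂, α₂ (r ⊗ₜ 1) = β₂ (r ⊗ₜ 1) := fun r => by
      have := congrArg (fun f => f r) hαβ
      simp only [RingHom.comp_apply, π] at this
      rw [IsScalarTower.algebraMap_apply R₂ S₂ B, Algebra.TensorProduct.algebraMap_apply] at this
      exact this
    -- restrict to `S₁`
    let α₁ : R₁ ⊗[R] A →+* Ω := α₂.comp incS₁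
    let β₁ : R₁ ⊗[R] A →+* Ω := β₂.comp incS₁
    have hα₁ : RingHom.ker α₁ = RingHom.ker Φ := by
      show (RingHom.ker α₂).comap incS₁ = Q₁
      rw [hα₂]; exact hP'Q₁
    have hβ₁ : RingHom.ker β₁ = RingHom.ker Φ := by
      show (RingHom.ker β₂).comap incS₁ = Q₁
      rw [hβ₂]; exact hP'Q₁
    have hR₁ : ∀ r : R₁, α₁ (r ⊗ₜ 1) = β₁ (r ⊗ₜ 1) := fun r => by
      have e1 : incS₁ (r ⊗ₜ 1) = (algebraMap R₁ R₂ r) ⊗ₜ (1 : R₁ ⊗[R] A) := by
        show (1 : R₂) ⊗ₜ[R₁] (r ⊗ₜ[R] (1 : A)) = _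
        rw [show (r ⊗ₜ[R] (1 : A) : R₁ ⊗[R] A) = r • (1 : R₁ ⊗[R] A) from by
          rw [Algebra.TensorProduct.one_def, TensorProduct.smul_tmul', smul_eq_mul, mul_one],
          ← TensorProduct.smul_tmul, Algebra.smul_def, mul_one]
      show α₂ (incS₁ (r ⊗ₜ 1)) = β₂ (incS₁ (r ⊗ₜ 1))
      rw [e1, hR₂]
    have h₁ : α₁ = β₁ := tensor_hom_unique q φ hPI Ω α₁ β₁ hα₁ hβ₁ hR₁
    have h₂ : α₂ = β₂ := by
      apply RingHom.ext
      intro x
      induction x using TensorProduct.induction_on with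
      | zero => simp
      | tmul r a =>
        have e1 : (r ⊗ₜ a : S₂) = (r ⊗ₜ 1) * (1 ⊗ₜ a) := by
          rw [Algebra.TensorProduct.tmul_mul_tmul, mul_one, one_mul]
        have e2 : α₂ (1 ⊗ₜ a) = β₂ (1 ⊗ₜ a) := congrArg (fun f => f a) h₁
        rw [e1, map_mul, map_mul, hR₂, e2]
      | add x y hx hy => rw [map_add, map_add, hx, hy]
    exact IsLocalization.ringHom_ext (Submonoid.powers e) h₂

end Groth.Agent.Lib.Helper30.EtaleRes
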