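import Mathlib

/-!
# Étale-local splitting of quasi-finite points, with control of the fibre (helper30)
-/

set_option autoImplicit false
set_option maxHeartbeats 1600000
universe u
open CategoryTheory CategoryTheory.Limits AlgebraicGeometry Opposite TopologicalSpace Topology

namespace Groth.Agent.Lib.Helper30.EtSplit

set_option backward.defeqAttrib.useBackward true in
set_option backward.isDefEq.respectTransparency false in
open TensorProduct in
/-- Strong form of `exists_etale_isCompl_of_quasiFiniteAt`: the fibre of the finite part over the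
marked point consists exactly of the points over `x`. -/
theorem exists_etale_isCompl_of_quasiFiniteAt' {X S : Scheme.{u}} (f : X ⟶ S)
    [LocallyOfFiniteType f] [IsSeparated f] {x : X} (hx : f.QuasiFiniteAt x) :
    ∃ (U : Scheme.{u}) (g : U ⟶ S) (u : U), Etale g ∧ g u = f x ∧
    ∃ (V W : (pullback f g).Opens), IsCompl V W ∧ IsFinite (V.ι ≫ pullback.snd f g) ∧
      ∀ z : ↥(pullback f g), pullback.snd f g z = u → (z ∈ V ↔ pullback.fst f g z = x) := by
  obtain ⟨_, ⟨U, hU, rfl⟩, hxU, -⟩ := S.isBasis_affineOpens.exists_subset_of_mem_open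
    (Set.mem_univ (f x)) isOpen_univ
  obtain ⟨_, ⟨V, hV, rfl⟩, hxV, hUV : V ≤ f ⁻¹ᵁ U⟩ :=
    X.isBasis_affineOpens.exists_subset_of_mem_open hxU (f ⁻¹ᵁ U).2
  have : (f.appLE U V hUV).hom.FiniteType := f.finiteType_appLE hU hV hUV
  algebraize [(f.appLE U V hUV).hom]
  have : (hV.primeIdealOf ⟨x, hxV⟩).asIdeal.LiesOver (hU.primeIdealOf ⟨f x, hxU⟩).asIdeal := by
    suffices hU.primeIdealOf ⟨f x, hxU⟩ = Spec.map (f.appLE U V hUV) (hV.primeIdealOf ⟨x, hxV⟩) from
      ⟨congr(($this).1)⟩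
    apply hU.isoSpec.inv.homeomorph.injective
    apply Subtype.ext
    simp only [IsAffineOpen.primeIdealOf, Scheme.Hom.homeomorph_apply,
      ← Scheme.Hom.comp_apply, ← Scheme.Opens.ι_apply, IsAffineOpen.isoSpec_hom]
    simp
  have : Algebra.QuasiFiniteAt Γ(S, U) (hV.primeIdealOf ⟨x, hxV⟩).asIdeal :=
    hx.quasiFiniteAt hV hU hUV hxV
  obtain ⟨R, _, _, _, P, _, _, e, _, P', _, _, hP', heP', hbij, _, huniq⟩ :=
    Algebra.exists_etale_isIdempotentElem_forall_liesOver_eq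
    (hU.primeIdealOf ⟨f x, hxU⟩).asIdeal (hV.primeIdealOf ⟨x, hxV⟩).asIdeal
  have : (algebraMap R (Localization.Away e)).Finite := RingHom.finite_algebraMap.mpr ‹_›
  let φ : Γ(S, U) ⟶ .of R := CommRingCat.ofHom <| algebraMap Γ(S, U) R
  have hφ : φ.hom.Etale := RingHom.etale_algebraMap.mpr ‹_›
  have : Etale (Spec.map φ) := HasRingHomProperty.Spec_iff.mpr hφ
  let e₁ : Spec (.of (R ⊗ Γ(X, V))) ≅ pullback (Spec.map (f.appLE U V hUV)) (Spec.map φ) :=
    (pullbackSpecIso _ _ _).symm ≪≫ pullbackSymmetry _ _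
  have he₁ : e₁.hom ≫ pullback.fst _ _ =
      Spec.map (CommRingCat.ofHom Algebra.TensorProduct.includeRight.toRingHom) := by
    dsimp [e₁, RingHom.algebraMap_toAlgebra]
    rw [Category.assoc, pullbackSymmetry_hom_comp_fst]
    exact pullbackSpecIso_inv_snd ..
  have he₂ : e₁.hom ≫ pullback.snd _ _ =
      Spec.map (CommRingCat.ofHom (algebraMap R (R ⊗[Γ(S, U)] Γ(X, V)))) := by
    dsimp [e₁, RingHom.algebraMap_toAlgebra]
    rw [Category.assoc, pullbackSymmetry_hom_comp_snd]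
    exact pullbackSpecIso_inv_fst ..
  have hU' : IsAffineOpen U := hU
  have hV' : IsAffineOpen V := hV
  let g₀ : pullback (Spec.map (f.appLE U V hUV)) (Spec.map φ) ⟶
      pullback f (Spec.map φ ≫ hU.fromSpec) :=
    pullback.map _ _ _ _ hV.fromSpec (𝟙 _) hU.fromSpec
      (IsAffineOpen.SpecMap_appLE_fromSpec ..) (by simp)
  let g : Spec (.of (R ⊗[Γ(S, U)] Γ(X, V))) ⟶ pullback f (Spec.map φ ≫ hU.fromSpec) :=
    e₁.hom ≫ g₀
  have hg_fst : g ≫ pullback.fst f _ =
      Spec.map (CommRingCat.ofHom Algebra.TensorProduct.includeRight.toRingHom) ≫ hV.fromSpec := by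
    dsimp only [g, g₀]
    rw [Category.assoc, pullback.lift_fst, ← Category.assoc, he₁]
  have hg_snd : g ≫ pullback.snd f _ =
      Spec.map (CommRingCat.ofHom (algebraMap R (R ⊗[Γ(S, U)] Γ(X, V)))) := by
    dsimp only [g, g₀]
    rw [Category.assoc, pullback.lift_snd, Category.comp_id, he₂]
  have hg_range : Set.range g = pullback.fst f (Spec.map φ ≫ hU.fromSpec) ⁻¹' (V : Set X) := by
    have h1 : Set.range g = Set.range g₀ := by
      change Set.range (e₁.hom ≫ g₀) = _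
      rw [Scheme.Hom.comp_base, TopCat.coe_comp, Set.range_comp,
        Set.range_eq_univ.mpr e₁.hom.surjective, Set.image_univ]
    rw [h1]
    dsimp only [g₀]
    rw [Scheme.Pullback.range_map]
    simp [hV'.range_fromSpec]
  haveI hgoi : IsOpenImmersion g := by dsimp only [g, g₀]; infer_instance
  clear_value g
  clear g₀
  let W₁ := g ''ᵁ PrimeSpectrum.basicOpen e
  have : IsFinite (W₁.ι ≫ pullback.snd f _) := by
    let ι : Spec (.of (Localization.Away e)) ⟶ pullback f (Spec.map φ ≫ hU.fromSpec) :=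
      Spec.map (CommRingCat.ofHom <| algebraMap _ _) ≫ g
    have : ι.opensRange = W₁ := by
      simp only [Scheme.Hom.opensRange_comp, ι, W₁]
      congr 1
      exact TopologicalSpace.Opens.ext <| PrimeSpectrum.localization_away_comap_range _ _
    rw [← this, ← MorphismProperty.cancel_left_of_respectsIso @IsFinite
      (Scheme.Hom.isoOpensRange _).hom, ← Category.assoc, Scheme.Hom.isoOpensRange_hom_ι]
    have hι : ι ≫ pullback.snd f _ =
        Spec.map (CommRingCat.ofHom (algebraMap R (Localization.Away e))) := by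
      dsimp only [ι]
      rw [Category.assoc, hg_snd, ← Spec.map_comp]
      congr 1
    rw [hι, IsFinite.SpecMap_iff]
    exact ‹(algebraMap R (Localization.Away e)).Finite›
  have : IsFinite W₁.ι := .of_comp _ (pullback.snd f _)
  let W₂ : (pullback f (Spec.map φ ≫ hU.fromSpec)).Opens :=
    ⟨W₁ᶜ, by simpa using W₁.ι.isClosedMap.isClosed_range⟩
  -- points of `Spec (R ⊗ Γ)` over `P`
  have hover : ∀ P'' : Spec (.of (R ⊗[Γ(S, U)] Γ(X, V))),
      pullback.snd f (Spec.map φ ≫ hU.fromSpec) (g P'') = ⟨P, ‹_›⟩ → P''.asIdeal.LiesOver P := by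
    intro P'' h
    rw [← Scheme.Hom.comp_apply, hg_snd] at h
    exact ⟨congr(($h).1).symm⟩
  have hfstP' : pullback.fst f (Spec.map φ ≫ hU.fromSpec) (g ⟨P', ‹_›⟩) = x := by
    rw [← Scheme.Hom.comp_apply, hg_fst, Scheme.Hom.comp_apply]
    trans hV.fromSpec ⟨P'.comap Algebra.TensorProduct.includeRight.toRingHom, inferInstance⟩
    · rfl
    convert! hV.fromSpec_primeIdealOf ⟨x, hxV⟩
  refine ⟨Spec (.of R), Spec.map φ ≫ hU.fromSpec, ⟨P, ‹_›⟩, inferInstance, ?_, W₁, W₂, ?_, ‹_›, ?_⟩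
  · dsimp [Spec.map_apply]
    convert! hU.fromSpec_primeIdealOf ⟨f x, hxU⟩
    exact PrimeSpectrum.ext (Ideal.over_def _ _).symm
  · simp [isCompl_iff, disjoint_iff, codisjoint_iff, W₂, SetLike.ext'_iff]
  · intro z hz
    constructor
    · rintro ⟨P'', hP''e, rfl⟩
      haveI := hover P'' hz
      have hP''e' : e ∉ P''.asIdeal := hP''e
      have := huniq P''.asIdeal inferInstance inferInstance hP''e'
      have hPP : P'' = ⟨P', ‹_›⟩ := PrimeSpectrum.ext this
      rw [hPP]; exact hfstP'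
    · intro hzx
      have hzV : z ∈ Set.range g := by
        rw [hg_range]; change pullback.fst f _ z ∈ V; rw [hzx]; exact hxV
      obtain ⟨P'', rfl⟩ := hzV
      haveI := hover P'' hz
      have hq : P''.asIdeal.comap Algebra.TensorProduct.includeRight.toRingHom =
          (hV.primeIdealOf ⟨x, hxV⟩).asIdeal := by
        rw [← Scheme.Hom.comp_apply, hg_fst, Scheme.Hom.comp_apply] at hzx
        have h2 : hV.fromSpec (hV.primeIdealOf ⟨x, hxV⟩) = x := hV.fromSpec_primeIdealOf ⟨x, hxV⟩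
        have h3 := hV'.fromSpec.isOpenEmbedding.injective (hzx.trans h2.symm)
        exact congr(($h3).1)
      have hPP : P''.asIdeal = P' :=
        Ideal.eq_of_comap_eq_comap_of_bijective_residueFieldMap hbij P''.asIdeal P'
          (hq.trans hP'.symm)
      refine ⟨P'', ?_, rfl⟩
      change e ∉ P''.asIdeal
      rw [hPP]; exact heP'

theorem isCompl_iff_coe_eq_compl {α : Type*} [TopologicalSpace α] {V W : Opens α} :
    IsCompl V W ↔ (W : Set α) = (V : Set α)ᶜ := by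
  constructor
  · intro h
    exact eq_compl_iff_isCompl.mpr (h.map TopologicalSpace.Opens.frameHom).symm
  · intro h
    simp [isCompl_iff, disjoint_iff, codisjoint_iff, SetLike.ext'_iff, h]

theorem isCompl_preimage {P Q : Scheme.{u}} (φ : P ⟶ Q) {V W : Q.Opens} (h : IsCompl V W) :
    IsCompl (φ ⁻¹ᵁ V) (φ ⁻¹ᵁ W) := by
  rw [isCompl_iff_coe_eq_compl] at h ⊢
  ext z
  change φ z ∈ (W : Set Q) ↔ φ z ∉ (V : Set Q)
  rw [h]; rfl

/-- `exists_etale_isCompl_of_quasiFiniteAt'` for arbitrary pullback squares. -/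
theorem exists_etale_split_point {X S : Scheme.{u}} (f : X ⟶ S) [LocallyOfFiniteType f]
    [IsSeparated f] {x : X} (hx : f.QuasiFiniteAt x) :
    ∃ (U : Scheme.{u}) (g : U ⟶ S) (u : U), Etale g ∧ g u = f x ∧
      ∀ (P : Scheme.{u}) (fst : P ⟶ X) (snd : P ⟶ U), IsPullback fst snd f g →
        ∃ V W : P.Opens, IsCompl V W ∧ IsFinite (V.ι ≫ snd) ∧
          ∀ z : P, snd z = u → (z ∈ V ↔ fst z = x) := by
  obtain ⟨U, g, u, hg, hgu, V₀, W₀, hVW, hfin, hfib⟩ := exists_etale_isCompl_of_quasiFiniteAt' f hx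
  refine ⟨U, g, u, hg, hgu, fun P fst snd sq => ?_⟩
  refine ⟨sq.isoPullback.hom ⁻¹ᵁ V₀, sq.isoPullback.hom ⁻¹ᵁ W₀, isCompl_preimage _ hVW, ?_, ?_⟩
  · have h1 : (sq.isoPullback.hom ⁻¹ᵁ V₀).ι ≫ snd =
        (sq.isoPullback.hom ∣_ V₀) ≫ V₀.ι ≫ pullback.snd f g := by
      rw [← Category.assoc, morphismRestrict_ι, Category.assoc, sq.isoPullback_hom_snd]
    rw [h1]
    infer_instance
  · intro z hz
    have h1 : pullback.snd f g (sq.isoPullback.hom z) = u := by
      rw [← Scheme.Hom.comp_apply, sq.isoPullback_hom_snd]; exact hz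
    have h2 : pullback.fst f g (sq.isoPullback.hom z) = fst z := by
      rw [← Scheme.Hom.comp_apply, sq.isoPullback_hom_fst]
    change sq.isoPullback.hom z ∈ V₀ ↔ _
    rw [hfib _ h1, h2]

theorem isFinite_comp_of_opensRange_eq {Z P U : Scheme.{u}} (j : Z ⟶ P) [IsOpenImmersion j]
    (h : P ⟶ U) (A : P.Opens) (hj : j.opensRange = A) [hA : IsFinite (A.ι ≫ h)] :
    IsFinite (j ≫ h) := by
  subst hj
  rw [← j.isoOpensRange_hom_ι, Category.assoc]
  infer_instance

theorem isFinite_of_isCompl {T U : Scheme.{u}} (h : T ⟶ U) (A B : T.Opens) (hAB : IsCompl A B)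
    [hA : IsFinite (A.ι ≫ h)] [hB : IsFinite (B.ι ≫ h)] : IsFinite h := by
  obtain ⟨H⟩ := nonempty_isColimit_binaryCofanMk_of_isCompl A.ι B.ι (by simpa using hAB)
  let e : (A : Scheme.{u}) ⨿ (B : Scheme.{u}) ≅ T :=
    (colimit.isColimit _).coconePointUniqueUpToIso H
  have he : e.hom ≫ h = coprod.desc (A.ι ≫ h) (B.ι ≫ h) := by
    apply coprod.hom_ext
    · rw [coprod.inl_desc, ← Category.assoc]
      congr 1
      exact (colimit.isColimit _).comp_coconePointUniqueUpToIso_hom H ⟨WalkingPair.left⟩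
    · rw [coprod.inr_desc, ← Category.assoc]
      congr 1
      exact (colimit.isColimit _).comp_coconePointUniqueUpToIso_hom H ⟨WalkingPair.right⟩
  have : IsFinite (e.hom ≫ h) := he ▸ inferInstance
  exact (MorphismProperty.cancel_left_of_respectsIso @IsFinite e.hom h).1 this

/-- a union of two opens finite over the base, the first of which is also closed, is finite
over the base. -/
theorem isFinite_sup {P U : Scheme.{u}} (h : P ⟶ U) (A B C : P.Opens) (hAC : IsCompl A C)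
    [IsFinite (A.ι ≫ h)] [IsFinite (B.ι ≫ h)] : IsFinite ((A ⊔ B).ι ≫ h) := by
  have hC : (C : Set P) = (A : Set P)ᶜ := isCompl_iff_coe_eq_compl.1 hAC
  -- the part of `B` outside `A`
  haveI hBC : IsFinite ((B ⊓ C).ι ≫ h) := by
    have hle : B ⊓ C ≤ B := inf_le_left
    have h1 : (B ⊓ C).ι = P.homOfLE hle ≫ B.ι := (Scheme.homOfLE_ι P hle).symm
    haveI : IsClosedImmersion (P.homOfLE hle) := by
      refine .of_isPreimmersion _ ?_
      have : Set.range (P.homOfLE hle) = B.ι ⁻¹' ((A : Set P)ᶜ) := by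
        ext b
        constructor
        · rintro ⟨c, rfl⟩
          have hc : (B ⊓ C).ι c ∈ (C : Set P) := c.2.2
          rw [hC] at hc
          have : B.ι (P.homOfLE hle c) = (B ⊓ C).ι c := by
            rw [← Scheme.Hom.comp_apply, Scheme.homOfLE_ι]
          change B.ι (P.homOfLE hle c) ∈ (A : Set P)ᶜ
          rw [this]; exact hc
        · intro hb
          have hbC : B.ι b ∈ (C : Set P) := by rw [hC]; exact hb
          refine ⟨⟨B.ι b, ⟨b.2, hbC⟩⟩, ?_⟩
          apply B.ι.isOpenEmbedding.injective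
          rw [← Scheme.Hom.comp_apply, Scheme.homOfLE_ι]
          rfl
      rw [this]
      exact (A.isOpen.isClosed_compl).preimage B.ι.continuous
    rw [h1, Category.assoc]
    infer_instance
  refine isFinite_of_isCompl _ ((A ⊔ B).ι ⁻¹ᵁ A) ((A ⊔ B).ι ⁻¹ᵁ (B ⊓ C)) ?_
    (hA := ?_) (hB := ?_)
  · rw [isCompl_iff_coe_eq_compl]
    ext z
    change (A ⊔ B).ι z ∈ (B ⊓ C : P.Opens) ↔ (A ⊔ B).ι z ∉ A
    have hz : (A ⊔ B).ι z ∈ (A ⊔ B : P.Opens) := z.2
    constructor
    · rintro ⟨-, h2⟩ h3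
      have : (A ⊔ B).ι z ∈ (C : Set P) := h2
      rw [hC] at this
      exact this h3
    · intro h3
      refine ⟨?_, ?_⟩
      · rcases hz with h4 | h4
        · exact absurd h4 h3
        · exact h4
      · change (A ⊔ B).ι z ∈ (C : Set P)
        rw [hC]; exact h3
  · rw [← Category.assoc]
    refine isFinite_comp_of_opensRange_eq _ h A ?_
    rw [Scheme.Hom.opensRange_comp, Scheme.Opens.opensRange_ι]
    ext z
    simp only [Scheme.Hom.image_preimage_eq_opensRange_inf, Scheme.Opens.opensRange_ι]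
    constructor
    · rintro ⟨-, h2⟩; exact h2
    · intro h2; exact ⟨Or.inl h2, h2⟩
  · rw [← Category.assoc]
    refine isFinite_comp_of_opensRange_eq _ h (B ⊓ C) ?_
    rw [Scheme.Hom.opensRange_comp, Scheme.Opens.opensRange_ι]
    ext z
    simp only [Scheme.Hom.image_preimage_eq_opensRange_inf, Scheme.Opens.opensRange_ι]
    constructor
    · rintro ⟨-, h2⟩; exact h2
    · intro h2; exact ⟨Or.inr h2.1, h2⟩

/-- base change of the finite part along a pullback square. -/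
theorem isFinite_preimage_of_isPullback {P P' U U' : Scheme.{u}} {l : P ⟶ P'} {snd : P ⟶ U}
    {snd' : P' ⟶ U'} {pr : U ⟶ U'} (sq : IsPullback l snd snd' pr) (V' : P'.Opens)
    [hV' : IsFinite (V'.ι ≫ snd')] : IsFinite ((l ⁻¹ᵁ V').ι ≫ snd) := by
  have sq2 : IsPullback (l ∣_ V') ((l ⁻¹ᵁ V').ι ≫ snd) (V'.ι ≫ snd') pr :=
    (isPullback_morphismRestrict l V').paste_vert sq
  exact MorphismProperty.of_isPullback (P := @IsFinite) sq2 hV'

/-- Étale-local splitting of a finite set of quasi-finite points of a fibre. -/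
theorem exists_etale_split_finset {X S : Scheme.{u}} (f : X ⟶ S) [LocallyOfFiniteType f]
    [IsSeparated f] (s : S) (xs : Finset X) (hxs : ∀ x ∈ xs, f x = s)
    (hq : ∀ x ∈ xs, f.QuasiFiniteAt x) :
    ∃ (U : Scheme.{u}) (g : U ⟶ S) (u : U), Etale g ∧ g u = s ∧
      ∀ (P : Scheme.{u}) (fst : P ⟶ X) (snd : P ⟶ U), IsPullback fst snd f g →
        ∃ V W : P.Opens, IsCompl V W ∧ IsFinite (V.ι ≫ snd) ∧
          ∀ z : P, snd z = u → (z ∈ V ↔ fst z ∈ xs) := by
  classical
  induction xs using Finset.induction_on with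
  | empty =>
    refine ⟨S, 𝟙 S, s, inferInstance, rfl, fun P fst snd _ => ⟨⊥, ⊤, isCompl_bot_top, ?_, ?_⟩⟩
    · haveI : IsEmpty ↥((⊥ : P.Opens) : Scheme.{u}) := ⟨fun z => z.2⟩
      infer_instance
    · intro z _
      simp
  | insert x₁ xs' hx₁ ih =>
    obtain ⟨U', g', u', hg', hgu', H'⟩ := ih (fun x hx => hxs x (Finset.mem_insert_of_mem hx))
      (fun x hx => hq x (Finset.mem_insert_of_mem hx))
    obtain ⟨U₁, g₁, u₁, hg₁, hgu₁, H₁⟩ :=
      exists_etale_split_point f (hq x₁ (Finset.mem_insert_self _ _))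
    have hs₁ : f x₁ = s := hxs x₁ (Finset.mem_insert_self _ _)
    obtain ⟨u, hu1, hu2⟩ := Scheme.Pullback.exists_preimage_pullback (f := g') (g := g₁) u' u₁
      (by rw [hgu', hgu₁, hs₁])
    refine ⟨pullback g' g₁, pullback.fst g' g₁ ≫ g', u, inferInstance, ?_, ?_⟩
    · rw [Scheme.Hom.comp_apply, hu1, hgu']
    intro P fst snd sq
    -- the two projections
    have sq' := IsPullback.of_hasPullback f g'
    have sq₁ := IsPullback.of_hasPullback f g₁
    have hw' : fst ≫ f = (snd ≫ pullback.fst g' g₁) ≫ g' := by rw [sq.w, Category.assoc]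
    have hw₁ : fst ≫ f = (snd ≫ pullback.snd g' g₁) ≫ g₁ := by
      rw [sq.w, Category.assoc, pullback.condition]
    obtain ⟨l', hl'1, hl'2⟩ : ∃ l' : P ⟶ pullback f g', l' ≫ pullback.fst f g' = fst ∧
        l' ≫ pullback.snd f g' = snd ≫ pullback.fst g' g₁ :=
      ⟨sq'.lift _ _ hw', sq'.lift_fst _ _ _, sq'.lift_snd _ _ _⟩
    obtain ⟨l₁, hl₁1, hl₁2⟩ : ∃ l₁ : P ⟶ pullback f g₁, l₁ ≫ pullback.fst f g₁ = fst ∧
        l₁ ≫ pullback.snd f g₁ = snd ≫ pullback.snd g' g₁ :=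
      ⟨sq₁.lift _ _ hw₁, sq₁.lift_fst _ _ _, sq₁.lift_snd _ _ _⟩
    have sqL' : IsPullback l' snd (pullback.snd f g') (pullback.fst g' g₁) := by
      refine IsPullback.of_right ?_ hl'2 sq'
      rw [hl'1]; exact sq
    have sqL₁ : IsPullback l₁ snd (pullback.snd f g₁) (pullback.snd g' g₁) := by
      refine IsPullback.of_right ?_ hl₁2 sq₁
      rw [hl₁1, ← pullback.condition]; exact sq
    obtain ⟨V', W', hVW', hfin', hfib'⟩ := H' _ _ _ sq'
    obtain ⟨V₁, W₁, hVW₁, hfin₁, hfib₁⟩ := H₁ _ _ _ sq₁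
    haveI hA : IsFinite ((l' ⁻¹ᵁ V').ι ≫ snd) := isFinite_preimage_of_isPullback sqL' V'
    haveI hB : IsFinite ((l₁ ⁻¹ᵁ V₁).ι ≫ snd) := isFinite_preimage_of_isPullback sqL₁ V₁
    have hAC : IsCompl (l' ⁻¹ᵁ V') (l' ⁻¹ᵁ W') := isCompl_preimage l' hVW'
    have hBD : IsCompl (l₁ ⁻¹ᵁ V₁) (l₁ ⁻¹ᵁ W₁) := isCompl_preimage l₁ hVW₁
    refine ⟨l' ⁻¹ᵁ V' ⊔ l₁ ⁻¹ᵁ V₁, l' ⁻¹ᵁ W' ⊓ l₁ ⁻¹ᵁ W₁, ?_,
      isFinite_sup snd _ _ _ hAC, ?_⟩
    · rw [isCompl_iff_coe_eq_compl] at hAC hBD ⊢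
      change ((l' ⁻¹ᵁ W' : P.Opens) : Set P) ∩ ((l₁ ⁻¹ᵁ W₁ : P.Opens) : Set P) =
        (((l' ⁻¹ᵁ V' : P.Opens) : Set P) ∪ ((l₁ ⁻¹ᵁ V₁ : P.Opens) : Set P))ᶜ
      rw [hAC, hBD, Set.compl_union]
    · intro z hz
      have h1 : pullback.snd f g' (l' z) = u' := by
        rw [← Scheme.Hom.comp_apply, hl'2, Scheme.Hom.comp_apply, hz, hu1]
      have h2 : pullback.snd f g₁ (l₁ z) = u₁ := by
        rw [← Scheme.Hom.comp_apply, hl₁2, Scheme.Hom.comp_apply, hz, hu2]
      have h3 : pullback.fst f g' (l' z) = fst z := by rw [← Scheme.Hom.comp_apply, hl'1]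
      have h4 : pullback.fst f g₁ (l₁ z) = fst z := by rw [← Scheme.Hom.comp_apply, hl₁1]
      change (l' z ∈ V' ∨ l₁ z ∈ V₁) ↔ _
      rw [hfib' _ h1, hfib₁ _ h2, h3, h4, Finset.mem_insert]
      exact or_comm

end Groth.Agent.Lib.Helper30.EtSplit
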