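import Mathlib.AlgebraicGeometry.Artinian
import Mathlib.AlgebraicGeometry.Morphisms.QuasiFinite
import Mathlib.AlgebraicGeometry.Morphisms.UniversallyOpen
import Mathlib.AlgebraicGeometry.Morphisms.Flat

/-!
# Schemes without non-trivial specialisations (helper30)

* `exists_maximal_generization`: every point of a quasi-sober T0 space has a maximal generization.
* `eq_of_specializes_of_equiv_rel`: if `s t : R ⟶ A` with `s` flat and `t` locally quasi-finite, and
  every pair `η ⤳ w'` of points of `A` is related through `R`, then `A` has no non-trivial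
  specialisations.
* `discreteTopology_of_forall_specializes_eq`: a locally Noetherian scheme without non-trivial
  specialisations is discrete.
-/

set_option autoImplicit false
universe u
open CategoryTheory CategoryTheory.Limits AlgebraicGeometry TopologicalSpace Topology

namespace Groth.Agent.Lib.Helper30.SpecDisc

/-- every point of a quasi-sober T0 space has a maximal generization. -/
theorem exists_maximal_generization {X : Type*} [TopologicalSpace X] [QuasiSober X] [T0Space X]
    (x : X) : ∃ η : X, η ⤳ x ∧ ∀ ξ : X, ξ ⤳ η → ξ = η := by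
  obtain ⟨η, hη⟩ := QuasiSober.sober (isIrreducible_irreducibleComponent (x := x))
    isClosed_irreducibleComponent
  have hx : x ∈ closure {η} := by
    rw [hη.def]; exact mem_irreducibleComponent
  refine ⟨η, specializes_iff_mem_closure.2 hx, fun ξ hξ => ?_⟩
  have h1 : closure {η} ⊆ closure {ξ} := hξ.closure_subset
  have h2 : IsIrreducible (closure ({ξ} : Set X)) := isIrreducible_singleton.closure
  have h3 : closure ({ξ} : Set X) ⊆ irreducibleComponent x := by
    have hmax := irreducibleComponent_mem_irreducibleComponents x
    refine hmax.2 h2 ?_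
    rw [← hη.def]; exact h1
  have h4 : ξ ∈ closure ({η} : Set X) := by
    rw [hη.def]; exact h3 (subset_closure rfl)
  exact ((specializes_iff_mem_closure.2 h4).antisymm hξ).eq.symm

/-- the key topological argument. -/
theorem eq_of_specializes_of_rel {A R : Scheme.{u}} (s t : R ⟶ A) [Flat s]
    [LocallyQuasiFinite t]
    (H : ∀ η w' : A, η ⤳ w' → ∃ r : R, s r = w' ∧ t r = η) :
    ∀ w w' : A, w ⤳ w' → w = w' := by
  intro w w' hww'
  obtain ⟨η, hη, hmax⟩ := exists_maximal_generization w'
  obtain ⟨r, hr1, hr2⟩ := H η w' hη
  have hgen : GeneralizingMap s := Flat.generalizingMap s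
  obtain ⟨r₁, hr₁, hr₁s⟩ := hgen (hr1 ▸ hww' : w ⤳ s r)
  have h1 : t r₁ ⤳ t r := hr₁.map t.continuous
  have h2 : t r₁ = η := hmax _ (hr2 ▸ h1)
  have hdisc := t.isDiscrete_preimage_singleton η
  have h3 : r₁ = r := hdisc.eq_of_specializes hr₁ h2 hr2
  rw [← hr₁s, h3, hr1]

/-- a locally Noetherian scheme without non-trivial specialisations is discrete. -/
theorem discreteTopology_of_forall_specializes_eq (X : Scheme.{u}) [IsLocallyNoetherian X]
    (H : ∀ w w' : X, w ⤳ w' → w = w') : DiscreteTopology X := by
  have : IsLocallyArtinian X := by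
    refine IsLocallyArtinian.of_topologicalKrullDim_le_zero ?_
    unfold topologicalKrullDim
    rw [Order.krullDim_nonpos_iff_forall_isMax]
    intro Z Z' hZZ'
    obtain ⟨η, hη⟩ := QuasiSober.sober Z.isIrreducible Z.isClosed
    obtain ⟨η', hη'⟩ := QuasiSober.sober Z'.isIrreducible Z'.isClosed
    have h1 : η ∈ closure ({η'} : Set X) := by
      rw [hη'.def]
      have : η ∈ (Z : Set X) := by rw [← hη.def]; exact subset_closure rfl
      exact hZZ' this
    have h2 : η' = η := H _ _ (specializes_iff_mem_closure.2 h1)
    intro z hz
    have : (Z' : Set X) = Z := by rw [← hη.def, ← hη'.def, h2]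
    change z ∈ (Z : Set X)
    rw [← this]; exact hz
  infer_instance

end Groth.Agent.Lib.Helper30.SpecDisc
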