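import Mathlib

/-!
# Bounded geometric fibres and the off-diagonal of an étale morphism (helper30)

Scheme-level ingredients for Stacks 0417.
-/

set_option autoImplicit false
set_option maxHeartbeats 800000
set_option backward.isDefEq.respectTransparency false
universe u
open CategoryTheory CategoryTheory.Limits AlgebraicGeometry Opposite

namespace Groth.Agent.Lib.Helper30.ZMT

/-- All field-valued fibres of `g` have at most `n` points. -/
def FibLE {Y Z : Scheme.{u}} (g : Y ⟶ Z) (n : ℕ) : Prop :=
  ∀ (K : Type u) [Field K] (t : Spec (.of K) ⟶ Z) (s : Finset (Spec (.of K) ⟶ Y)),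
    (∀ τ ∈ s, τ ≫ g = t) → s.card ≤ n

theorem isEmpty_of_fibLE_zero {Y Z : Scheme.{u}} (g : Y ⟶ Z) (h : FibLE g 0) : IsEmpty ↥Y := by
  constructor
  intro y
  have := h ↑(Y.residueField y) (Y.fromSpecResidueField y ≫ g) {Y.fromSpecResidueField y}
    (by intro τ hτ; rw [Finset.mem_singleton] at hτ; rw [hτ])
  simp at this

/-- The off-diagonal part of `Y ×_Z Y` for an étale morphism of affine schemes. -/
theorem exists_offDiagonal {Y Z : Scheme.{u}} [IsAffine Y] [IsAffine Z] (g : Y ⟶ Z) [Etale g] :
    ∃ (Y21 : Scheme.{u}) (pr0 pr1 : Y21 ⟶ Y), IsAffine Y21 ∧ Etale pr0 ∧ pr0 ≫ g = pr1 ≫ g ∧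
      (∀ (K : Type u) [Field K] (t1 t2 : Spec (.of K) ⟶ Y), t1 ≫ g = t2 ≫ g → t1 ≠ t2 →
        ∃ t12 : Spec (.of K) ⟶ Y21, t12 ≫ pr0 = t1 ∧ t12 ≫ pr1 = t2) ∧
      ∀ n, FibLE g (n + 1) → FibLE pr0 n := by
  have hΔo : IsOpenImmersion (pullback.diagonal g) := inferInstance
  have hΔc : IsClosedImmersion (pullback.diagonal g) := inferInstance
  let C : (pullback g g).Opens :=
    ⟨(Set.range (pullback.diagonal g))ᶜ, (pullback.diagonal g).isClosedEmbedding.isClosed_range.isOpen_compl⟩
  have hCcl : IsClosed (C : Set ↥(pullback g g)) := by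
    show IsClosed (Set.range (pullback.diagonal g))ᶜ
    rw [isClosed_compl_iff]
    exact (pullback.diagonal g).isOpenEmbedding.isOpen_range
  have hιc : IsClosedImmersion C.ι := by
    apply IsClosedImmersion.of_isPreimmersion
    rw [Scheme.Opens.range_ι]
    exact hCcl
  have hAff : IsAffine (C : Scheme.{u}) := isAffine_of_isAffineHom C.ι
  have hmemC : ∀ z : ↥(C : Scheme.{u}), C.ι z ∉ Set.range (pullback.diagonal g) := by
    intro z
    have : C.ι z ∈ (C : Set ↥(pullback g g)) := by
      rw [← Scheme.Opens.range_ι]; exact ⟨z, rfl⟩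
    exact this
  refine ⟨C, C.ι ≫ pullback.fst g g, C.ι ≫ pullback.snd g g, hAff, inferInstance, ?_, ?_, ?_⟩
  · rw [Category.assoc, Category.assoc, pullback.condition]
  · intro K _ t1 t2 h12 hne
    let t : Spec (.of K) ⟶ pullback g g := pullback.lift t1 t2 h12
    have hsub : Set.range t ⊆ Set.range C.ι := by
      rw [Scheme.Opens.range_ι]
      rintro _ ⟨x, rfl⟩
      show t x ∉ Set.range (pullback.diagonal g)
      intro hx
      have hsub' : Set.range t ⊆ Set.range (pullback.diagonal g) := by
        rintro _ ⟨x', rfl⟩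
        rw [Subsingleton.elim x' x]
        exact hx
      have hl := IsOpenImmersion.lift_fac (pullback.diagonal g) t hsub'
      apply hne
      have e1 : t1 = IsOpenImmersion.lift (pullback.diagonal g) t hsub' := by
        have := congrArg (· ≫ pullback.fst g g) hl
        simp only [Category.assoc, pullback.diagonal_fst, Category.comp_id] at this
        rw [this]; exact (pullback.lift_fst _ _ _).symm
      have e2 : t2 = IsOpenImmersion.lift (pullback.diagonal g) t hsub' := by
        have := congrArg (· ≫ pullback.snd g g) hl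
        simp only [Category.assoc, pullback.diagonal_snd, Category.comp_id] at this
        rw [this]; exact (pullback.lift_snd _ _ _).symm
      rw [e1, e2]
    refine ⟨IsOpenImmersion.lift C.ι t hsub, ?_, ?_⟩
    · rw [← Category.assoc, IsOpenImmersion.lift_fac]; exact pullback.lift_fst _ _ _
    · rw [← Category.assoc, IsOpenImmersion.lift_fac]; exact pullback.lift_snd _ _ _
  · intro n hn K _ t s hs
    classical
    let φ : (Spec (.of K) ⟶ (C : Scheme.{u})) → (Spec (.of K) ⟶ Y) :=
      fun σ => σ ≫ C.ι ≫ pullback.snd g g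
    have hinj : Set.InjOn φ (s : Set (Spec (.of K) ⟶ (C : Scheme.{u}))) := by
      intro σ hσ σ' hσ' h
      have h1 : σ ≫ C.ι ≫ pullback.fst g g = σ' ≫ C.ι ≫ pullback.fst g g :=
        (hs σ hσ).trans (hs σ' hσ').symm
      rw [← cancel_mono C.ι]
      apply pullback.hom_ext
      · simpa using h1
      · simpa [φ] using h
    have hnot : t ∉ s.image φ := by
      intro ht
      obtain ⟨σ, hσ, hσt⟩ := Finset.mem_image.1 ht
      have h1 : σ ≫ C.ι ≫ pullback.fst g g = t := hs σ hσ
      have h2 : σ ≫ C.ι = t ≫ pullback.diagonal g := by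
        apply pullback.hom_ext
        · simpa using h1
        · simpa [φ] using hσt
      let x : ↥(Spec (.of K)) := IsLocalRing.closedPoint K
      apply hmemC (σ x)
      refine ⟨t x, ?_⟩
      rw [← Scheme.Hom.comp_apply, ← h2, Scheme.Hom.comp_apply]
    have hcard := hn K (t ≫ g) (insert t (s.image φ)) (by
      intro τ hτ
      rcases Finset.mem_insert.1 hτ with rfl | hτ
      · rfl
      · obtain ⟨σ, hσ, rfl⟩ := Finset.mem_image.1 hτ
        show (σ ≫ C.ι ≫ pullback.snd g g) ≫ g = t ≫ g
        rw [← hs σ hσ]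
        simp only [Category.assoc, pullback.condition])
    rw [Finset.card_insert_of_notMem hnot, Finset.card_image_of_injOn hinj] at hcard
    omega

end Groth.Agent.Lib.Helper30.ZMT
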